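import Mathlib.RingTheory.Smooth.Flat
import Mathlib.RingTheory.Etale.Basic
import Mathlib.RingTheory.Flat.Stability
import Mathlib.RingTheory.TensorProduct.Maps

/-!
# A flat algebra is flat over every étale algebra mapping to it

If `A'` is étale over `A`, `C` is flat over `A` and `A' → C` is an `A`-algebra map, then `C` is
flat over `A'`: the multiplication map `A' ⊗[A] C → C` is a map between étale `C`-algebras,
hence étale, hence flat.
-/

set_option autoImplicit false
universe u

namespace Groth.Agent.H3

namespace FlatOfEtale

open TensorProduct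

attribute [local instance] Algebra.TensorProduct.rightAlgebra

theorem flat_of_etale (A A' C : Type u) [CommRing A] [CommRing A'] [CommRing C] [Algebra A A']
    [Algebra.Etale A A'] [Algebra A C] [Module.Flat A C] [Algebra A' C] [IsScalarTower A A' C] :
    Module.Flat A' C := by
  let T := A' ⊗[A] C
  have hflat : Module.Flat A' T := inferInstance
  let e : C ⊗[A] A' ≃ₐ[C] T :=
    AlgEquiv.ofRingEquiv (f := (Algebra.TensorProduct.comm A C A').toRingEquiv) (by
      intro c
      change Algebra.TensorProduct.comm A C A' (c ⊗ₜ 1) = 1 ⊗ₜ c
      simp)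
  have het : Algebra.Etale C T := Algebra.Etale.of_equiv e
  let μ : T →ₐ[A'] C :=
    Algebra.TensorProduct.lift (Algebra.ofId A' C) (AlgHom.id A C) (fun _ _ => Commute.all _ _)
  let _ : Algebra T C := μ.toRingHom.toAlgebra
  have hT1 : IsScalarTower A' T C :=
    IsScalarTower.of_algebraMap_eq fun a => (μ.commutes a).symm
  have hT2 : IsScalarTower C T C := by
    refine IsScalarTower.of_algebraMap_eq fun c => ?_
    change c = μ (1 ⊗ₜ c)
    rw [Algebra.TensorProduct.lift_tmul, map_one, one_mul, AlgHom.id_apply]
  have het2 : Algebra.Etale T C := Algebra.Etale.of_restrictScalars C T C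
  have hflat2 : Module.Flat T C := inferInstance
  exact Module.Flat.trans A' T C

end FlatOfEtale

end Groth.Agent.H3
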