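import Groth.Agent.H3.HensLocal

/-!
# Transfer of (pair) henselizations along isomorphisms; uniqueness of the local henselization
-/

set_option autoImplicit false
universe u

namespace Groth.Agent.H3

namespace HensIso

open IsLocalRing Hens2 Polynomial

/-- A henselian pair transported along a ring isomorphism. -/
theorem henselianRing_of_ringEquiv {S B : Type*} [CommRing S] [CommRing B] (e : S ≃+* B)
    (J : Ideal S) (hS : HenselianRing S J) : HenselianRing B (J.map (e : S →+* B)) := by
  have hmem : ∀ x : B, x ∈ J.map (e : S →+* B) ↔ e.symm x ∈ J := by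
    intro x
    constructor
    · intro hx
      have h1 := Ideal.mem_map_of_mem (e.symm : B →+* S) hx
      rw [Ideal.map_map] at h1
      have h2 : ((e.symm : B →+* S).comp (e : S →+* B)) = RingHom.id S := by
        ext s; simp
      rw [h2, Ideal.map_id] at h1
      exact h1
    · intro hx
      have h1 := Ideal.mem_map_of_mem (e : S →+* B) hx
      simpa using h1
  have hjac : J.map (e : S →+* B) ≤ Ideal.jacobson ⊥ := by
    intro x hx
    rw [Ideal.mem_jacobson_bot]
    intro y
    have h1 := Ideal.mem_jacobson_bot.mp (hS.jac ((hmem x).mp hx)) (e.symm y)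
    have h2 : x * y + 1 = e (e.symm x * e.symm y + 1) := by simp
    rw [h2]
    exact h1.map e
  refine ⟨hjac, ?_⟩
  intro f hf a₀ h₁ h₂
  have h₁' : (f.map (e.symm : B →+* S)).eval (e.symm a₀) ∈ J := by
    have : (f.map (e.symm : B →+* S)).eval ((e.symm : B →+* S) a₀) =
        (e.symm : B →+* S) (f.eval a₀) := Polynomial.eval_map_apply _ _
    have h3 : (f.map (e.symm : B →+* S)).eval (e.symm a₀) = e.symm (f.eval a₀) := this
    rw [h3]
    exact (hmem _).mp h₁
  have h₂' : IsUnit (Ideal.Quotient.mk J
      ((f.map (e.symm : B →+* S)).derivative.eval (e.symm a₀))) := by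
    have h4 : IsUnit (f.derivative.eval a₀) := isUnit_of_isUnit_mk hjac h₂
    have h5 : (f.map (e.symm : B →+* S)).derivative.eval ((e.symm : B →+* S) a₀) =
        (e.symm : B →+* S) (f.derivative.eval a₀) := by
      rw [Polynomial.derivative_map]
      exact Polynomial.eval_map_apply _ _
    have h6 : (f.map (e.symm : B →+* S)).derivative.eval (e.symm a₀) =
        e.symm (f.derivative.eval a₀) := h5
    rw [h6]
    exact (h4.map e.symm).map _
  obtain ⟨a, ha, haa₀⟩ := hS.is_henselian (f.map (e.symm : B →+* S)) (hf.map _) (e.symm a₀) h₁' h₂'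
  refine ⟨e a, ?_, ?_⟩
  · have h7 : ((f.map (e.symm : B →+* S)).map (e : S →+* B)).eval ((e : S →+* B) a) =
        (e : S →+* B) ((f.map (e.symm : B →+* S)).eval a) := Polynomial.eval_map_apply _ _
    have h8 : (f.map (e.symm : B →+* S)).map (e : S →+* B) = f := by
      rw [Polynomial.map_map]
      have : ((e : S →+* B).comp (e.symm : B →+* S)) = RingHom.id B := by ext b; simp
      rw [this, Polynomial.map_id]
    rw [h8] at h7
    change f.eval (e a) = 0
    have h9 : (f.map (e.symm : B →+* S)).eval a = 0 := ha
    rw [show (e : S →+* B) a = e a from rfl] at h7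
    rw [h7, h9]
    exact map_zero _
  · rw [hmem, map_sub]
    simpa using haa₀

variable {A : Type u} [CommRing A] {I : Ideal A} {S B : Type u} [CommRing S] [CommRing B]
  [Algebra A S] [Algebra A B]

/-- A henselization of a pair transported along an isomorphism of algebras. -/
theorem isPairHenselization_of_ringEquiv (hS : IsPairHenselization A I S) (e : S ≃+* B)
    (he : (e : S →+* B).comp (algebraMap A S) = algebraMap A B) : IsPairHenselization A I B := by
  refine ⟨?_, ?_⟩
  · have h1 := henselianRing_of_ringEquiv e _ hS.1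
    rwa [Ideal.map_map, he] at h1
  · intro C _ J f hCJ hIJ
    obtain ⟨g', hg', huniq⟩ := hS.2 C J f hCJ hIJ
    have hsymm : (e.symm : B →+* S).comp (algebraMap A B) = algebraMap A S := by
      rw [← he, ← RingHom.comp_assoc]
      have : ((e.symm : B →+* S).comp (e : S →+* B)) = RingHom.id S := by ext s; simp
      rw [this, RingHom.id_comp]
    refine ⟨g'.comp (e.symm : B →+* S), ?_, ?_⟩
    · change (g'.comp (e.symm : B →+* S)).comp (algebraMap A B) = f
      rw [RingHom.comp_assoc, hsymm, hg']
    · intro g₂ hg₂
      have h3 : g₂.comp (e : S →+* B) = g' := huniq _ (by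
        change (g₂.comp (e : S →+* B)).comp (algebraMap A S) = f
        rw [RingHom.comp_assoc, he, hg₂])
      rw [← h3, RingHom.comp_assoc]
      have : ((e : S →+* B).comp (e.symm : B →+* S)) = RingHom.id B := by ext b; simp
      rw [this, RingHom.comp_id]

section Local

variable {R : Type u} [CommRing R] [IsLocalRing R] {S₁ S₂ : Type u}
  [CommRing S₁] [IsLocalRing S₁] [Algebra R S₁] [IsLocalHom (algebraMap R S₁)]
  [CommRing S₂] [IsLocalRing S₂] [Algebra R S₂] [IsLocalHom (algebraMap R S₂)]

/-- Two henselizations of a local ring are isomorphic over it. -/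
theorem exists_ringEquiv_of_isHenselization (h₁ : Hensel.IsHenselization R S₁)
    (h₂ : Hensel.IsHenselization R S₂) :
    ∃ e : S₁ ≃+* S₂, (e : S₁ →+* S₂).comp (algebraMap R S₁) = algebraMap R S₂ := by
  have := h₁.henselian
  have := h₂.henselian
  obtain ⟨g, hg, -⟩ := h₁.universal S₂ (algebraMap R S₂) inferInstance
  obtain ⟨h, hh, -⟩ := h₂.universal S₁ (algebraMap R S₁) inferInstance
  obtain ⟨i₁, -, hi₁⟩ := h₁.universal S₁ (algebraMap R S₁) inferInstance
  obtain ⟨i₂, -, hi₂⟩ := h₂.universal S₂ (algebraMap R S₂) inferInstance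
  have e1 : h.comp g = RingHom.id S₁ := by
    rw [hi₁ (h.comp g) (by
      change (h.comp g).comp (algebraMap R S₁) = algebraMap R S₁
      rw [RingHom.comp_assoc, hg, hh]),
      hi₁ (RingHom.id S₁) (by
      change (RingHom.id S₁).comp (algebraMap R S₁) = algebraMap R S₁
      rw [RingHom.id_comp])]
  have e2 : g.comp h = RingHom.id S₂ := by
    rw [hi₂ (g.comp h) (by
      change (g.comp h).comp (algebraMap R S₂) = algebraMap R S₂
      rw [RingHom.comp_assoc, hh, hg]),
      hi₂ (RingHom.id S₂) (by
      change (RingHom.id S₂).comp (algebraMap R S₂) = algebraMap R S₂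
      rw [RingHom.id_comp])]
  refine ⟨RingEquiv.ofRingHom g h e2 e1, ?_⟩
  ext r
  exact congrArg (fun φ : R →+* S₂ => φ r) hg

/-- The henselization of a local ring is the henselization of the pair `(R, m)`. -/
theorem isPairHenselization_of_isHenselization (h₁ : Hensel.IsHenselization R S₁) :
    IsPairHenselization R (maximalIdeal R) S₁ := by
  have hS := HensLocal.isPairHenselization_Lim R
  have hloc : IsLocalRing (HensTower.Lim R (maximalIdeal R)) := HensLocal.isLocalRing hS
  have hlh : IsLocalHom (algebraMap R (HensTower.Lim R (maximalIdeal R))) :=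
    HensLocal.isLocalHom hS
  obtain ⟨e, he⟩ := exists_ringEquiv_of_isHenselization (HensLocal.isHenselization hS) h₁
  exact isPairHenselization_of_ringEquiv hS e he

end Local

end HensIso

end Groth.Agent.H3
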