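import Groth.Agent.H3.HenselBasic

/-!
# Henselian pairs only depend on the radical of the ideal
-/

set_option autoImplicit false
universe u

namespace Groth.Agent.H3

open Polynomial

variable {A : Type*} [CommRing A]

/-- Any ring is henselian along an ideal consisting of nilpotent elements. -/
theorem henselianRing_of_le_nilradical {N : Ideal A} (hN : N ≤ nilradical A) :
    HenselianRing A N := by
  have hjac : N ≤ Ideal.jacobson ⊥ := hN.trans Ideal.radical_le_jacobson
  rw [henselianRing_iff_unit]
  refine ⟨hjac, fun f hf a₀ h₁ h₂ => ?_⟩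
  obtain ⟨k, hk⟩ := hN h₁
  have hpow : Ideal.span {f.eval a₀} ^ k = ⊥ := by
    rw [Ideal.span_singleton_pow, hk]
    exact Ideal.span_singleton_eq_bot.mpr rfl
  have hc : IsAdicComplete (Ideal.span {f.eval a₀}) A := isAdicComplete_of_pow_eq_bot _ k hpow A
  have hH : HenselianRing A (Ideal.span {f.eval a₀}) := inferInstance
  obtain ⟨a, ha, haa₀⟩ := hH.is_henselian f hf a₀ (Ideal.subset_span rfl) (h₂.map _)
  refine ⟨a, ha, ?_⟩
  exact (Ideal.span_le.mpr (Set.singleton_subset_iff.mpr h₁)) haa₀

theorem henselianRing_radical {I : Ideal A} (h : HenselianRing A I) :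
    HenselianRing A I.radical := by
  refine henselianRing_of_quotient Ideal.le_radical h (henselianRing_of_le_nilradical ?_)
  intro x hx
  rw [Ideal.mem_map_iff_of_surjective _ Ideal.Quotient.mk_surjective] at hx
  obtain ⟨y, ⟨n, hn⟩, rfl⟩ := hx
  refine ⟨n, ?_⟩
  rw [← map_pow]
  exact Ideal.Quotient.eq_zero_iff_mem.mpr hn

theorem henselianRing_of_le_radical {I J : Ideal A} (h : HenselianRing A I)
    (hJ : J ≤ I.radical) : HenselianRing A J :=
  henselianRing_of_le hJ (henselianRing_radical h)

end Groth.Agent.H3
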