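import Groth.Agent.H3.HensFlat
import Groth.Agent.H3.HensIso
import Groth.Agent.H3.HensRadical

/-!
# Flatness of henselizations, and the quotients by powers of the ideal
-/

set_option autoImplicit false
universe u

namespace Groth.Agent.H3

namespace HensFlatMain

open Hens2 IsLocalRing

variable {A : Type u} [CommRing A] {I : Ideal A}

theorem isPairHenselization_Lim (A : Type u) [CommRing A] (I : Ideal A) :
    IsPairHenselization A I (HensTower.Lim A I) :=
  ⟨HensTower.henselianRing_Lim A I,
    fun _ _ J f hCJ hIJ => HensTower.existsUnique_lift A I J f hCJ hIJ⟩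

/-- Two henselizations of a pair are isomorphic. -/
theorem exists_algEquiv {B₁ B₂ : Type u} [CommRing B₁] [CommRing B₂] [Algebra A B₁] [Algebra A B₂]
    (h₁ : IsPairHenselization A I B₁) (h₂ : IsPairHenselization A I B₂) :
    Nonempty (B₁ ≃ₐ[A] B₂) := by
  obtain ⟨g, hg, -⟩ := h₁.2 B₂ _ (algebraMap A B₂) h₂.1 le_rfl
  obtain ⟨h, hh, -⟩ := h₂.2 B₁ _ (algebraMap A B₁) h₁.1 le_rfl
  obtain ⟨i₁, -, hi₁⟩ := h₁.2 B₁ _ (algebraMap A B₁) h₁.1 le_rfl
  obtain ⟨i₂, -, hi₂⟩ := h₂.2 B₂ _ (algebraMap A B₂) h₂.1 le_rfl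
  have e1 : h.comp g = RingHom.id B₁ := by
    rw [hi₁ (h.comp g) (by
      change (h.comp g).comp (algebraMap A B₁) = algebraMap A B₁
      rw [RingHom.comp_assoc, hg, hh]),
      hi₁ (RingHom.id B₁) (by
      change (RingHom.id B₁).comp (algebraMap A B₁) = algebraMap A B₁
      rw [RingHom.id_comp])]
  have e2 : g.comp h = RingHom.id B₂ := by
    rw [hi₂ (g.comp h) (by
      change (g.comp h).comp (algebraMap A B₂) = algebraMap A B₂
      rw [RingHom.comp_assoc, hh, hg]),
      hi₂ (RingHom.id B₂) (by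
      change (RingHom.id B₂).comp (algebraMap A B₂) = algebraMap A B₂
      rw [RingHom.id_comp])]
  exact ⟨AlgEquiv.ofRingEquiv (f := RingEquiv.ofRingHom g h e2 e1)
    (fun a => congrArg (fun φ : A →+* B₂ => φ a) hg)⟩

/-- Every henselization of a pair is flat. -/
theorem flat {B : Type u} [CommRing B] [Algebra A B] (hB : IsPairHenselization A I B) :
    Module.Flat A B := by
  obtain ⟨e⟩ := exists_algEquiv hB (isPairHenselization_Lim A I)
  have := HensTower.flat_Lim A I
  exact Module.Flat.of_linearEquiv e.toLinearEquiv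

/-- A henselization of `(A, I)` is also a henselization of `(A, I ^ n)` for `n ≥ 1`. -/
theorem isPairHenselization_pow {B : Type u} [CommRing B] [Algebra A B]
    (hB : IsPairHenselization A I B) {n : ℕ} (hn : n ≠ 0) : IsPairHenselization A (I ^ n) B := by
  refine ⟨henselianRing_of_le (Ideal.map_mono (Ideal.pow_le_self hn)) hB.1, ?_⟩
  intro C _ J f hCJ hIJ
  refine hB.2 C J.radical f (henselianRing_radical hCJ) ?_
  rw [Ideal.map_le_iff_le_comap]
  intro a ha
  rw [Ideal.mem_comap]
  refine ⟨n, ?_⟩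
  rw [← map_pow]
  exact hIJ (Ideal.mem_map_of_mem f (Ideal.pow_mem_pow ha n))

/-- `A / I^n → B / I^n B` is bijective for a henselization `B` of `(A, I)`. -/
theorem quotientMap_pow_bijective {B : Type u} [CommRing B] [Algebra A B]
    (hB : IsPairHenselization A I B) (n : ℕ) :
    Function.Bijective
      (Ideal.quotientMap ((I ^ n).map (algebraMap A B)) (algebraMap A B) Ideal.le_comap_map) := by
  rcases Nat.eq_zero_or_pos n with hn | hn
  · subst hn
    have h1 : Subsingleton (A ⧸ I ^ 0) := by
      rw [pow_zero, Ideal.one_eq_top]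
      exact Ideal.Quotient.subsingleton_iff.mpr rfl
    have h2 : Subsingleton (B ⧸ (I ^ 0).map (algebraMap A B)) := by
      rw [pow_zero, Ideal.one_eq_top, Ideal.map_top]
      exact Ideal.Quotient.subsingleton_iff.mpr rfl
    exact ⟨fun x y _ => Subsingleton.elim x y, fun y => ⟨0, Subsingleton.elim _ y⟩⟩
  · have hB' := isPairHenselization_pow hB (Nat.pos_iff_ne_zero.mp hn)
    constructor
    · rw [injective_iff_map_eq_zero]
      intro x hx
      obtain ⟨a, rfl⟩ := Ideal.Quotient.mk_surjective x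
      rw [Ideal.quotientMap_mk, Ideal.Quotient.eq_zero_iff_mem] at hx
      exact Ideal.Quotient.eq_zero_iff_mem.mpr (PairHens.mem_of_algebraMap_mem hB' hx)
    · intro y
      obtain ⟨b, rfl⟩ := Ideal.Quotient.mk_surjective y
      obtain ⟨a, ha⟩ := PairHens.exists_sub_mem hB' b
      refine ⟨Ideal.Quotient.mk _ a, ?_⟩
      rw [Ideal.quotientMap_mk]
      exact (Ideal.Quotient.eq.mpr ha).symm

end HensFlatMain

end Groth.Agent.H3
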