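import Groth.Agent.H3.HensIntegralBC2
import Mathlib.RingTheory.Ideal.GoingUp

/-!
# Henselization of an integral local algebra
-/

set_option autoImplicit false
universe u

namespace Groth.Agent.H3

namespace HensIntegralBC

open TensorProduct Hens2 IsLocalRing

variable (A B S : Type u) [CommRing A] [IsLocalRing A] [CommRing B] [IsLocalRing B] [Algebra A B]
  [IsLocalHom (algebraMap A B)] [Algebra.IsIntegral A B]

theorem map_maximalIdeal_le :
    (maximalIdeal A).map (algebraMap A B) ≤ maximalIdeal B := by
  rw [Ideal.map_le_iff_le_comap]
  intro a ha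
  rw [Ideal.mem_comap, IsLocalRing.mem_maximalIdeal, mem_nonunits_iff]
  intro hu
  exact (IsLocalRing.mem_maximalIdeal a).mp ha (IsUnit.of_map (algebraMap A B) a hu)

theorem radical_map_maximalIdeal :
    (maximalIdeal B).radical = ((maximalIdeal A).map (algebraMap A B)).radical := by
  rw [(maximalIdeal.isMaximal B).isPrime.radical]
  apply le_antisymm
  · rw [Ideal.radical_eq_sInf]
    refine le_sInf ?_
    rintro P ⟨hP, hPprime⟩
    have hcomap : P.comap (algebraMap A B) = maximalIdeal A := by
      have h1 : maximalIdeal A ≤ P.comap (algebraMap A B) := Ideal.map_le_iff_le_comap.mp hP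
      have h2 : P.comap (algebraMap A B) ≠ ⊤ := by
        intro h
        exact hPprime.ne_top (Ideal.comap_eq_top_iff.mp h)
      exact ((maximalIdeal.isMaximal A).eq_of_le h2 h1).symm
    have hmax : P.IsMaximal := by
      apply Ideal.isMaximal_of_isIntegral_of_isMaximal_comap (R := A) P
      rw [hcomap]
      exact maximalIdeal.isMaximal A
    rw [IsLocalRing.eq_maximalIdeal hmax]
  · rw [← (maximalIdeal.isMaximal B).isPrime.radical]
    exact Ideal.radical_mono (map_maximalIdeal_le A B)

variable [CommRing S] [IsLocalRing S] [Algebra A S] [IsLocalHom (algebraMap A S)]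

theorem isPairHenselization_tensor_local (hS : Hensel.IsHenselization A S) :
    IsPairHenselization B (maximalIdeal B) (B ⊗[A] S) :=
  isPairHenselization_tensor (maximalIdeal A) (maximalIdeal B) (map_maximalIdeal_le A B)
    (radical_map_maximalIdeal A B) (HensIso.isPairHenselization_of_isHenselization hS)

end HensIntegralBC

end Groth.Agent.H3
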