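import Mathlib.RingTheory.Henselian
import Mathlib.Tactic.LinearCombination
import Mathlib.Tactic.Ring
import Mathlib.RingTheory.Nilpotent.Lemmas
import Mathlib.RingTheory.Nilpotent.Basic
import Mathlib.RingTheory.Jacobson.Ideal
import Mathlib.Algebra.Polynomial.Lifts
import Mathlib.RingTheory.Ideal.Quotient.Operations

set_option autoImplicit false
universe u

namespace Groth.Agent.H3

open Polynomial

/-- A module over a ring is adically complete with respect to a nilpotent ideal. -/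
theorem isAdicComplete_of_pow_eq_bot {R : Type*} [CommRing R] (J : Ideal R) (N : ℕ)
    (hJ : J ^ N = ⊥) (M : Type*) [AddCommGroup M] [Module R M] : IsAdicComplete J M where
  haus' x hx := by
    have := hx N
    rw [hJ] at this
    simpa [SModEq.zero, Submodule.bot_smul] using this
  prec' f hf := by
    refine ⟨f N, fun n => ?_⟩
    rcases le_total n N with h | h
    · exact hf h
    · have := (hf h).symm
      rw [hJ, Submodule.bot_smul, SModEq.bot] at this
      rw [this]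

variable {A : Type*} [CommRing A]

theorem isUnit_of_isUnit_mk {I : Ideal A} (hjac : I ≤ Ideal.jacobson ⊥) {x : A}
    (h : IsUnit (Ideal.Quotient.mk I x)) : IsUnit x := by
  have := isLocalHom_of_le_jacobson_bot I hjac
  exact IsUnit.of_map (Ideal.Quotient.mk I) _ h

theorem isUnit_mk_iff {I : Ideal A} (hjac : I ≤ Ideal.jacobson ⊥) {x : A} :
    IsUnit (Ideal.Quotient.mk I x) ↔ IsUnit x :=
  ⟨isUnit_of_isUnit_mk hjac, fun h => h.map _⟩

theorem isUnit_add_of_mem_jacobson {x y : A} (hx : IsUnit x) (hy : y ∈ Ideal.jacobson (⊥ : Ideal A)) :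
    IsUnit (x + y) := by
  obtain ⟨u, rfl⟩ := hx
  have h := (Ideal.mem_jacobson_bot.mp hy) (↑u⁻¹ : A)
  have : (u : A) + y = u * (y * ↑u⁻¹ + 1) := by
    rw [mul_add, mul_one, mul_comm y, ← mul_assoc, Units.mul_inv, one_mul, add_comm]
  rw [this]
  exact u.isUnit.mul h

/-- Henselian with a plain unit condition. -/
theorem henselianRing_iff_unit (I : Ideal A) :
    HenselianRing A I ↔ I ≤ Ideal.jacobson ⊥ ∧
      ∀ (f : A[X]) (_ : f.Monic) (a₀ : A) (_ : f.eval a₀ ∈ I)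
        (_ : IsUnit (f.derivative.eval a₀)), ∃ a : A, f.IsRoot a ∧ a - a₀ ∈ I := by
  constructor
  · intro h
    exact ⟨h.jac, fun f hf a₀ h₁ h₂ => h.is_henselian f hf a₀ h₁ (h₂.map _)⟩
  · rintro ⟨hjac, h⟩
    exact ⟨hjac, fun f hf a₀ h₁ h₂ => h f hf a₀ h₁ (isUnit_of_isUnit_mk hjac h₂)⟩

/-- A root near an approximate root is as close as the value of the polynomial. -/
theorem sub_mem_of_isRoot {I J : Ideal A} (hJ : J ≤ Ideal.jacobson ⊥) {f : A[X]} {a a₀ : A}
    (ha : f.IsRoot a) (haJ : a - a₀ ∈ J) (h₁ : f.eval a₀ ∈ I)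
    (h₂ : IsUnit (f.derivative.eval a₀)) : a - a₀ ∈ I := by
  obtain ⟨c, hc⟩ := exists_mul_sq_add_linear_part_eq_eval_add f a₀ (a - a₀)
  rw [add_sub_cancel, ha.eq_zero] at hc
  have hu : IsUnit (f.derivative.eval a₀ + c * (a - a₀)) :=
    isUnit_add_of_mem_jacobson h₂ (hJ (J.mul_mem_left c haJ))
  have hmul : (f.derivative.eval a₀ + c * (a - a₀)) * (a - a₀) = - f.eval a₀ := by
    linear_combination hc
  obtain ⟨u, hu⟩ := hu
  have : a - a₀ = ↑u⁻¹ * (- f.eval a₀) := by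
    rw [← hmul, ← hu, ← mul_assoc, Units.inv_mul, one_mul]
  rw [this]
  exact I.mul_mem_left _ (I.neg_mem h₁)

theorem henselianRing_of_le {I J : Ideal A} (hIJ : I ≤ J) (h : HenselianRing A J) :
    HenselianRing A I := by
  rw [henselianRing_iff_unit] at h ⊢
  refine ⟨hIJ.trans h.1, fun f hf a₀ h₁ h₂ => ?_⟩
  obtain ⟨a, ha, haJ⟩ := h.2 f hf a₀ (hIJ h₁) h₂
  exact ⟨a, ha, sub_mem_of_isRoot h.1 ha haJ h₁ h₂⟩

theorem map_mk_le_jacobson {I J : Ideal A} (hJ : J ≤ Ideal.jacobson ⊥) :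
    J.map (Ideal.Quotient.mk I) ≤ Ideal.jacobson ⊥ := by
  intro x hx
  rw [Ideal.mem_map_iff_of_surjective _ Ideal.Quotient.mk_surjective] at hx
  obtain ⟨x, hx, rfl⟩ := hx
  rw [Ideal.mem_jacobson_bot]
  intro y
  obtain ⟨y, rfl⟩ := Ideal.Quotient.mk_surjective y
  have := (Ideal.mem_jacobson_bot.mp (hJ hx)) y
  simpa using this.map (Ideal.Quotient.mk I)

theorem mem_of_mk_mem_map {I J : Ideal A} (hIJ : I ≤ J) {x : A}
    (hx : Ideal.Quotient.mk I x ∈ J.map (Ideal.Quotient.mk I)) : x ∈ J := by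
  rw [Ideal.mem_map_iff_of_surjective _ Ideal.Quotient.mk_surjective] at hx
  obtain ⟨y, hy, hxy⟩ := hx
  rw [Ideal.Quotient.eq] at hxy
  have : x = y - (y - x) := by ring
  rw [this]
  exact J.sub_mem hy (hIJ hxy)

theorem henselianRing_quotient {I J : Ideal A} (hIJ : I ≤ J) (h : HenselianRing A J) :
    HenselianRing (A ⧸ I) (J.map (Ideal.Quotient.mk I)) := by
  have hJ := h.jac
  rw [henselianRing_iff_unit] at h ⊢
  refine ⟨map_mk_le_jacobson hJ, fun f hf a₀ h₁ h₂ => ?_⟩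
  obtain ⟨g, hg, -, hgm⟩ := lifts_and_natDegree_eq_and_monic
    ((Polynomial.mem_lifts f).mpr (Polynomial.map_surjective _ Ideal.Quotient.mk_surjective f)) hf
  obtain ⟨b₀, rfl⟩ := Ideal.Quotient.mk_surjective a₀
  subst hg
  rw [eval_map, eval₂_at_apply] at h₁
  rw [derivative_map, eval_map, eval₂_at_apply] at h₂
  have hu : IsUnit (g.derivative.eval b₀) := isUnit_of_isUnit_mk (hIJ.trans hJ) h₂
  obtain ⟨b, hb, hbJ⟩ := h.2 g hgm b₀ (mem_of_mk_mem_map hIJ h₁) hu
  refine ⟨Ideal.Quotient.mk I b, ?_, ?_⟩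
  · rw [IsRoot, eval_map, eval₂_at_apply, hb.eq_zero, map_zero]
  · rw [← map_sub]
    exact Ideal.mem_map_of_mem _ hbJ

theorem henselianRing_of_quotient {I J : Ideal A} (hIJ : I ≤ J) (hI : HenselianRing A I)
    (h : HenselianRing (A ⧸ I) (J.map (Ideal.Quotient.mk I))) : HenselianRing A J := by
  have hIjac := hI.jac
  have hJjac : J ≤ Ideal.jacobson ⊥ := by
    intro x hx
    rw [Ideal.mem_jacobson_bot]
    intro y
    have := (Ideal.mem_jacobson_bot.mp (h.jac (Ideal.mem_map_of_mem (Ideal.Quotient.mk I) hx)))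
      (Ideal.Quotient.mk I y)
    rw [← map_mul, ← map_one (Ideal.Quotient.mk I), ← map_add] at this
    exact isUnit_of_isUnit_mk hIjac this
  rw [henselianRing_iff_unit] at hI h ⊢
  refine ⟨hJjac, fun f hf a₀ h₁ h₂ => ?_⟩
  obtain ⟨b, hb, hbJ⟩ := h.2 (f.map (Ideal.Quotient.mk I)) (hf.map _) (Ideal.Quotient.mk I a₀)
    (by rw [eval_map, eval₂_at_apply]; exact Ideal.mem_map_of_mem _ h₁)
    (by rw [derivative_map, eval_map, eval₂_at_apply]; exact h₂.map _)
  obtain ⟨b, rfl⟩ := Ideal.Quotient.mk_surjective b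
  rw [IsRoot, eval_map, eval₂_at_apply, Ideal.Quotient.eq_zero_iff_mem] at hb
  rw [← map_sub] at hbJ
  have hbJ' : b - a₀ ∈ J := mem_of_mk_mem_map hIJ hbJ
  have hub : IsUnit (f.derivative.eval b) := by
    obtain ⟨c, hc⟩ := exists_mul_sq_add_linear_part_eq_eval_add f.derivative a₀ (b - a₀)
    rw [add_sub_cancel] at hc
    rw [← hc, add_comm]
    refine isUnit_add_of_mem_jacobson h₂ (hJjac ?_)
    exact J.add_mem (J.mul_mem_left _ (by rw [pow_two]; exact J.mul_mem_left _ hbJ'))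
      (J.mul_mem_left _ hbJ')
  obtain ⟨a, ha, haI⟩ := hI.2 f hf b hb hub
  refine ⟨a, ha, ?_⟩
  have : a - a₀ = (a - b) + (b - a₀) := by ring
  rw [this]
  exact J.add_mem (hIJ haI) hbJ'

end Groth.Agent.H3
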