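import Groth.Prelude.Def_Hensel
import Groth.Agent.H3.HenselBasic
import Groth.Agent.S0527
import Mathlib.RingTheory.Ideal.Quotient.Operations

set_option autoImplicit false
universe u

namespace Groth.Agent.H3

open IsLocalRing

/-- A local ring that is henselian along its maximal ideal is a henselian local ring. -/
theorem henselianLocalRing_of_henselianRing (R : Type*) [CommRing R] [IsLocalRing R]
    (h : HenselianRing R (maximalIdeal R)) : HenselianLocalRing R :=
  ⟨fun f hf a₀ h₁ h₂ => h.is_henselian f hf a₀ h₁ (h₂.map _)⟩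

/-- The maximal ideal of a quotient of a local ring. -/
theorem maximalIdeal_quotient (S : Type*) [CommRing S] [IsLocalRing S] (K : Ideal S)
    [IsLocalRing (S ⧸ K)] :
    maximalIdeal (S ⧸ K) = (maximalIdeal S).map (Ideal.Quotient.mk K) := by
  have hK : K ≤ maximalIdeal S := by
    apply IsLocalRing.le_maximalIdeal
    intro h
    have : Subsingleton (S ⧸ K) := by rw [h]; exact Ideal.Quotient.subsingleton_iff.mpr rfl
    exact not_subsingleton (S ⧸ K) this
  have : ((maximalIdeal S).map (Ideal.Quotient.mk K)).IsMaximal :=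
    Ideal.IsMaximal.map_of_surjective_of_ker_le Ideal.Quotient.mk_surjective
      (by rw [Ideal.mk_ker]; exact hK)
  exact (IsLocalRing.eq_maximalIdeal this).symm

/-- A nontrivial quotient of a henselian local ring is henselian local. -/
theorem henselianLocalRing_quotient (S : Type*) [CommRing S] [HenselianLocalRing S] (K : Ideal S)
    (hK : K ≠ ⊤) : HenselianLocalRing (S ⧸ K) := by
  have hnt : Nontrivial (S ⧸ K) := Ideal.Quotient.nontrivial_iff.mpr hK
  have hloc : IsLocalRing (S ⧸ K) :=
    IsLocalRing.of_surjective' (Ideal.Quotient.mk K) Ideal.Quotient.mk_surjective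
  have hKm : K ≤ maximalIdeal S := IsLocalRing.le_maximalIdeal hK
  have h1 : HenselianRing S (maximalIdeal S) := inferInstance
  have h2 := henselianRing_quotient hKm h1
  rw [← maximalIdeal_quotient S K] at h2
  exact henselianLocalRing_of_henselianRing _ h2

/-- A local ring modulo a positive power of its maximal ideal is henselian. -/
theorem henselianLocalRing_quotient_pow (R : Type*) [CommRing R] [IsLocalRing R] (n : ℕ)
    (hn : n ≠ 0) : HenselianLocalRing (R ⧸ maximalIdeal R ^ n) := by
  have hne : maximalIdeal R ^ n ≠ ⊤ := by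
    intro h
    have := Ideal.pow_le_self hn (I := maximalIdeal R)
    rw [h] at this
    exact (maximalIdeal.isMaximal R).ne_top (top_le_iff.mp this)
  have hnt : Nontrivial (R ⧸ maximalIdeal R ^ n) := Ideal.Quotient.nontrivial_iff.mpr hne
  have hloc : IsLocalRing (R ⧸ maximalIdeal R ^ n) :=
    IsLocalRing.of_surjective' (Ideal.Quotient.mk _) Ideal.Quotient.mk_surjective
  apply henselianLocalRing_of_henselianRing
  apply Groth.Agent.S0527.result
  intro x hx
  rw [maximalIdeal_quotient, Ideal.mem_map_iff_of_surjective _ Ideal.Quotient.mk_surjective] at hx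
  obtain ⟨r, hr, rfl⟩ := hx
  refine ⟨n, ?_⟩
  rw [← map_pow, Ideal.Quotient.eq_zero_iff_mem]
  exact Ideal.pow_mem_pow hr n

/-- Henselization commutes with passage to henselian quotients. -/
theorem bijective_quotientMap_of_isHenselization (R : Type u) [CommRing R] [IsLocalRing R]
    (S : Type u) [CommRing S] [IsLocalRing S] [Algebra R S] [IsLocalHom (algebraMap R S)]
    [hS : Hensel.IsHenselization R S] (J : Ideal R) [hJ : HenselianLocalRing (R ⧸ J)] :
    Function.Bijective (Ideal.quotientMap (J.map (algebraMap R S)) (algebraMap R S)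
      Ideal.le_comap_map) := by
  have hJne : J ≠ ⊤ := by
    intro h
    have : Subsingleton (R ⧸ J) := by rw [h]; exact Ideal.Quotient.subsingleton_iff.mpr rfl
    exact not_subsingleton (R ⧸ J) this
  have hJm : J ≤ maximalIdeal R := IsLocalRing.le_maximalIdeal hJne
  have hq : IsLocalHom (Ideal.Quotient.mk J) :=
    isLocalHom_of_le_jacobson_bot J (hJm.trans (maximalIdeal_le_jacobson _))
  obtain ⟨g, hg, -⟩ := hS.universal (R ⧸ J) (Ideal.Quotient.mk J) hq
  have hgalg : ∀ r, g (algebraMap R S r) = Ideal.Quotient.mk J r := fun r => congr($hg r)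
  have hker : ∀ x ∈ J.map (algebraMap R S), g x = 0 := by
    have : J.map (algebraMap R S) ≤ RingHom.ker g := by
      rw [Ideal.map_le_iff_le_comap]
      intro j hj
      rw [Ideal.mem_comap, RingHom.mem_ker, hgalg]
      exact Ideal.Quotient.eq_zero_iff_mem.mpr hj
    exact fun x hx => this hx
  let gbar : S ⧸ J.map (algebraMap R S) →+* R ⧸ J := Ideal.Quotient.lift _ g hker
  set φ := Ideal.quotientMap (J.map (algebraMap R S)) (algebraMap R S) Ideal.le_comap_map
    with hφ
  have hφmk : ∀ r, φ (Ideal.Quotient.mk J r) = Ideal.Quotient.mk _ (algebraMap R S r) :=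
    fun r => Ideal.quotientMap_mk
  have hleft : ∀ x, gbar (φ x) = x := by
    intro x
    obtain ⟨r, rfl⟩ := Ideal.Quotient.mk_surjective x
    rw [hφmk]
    change g (algebraMap R S r) = _
    rw [hgalg]
  constructor
  · intro x y hxy
    rw [← hleft x, ← hleft y, hxy]
  · have hKm : J.map (algebraMap R S) ≤ maximalIdeal S := by
      rw [Ideal.map_le_iff_le_comap]
      intro j hj
      rw [Ideal.mem_comap, mem_maximalIdeal]
      intro hu
      have := (isUnit_map_iff (algebraMap R S) j).mp hu
      exact (mem_maximalIdeal j).mp (hJm hj) this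
    have hKne : J.map (algebraMap R S) ≠ ⊤ := fun h =>
      (maximalIdeal.isMaximal S).ne_top (top_le_iff.mp (h ▸ hKm))
    have hSh : HenselianLocalRing S := hS.henselian
    have hquot : HenselianLocalRing (S ⧸ J.map (algebraMap R S)) :=
      henselianLocalRing_quotient S _ hKne
    have hπ : IsLocalHom (Ideal.Quotient.mk (J.map (algebraMap R S))) :=
      isLocalHom_of_le_jacobson_bot _ (hKm.trans (maximalIdeal_le_jacobson _))
    have hcomp : IsLocalHom ((Ideal.Quotient.mk (J.map (algebraMap R S))).comp (algebraMap R S)) :=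
      RingHom.isLocalHom_comp _ _
    obtain ⟨g', -, hg'uniq⟩ := hS.universal (S ⧸ J.map (algebraMap R S))
      ((Ideal.Quotient.mk (J.map (algebraMap R S))).comp (algebraMap R S)) hcomp
    have e1 : Ideal.Quotient.mk (J.map (algebraMap R S)) = g' := hg'uniq _ rfl
    have e2 : φ.comp g = g' := by
      apply hg'uniq
      ext r
      simp only [RingHom.comp_apply, hgalg, hφmk]
    intro y
    obtain ⟨s, rfl⟩ := Ideal.Quotient.mk_surjective y
    refine ⟨g s, ?_⟩
    have := congr($e2 s)
    rw [← e1] at this
    exact this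

end Groth.Agent.H3
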