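import Groth.Agent.H3.EtaleLiftUnique
import Groth.Prelude.Def_Hens2

/-!
# Consequences of the universal property of the henselization of a pair
-/

set_option autoImplicit false
universe u

namespace Groth.Agent.H3

namespace PairHens

open Hens2

variable {A : Type u} [CommRing A] {I : Ideal A}

/-- any ring is henselian along the zero ideal -/
theorem henselianRing_bot (C : Type u) [CommRing C] : HenselianRing C (⊥ : Ideal C) where
  jac := bot_le
  is_henselian := by
    intro f _ a₀ h₁ _
    exact ⟨a₀, (Ideal.mem_bot.mp h₁), by simp⟩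

variable {B : Type u} [CommRing B] [Algebra A B]

theorem ringHom_mem_of_mem {C : Type u} [CommRing C] (g : B →+* C) {b : B}
    (hb : b ∈ I.map (algebraMap A B)) : g b ∈ I.map (g.comp (algebraMap A B)) := by
  have h2 := Ideal.mem_map_of_mem g hb
  rwa [Ideal.map_map] at h2

/-- injectivity of `A/I → B/IB` -/
theorem mem_of_algebraMap_mem (hB : IsPairHenselization A I B) {a : A}
    (ha : algebraMap A B a ∈ I.map (algebraMap A B)) : a ∈ I := by
  obtain ⟨g, hg, -⟩ := hB.2 (A ⧸ I) ⊥ (Ideal.Quotient.mk I) (henselianRing_bot _)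
    (by rw [Ideal.map_quotient_self])
  have h1 := ringHom_mem_of_mem g ha
  rw [hg, Ideal.map_quotient_self, Ideal.mem_bot] at h1
  have h2 : g (algebraMap A B a) = Ideal.Quotient.mk I a :=
    congrArg (fun f : A →+* A ⧸ I => f a) hg
  rw [h2] at h1
  exact Ideal.Quotient.eq_zero_iff_mem.mp h1

/-- the subalgebra `A + IB` -/
def subAlg (A : Type u) [CommRing A] (I : Ideal A) (B : Type u) [CommRing B] [Algebra A B] :
    Subalgebra A B where
  carrier := {b | ∃ a : A, b - algebraMap A B a ∈ I.map (algebraMap A B)}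
  mul_mem' := by
    rintro x y ⟨a, ha⟩ ⟨c, hc⟩
    refine ⟨a * c, ?_⟩
    have : x * y - algebraMap A B (a * c) =
        (x - algebraMap A B a) * y + algebraMap A B a * (y - algebraMap A B c) := by
      rw [map_mul]; ring
    rw [this]
    exact Ideal.add_mem _ (Ideal.mul_mem_right _ _ ha) (Ideal.mul_mem_left _ _ hc)
  add_mem' := by
    rintro x y ⟨a, ha⟩ ⟨c, hc⟩
    refine ⟨a + c, ?_⟩
    have : x + y - algebraMap A B (a + c) =
        (x - algebraMap A B a) + (y - algebraMap A B c) := by
      rw [map_add]; ring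
    rw [this]
    exact Ideal.add_mem _ ha hc
  algebraMap_mem' := fun a => ⟨a, by simp⟩

theorem mem_subAlg_of_mem {b : B} (hb : b ∈ I.map (algebraMap A B)) : b ∈ subAlg A I B :=
  ⟨0, by simpa using hb⟩

theorem henselianRing_subAlg (hB : HenselianRing B (I.map (algebraMap A B))) :
    HenselianRing (subAlg A I B) ((I.map (algebraMap A B)).comap (subAlg A I B).val) where
  jac := by
    intro x hx
    rw [Ideal.mem_jacobson_bot]
    intro y
    have hxy : (x * y : subAlg A I B).1 ∈ I.map (algebraMap A B) := by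
      rw [Ideal.mem_comap] at hx
      exact Ideal.mul_mem_right _ _ hx
    have hu : IsUnit ((x * y + 1 : subAlg A I B).1) := by
      have := Ideal.mem_jacobson_bot.mp (hB.jac hxy) 1
      simpa using this
    obtain ⟨u, hu⟩ := hu
    have hinv : (↑u⁻¹ : B) ∈ subAlg A I B := by
      refine ⟨1, ?_⟩
      have h1 : (↑u⁻¹ : B) - algebraMap A B 1 = - (↑u⁻¹ * (x * y : subAlg A I B).1) := by
        have h2 : (u : B) = (x * y : subAlg A I B).1 + 1 := by rw [hu]; rfl
        have h3 : (↑u⁻¹ : B) * u = 1 := Units.inv_mul u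
        rw [h2] at h3
        rw [map_one]
        linear_combination h3
      rw [h1]
      exact Ideal.neg_mem_iff _ |>.mpr (Ideal.mul_mem_left _ _ hxy)
    refine isUnit_iff_exists_inv.mpr ⟨⟨_, hinv⟩, ?_⟩
    apply Subtype.ext
    change (x * y + 1 : subAlg A I B).1 * ↑u⁻¹ = 1
    rw [← hu]
    exact Units.mul_inv u
  is_henselian := by
    intro f hf a₀ h₁ h₂
    let j : subAlg A I B →+* B := (subAlg A I B).val.toRingHom
    have hjJ : ∀ z : subAlg A I B, z ∈ (I.map (algebraMap A B)).comap (subAlg A I B).val ↔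
        j z ∈ I.map (algebraMap A B) := fun z => Iff.rfl
    have h₁' : (f.map j).eval (j a₀) ∈ I.map (algebraMap A B) := by
      rw [Polynomial.eval_map, Polynomial.eval₂_hom]
      exact (hjJ _).mp h₁
    have h₂' : IsUnit (Ideal.Quotient.mk (I.map (algebraMap A B))
        ((f.map j).derivative.eval (j a₀))) := by
      rw [Polynomial.derivative_map, Polynomial.eval_map, Polynomial.eval₂_hom]
      obtain ⟨v, hv⟩ := isUnit_iff_exists_inv.mp h₂
      obtain ⟨w, rfl⟩ := Ideal.Quotient.mk_surjective v
      rw [← map_mul, ← map_one (Ideal.Quotient.mk _), Ideal.Quotient.eq, hjJ, map_sub, map_mul,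
        map_one] at hv
      refine isUnit_iff_exists_inv.mpr ⟨Ideal.Quotient.mk _ (j w), ?_⟩
      rw [← map_mul, ← map_one (Ideal.Quotient.mk _), Ideal.Quotient.eq]
      exact hv
    obtain ⟨a, ha, haa₀⟩ := hB.is_henselian (f.map j) (hf.map j) (j a₀) h₁' h₂'
    have hamem : a ∈ subAlg A I B := by
      have h3 : a = (a - j a₀) + j a₀ := by ring
      rw [h3]
      exact (subAlg A I B).add_mem (mem_subAlg_of_mem haa₀) a₀.2
    refine ⟨⟨a, hamem⟩, ?_, ?_⟩
    · have h4 : j (f.eval ⟨a, hamem⟩) = 0 := by
        rw [← Polynomial.eval₂_hom, ← Polynomial.eval_map]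
        exact ha
      exact Subtype.ext h4
    · rw [hjJ, map_sub]
      exact haa₀

/-- surjectivity of `A/I → B/IB` -/
theorem exists_sub_mem (hB : IsPairHenselization A I B) (b : B) :
    ∃ a : A, b - algebraMap A B a ∈ I.map (algebraMap A B) := by
  have hle : I.map (algebraMap A (subAlg A I B)) ≤
      (I.map (algebraMap A B)).comap (subAlg A I B).val := by
    rw [Ideal.map_le_iff_le_comap]
    intro a ha
    rw [Ideal.mem_comap, Ideal.mem_comap]
    exact Ideal.mem_map_of_mem _ ha
  obtain ⟨g, hg, -⟩ := hB.2 (subAlg A I B) _ (algebraMap A (subAlg A I B))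
    (henselianRing_subAlg hB.1) hle
  obtain ⟨g', -, hg'⟩ := hB.2 B (I.map (algebraMap A B)) (algebraMap A B) hB.1 le_rfl
  have h1 : ((subAlg A I B).val.toRingHom.comp g) = g' := hg' _ (by
    change ((subAlg A I B).val.toRingHom.comp g).comp (algebraMap A B) = algebraMap A B
    rw [RingHom.comp_assoc, hg]
    rfl)
  have h2 : RingHom.id B = g' := hg' _ (by
    change (RingHom.id B).comp (algebraMap A B) = algebraMap A B
    rw [RingHom.id_comp])
  have h3 : b = (subAlg A I B).val (g b) := by
    have := congrArg (fun f : B →+* B => f b) (h2.trans h1.symm)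
    exact this
  rw [h3]
  exact (g b).2

end PairHens

end Groth.Agent.H3
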