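import Groth.Agent.H3.HensLimUniv
import Groth.Agent.H3.PairHens
import Groth.Agent.H3.Henselization

/-!
# The henselization of a local ring from the henselization of the pair `(R, m)`
-/

set_option autoImplicit false
universe u

namespace Groth.Agent.H3

namespace HensLocal

open IsLocalRing Hens2

variable {R : Type u} [CommRing R] [IsLocalRing R] {S : Type u} [CommRing S] [Algebra R S]

theorem map_ne_top (hS : IsPairHenselization R (maximalIdeal R) S) :
    (maximalIdeal R).map (algebraMap R S) ≠ ⊤ := by
  intro h
  have h1 : algebraMap R S 1 ∈ (maximalIdeal R).map (algebraMap R S) := by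
    rw [h]; trivial
  have h2 := PairHens.mem_of_algebraMap_mem hS h1
  exact (Ideal.ne_top_iff_one _).mp (maximalIdeal.isMaximal R).ne_top h2

theorem isUnit_iff (hS : IsPairHenselization R (maximalIdeal R) S) (x : S) :
    IsUnit x ↔ x ∉ (maximalIdeal R).map (algebraMap R S) := by
  constructor
  · intro hx hmem
    exact map_ne_top hS (Ideal.eq_top_of_isUnit_mem _ hmem hx)
  · intro hx
    obtain ⟨a, ha⟩ := PairHens.exists_sub_mem hS x
    have hau : IsUnit a := by
      by_contra hna
      have ham : a ∈ maximalIdeal R := (IsLocalRing.mem_maximalIdeal a).mpr hna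
      apply hx
      have h3 : x = (x - algebraMap R S a) + algebraMap R S a := by ring
      rw [h3]
      exact Ideal.add_mem _ ha (Ideal.mem_map_of_mem _ ham)
    have h3 : x = algebraMap R S a + (x - algebraMap R S a) := by ring
    rw [h3]
    exact isUnit_add_of_mem_jacobson (hau.map _) (hS.1.jac ha)

theorem isLocalRing (hS : IsPairHenselization R (maximalIdeal R) S) : IsLocalRing S := by
  have hnt : Nontrivial S := by
    refine ⟨⟨0, 1, fun h01 => ?_⟩⟩
    apply map_ne_top hS
    rw [Ideal.eq_top_iff_one, ← h01]
    exact Ideal.zero_mem _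
  refine IsLocalRing.of_nonunits_add ?_
  intro a b ha hb
  rw [mem_nonunits_iff, isUnit_iff hS, not_not] at ha hb ⊢
  exact Ideal.add_mem _ ha hb

theorem maximalIdeal_eq [IsLocalRing S] (hS : IsPairHenselization R (maximalIdeal R) S) :
    maximalIdeal S = (maximalIdeal R).map (algebraMap R S) := by
  ext x
  rw [IsLocalRing.mem_maximalIdeal, mem_nonunits_iff, isUnit_iff hS, not_not]

theorem isLocalHom (hS : IsPairHenselization R (maximalIdeal R) S) :
    IsLocalHom (algebraMap R S) := by
  refine ⟨fun a ha => ?_⟩
  rw [isUnit_iff hS] at ha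
  by_contra hna
  exact ha (Ideal.mem_map_of_mem _ ((IsLocalRing.mem_maximalIdeal a).mpr hna))

theorem henselianLocalRing [IsLocalRing S] (hS : IsPairHenselization R (maximalIdeal R) S) :
    HenselianLocalRing S := by
  apply henselianLocalRing_of_henselianRing
  rw [maximalIdeal_eq hS]
  exact hS.1

theorem isHenselization [IsLocalRing S] [IsLocalHom (algebraMap R S)]
    (hS : IsPairHenselization R (maximalIdeal R) S) : Hensel.IsHenselization R S where
  henselian := henselianLocalRing hS
  universal := by
    intro T _ _ f hf
    refine hS.2 T (maximalIdeal T) f inferInstance ?_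
    rw [Ideal.map_le_iff_le_comap]
    intro a ha
    rw [Ideal.mem_comap, IsLocalRing.mem_maximalIdeal, mem_nonunits_iff]
    intro hu
    exact (IsLocalRing.mem_maximalIdeal a).mp ha (hf.map_nonunit a hu)

variable (R) in
theorem isPairHenselization_Lim :
    IsPairHenselization R (maximalIdeal R) (HensTower.Lim R (maximalIdeal R)) :=
  ⟨HensTower.henselianRing_Lim R (maximalIdeal R),
    fun C _ J f hCJ hIJ => HensTower.existsUnique_lift R (maximalIdeal R) J f hCJ hIJ⟩

end HensLocal

end Groth.Agent.H3
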