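import Groth.Agent.H3.EtNbhdHens
import Mathlib.Algebra.Polynomial.Lifts

/-!
# The henselization of a pair is the union of the images of its étale neighbourhoods
-/

set_option autoImplicit false
universe u

namespace Groth.Agent.H3

namespace EtNbhd

open Hens2 TensorProduct Polynomial

variable {A : Type u} [CommRing A] (I : Ideal A)
variable (B : Type u) [CommRing B] [Algebra A B]

/-- a finite set of elements of `B` lies in the image of one étale neighbourhood -/
def InImage (s : Set B) : Prop :=
  ∃ (A' : Type u) (_ : CommRing A') (_ : Algebra A A') (_ : IsNbhd I A') (φ : A' →ₐ[A] B),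
    s ⊆ Set.range φ

variable {I B}

theorem InImage.mono {s t : Set B} (h : InImage I B t) (hst : s ⊆ t) : InImage I B s := by
  obtain ⟨A', _, _, hN, φ, hφ⟩ := h
  exact ⟨A', _, _, hN, φ, hst.trans hφ⟩

theorem InImage.union {s t : Set B} (hs : InImage I B s) (ht : InImage I B t) :
    InImage I B (s ∪ t) := by
  obtain ⟨A₁, _, _, hN₁, φ₁, hφ₁⟩ := hs
  obtain ⟨A₂, _, _, hN₂, φ₂, hφ₂⟩ := ht
  refine ⟨A₁ ⊗[A] A₂, _, _, hN₁.tensor hN₂,
    Algebra.TensorProduct.lift φ₁ φ₂ (fun _ _ => Commute.all _ _), ?_⟩
  rintro x (hx | hx)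
  · obtain ⟨y, rfl⟩ := hφ₁ hx
    exact ⟨y ⊗ₜ 1, by simp⟩
  · obtain ⟨y, rfl⟩ := hφ₂ hx
    exact ⟨1 ⊗ₜ y, by simp⟩

theorem InImage.empty : InImage I B (∅ : Set B) :=
  ⟨A, _, _, IsNbhd.self, Algebra.ofId A B, Set.empty_subset _⟩

theorem InImage.finset (s : Finset B) (h : ∀ x ∈ s, InImage I B {x}) :
    InImage I B (s : Set B) := by
  classical
  induction s using Finset.induction_on with
  | empty => simpa using InImage.empty
  | insert a s _ ih =>
    rw [Finset.coe_insert, Set.insert_eq]
    exact (h a (Finset.mem_insert_self a s)).union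
      (ih fun x hx => h x (Finset.mem_insert_of_mem hx))

variable (I B) in
/-- the union of the images of the étale neighbourhoods -/
def imageAlg : Subalgebra A B where
  carrier := {x | InImage I B {x}}
  mul_mem' := by
    intro x y hx hy
    obtain ⟨A', _, _, hN, φ, hφ⟩ := InImage.union hx hy
    obtain ⟨x', rfl⟩ := hφ (Or.inl rfl)
    obtain ⟨y', rfl⟩ := hφ (Or.inr rfl)
    exact ⟨A', _, _, hN, φ, by rintro _ rfl; exact ⟨x' * y', map_mul _ _ _⟩⟩
  add_mem' := by
    intro x y hx hy
    obtain ⟨A', _, _, hN, φ, hφ⟩ := InImage.union hx hy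
    obtain ⟨x', rfl⟩ := hφ (Or.inl rfl)
    obtain ⟨y', rfl⟩ := hφ (Or.inr rfl)
    exact ⟨A', _, _, hN, φ, by rintro _ rfl; exact ⟨x' + y', map_add _ _ _⟩⟩
  algebraMap_mem' := fun a =>
    ⟨A, _, _, IsNbhd.self, Algebra.ofId A B, by rintro _ rfl; exact ⟨a, rfl⟩⟩

theorem mem_imageAlg {x : B} : x ∈ imageAlg I B ↔ InImage I B {x} := Iff.rfl

theorem henselianRing_imageAlg (hB : IsPairHenselization A I B) :
    HenselianRing (imageAlg I B) ((I.map (algebraMap A B)).comap (imageAlg I B).val) where
  jac := by
    intro x hx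
    rw [Ideal.mem_jacobson_bot]
    intro y
    have hxy : (x * y : imageAlg I B).1 ∈ I.map (algebraMap A B) := by
      rw [Ideal.mem_comap] at hx
      exact Ideal.mul_mem_right _ _ hx
    have hu : IsUnit ((x * y + 1 : imageAlg I B).1) := by
      have := Ideal.mem_jacobson_bot.mp (hB.1.jac hxy) 1
      simpa using this
    obtain ⟨A', _, _, hN, φ, hφ⟩ := (x * y + 1 : imageAlg I B).2
    obtain ⟨s, hs⟩ := hφ rfl
    letI : Algebra A' B := φ.toRingHom.toAlgebra
    have hφa : ∀ x, algebraMap A' B x = φ x := fun x => rfl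
    have : IsScalarTower A A' B := IsScalarTower.of_algebraMap_eq fun a => (φ.commutes a).symm
    have hB' := isPairHenselization_nbhd hB hN
    have hs1 : s - 1 ∈ I.map (algebraMap A A') := by
      apply PairHens.mem_of_algebraMap_mem hB'
      rw [map_map_eq, map_sub, map_one, hφa, hs]
      have : (x * y + 1 : imageAlg I B).1 - 1 = (x * y : imageAlg I B).1 := by
        change (x * y : imageAlg I B).1 + 1 - 1 = _
        ring
      rw [this]
      exact hxy
    have hsu : IsUnit (φ s) := by rw [hs]; exact hu
    let φ' : Localization.Away s →ₐ[A] B := IsLocalization.Away.liftAlgHom s hsu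
    have hφ' : ∀ z, φ' (algebraMap A' _ z) = φ z := fun z => IsLocalization.Away.lift_eq s hsu z
    obtain ⟨u, hu'⟩ := hu
    have hinv : (↑u⁻¹ : B) ∈ imageAlg I B := by
      refine ⟨Localization.Away s, _, _, hN.away s hs1, φ', ?_⟩
      rintro _ rfl
      refine ⟨IsLocalization.Away.invSelf s, ?_⟩
      have h3 : φ' (IsLocalization.Away.invSelf s) * (u : B) = 1 := by
        rw [hu', ← hs, ← hφ', ← map_mul, mul_comm, IsLocalization.Away.mul_invSelf, map_one]
      calc φ' (IsLocalization.Away.invSelf s)
          = φ' (IsLocalization.Away.invSelf s) * ((u : B) * ↑u⁻¹) := by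
            rw [Units.mul_inv, mul_one]
        _ = ↑u⁻¹ := by rw [← mul_assoc, h3, one_mul]
    refine isUnit_iff_exists_inv.mpr ⟨⟨_, hinv⟩, ?_⟩
    apply Subtype.ext
    change (x * y + 1 : imageAlg I B).1 * ↑u⁻¹ = 1
    rw [← hu']
    exact Units.mul_inv u
  is_henselian := by
    intro f hf a₀ h₁ h₂
    classical
    let j : imageAlg I B →+* B := (imageAlg I B).val.toRingHom
    have hjJ : ∀ z : imageAlg I B, z ∈ (I.map (algebraMap A B)).comap (imageAlg I B).val ↔
        j z ∈ I.map (algebraMap A B) := fun z => Iff.rfl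
    obtain ⟨v, hv⟩ := isUnit_iff_exists_inv.mp h₂
    obtain ⟨w, rfl⟩ := Ideal.Quotient.mk_surjective v
    rw [← map_mul, ← map_one (Ideal.Quotient.mk _), Ideal.Quotient.eq, hjJ, map_sub, map_mul,
      map_one] at hv
    -- a common neighbourhood
    have hT : InImage I B (↑((f.map j).coeffs ∪ {j a₀, j w}) : Set B) := by
      apply InImage.finset
      intro x hx
      rw [Finset.mem_union] at hx
      rcases hx with hx | hx
      · rw [Polynomial.coeffs, Finset.mem_image] at hx
        obtain ⟨n, -, rfl⟩ := hx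
        rw [Polynomial.coeff_map]
        exact (f.coeff n).2
      · rw [Finset.mem_insert, Finset.mem_singleton] at hx
        rcases hx with rfl | rfl
        · exact a₀.2
        · exact w.2
    obtain ⟨A', _, _, hN, φ, hφ⟩ := hT
    letI : Algebra A' B := φ.toRingHom.toAlgebra
    have hφa : ∀ x, algebraMap A' B x = φ x := fun x => rfl
    have : IsScalarTower A A' B := IsScalarTower.of_algebraMap_eq fun a => (φ.commutes a).symm
    have hB' := isPairHenselization_nbhd hB hN
    have hlift : f.map j ∈ Polynomial.lifts φ.toRingHom := by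
      rw [Polynomial.lifts_iff_coeffs_subset_range]
      intro x hx
      exact hφ (by
        rw [Finset.coe_union]
        exact Or.inl hx)
    obtain ⟨q, hq, -, hqm⟩ := Polynomial.lifts_and_natDegree_eq_and_monic hlift (hf.map j)
    obtain ⟨a₀', ha₀'⟩ := hφ (show j a₀ ∈ _ by
      rw [Finset.coe_union]; exact Or.inr (by simp))
    obtain ⟨w', hw'⟩ := hφ (show j w ∈ _ by
      rw [Finset.coe_union]; exact Or.inr (by simp))
    have hev : ∀ p : A'[X], φ (p.eval a₀') = (p.map φ.toRingHom).eval (j a₀) := by
      intro p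
      rw [Polynomial.eval_map, ← ha₀']
      exact (Polynomial.hom_eval₂ p (RingHom.id A') φ.toRingHom a₀').trans (by simp)
    have hq1 : q.eval a₀' ∈ I.map (algebraMap A A') := by
      apply PairHens.mem_of_algebraMap_mem hB'
      rw [map_map_eq, hφa, hev, hq, Polynomial.eval_map, Polynomial.eval₂_hom]
      exact (hjJ _).mp h₁
    have hq2 : w' * q.derivative.eval a₀' - 1 ∈ I.map (algebraMap A A') := by
      apply PairHens.mem_of_algebraMap_mem hB'
      rw [map_map_eq, map_sub, map_mul, map_one, hφa, hφa, hev, ← Polynomial.derivative_map, hq,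
        Polynomial.derivative_map, Polynomial.eval_map, Polynomial.eval₂_hom, hw', mul_comm]
      exact hv
    obtain ⟨S, _, _, hNS, a', ha'0, ha'⟩ := exists_step q hqm a₀' w' hq1 hq2
    letI : Algebra A S := ((algebraMap A' S).comp (algebraMap A A')).toAlgebra
    have : IsScalarTower A A' S := IsScalarTower.of_algebraMap_eq' rfl
    have hNS' : IsNbhd I S := hN.trans hNS
    let φS : S →ₐ[A] B := toHens hB.1 hNS'
    have hcomp : φS.comp (IsScalarTower.toAlgHom A A' S) = φ := algHom_unique hB.1 hN _ _
    have hcomp' : ∀ z, φS (algebraMap A' S z) = φ z :=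
      fun z => congrArg (fun g : A' →ₐ[A] B => g z) hcomp
    have hamem : φS a' ∈ imageAlg I B :=
      ⟨S, _, _, hNS', φS, by rintro _ rfl; exact ⟨a', rfl⟩⟩
    refine ⟨⟨φS a', hamem⟩, ?_, ?_⟩
    · have h4 : j (f.eval ⟨φS a', hamem⟩) = 0 := by
        rw [← Polynomial.eval₂_hom, ← Polynomial.eval_map, ← hq]
        change (q.map φ.toRingHom).eval (φS a') = 0
        have h5 : q.map φ.toRingHom = (q.map (algebraMap A' S)).map φS.toRingHom := by
          rw [Polynomial.map_map]
          congr 1
          ext z
          exact (hcomp' z).symm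
        have h6 : φS.toRingHom (q.eval₂ (algebraMap A' S) a') =
            q.eval₂ (φS.toRingHom.comp (algebraMap A' S)) (φS.toRingHom a') :=
          Polynomial.hom_eval₂ q _ _ _
        rw [h5, Polynomial.eval_map, Polynomial.eval₂_map]
        refine h6.symm.trans ?_
        rw [← Polynomial.aeval_def, ha'0, map_zero]
      exact Subtype.ext h4
    · rw [hjJ, map_sub]
      change φS a' - j a₀ ∈ _
      rw [← ha₀', ← hcomp', ← map_sub]
      apply algHom_mem_of_mem φS
      rw [← map_map_eq (I := I) A' S]
      exact ha'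

/-- every element of the henselization comes from an étale neighbourhood -/
theorem imageAlg_eq_top (hB : IsPairHenselization A I B) (b : B) : b ∈ imageAlg I B := by
  have hle : I.map (algebraMap A (imageAlg I B)) ≤
      (I.map (algebraMap A B)).comap (imageAlg I B).val := by
    rw [Ideal.map_le_iff_le_comap]
    intro a ha
    rw [Ideal.mem_comap, Ideal.mem_comap]
    exact Ideal.mem_map_of_mem _ ha
  obtain ⟨g, hg, -⟩ := hB.2 (imageAlg I B) _ (algebraMap A (imageAlg I B))
    (henselianRing_imageAlg hB) hle
  obtain ⟨g', -, hg'⟩ := hB.2 B (I.map (algebraMap A B)) (algebraMap A B) hB.1 le_rfl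
  have h1 : ((imageAlg I B).val.toRingHom.comp g) = g' := hg' _ (by
    change ((imageAlg I B).val.toRingHom.comp g).comp (algebraMap A B) = algebraMap A B
    rw [RingHom.comp_assoc, hg]
    rfl)
  have h2 : RingHom.id B = g' := hg' _ (by
    change (RingHom.id B).comp (algebraMap A B) = algebraMap A B
    rw [RingHom.id_comp])
  have h3 : b = (imageAlg I B).val (g b) := by
    have := congrArg (fun f : B →+* B => f b) (h2.trans h1.symm)
    exact this
  rw [h3]
  exact (g b).2

/-- finitely many elements of the henselization come from one étale neighbourhood -/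
theorem inImage_finset (hB : IsPairHenselization A I B) (s : Finset B) :
    InImage I B (s : Set B) :=
  InImage.finset s fun x _ => imageAlg_eq_top hB x

end EtNbhd

end Groth.Agent.H3
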