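import Groth.Agent.H3.EtNbhdImage
import Groth.Agent.H3.HensIso
import Mathlib.RingTheory.QuasiFinite.Basic
import Mathlib.RingTheory.Unramified.LocalStructure
import Mathlib.RingTheory.Ideal.GoingDown
import Mathlib.RingTheory.KrullDimension.Basic

/-!
# Krull dimension of a henselization
-/

set_option autoImplicit false
universe u

namespace Groth.Agent.H3

namespace HensDim

open Hens2

variable {A : Type u} [CommRing A] {I : Ideal A}
variable {B : Type u} [CommRing B] [Algebra A B]

/-- distinct comparable primes of the henselization have distinct contractions -/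
theorem under_lt_under (hB : IsPairHenselization A I B) {q q' : Ideal B} [q.IsPrime] [q'.IsPrime]
    (h : q < q') : q.under A < q'.under A := by
  refine lt_of_le_of_ne (Ideal.comap_mono h.le) fun heq => ?_
  obtain ⟨x, hx', hx⟩ := Set.exists_of_ssubset h
  obtain ⟨A', _, _, hN, φ, hφ⟩ := EtNbhd.inImage_finset hB {x}
  obtain ⟨x', rfl⟩ : ∃ x', φ x' = x := hφ (by simp)
  have := hN.etale
  have hQF : Algebra.QuasiFinite A A' := inferInstance
  let Q : Ideal A' := q.comap φ.toRingHom
  let Q' : Ideal A' := q'.comap φ.toRingHom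
  have hQ : Q.IsPrime := Ideal.comap_isPrime _ _
  have hQ' : Q'.IsPrime := Ideal.comap_isPrime _ _
  have hle : Q ≤ Q' := Ideal.comap_mono h.le
  have hu : ∀ J : Ideal B, (J.comap φ.toRingHom).under A = J.under A := by
    intro J
    ext a
    simp only [Ideal.under_def, Ideal.mem_comap]
    change φ (algebraMap A A' a) ∈ J ↔ _
    rw [φ.commutes]
  have hund : Q.under A = Q'.under A := by
    rw [hu, hu, heq]
  have hQQ' : Q = Q' := Algebra.QuasiFinite.eq_of_le_of_under_eq Q Q' hle hund
  have h1 : x' ∈ Q' := hx'
  rw [← hQQ'] at h1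
  exact hx h1

theorem ringKrullDim_le (hB : IsPairHenselization A I B) : ringKrullDim B ≤ ringKrullDim A := by
  refine Order.krullDim_le_of_strictMono
    (fun q : PrimeSpectrum B => (⟨q.asIdeal.under A, inferInstance⟩ : PrimeSpectrum A)) ?_
  intro q q' h
  have h' : q.asIdeal < q'.asIdeal := h
  exact under_lt_under hB h'

/-- A flat local homomorphism of local rings does not lower Krull dimension. -/
theorem ringKrullDim_le_of_flat_of_isLocalHom (R S : Type*) [CommRing R] [CommRing S] [Algebra R S]
    [IsLocalRing R] [IsLocalRing S] [Module.Flat R S] [IsLocalHom (algebraMap R S)] :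
    ringKrullDim R ≤ ringKrullDim S := by
  have : Module.FaithfullyFlat R S := Module.FaithfullyFlat.of_flat_of_isLocalHom
  unfold ringKrullDim Order.krullDim
  refine iSup_le fun l => ?_
  obtain ⟨P, hP⟩ := PrimeSpectrum.comap_surjective_of_faithfullyFlat (A := R) (B := S) l.last
  have : P.asIdeal.LiesOver l.last.asIdeal := ⟨by rw [← hP]; rfl⟩
  obtain ⟨L, hL, -, -⟩ := Ideal.exists_ltSeries_of_hasGoingDown l P.asIdeal
  rw [← hL]
  exact le_iSup (fun p : LTSeries (PrimeSpectrum S) => ((p.length : ℕ∞) : WithBot ℕ∞)) L

theorem ringKrullDim_eq_of_isHenselization {R S : Type u} [CommRing R] [IsLocalRing R]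
    [CommRing S] [IsLocalRing S] [Algebra R S] [IsLocalHom (algebraMap R S)]
    (h : Hensel.IsHenselization R S) : ringKrullDim S = ringKrullDim R := by
  have hP := HensIso.isPairHenselization_of_isHenselization h
  have hflat : Module.Flat R S := HensFlatMain.flat hP
  exact le_antisymm (ringKrullDim_le hP) (ringKrullDim_le_of_flat_of_isLocalHom R S)

end HensDim

end Groth.Agent.H3
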