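import Groth.Agent.H3.UnionEtale
import Groth.Prelude.Def_Hensel
import Mathlib.RingTheory.Henselian
import Mathlib.FieldTheory.IsSepClosed
import Mathlib.RingTheory.LocalRing.ResidueField.Basic

/-!
# A strict henselization is a union of images of étale algebras

The union `E` of the images of the étale `R`-algebras in a strict henselization `S` of `R` is a
henselian local ring with the same residue field, so the universal property of `S` gives a
retraction `S → E`, which forces `E = S`.
-/

set_option autoImplicit false
universe u

namespace Groth.Agent.H3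

namespace StrictHensUnion

open IsLocalRing Polynomial UnionEtale

variable (R : Type u) [CommRing R] [IsLocalRing R]
variable (S : Type u) [CommRing S] [IsLocalRing S] [Algebra R S] [IsLocalHom (algebraMap R S)]

omit [IsLocalRing R] [IsLocalRing S] [IsLocalHom (algebraMap R S)] in
theorem isUnit_iff (a : imageAlg R S) : IsUnit a ↔ IsUnit (a : S) := by
  constructor
  · intro h
    exact h.map (imageAlg R S).val
  · intro h
    obtain ⟨y, hy⟩ := isUnit_iff_exists_inv.mp h
    have hyE : y ∈ imageAlg R S := InImage.inv a.2 y hy
    exact isUnit_iff_exists_inv.mpr ⟨⟨y, hyE⟩, Subtype.ext hy⟩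

omit [IsLocalRing R] [IsLocalHom (algebraMap R S)] in
theorem isLocalRing : IsLocalRing (imageAlg R S) := by
  refine IsLocalRing.of_isUnit_or_isUnit_one_sub_self fun a => ?_
  rcases IsLocalRing.isUnit_or_isUnit_one_sub_self (a : S) with h | h
  · left; exact (isUnit_iff R S a).mpr h
  · right; exact (isUnit_iff R S (1 - a)).mpr h

instance : IsLocalRing (imageAlg R S) := isLocalRing R S

omit [IsLocalRing R] [IsLocalHom (algebraMap R S)] in
theorem mem_maximalIdeal_iff (a : imageAlg R S) :
    a ∈ maximalIdeal (imageAlg R S) ↔ (a : S) ∈ maximalIdeal S := by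
  rw [mem_maximalIdeal, mem_maximalIdeal, mem_nonunits_iff, mem_nonunits_iff, isUnit_iff]

instance : IsLocalHom (imageAlg R S).val.toRingHom :=
  ⟨fun a h => (isUnit_iff R S a).mpr h⟩

instance : IsLocalHom (algebraMap R (imageAlg R S)) :=
  ⟨fun r h => by
    have h1 : IsUnit (algebraMap R S r) := (isUnit_iff R S _).mp h
    exact isUnit_of_map_unit (algebraMap R S) r h1⟩

variable {S} in
omit [IsLocalRing R] [IsLocalHom (algebraMap R S)] in
/-- the value of a polynomial at a point congruent to a point where it is a unit is a unit -/
theorem isUnit_eval_of_sub_mem (p : S[X]) {a a₀ : S} (h : a - a₀ ∈ maximalIdeal S)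
    (hu : IsUnit (p.eval a₀)) : IsUnit (p.eval a) := by
  have hmem : p.eval a - p.eval a₀ ∈ maximalIdeal S :=
    Ideal.mem_of_dvd _ (Polynomial.sub_dvd_eval_sub a a₀ p) h
  by_contra hnu
  have h3 : p.eval a ∈ maximalIdeal S := (mem_maximalIdeal _).mpr hnu
  have h4 : p.eval a₀ ∈ maximalIdeal S := by
    have := Ideal.sub_mem _ h3 hmem
    rwa [sub_sub_cancel] at this
  exact (mem_maximalIdeal _).mp h4 hu

omit [IsLocalRing R] [IsLocalHom (algebraMap R S)] in
theorem henselianLocalRing [HenselianLocalRing S] : HenselianLocalRing (imageAlg R S) where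
  toIsLocalRing := isLocalRing R S
  is_henselian := by
    intro f hf a₀ h₁ h₂
    let j : imageAlg R S →+* S := (imageAlg R S).val.toRingHom
    have h₁' : (f.map j).eval (j a₀) ∈ maximalIdeal S := by
      rw [eval_map, eval₂_hom]
      exact (mem_maximalIdeal_iff R S _).mp h₁
    have h₂' : IsUnit ((f.map j).derivative.eval (j a₀)) := by
      rw [derivative_map, eval_map, eval₂_hom]
      exact h₂.map j
    obtain ⟨a, ha, haa⟩ := HenselianLocalRing.is_henselian (f.map j) (hf.map j) (j a₀) h₁' h₂'
    have hu : IsUnit ((f.map j).derivative.eval a) := isUnit_eval_of_sub_mem _ haa h₂'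
    have haE : a ∈ imageAlg R S := root_mem_imageAlg f hf a ha hu
    refine ⟨⟨a, haE⟩, ?_, ?_⟩
    · apply Subtype.ext
      change j (f.eval ⟨a, haE⟩) = 0
      rw [← eval₂_hom, ← eval_map]
      exact ha
    · rw [mem_maximalIdeal_iff]
      exact haa

/-- every element of the residue field of `S` separable over that of `R` is the residue of an
element of the union of the étale images -/
theorem exists_residue_eq [HenselianLocalRing S]
    [Algebra.IsSeparable (ResidueField R) (ResidueField S)] (α : ResidueField S) :
    ∃ a : imageAlg R S, residue S (a : S) = α := by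
  let k := ResidueField R
  let K := ResidueField S
  have hint : IsIntegral k α := Algebra.IsSeparable.isIntegral k α
  have hsep : (minpoly k α).Separable := Algebra.IsSeparable.isSeparable k α
  have hm : (minpoly k α).Monic := minpoly.monic hint
  obtain ⟨P, hP, -, hPm⟩ := lifts_and_natDegree_eq_and_monic
    ((Polynomial.mem_lifts _).mpr
      (Polynomial.map_surjective _ (residue_surjective) (minpoly k α))) hm
  obtain ⟨a₀, rfl⟩ := residue_surjective α
  let PS : S[X] := P.map (algebraMap R S)
  have hPS : PS.map (residue S) = (minpoly k (residue S a₀)).map (algebraMap k K) := by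
    rw [← hP, Polynomial.map_map, Polynomial.map_map]
    congr 1
  have h₁ : PS.eval a₀ ∈ maximalIdeal S := by
    rw [← residue_eq_zero_iff, ← eval₂_hom, ← eval_map, hPS, eval_map, ← aeval_def, minpoly.aeval]
  have h₂ : IsUnit (PS.derivative.eval a₀) := by
    by_contra hnu
    have h3 : PS.derivative.eval a₀ ∈ maximalIdeal S := (mem_maximalIdeal _).mpr hnu
    rw [← residue_eq_zero_iff, ← eval₂_hom, ← eval_map, ← derivative_map, hPS, derivative_map,
      eval_map, ← aeval_def] at h3
    exact hsep.aeval_derivative_ne_zero (minpoly.aeval k _) h3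
  obtain ⟨a, ha, haa⟩ := HenselianLocalRing.is_henselian PS (hPm.map _) a₀ h₁ h₂
  have hu : IsUnit (PS.derivative.eval a) := isUnit_eval_of_sub_mem _ haa h₂
  let f : (imageAlg R S)[X] := P.map (algebraMap R (imageAlg R S))
  have hf : f.map (imageAlg R S).val.toRingHom = PS := by
    rw [Polynomial.map_map]
    congr 1
  have haE : a ∈ imageAlg R S := root_mem_imageAlg f (hPm.map _) a (by rw [hf]; exact ha)
    (by rw [hf]; exact hu)
  refine ⟨⟨a, haE⟩, ?_⟩
  change residue S a = residue S a₀
  rw [← sub_eq_zero, ← map_sub, residue_eq_zero_iff]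
  exact haa

variable {R S}

/-- A strict henselization is a union of images of étale algebras. -/
theorem isUnion [hS : Hensel.IsStrictHenselization R S] : IsUnion R S := by
  have hSh : HenselianLocalRing S := hS.henselian
  have hsc := hS.isSepClosure
  have hsep : Algebra.IsSeparable (ResidueField R) (ResidueField S) := hsc.separable
  have hEh : HenselianLocalRing (imageAlg R S) := henselianLocalRing R S
  let j : imageAlg R S →+* S := (imageAlg R S).val.toRingHom
  let ι : ResidueField (imageAlg R S) →+* ResidueField S := ResidueField.map j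
  have hι : Function.Bijective ι := by
    refine ⟨ι.injective, fun α => ?_⟩
    obtain ⟨a, ha⟩ := exists_residue_eq R S α
    exact ⟨residue _ a, by rw [← ha]; exact ResidueField.map_residue j a⟩
  let e : ResidueField (imageAlg R S) ≃+* ResidueField S := RingEquiv.ofBijective ι hι
  let τ : ResidueField S →+* ResidueField (imageAlg R S) := e.symm.toRingHom
  have hτ : τ.comp (ResidueField.map (algebraMap R S)) =
      ResidueField.map (algebraMap R (imageAlg R S)) := by
    ext x
    obtain ⟨r, rfl⟩ := residue_surjective x
    apply e.injective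
    have h1 : e (τ (ResidueField.map (algebraMap R S) (residue R r))) =
        ResidueField.map (algebraMap R S) (residue R r) := e.apply_symm_apply _
    rw [RingHom.comp_apply, h1]
    have h2 : e (ResidueField.map (algebraMap R (imageAlg R S)) (residue R r)) =
        ι (ResidueField.map (algebraMap R (imageAlg R S)) (residue R r)) := rfl
    rw [h2, ResidueField.map_residue, ResidueField.map_residue, ResidueField.map_residue]
    rfl
  obtain ⟨g, ⟨hg1, hg2⟩, -⟩ := hS.universal (imageAlg R S) (algebraMap R (imageAlg R S)) τ hτ
  obtain ⟨g', -, hg'⟩ := hS.universal S (algebraMap R S) (RingHom.id _) (by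
    rw [RingHom.id_comp])
  have h1 : j.comp g = g' := hg' _ ⟨by
    rw [RingHom.comp_assoc, hg1]
    rfl, fun x => by
    change residue S (j (g x)) = residue S x
    rw [← ResidueField.map_residue j, hg2]
    change e (e.symm _) = _
    rw [RingEquiv.apply_symm_apply]⟩
  have h2 : RingHom.id S = g' := hg' _ ⟨by rw [RingHom.id_comp], fun x => rfl⟩
  intro b
  have h3 : b = j (g b) := by
    have := congrArg (fun f : S →+* S => f b) (h2.trans h1.symm)
    exact this
  rw [h3]
  exact (g b).2

end StrictHensUnion

end Groth.Agent.H3
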