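import Groth.Agent.H3.StrictHensMain
import Mathlib.RingTheory.Flat.FaithfullyFlat.Algebra

/-!
# Uniqueness of the strict henselization, and flatness
-/

set_option autoImplicit false
universe u

namespace Groth.Agent.H3

namespace SH

open IsLocalRing

section Unique

variable {R : Type u} [CommRing R] [IsLocalRing R]
  {S₁ S₂ : Type u} [CommRing S₁] [IsLocalRing S₁] [Algebra R S₁] [IsLocalHom (algebraMap R S₁)]
  [CommRing S₂] [IsLocalRing S₂] [Algebra R S₂] [IsLocalHom (algebraMap R S₂)]

omit [IsLocalHom (algebraMap R S₁)] in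
theorem algebraMap_residueField_eq [IsLocalHom (algebraMap R S₁)] :
    algebraMap (ResidueField R) (ResidueField S₁) = ResidueField.map (algebraMap R S₁) := by
  ext x
  obtain ⟨r, rfl⟩ := residue_surjective x
  rw [IsLocalRing.ResidueField.algebraMap_residue, ResidueField.map_residue]

theorem algHom_comp_map (τ : ResidueField S₁ →ₐ[ResidueField R] ResidueField S₂) :
    τ.toRingHom.comp (ResidueField.map (algebraMap R S₁)) =
      ResidueField.map (algebraMap R S₂) := by
  rw [← algebraMap_residueField_eq, ← algebraMap_residueField_eq]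
  exact τ.comp_algebraMap

/-- Two strict henselizations of a local ring are isomorphic over it. -/
theorem exists_algEquiv (h₁ : Hensel.IsStrictHenselization R S₁)
    (h₂ : Hensel.IsStrictHenselization R S₂) : Nonempty (S₁ ≃ₐ[R] S₂) := by
  have := h₁.henselian
  have := h₂.henselian
  have := h₁.isSepClosure
  have := h₂.isSepClosure
  let τ : ResidueField S₁ ≃ₐ[ResidueField R] ResidueField S₂ :=
    IsSepClosure.equiv (ResidueField R) (ResidueField S₁) (ResidueField S₂)
  obtain ⟨g, ⟨hg, hgres⟩, -⟩ := h₁.universal S₂ (algebraMap R S₂) τ.toAlgHom.toRingHom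
    (algHom_comp_map τ.toAlgHom)
  obtain ⟨h, ⟨hh, hhres⟩, -⟩ := h₂.universal S₁ (algebraMap R S₁) τ.symm.toAlgHom.toRingHom
    (algHom_comp_map τ.symm.toAlgHom)
  obtain ⟨i₁, -, hi₁⟩ := h₁.universal S₁ (algebraMap R S₁) (RingHom.id _) (RingHom.id_comp _)
  obtain ⟨i₂, -, hi₂⟩ := h₂.universal S₂ (algebraMap R S₂) (RingHom.id _) (RingHom.id_comp _)
  have e1 : h.comp g = RingHom.id S₁ := by
    rw [hi₁ (h.comp g) ⟨by rw [RingHom.comp_assoc, hg, hh], fun x => by
        rw [RingHom.comp_apply, hhres, hgres]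
        exact τ.symm_apply_apply _⟩,
      hi₁ (RingHom.id S₁) ⟨RingHom.id_comp _, fun x => rfl⟩]
  have e2 : g.comp h = RingHom.id S₂ := by
    rw [hi₂ (g.comp h) ⟨by rw [RingHom.comp_assoc, hh, hg], fun x => by
        rw [RingHom.comp_apply, hgres, hhres]
        exact τ.apply_symm_apply _⟩,
      hi₂ (RingHom.id S₂) ⟨RingHom.id_comp _, fun x => rfl⟩]
  exact ⟨AlgEquiv.ofRingEquiv (f := RingEquiv.ofRingHom g h e2 e1)
    (fun a => congrArg (fun φ : R →+* S₂ => φ a) hg)⟩

end Unique

section Flat

variable (R : Type u) [CommRing R] [IsLocalRing R]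

theorem flat_S : Module.Flat R (S R) := by
  have h0 : Module.Flat R (A₀ R) := flat_A₀ R
  have h1 : Module.Flat (A₀ R) (A₁ R) := IsLocalization.flat (A₁ R) (M R).primeCompl
  have h2 : Module.Flat (A₁ R) (S R) := HensFlatMain.flat (hS R)
  have h3 : Module.Flat R (A₁ R) := Module.Flat.trans R (A₀ R) (A₁ R)
  have : IsScalarTower R (A₁ R) (S R) := IsScalarTower.of_algebraMap_eq (fun r => by
    rw [algebraMap_S, ι, RingHom.comp_apply, ← IsScalarTower.algebraMap_apply R (A₀ R) (A₁ R)])
  exact Module.Flat.trans R (A₁ R) (S R)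

/-- Every strict henselization is faithfully flat. -/
theorem faithfullyFlat {S' : Type u} [CommRing S'] [IsLocalRing S'] [Algebra R S']
    [IsLocalHom (algebraMap R S')] (h : Hensel.IsStrictHenselization R S') :
    Module.FaithfullyFlat R S' := by
  obtain ⟨e⟩ := exists_algEquiv h (isStrictHenselization R)
  have := flat_S R
  have : Module.Flat R S' := Module.Flat.of_linearEquiv e.toLinearEquiv
  exact Module.FaithfullyFlat.of_flat_of_isLocalHom

end Flat

end SH

end Groth.Agent.H3
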