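import Groth.Agent.H3.UnionEtaleProps
import Groth.Agent.H3.StrictHensUnion
import Groth.Agent.H3.StrictHensUnique
import Groth.Agent.H3.EtNbhdImage
import Groth.Agent.H3.HensIso
import Groth.Agent.H3.HensDim

/-!
# Henselizations and strict henselizations as unions of étale images: consequences
-/

set_option autoImplicit false
universe u

namespace Groth.Agent.H3

namespace HensUnion

open Hens2 IsLocalRing UnionEtale

theorem isUnion_of_isPairHenselization {A : Type u} [CommRing A] {I : Ideal A}
    {B : Type u} [CommRing B] [Algebra A B] (hB : IsPairHenselization A I B) : IsUnion A B := by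
  intro x
  obtain ⟨A', _, _, hN, φ, hφ⟩ := EtNbhd.imageAlg_eq_top hB x
  exact ⟨A', _, _, hN.etale, φ, hφ⟩

variable {R : Type u} [CommRing R] [IsLocalRing R]
variable {S : Type u} [CommRing S] [IsLocalRing S] [Algebra R S] [IsLocalHom (algebraMap R S)]

/-- the common package: a henselization or strict henselization is a faithfully flat union of
étale images -/
theorem package (h : Hensel.IsHenselization R S ∨ Hensel.IsStrictHenselization R S) :
    IsUnion R S ∧ Module.FaithfullyFlat R S := by
  rcases h with h | h
  · have hP := HensIso.isPairHenselization_of_isHenselization h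
    have hflat : Module.Flat R S := HensFlatMain.flat hP
    exact ⟨isUnion_of_isPairHenselization hP, Module.FaithfullyFlat.of_flat_of_isLocalHom⟩
  · exact ⟨StrictHensUnion.isUnion, SH.faithfullyFlat R h⟩

theorem ringKrullDim_eq (h : Hensel.IsHenselization R S ∨ Hensel.IsStrictHenselization R S) :
    ringKrullDim S = ringKrullDim R := by
  obtain ⟨hU, hff⟩ := package h
  exact le_antisymm (UnionEtale.ringKrullDim_le hU)
    (HensDim.ringKrullDim_le_of_flat_of_isLocalHom R S)

theorem map_nilradical (h : Hensel.IsHenselization R S ∨ Hensel.IsStrictHenselization R S) :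
    (nilradical R).map (algebraMap R S) = nilradical S := by
  obtain ⟨hU, hff⟩ := package h
  exact UnionEtale.map_nilradical hU

theorem isReduced_iff (h : Hensel.IsHenselization R S ∨ Hensel.IsStrictHenselization R S) :
    IsReduced S ↔ IsReduced R := by
  obtain ⟨hU, hff⟩ := package h
  constructor
  · intro _
    exact isReduced_of_injective (algebraMap R S) (FaithfulSMul.algebraMap_injective R S)
  · intro _
    exact UnionEtale.isReduced hU

theorem normal_iff (h : Hensel.IsHenselization R S ∨ Hensel.IsStrictHenselization R S) :
    (IsDomain S ∧ IsIntegrallyClosed S) ↔ (IsDomain R ∧ IsIntegrallyClosed R) := by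
  obtain ⟨hU, hff⟩ := package h
  constructor
  · rintro ⟨_, _⟩
    exact Groth.Agent.H20.isDomain_and_isIntegrallyClosed_of_faithfullyFlat (A := R) (B := S)
  · rintro ⟨_, _⟩
    exact UnionEtale.isDomain_and_isIntegrallyClosed hU

end HensUnion

end Groth.Agent.H3
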