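import Groth.Agent.S0501

set_option autoImplicit false
universe u

namespace Groth.Agent.H3

open IsLocalRing

/-- Over a henselian local ring, an etale algebra with a prime over the maximal ideal with trivial
residue field extension has a section whose pullback of the maximal ideal is that prime. -/
theorem exists_section_of_etale (R : Type u) [CommRing R] [HenselianLocalRing R]
    (R' : Type u) [CommRing R'] [Algebra R R'] [Algebra.Etale R R'] (P : Ideal R') [P.IsPrime]
    [P.LiesOver (maximalIdeal R)] (hsurj : Function.Surjective (algebraMap R P.ResidueField)) :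
    ∃ ρ : R' →ₐ[R] R, Ideal.comap ρ.toRingHom (maximalIdeal R) = P := by
  have hker : RingHom.ker (algebraMap R P.ResidueField) ≤ RingHom.ker (residue R) := by
    intro r hr
    rw [RingHom.mem_ker, IsScalarTower.algebraMap_apply R R' P.ResidueField,
      Ideal.algebraMap_residueField_eq_zero] at hr
    rw [RingHom.mem_ker, residue_eq_zero_iff, Ideal.over_def P (maximalIdeal R)]
    exact hr
  let τ : P.ResidueField →+* ResidueField R :=
    (algebraMap R P.ResidueField).liftOfSurjective hsurj ⟨residue R, hker⟩
  have hτ : τ.comp (algebraMap R P.ResidueField) = (residue R).comp (algebraMap R R) :=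
    RingHom.liftOfSurjective_comp _ hsurj ⟨residue R, hker⟩
  obtain ⟨ρ, ⟨hρ, -⟩, -⟩ := Groth.Agent.S0501.result R R R' P τ hτ
  exact ⟨ρ, hρ⟩

end Groth.Agent.H3
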