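import Mathlib.RingTheory.Idempotents
import Mathlib.RingTheory.LocalRing.Basic
import Mathlib.RingTheory.Ideal.Quotient.Operations
import Mathlib.Algebra.BigOperators.Group.Finset.Basic

set_option autoImplicit false
universe u

namespace Groth.Agent.H3

/-- A complete family of orthogonal idempotents whose nonzero members cut out local rings
exhibits the ring as a finite product of local rings. -/
theorem exists_pi_isLocalRing_of_completeOrthogonalIdempotents {S : Type u} [CommRing S]
    {I : Type} [Fintype I] [DecidableEq I] (e : I → S) (he : CompleteOrthogonalIdempotents e)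
    (hloc : ∀ i, e i ≠ 0 → IsLocalRing (S ⧸ Ideal.span {1 - e i})) :
    ∃ (ι : Type u) (_ : Fintype ι) (A : ι → Type u) (_ : ∀ i, CommRing (A i)),
      (∀ i, IsLocalRing (A i)) ∧ Nonempty (S ≃+* (∀ i, A i)) := by
  classical
  let J := {i : I // e i ≠ 0}
  let e' : ULift.{u} J → S := fun i => e i.down.1
  have he' : CompleteOrthogonalIdempotents e' := by
    refine ⟨⟨fun i => he.idem _, ?_⟩, ?_⟩
    · intro i j hij
      apply he.ortho
      intro h
      apply hij
      exact ULift.ext _ _ (Subtype.ext h)
    · have h1 : ∑ i : ULift.{u} J, e' i = ∑ j : J, e j.1 :=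
        Fintype.sum_equiv Equiv.ulift _ _ (fun _ => rfl)
      rw [h1, ← he.complete]
      have h2 : ∑ j : J, e j.1 = ∑ i ∈ Finset.univ.filter (fun i => e i ≠ 0), e i :=
        (Finset.sum_subtype (Finset.univ.filter (fun i => e i ≠ 0)) (by simp) e).symm
      rw [h2]
      apply Finset.sum_filter_of_ne
      intro i _ hi
      exact hi
  refine ⟨ULift.{u} J, inferInstance, fun i => S ⧸ Ideal.span {1 - e' i}, inferInstance,
    fun i => hloc _ i.down.2, ⟨RingEquiv.ofBijective _ he'.bijective_pi⟩⟩

end Groth.Agent.H3
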