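import Groth.Agent.H3.StrictHensUniv

/-!
# The model is a strict henselization
-/

set_option autoImplicit false
universe u

namespace Groth.Agent.H3

namespace SH

open IsLocalRing Polynomial

variable (R : Type u) [CommRing R] [IsLocalRing R]
  (T : Type u) [CommRing T] [HenselianLocalRing T] (f : R →+* T) [IsLocalHom f]
  (τ : ResidueField (S R) →+* ResidueField T)
  (hτ : τ.comp (ResidueField.map (algebraMap R (S R))) = ResidueField.map f)

theorem comp_ι_eq (g : S R →+* T) (hg : g.comp (algebraMap (A₁ R) (S R)) = φ₁ R T f τ hτ) :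
    g.comp (ι R) = φ₀ R T f τ hτ := by
  rw [ι, ← RingHom.comp_assoc, hg, φ₁_comp]

theorem map_maximalIdeal_le (g : S R →+* T)
    (hg : g.comp (algebraMap (A₁ R) (S R)) = φ₁ R T f τ hτ) :
    (maximalIdeal (S R)).map g ≤ maximalIdeal T := by
  rw [maximalIdeal_S, Ideal.map_map, hg]
  exact ((local_hom_TFAE (φ₁ R T f τ hτ)).out 0 2).mp
    (inferInstance : IsLocalHom (φ₁ R T f τ hτ))

theorem residue_eq (g : S R →+* T) (hg : g.comp (algebraMap (A₁ R) (S R)) = φ₁ R T f τ hτ)
    (x : S R) : residue T (g x) = τ (residue (S R) x) := by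
  obtain ⟨a₁, ha₁⟩ := PairHens.exists_sub_mem (hS R) x
  rw [← maximalIdeal_S] at ha₁
  have h1 : (residue T).comp (φ₁ R T f τ hτ) =
      τ.comp ((residue (S R)).comp (algebraMap (A₁ R) (S R))) := by
    apply IsLocalization.ringHom_ext (M R).primeCompl
    rw [RingHom.comp_assoc, φ₁_comp, residue_comp_φ₀]
    rfl
  have h2 : residue T (g (algebraMap (A₁ R) (S R) a₁)) =
      τ (residue (S R) (algebraMap (A₁ R) (S R) a₁)) := by
    have := congrArg (fun θ : A₁ R →+* ResidueField T => θ a₁) h1
    rw [← hg] at this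
    exact this
  have h3 : residue T (g (x - algebraMap (A₁ R) (S R) a₁)) = 0 := by
    rw [residue_eq_zero_iff]
    exact map_maximalIdeal_le R T f τ hτ g hg (Ideal.mem_map_of_mem g ha₁)
  have h4 : residue (S R) (x - algebraMap (A₁ R) (S R) a₁) = 0 := by
    rw [residue_eq_zero_iff]
    exact ha₁
  have h5 : x = (x - algebraMap (A₁ R) (S R) a₁) + algebraMap (A₁ R) (S R) a₁ := by ring
  rw [h5, map_add, map_add, map_add, map_add, h3, h4, h2, map_zero]

include hτ in
theorem existsUnique_lift :
    ∃! g : S R →+* T, g.comp (algebraMap R (S R)) = f ∧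
      ∀ x : S R, residue T (g x) = τ (residue (S R) x) := by
  obtain ⟨g, hg, hguniq⟩ := Hensel.IsHenselization.universal (R := A₁ R) (S := S R) T
    (φ₁ R T f τ hτ) inferInstance
  refine ⟨g, ⟨?_, residue_eq R T f τ hτ g hg⟩, ?_⟩
  · change g.comp ((ι R).comp (algebraMap R (A₀ R))) = f
    rw [← RingHom.comp_assoc, comp_ι_eq R T f τ hτ g hg]
    exact RingHom.ext fun r => φ₀_algebraMap R T f τ hτ r
  · rintro g' ⟨hg'f, hg'res⟩
    apply hguniq
    apply IsLocalization.ringHom_ext (M R).primeCompl
    rw [φ₁_comp, RingHom.comp_assoc]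
    change g'.comp (ι R) = φ₀ R T f τ hτ
    apply MonicQuot.ringHom_ext
    · intro r
      change g' (ι R (algebraMap R (A₀ R) r)) = φ₀ R T f τ hτ (algebraMap R (A₀ R) r)
      rw [φ₀_algebraMap]
      exact congrArg (fun θ : R →+* T => θ r) hg'f
    · intro α
      change g' (ι R (X₀ R α)) = φ₀ R T f τ hτ (X₀ R α)
      rw [φ₀_X₀]
      have hres : residue T (g' (ι R (X₀ R α))) = κ R T τ α := by
        rw [hg'res, κ, RingHom.comp_apply, e'_apply]
      have hroot1 : (F R α).eval₂ f (g' (ι R (X₀ R α))) = 0 := by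
        have h1 := MonicQuot.eval₂_mk_X (F := F R) (S := Set.univ) (g'.comp (ι R))
          (Set.mem_univ α)
        have h2 : (g'.comp (ι R)).comp (algebraMap R (A₀ R)) = f := hg'f
        change (F R α).eval₂ ((g'.comp (ι R)).comp (algebraMap R (A₀ R)))
          (g' (ι R (X₀ R α))) = 0 at h1
        rwa [h2] at h1
      refine HensStep.root_unique (J := maximalIdeal T)
        (IsLocalRing.maximalIdeal_le_jacobson ⊥) ((F R α).map f)
        (root R T f τ hτ α) _ _ ?_ ?_ ?_ ?_ ?_
      · rw [IsRoot, Polynomial.eval_map]; exact hroot1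
      · rw [IsRoot, Polynomial.eval_map]; exact root_eval₂ R T f τ hτ α
      · rw [← Ideal.Quotient.eq]
        exact hres.trans (residue_root R T f τ hτ α).symm
      · rw [sub_self]; exact Ideal.zero_mem _
      · rw [Polynomial.derivative_map, Polynomial.eval_map]
        exact (isUnit_derivative R T f τ hτ α _ (residue_root R T f τ hτ α)).map _

/-- The model is a strict henselization. -/
theorem isStrictHenselization : Hensel.IsStrictHenselization R (S R) where
  henselian := HensLocal.henselianLocalRing (hS R)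
  isSepClosure := isSepClosure R
  universal := by
    intro T _ _ f _ τ hτ
    exact existsUnique_lift R T f τ hτ

end SH

end Groth.Agent.H3
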