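import Groth.Agent.H3.HensColimFlat
import Groth.Agent.H20.ComplNoeth2
import Mathlib.RingTheory.AdicCompletion.AsTensorProduct
import Mathlib.RingTheory.AdicCompletion.LocalRing
import Mathlib.RingTheory.Flat.FaithfullyFlat.Algebra

/-!
# The henselization of a Noetherian pair is Noetherian

The adic completion `C` of `A` along `I` is Noetherian, flat over `A` and henselian along `IC`,
so it receives a map from the henselization `B` of `(A, I)`; `C` is flat over `B` because it is
flat over `A`, and faithfully flat because the closed fibres agree.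
-/

set_option autoImplicit false
universe u

namespace Groth.Agent.H3

namespace HensNoeth

open Hens2 TensorProduct

/-- Faithfully flat descent of the Noetherian property. -/
theorem isNoetherianRing_of_faithfullyFlat (A B : Type*) [CommRing A] [CommRing B] [Algebra A B]
    [Module.FaithfullyFlat A B] [IsNoetherianRing B] : IsNoetherianRing A := by
  rw [isNoetherianRing_iff, isNoetherian_iff']
  have hmono : StrictMono (Ideal.map (algebraMap A B)) :=
    Monotone.strictMono_of_injective (fun _ _ h => Ideal.map_mono h)
      Ideal.map_injective_of_faithfullyFlat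
  have : WellFoundedGT (Ideal B) := (isNoetherian_iff' (R := B) (M := B)).mp inferInstance
  exact hmono.wellFoundedGT

/-- a flat algebra such that every maximal ideal is killed by a ring map to a nontrivial ring is
faithfully flat -/
theorem faithfullyFlat_of_forall_maximal {R T : Type*} [CommRing R] [CommRing T]
    [Algebra R T] [Module.Flat R T]
    (h : ∀ m : Ideal R, m.IsMaximal → ∃ (k : Type u) (_ : CommRing k) (_ : Nontrivial k)
      (φ : T →+* k), ∀ x ∈ m, φ (algebraMap R T x) = 0) : Module.FaithfullyFlat R T := by
  refine ⟨fun m hm htop => ?_⟩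
  obtain ⟨k, _, _, φ, hφ⟩ := h m hm
  have h1 : (1 : T) ∈ m • (⊤ : Submodule R T) := by rw [htop]; trivial
  have h2 : ∀ t ∈ m • (⊤ : Submodule R T), φ t = 0 := by
    intro t ht
    refine Submodule.smul_induction_on ht ?_ ?_
    · intro r hr t _
      rw [Algebra.smul_def, map_mul, hφ r hr, zero_mul]
    · intro x y hx hy
      rw [map_add, hx, hy, add_zero]
  have h3 := h2 1 h1
  rw [map_one] at h3
  exact one_ne_zero h3

variable {A : Type u} [CommRing A] {I : Ideal A}
variable {B : Type u} [CommRing B] [Algebra A B]

theorem isNoetherianRing (hB : IsPairHenselization A I B) [IsNoetherianRing A] :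
    IsNoetherianRing B := by
  let C := AdicCompletion I A
  have hI : I.FG := IsNoetherian.noetherian I
  let K : Ideal C := I.map (algebraMap A C)
  have hc : IsAdicComplete K C := AdicCompletion.isAdicComplete_self I hI
  have hCh : HenselianRing C K := IsAdicComplete.henselianRing C K
  have hCn : IsNoetherianRing C := Groth.Agent.H20.isNoetherianRing_adicCompletion I
  have hCf : Module.Flat A C := AdicCompletion.flat_of_isNoetherian I
  obtain ⟨g, hg, -⟩ := hB.2 C K (algebraMap A C) hCh le_rfl
  let _ : Algebra B C := g.toAlgebra
  have hT : IsScalarTower A B C :=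
    IsScalarTower.of_algebraMap_eq fun a => (RingHom.congr_fun hg a).symm
  have hflat : Module.Flat B C := HensColimFlat.flat_of_flat hB C
  have hff : Module.FaithfullyFlat B C := by
    refine faithfullyFlat_of_forall_maximal fun m hm => ?_
    have hIm : I.map (algebraMap A B) ≤ m :=
      hB.1.jac.trans (sInf_le ⟨bot_le, hm⟩)
    let ψ : A ⧸ I →+* B ⧸ m :=
      Ideal.Quotient.lift I ((Ideal.Quotient.mk m).comp (algebraMap A B)) (by
        intro a ha
        rw [RingHom.comp_apply, Ideal.Quotient.eq_zero_iff_mem]
        exact hIm (Ideal.mem_map_of_mem _ ha))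
    let χ : C →+* B ⧸ m := ψ.comp (AdicCompletion.evalOneₐ I).toRingHom
    have hχA : χ.comp (algebraMap A C) = (Ideal.Quotient.mk m).comp (algebraMap A B) := by
      ext a
      change ψ (AdicCompletion.evalOneₐ I (algebraMap A C a)) = _
      rw [AlgHom.commutes]
      rfl
    have hle : I.map ((Ideal.Quotient.mk m).comp (algebraMap A B)) ≤ ⊥ := by
      rw [Ideal.map_le_iff_le_comap]
      intro a ha
      rw [Ideal.mem_comap, Ideal.mem_bot, RingHom.comp_apply, Ideal.Quotient.eq_zero_iff_mem]
      exact hIm (Ideal.mem_map_of_mem _ ha)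
    obtain ⟨u, -, hu⟩ := hB.2 (B ⧸ m) ⊥ ((Ideal.Quotient.mk m).comp (algebraMap A B))
      (PairHens.henselianRing_bot _) hle
    have h1 : χ.comp g = u := hu _ (by
      change (χ.comp g).comp (algebraMap A B) = _
      rw [RingHom.comp_assoc, hg, hχA])
    have h2 : Ideal.Quotient.mk m = u := hu _ rfl
    have : Nontrivial (B ⧸ m) := Ideal.Quotient.nontrivial_iff.mpr hm.ne_top
    refine ⟨B ⧸ m, inferInstance, inferInstance, χ, fun x hx => ?_⟩
    have h3 : χ (g x) = Ideal.Quotient.mk m x := by
      rw [h2, ← h1]; rfl
    change χ (g x) = 0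
    rw [h3, Ideal.Quotient.eq_zero_iff_mem]
    exact hx
  exact isNoetherianRing_of_faithfullyFlat B C

end HensNoeth

end Groth.Agent.H3
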