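import Groth.Agent.H3.StrictHensMaxIdeal

/-!
# The maximal ideal of the strict henselization, continued
-/

set_option autoImplicit false
universe u

namespace Groth.Agent.H3

namespace SH

open IsLocalRing Polynomial

variable (R : Type u) [CommRing R] [IsLocalRing R]

theorem aeval_sub_aeval_mem (P : R[X]) {x x' : A₀ R} (h : x - x' ∈ Z R) :
    aeval x P - aeval x' P ∈ Z R := by
  rw [← Polynomial.eval_map_algebraMap, ← Polynomial.eval_map_algebraMap]
  exact HensStep.eval_sub_eval_mem _ h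

/-- change of generator -/
theorem exists_common (γ δ : ks R) :
    ∃ (ε : ks R) (G D : R[X]), X₀ R γ - aeval (X₀ R ε) G ∈ Z R ∧
      X₀ R δ - aeval (X₀ R ε) D ∈ Z R := by
  obtain ⟨ε, Gb, Db, hG, hD⟩ := exists_primitive_pair (k := ResidueField R) γ δ
  obtain ⟨G, rfl⟩ := Polynomial.map_surjective _ (residue_surjective (R := R)) Gb
  obtain ⟨D, rfl⟩ := Polynomial.map_surjective _ (residue_surjective (R := R)) Db
  rw [← eval₂_toKs] at hG hD
  refine ⟨ε, G, D, ?_, ?_⟩
  · have := X₀_sub_mem_Z R ε G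
    rwa [hG] at this
  · have := X₀_sub_mem_Z R ε D
    rwa [hD] at this

theorem rep_change {a : A₀ R} {γ ε : ks R} {P G : R[X]} (ha : a - aeval (X₀ R γ) P ∈ Z R)
    (hG : X₀ R γ - aeval (X₀ R ε) G ∈ Z R) : a - aeval (X₀ R ε) (P.comp G) ∈ Z R := by
  have h1 := aeval_sub_aeval_mem R P hG
  rw [← Polynomial.aeval_comp] at h1
  have h2 : a - aeval (X₀ R ε) (P.comp G) =
      (a - aeval (X₀ R γ) P) + (aeval (X₀ R γ) P - aeval (X₀ R ε) (P.comp G)) := by ring
  rw [h2]
  exact Ideal.add_mem _ ha h1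

/-- the quotient map -/
noncomputable def mk₀ : MvPolynomial (ks R) R →+* A₀ R :=
  Ideal.Quotient.mk (MonicQuot.K (ks R) R (F R) Set.univ)

theorem mk₀_surjective : Function.Surjective (mk₀ R) := Ideal.Quotient.mk_surjective

theorem mk₀_C (r : R) : mk₀ R (MvPolynomial.C r) = algebraMap R (A₀ R) r := rfl

theorem mk₀_X (α : ks R) : mk₀ R (MvPolynomial.X α) = X₀ R α := rfl

theorem exists_rep_mk₀ (p : MvPolynomial (ks R) R) :
    ∃ (γ : ks R) (P : R[X]), mk₀ R p - aeval (X₀ R γ) P ∈ Z R := by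
  induction p using MvPolynomial.induction_on with
  | C r =>
    refine ⟨0, Polynomial.C r, ?_⟩
    rw [Polynomial.aeval_C, mk₀_C, sub_self]
    exact Ideal.zero_mem _
  | add p q hp hq =>
    obtain ⟨γ, P, hP⟩ := hp
    obtain ⟨δ, Q, hQ⟩ := hq
    obtain ⟨ε, G, D, hG, hD⟩ := exists_common R γ δ
    refine ⟨ε, P.comp G + Q.comp D, ?_⟩
    have h1 := rep_change R hP hG
    have h2 := rep_change R hQ hD
    rw [map_add, map_add]
    have h3 : ∀ a b a' b' : A₀ R, a + b - (a' + b') = (a - a') + (b - b') := by intros; ring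
    rw [h3]
    exact Ideal.add_mem _ h1 h2
  | mul_X p α hp =>
    obtain ⟨γ, P, hP⟩ := hp
    obtain ⟨ε, G, D, hG, hD⟩ := exists_common R γ α
    refine ⟨ε, P.comp G * D, ?_⟩
    have h1 := rep_change R hP hG
    rw [map_mul, map_mul, mk₀_X]
    have h3 : ∀ a b a' b' : A₀ R, a * b - a' * b' = (a - a') * b + a' * (b - b') := by
      intros; ring
    rw [h3]
    exact Ideal.add_mem _ (Ideal.mul_mem_right _ _ h1) (Ideal.mul_mem_left _ _ hD)

/-- every element of `A₀` is, modulo `Z`, a polynomial in one generator -/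
theorem exists_rep (a : A₀ R) : ∃ (γ : ks R) (P : R[X]), a - aeval (X₀ R γ) P ∈ Z R := by
  obtain ⟨p, rfl⟩ := mk₀_surjective R a
  exact exists_rep_mk₀ R p

theorem M_le_Z : M R ≤ Z R := by
  intro a ha
  obtain ⟨γ, P, hP⟩ := exists_rep R a
  have h1 : aeval (X₀ R γ) P ∈ M R := by
    have h2 : aeval (X₀ R γ) P = a - (a - aeval (X₀ R γ) P) := by ring
    rw [h2]
    exact Ideal.sub_mem _ ha (Z_le_M R hP)
  have h3 : P.eval₂ (toKs R) γ = 0 := by
    have := (RingHom.mem_ker).mp h1
    rwa [π_aeval, π_X₀] at this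
  have h4 : aeval (X₀ R γ) P ∈ Z R := nn_le_Z R (aeval_X₀_mem R h3)
  have h5 : a = (a - aeval (X₀ R γ) P) + aeval (X₀ R γ) P := by ring
  rw [h5]
  exact Ideal.add_mem _ hP h4

/-- the maximal ideal of the model is generated by the maximal ideal of `R` -/
theorem map_maximalIdeal_eq :
    (maximalIdeal R).map (algebraMap R (S R)) = maximalIdeal (S R) := by
  apply le_antisymm
  · exact ((local_hom_TFAE (algebraMap R (S R))).out 0 2).mp
      (inferInstance : IsLocalHom (algebraMap R (S R)))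
  · intro x hx
    rw [maximalIdeal_S] at hx
    have hm : maximalIdeal (A₁ R) = (M R).map (algebraMap (A₀ R) (A₁ R)) :=
      (IsLocalization.AtPrime.map_eq_maximalIdeal (M R) (A₁ R)).symm
    have h1 : (M R).map (algebraMap (A₀ R) (A₁ R)) ≤ (nn R).map (algebraMap (A₀ R) (A₁ R)) :=
      (Ideal.map_mono (M_le_Z R)).trans Ideal.map_comap_le
    have h2 : maximalIdeal (A₁ R) ≤ (nn R).map (algebraMap (A₀ R) (A₁ R)) := hm.le.trans h1
    have h3 := Ideal.map_mono (f := algebraMap (A₁ R) (S R)) h2 hx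
    rw [nn, Ideal.map_map, Ideal.map_map] at h3
    exact h3

/-- The maximal ideal of any strict henselization is generated by the maximal ideal of `R`. -/
theorem map_maximalIdeal_eq_of_isStrictHenselization {S' : Type u} [CommRing S'] [IsLocalRing S']
    [Algebra R S'] [IsLocalHom (algebraMap R S')] (h : Hensel.IsStrictHenselization R S') :
    (maximalIdeal R).map (algebraMap R S') = maximalIdeal S' := by
  obtain ⟨e⟩ := exists_algEquiv h (isStrictHenselization R)
  apply le_antisymm
  · exact ((local_hom_TFAE (algebraMap R S')).out 0 2).mp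
      (inferInstance : IsLocalHom (algebraMap R S'))
  · intro x hx
    have h1 : e x ∈ maximalIdeal (S R) := by
      rw [IsLocalRing.mem_maximalIdeal, mem_nonunits_iff] at hx ⊢
      intro hu
      apply hx
      have := hu.map e.symm
      rwa [e.symm_apply_apply] at this
    rw [← map_maximalIdeal_eq] at h1
    have h2 := Ideal.mem_map_of_mem (e.symm : S R →ₐ[R] S').toRingHom h1
    rw [Ideal.map_map] at h2
    have h3 : ((e.symm : S R →ₐ[R] S').toRingHom).comp (algebraMap R (S R)) = algebraMap R S' :=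
      (e.symm : S R →ₐ[R] S').comp_algebraMap
    rw [h3] at h2
    have h4 : (e.symm : S R →ₐ[R] S').toRingHom (e x) = x := e.symm_apply_apply x
    rwa [h4] at h2

end SH

end Groth.Agent.H3
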