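import Mathlib.RingTheory.Idempotents
import Mathlib.RingTheory.Finiteness.Basic
import Mathlib.RingTheory.Ideal.Quotient.Operations
import Mathlib.Tactic.LinearCombination
import Mathlib.Tactic.Ring

set_option autoImplicit false
universe u

namespace Groth.Agent.H3

variable {R S : Type*} [CommRing R] [CommRing S] [Algebra R S]

/-- The principal ideal generated by `e`, as an `R`-submodule. -/
abbrev idemSub (R : Type*) {S : Type*} [CommRing R] [CommRing S] [Algebra R S] (e : S) :
    Submodule R S := (Ideal.span {e}).restrictScalars R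

theorem mem_idemSub {e x : S} : x ∈ idemSub R e ↔ ∃ y, x = e * y := by
  rw [idemSub, Submodule.restrictScalars_mem, Ideal.mem_span_singleton']
  constructor
  · rintro ⟨a, rfl⟩; exact ⟨a, mul_comm _ _⟩
  · rintro ⟨a, rfl⟩; exact ⟨a, mul_comm _ _⟩

theorem idemSub_fg_of_finite_quotient {e : S} (he : IsIdempotentElem e)
    (h : Module.Finite R (S ⧸ Ideal.span {1 - e})) : (idemSub R e).FG := by
  classical
  obtain ⟨n, s, hs⟩ := Module.Finite.exists_fin (R := R) (M := S ⧸ Ideal.span {1 - e})
  choose s' hs' using fun i => Ideal.Quotient.mk_surjective (s i)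
  refine ⟨Finset.univ.image (fun i => e * s' i), ?_⟩
  apply le_antisymm
  · rw [Submodule.span_le]
    intro x hx
    simp only [Finset.coe_image, Finset.coe_univ, Set.image_univ, Set.mem_range] at hx
    obtain ⟨i, rfl⟩ := hx
    exact mem_idemSub.mpr ⟨_, rfl⟩
  · intro x hx
    obtain ⟨y, rfl⟩ := mem_idemSub.mp hx
    have hy : Ideal.Quotient.mk (Ideal.span {1 - e}) y ∈ Submodule.span R (Set.range s) := by
      rw [hs]; trivial
    obtain ⟨c, hc⟩ := (Submodule.mem_span_range_iff_exists_fun R).mp hy
    have h1 : Ideal.Quotient.mk (Ideal.span {1 - e}) (y - ∑ i, c i • s' i) = 0 := by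
      rw [map_sub, map_sum, ← hc, sub_eq_zero]
      apply Finset.sum_congr rfl
      intro i _
      rw [← hs' i]
      rfl
    rw [Ideal.Quotient.eq_zero_iff_mem, Ideal.mem_span_singleton'] at h1
    obtain ⟨w, hw⟩ := h1
    have h2 : e * y = ∑ i, c i • (e * s' i) := by
      have h3 : e * (y - ∑ i, c i • s' i) = 0 := by
        rw [← hw]
        have := he.eq
        linear_combination (-w) * this
      rw [mul_sub, sub_eq_zero] at h3
      rw [h3, Finset.mul_sum]
      apply Finset.sum_congr rfl
      intro i _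
      rw [mul_smul_comm]
    rw [h2]
    apply Submodule.sum_mem
    intro i _
    apply Submodule.smul_mem
    apply Submodule.subset_span
    simp

theorem finite_quotient_of_idemSub_fg {e : S} (h : (idemSub R e).FG) :
    Module.Finite R (S ⧸ Ideal.span {1 - e}) := by
  have : Module.Finite R (idemSub R e) := Module.Finite.iff_fg.mpr h
  let f : idemSub R e →ₗ[R] S ⧸ Ideal.span {1 - e} :=
    (Ideal.Quotient.mkₐ R (Ideal.span {1 - e})).toLinearMap.comp (idemSub R e).subtype
  apply Module.Finite.of_surjective f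
  intro y
  obtain ⟨x, rfl⟩ := Ideal.Quotient.mk_surjective y
  refine ⟨⟨e * x, mem_idemSub.mpr ⟨x, rfl⟩⟩, ?_⟩
  change Ideal.Quotient.mk _ (e * x) = Ideal.Quotient.mk _ x
  rw [Ideal.Quotient.eq, Ideal.mem_span_singleton']
  exact ⟨-x, by ring⟩

theorem idemSub_fg_join {a b : S} (hai : IsIdempotentElem a) (hbi : IsIdempotentElem b)
    (ha : (idemSub R a).FG) (hb : (idemSub R b).FG) : (idemSub R (a + b - a * b)).FG := by
  have h : idemSub R (a + b - a * b) =
      idemSub R a ⊔ (idemSub R b).map (LinearMap.mulLeft R (1 - a)) := by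
    apply le_antisymm
    · intro x hx
      obtain ⟨y, rfl⟩ := mem_idemSub.mp hx
      have : (a + b - a * b) * y = a * y + (1 - a) * (b * y) := by ring
      rw [this]
      exact Submodule.add_mem_sup (mem_idemSub.mpr ⟨y, rfl⟩)
        (Submodule.mem_map.mpr ⟨b * y, mem_idemSub.mpr ⟨y, rfl⟩, rfl⟩)
    · rw [sup_le_iff]
      constructor
      · intro x hx
        obtain ⟨y, rfl⟩ := mem_idemSub.mp hx
        refine mem_idemSub.mpr ⟨a * y, ?_⟩
        have := hai.eq
        linear_combination (b * y - y) * this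
      · rintro x ⟨z, hz, rfl⟩
        obtain ⟨y, rfl⟩ := mem_idemSub.mp hz
        refine mem_idemSub.mpr ⟨(1 - a) * (b * y), ?_⟩
        have h1 := hai.eq
        have h2 := hbi.eq
        simp only [LinearMap.mulLeft_apply]
        linear_combination (-((1 - a) * (1 - a) * y)) * h2
  rw [h]
  exact ha.sup (hb.map _)

end Groth.Agent.H3
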