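import Groth.Agent.H3.HenselQF
import Groth.Agent.H3.IdemFinite

set_option autoImplicit false
universe u

namespace Groth.Agent.H3

open IsLocalRing

theorem exists_idempotent_of_finset (R : Type u) [CommRing R] [HenselianLocalRing R]
    (S : Type u) [CommRing S] [Algebra R S] [Algebra.FiniteType R S]
    (F : Finset (Ideal S))
    (hF : ∀ q ∈ F, ∃ (_ : q.IsPrime) (_ : q.LiesOver (maximalIdeal R)),
      Algebra.QuasiFiniteAt R q) :
    ∃ e : S, IsIdempotentElem e ∧ (idemSub R e).FG ∧ ∀ q ∈ F, e ∉ q := by
  classical
  induction F using Finset.induction_on with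
  | empty =>
    refine ⟨0, IsIdempotentElem.zero, ?_, by simp⟩
    have : idemSub R (0 : S) = ⊥ := by
      ext x
      rw [mem_idemSub]
      simp
    rw [this]
    exact Submodule.fg_bot
  | insert q F hq ih =>
    obtain ⟨a, hai, hafg, haF⟩ := ih (fun q' hq' => hF q' (Finset.mem_insert_of_mem hq'))
    obtain ⟨hqp, hqm, hqf⟩ := hF q (Finset.mem_insert_self q F)
    obtain ⟨b, hbi, hbq, hbfin, -⟩ := exists_idempotent_of_quasiFiniteAt R S q
    have hbfg := idemSub_fg_of_finite_quotient (R := R) hbi hbfin
    refine ⟨a + b - a * b, ?_, idemSub_fg_join hai hbi hafg hbfg, ?_⟩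
    · have h1 := hai.eq
      have h2 := hbi.eq
      change (a + b - a * b) * (a + b - a * b) = a + b - a * b
      linear_combination (1 - 2 * b + b * b) * h1 + (1 - 2 * a + a) * h2
    · intro q' hq'
      rw [Finset.mem_insert] at hq'
      intro hc
      rcases hq' with rfl | hq'
      · apply hbq
        have : b = (a + b - a * b) * b := by
          have h2 := hbi.eq
          linear_combination (a - 1) * h2
        rw [this]
        exact Ideal.mul_mem_right _ _ hc
      · apply haF q' hq'
        have : a = (a + b - a * b) * a := by
          have h1 := hai.eq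
          linear_combination (b - 1) * h1
        rw [this]
        exact Ideal.mul_mem_right _ _ hc

end Groth.Agent.H3
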