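import Groth.Agent.H3.HenselSection
import Mathlib.RingTheory.Etale.QuasiFinite
import Mathlib.RingTheory.Ideal.GoingUp
import Mathlib.Tactic.LinearCombination

set_option autoImplicit false
universe u

namespace Groth.Agent.H3

open IsLocalRing TensorProduct

/-- Over a henselian local ring, a prime over the maximal ideal at which a finite type algebra is
quasi-finite is cut out by an idempotent whose factor is a finite module. -/
theorem exists_idempotent_of_quasiFiniteAt (R : Type u) [CommRing R] [HenselianLocalRing R]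
    (S : Type u) [CommRing S] [Algebra R S] [Algebra.FiniteType R S]
    (q : Ideal S) [q.IsPrime] [q.LiesOver (maximalIdeal R)] [Algebra.QuasiFiniteAt R q] :
    ∃ e : S, IsIdempotentElem e ∧ e ∉ q ∧ Module.Finite R (S ⧸ Ideal.span {1 - e}) ∧
      ∀ Q : Ideal S, Q.IsPrime → Q.LiesOver (maximalIdeal R) → e ∉ Q → Q = q := by
  classical
  obtain ⟨R', _, _, _, P, _, _, e, he, P', _, _, hP'q, heP', hbij, hfin, Huniq⟩ :=
    Algebra.exists_etale_isIdempotentElem_forall_liesOver_eq (R := R) (S := S)
      (maximalIdeal R) q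
  have hsurj : Function.Surjective (algebraMap R P.ResidueField) := by
    have h1 := Ideal.algebraMap_residueField_surjective (maximalIdeal R)
    have h2 := hbij.surjective.comp h1
    convert h2 using 1
    ext r
    simp
  obtain ⟨ρ, hρ⟩ := exists_section_of_etale R R' P hsurj
  let Φ : R' ⊗[R] S →ₐ[R] S :=
    Algebra.TensorProduct.lift ((Algebra.ofId R S).comp ρ) (AlgHom.id R S)
      (fun _ _ => Commute.all _ _)
  have hΦsurj : Function.Surjective Φ := fun s => ⟨1 ⊗ₜ s, by simp [Φ]⟩
  have hΦalg : ∀ r' : R', Φ (algebraMap R' (R' ⊗[R] S) r') = algebraMap R S (ρ r') := by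
    intro r'
    simp [Φ, Algebra.TensorProduct.algebraMap_apply, Algebra.ofId_apply]
  have hPP' : P.map (algebraMap R' (R' ⊗[R] S)) ≤ P' := by
    rw [Ideal.map_le_iff_le_comap]
    exact (Ideal.over_def P' P).le
  -- key computation
  have hkey : ∀ z : R' ⊗[R] S,
      z - (1 : R') ⊗ₜ[R] (Φ z) ∈ P.map (algebraMap R' (R' ⊗[R] S)) := by
    intro z
    induction z using TensorProduct.induction_on with
    | zero => simp
    | tmul r' s =>
      have h1 : r' - algebraMap R R' (ρ r') ∈ P := by
        rw [← hρ, Ideal.mem_comap]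
        change ρ (r' - algebraMap R R' (ρ r')) ∈ _
        rw [map_sub, AlgHom.commutes]
        simp
      have h2 : r' ⊗ₜ[R] s - (1 : R') ⊗ₜ[R] (Φ (r' ⊗ₜ[R] s)) =
          algebraMap R' (R' ⊗[R] S) (r' - algebraMap R R' (ρ r')) * ((1 : R') ⊗ₜ[R] s) := by
        simp only [Φ, Algebra.TensorProduct.lift_tmul, AlgHom.comp_apply, Algebra.ofId_apply,
          AlgHom.id_apply, Algebra.TensorProduct.algebraMap_apply, Algebra.TensorProduct.tmul_mul_tmul,
          mul_one, one_mul, Algebra.algebraMap_self, RingHom.id_apply]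
        rw [TensorProduct.sub_tmul, ← Algebra.smul_def, TensorProduct.tmul_smul,
          TensorProduct.smul_tmul', Algebra.smul_def, mul_one]
      rw [h2]
      exact Ideal.mul_mem_right _ _ (Ideal.mem_map_of_mem _ h1)
    | add x y hx hy =>
      have : x + y - (1 : R') ⊗ₜ[R] (Φ (x + y)) =
          (x - (1 : R') ⊗ₜ[R] (Φ x)) + (y - (1 : R') ⊗ₜ[R] (Φ y)) := by
        rw [map_add, TensorProduct.tmul_add]; ring
      rw [this]
      exact Ideal.add_mem _ hx hy
  have hmem : ∀ z : R' ⊗[R] S, z ∈ P' ↔ Φ z ∈ q := by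
    intro z
    have h1 := hPP' (hkey z)
    have h2 : (1 : R') ⊗ₜ[R] (Φ z) ∈ P' ↔ Φ z ∈ q := by
      rw [← hP'q, Ideal.mem_comap]
      rfl
    rw [← h2]
    constructor
    · intro hz
      have := P'.sub_mem hz h1
      simpa using this
    · intro hz
      have := P'.add_mem h1 hz
      simpa using this
  refine ⟨Φ e, he.map Φ, fun h => heP' ((hmem e).mpr h), ?_, ?_⟩
  · -- finiteness
    let g : R' ⊗[R] S →+* S ⧸ Ideal.span {1 - Φ e} :=
      (Ideal.Quotient.mk _).comp Φ.toRingHom
    have hge : g e = 1 := by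
      have h1 : Ideal.Quotient.mk (Ideal.span {1 - Φ e}) (1 - Φ e) = 0 :=
        Ideal.Quotient.eq_zero_iff_mem.mpr (Ideal.subset_span rfl)
      rw [map_sub, map_one, sub_eq_zero] at h1
      exact h1.symm
    have hgu : IsUnit (g e) := by rw [hge]; exact isUnit_one
    let τ : Localization.Away e →+* S ⧸ Ideal.span {1 - Φ e} := IsLocalization.Away.lift e hgu
    have hτ : ∀ z, τ (algebraMap _ _ z) = g z := fun z => IsLocalization.Away.lift_eq e hgu z
    have hτsurj : Function.Surjective τ := by
      intro y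
      obtain ⟨s, rfl⟩ := Ideal.Quotient.mk_surjective y
      obtain ⟨z, rfl⟩ := hΦsurj s
      exact ⟨algebraMap _ _ z, hτ z⟩
    let τₗ : Localization.Away e →ₛₗ[ρ.toRingHom] (S ⧸ Ideal.span {1 - Φ e}) :=
      { toFun := τ
        map_add' := map_add τ
        map_smul' := fun r' t => by
          change τ (r' • t) = ρ r' • τ t
          rw [Algebra.smul_def, map_mul,
            IsScalarTower.algebraMap_apply R' (R' ⊗[R] S) (Localization.Away e), hτ]
          change Ideal.Quotient.mk _ (Φ (algebraMap R' (R' ⊗[R] S) r')) * _ = _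
          rw [hΦalg, Algebra.smul_def]
          rfl }
    exact Module.Finite.of_surjective τₗ hτsurj
  · intro Q hQ hQm heQ
    have h1 : (Q.comap Φ.toRingHom).LiesOver P := by
      constructor
      ext r'
      rw [Ideal.under, Ideal.mem_comap, Ideal.mem_comap]
      change _ ↔ Φ (algebraMap R' _ r') ∈ Q
      rw [hΦalg, ← Ideal.mem_comap, ← Ideal.under, ← Ideal.over_def Q (maximalIdeal R), ← hρ,
        Ideal.mem_comap]
      rfl
    have h2 := Huniq (Q.comap Φ.toRingHom) inferInstance h1 heQ
    ext s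
    obtain ⟨z, rfl⟩ := hΦsurj s
    rw [← hmem, ← h2, Ideal.mem_comap]
    rfl

end Groth.Agent.H3
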