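import Groth.Agent.H3.FlatOfEtale
import Mathlib.RingTheory.Flat.EquationalCriterion
import Mathlib.RingTheory.Etale.StandardEtale
import Mathlib.RingTheory.Localization.Away.Basic

/-!
# Algebras which are unions of images of étale algebras

`B` is a *union of étale images* over `A` if every element (equivalently every finite subset)
of `B` lies in the image of an `A`-algebra map from an étale `A`-algebra.  Henselizations and
strict henselizations have this property.
-/

set_option autoImplicit false
universe u

namespace Groth.Agent.H3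

namespace UnionEtale

open TensorProduct Polynomial

variable (A : Type u) [CommRing A] (B : Type u) [CommRing B] [Algebra A B]

/-- a subset of `B` lies in the image of one étale `A`-algebra -/
def InImage (s : Set B) : Prop :=
  ∃ (A' : Type u) (_ : CommRing A') (_ : Algebra A A') (_ : Algebra.Etale A A') (φ : A' →ₐ[A] B),
    s ⊆ Set.range φ

variable {A B}

theorem InImage.mono {s t : Set B} (h : InImage A B t) (hst : s ⊆ t) : InImage A B s := by
  obtain ⟨A', _, _, hN, φ, hφ⟩ := h
  exact ⟨A', _, _, hN, φ, hst.trans hφ⟩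

theorem InImage.union {s t : Set B} (hs : InImage A B s) (ht : InImage A B t) :
    InImage A B (s ∪ t) := by
  obtain ⟨A₁, _, _, hN₁, φ₁, hφ₁⟩ := hs
  obtain ⟨A₂, _, _, hN₂, φ₂, hφ₂⟩ := ht
  refine ⟨A₁ ⊗[A] A₂, _, _, Algebra.Etale.comp A A₁ _,
    Algebra.TensorProduct.lift φ₁ φ₂ (fun _ _ => Commute.all _ _), ?_⟩
  rintro x (hx | hx)
  · obtain ⟨y, rfl⟩ := hφ₁ hx
    exact ⟨y ⊗ₜ 1, by simp⟩
  · obtain ⟨y, rfl⟩ := hφ₂ hx
    exact ⟨1 ⊗ₜ y, by simp⟩

theorem InImage.empty : InImage A B (∅ : Set B) :=
  ⟨A, _, _, inferInstance, Algebra.ofId A B, Set.empty_subset _⟩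

theorem InImage.finset (s : Finset B) (h : ∀ x ∈ s, InImage A B {x}) :
    InImage A B (s : Set B) := by
  classical
  induction s using Finset.induction_on with
  | empty => simpa using InImage.empty
  | insert a s _ ih =>
    rw [Finset.coe_insert, Set.insert_eq]
    exact (h a (Finset.mem_insert_self a s)).union
      (ih fun x hx => h x (Finset.mem_insert_of_mem hx))

/-- inverting an element that becomes a unit -/
theorem InImage.inv {x : B} (hx : InImage A B {x}) (y : B) (hxy : x * y = 1) :
    InImage A B {y} := by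
  obtain ⟨A', _, _, hN, φ, hφ⟩ := hx
  obtain ⟨s, hs⟩ := hφ rfl
  have hsu : IsUnit (φ s) := by rw [hs]; exact IsUnit.of_mul_eq_one _ hxy
  let φ' : Localization.Away s →ₐ[A] B := IsLocalization.Away.liftAlgHom s hsu
  have hφ' : ∀ z, φ' (algebraMap A' _ z) = φ z := fun z => IsLocalization.Away.lift_eq s hsu z
  have het : Algebra.Etale A' (Localization.Away s) := Algebra.Etale.of_isLocalizationAway s
  refine ⟨Localization.Away s, _, _, Algebra.Etale.comp A A' _, φ', ?_⟩
  intro z hz
  rw [Set.mem_singleton_iff.mp hz]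
  refine ⟨IsLocalization.Away.invSelf s, ?_⟩
  have h3 : φ' (IsLocalization.Away.invSelf s) * x = 1 := by
    rw [← hs, ← hφ', ← map_mul, mul_comm, IsLocalization.Away.mul_invSelf, map_one]
  calc φ' (IsLocalization.Away.invSelf s)
      = φ' (IsLocalization.Away.invSelf s) * (x * y) := by rw [hxy, mul_one]
    _ = y := by rw [← mul_assoc, h3, one_mul]

variable (A B) in
/-- the union of the images of the étale `A`-algebras -/
def imageAlg : Subalgebra A B where
  carrier := {x | InImage A B {x}}
  mul_mem' := by
    intro x y hx hy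
    obtain ⟨A', _, _, hN, φ, hφ⟩ := InImage.union hx hy
    obtain ⟨x', rfl⟩ := hφ (Or.inl rfl)
    obtain ⟨y', rfl⟩ := hφ (Or.inr rfl)
    exact ⟨A', _, _, hN, φ, by rintro _ rfl; exact ⟨x' * y', map_mul _ _ _⟩⟩
  add_mem' := by
    intro x y hx hy
    obtain ⟨A', _, _, hN, φ, hφ⟩ := InImage.union hx hy
    obtain ⟨x', rfl⟩ := hφ (Or.inl rfl)
    obtain ⟨y', rfl⟩ := hφ (Or.inr rfl)
    exact ⟨A', _, _, hN, φ, by rintro _ rfl; exact ⟨x' + y', map_add _ _ _⟩⟩
  algebraMap_mem' := fun a =>
    ⟨A, _, _, inferInstance, Algebra.ofId A B, by rintro _ rfl; exact ⟨a, rfl⟩⟩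

theorem mem_imageAlg {x : B} : x ∈ imageAlg A B ↔ InImage A B {x} := Iff.rfl

/-- a root in `B` of a monic polynomial over `imageAlg A B` at which the derivative is a unit
lies in `imageAlg A B` -/
theorem root_mem_imageAlg (f : (imageAlg A B)[X]) (hf : f.Monic) (a : B)
    (ha : (f.map (imageAlg A B).val.toRingHom).eval a = 0)
    (hu : IsUnit ((f.map (imageAlg A B).val.toRingHom).derivative.eval a)) :
    a ∈ imageAlg A B := by
  classical
  let j : imageAlg A B →+* B := (imageAlg A B).val.toRingHom
  have hT : InImage A B (↑((f.map j).coeffs) : Set B) := by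
    apply InImage.finset
    intro x hx
    rw [Polynomial.coeffs, Finset.mem_image] at hx
    obtain ⟨n, -, rfl⟩ := hx
    rw [Polynomial.coeff_map]
    exact (f.coeff n).2
  obtain ⟨A', _, _, hN, φ, hφ⟩ := hT
  have hlift : f.map j ∈ Polynomial.lifts φ.toRingHom := by
    rw [Polynomial.lifts_iff_coeffs_subset_range]
    exact hφ
  obtain ⟨q, hq, -, hqm⟩ := Polynomial.lifts_and_natDegree_eq_and_monic hlift (hf.map j)
  let _ : Algebra A' B := φ.toRingHom.toAlgebra
  have hT' : IsScalarTower A A' B :=
    IsScalarTower.of_algebraMap_eq fun a => (φ.commutes a).symm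
  have hqB : q.map (algebraMap A' B) = f.map j := hq
  let P : StandardEtalePair A' :=
    { f := q
      monic_f := hqm
      g := q.derivative
      cond := ⟨1, 0, 1, by ring⟩ }
  have hmap : P.HasMap a := by
    constructor
    · change aeval a q = 0
      rw [aeval_def, ← eval_map, hqB]
      exact ha
    · change IsUnit (aeval a q.derivative)
      rw [aeval_def, ← eval_map, ← derivative_map, hqB]
      exact hu
  let ρ : P.Ring →ₐ[A'] B := P.lift a hmap
  have hρ : ρ P.X = a := P.lift_X a hmap
  have het : Algebra.Etale A' P.Ring := inferInstance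
  let _ : Algebra A P.Ring := ((algebraMap A' P.Ring).comp (algebraMap A A')).toAlgebra
  have hT'' : IsScalarTower A A' P.Ring := IsScalarTower.of_algebraMap_eq' rfl
  have het' : Algebra.Etale A P.Ring := Algebra.Etale.comp A A' _
  refine ⟨P.Ring, _, _, het', ρ.restrictScalars A, ?_⟩
  rintro _ rfl
  exact ⟨P.X, hρ⟩

variable (A B) in
/-- `B` is a union of images of étale `A`-algebras -/
def IsUnion : Prop := ∀ x : B, InImage A B {x}

theorem IsUnion.finset (h : IsUnion A B) (s : Finset B) : InImage A B (s : Set B) :=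
  InImage.finset s fun x _ => h x

/-- A `B`-algebra which is flat over `A` is flat over `B`. -/
theorem IsUnion.flat_of_flat (h : IsUnion A B) (C : Type u) [CommRing C] [Algebra A C]
    [Algebra B C] [IsScalarTower A B C] [Module.Flat A C] : Module.Flat B C := by
  classical
  rw [Module.Flat.iff_forall_isTrivialRelation]
  intro l f x hfx
  obtain ⟨A', _, _, hN, φ, hφ⟩ := h.finset (Finset.univ.image f)
  have hf' : ∀ i, ∃ a' : A', φ a' = f i := fun i =>
    hφ (by simp)
  choose f' hf' using hf'
  let _ : Algebra A' C := ((algebraMap B C).comp φ.toRingHom).toAlgebra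
  have hA'C : ∀ a' : A', algebraMap A' C a' = algebraMap B C (φ a') := fun _ => rfl
  have hT : IsScalarTower A A' C := by
    refine IsScalarTower.of_algebraMap_eq fun a => ?_
    rw [hA'C, φ.commutes, ← IsScalarTower.algebraMap_apply]
  have hflat : Module.Flat A' C := FlatOfEtale.flat_of_etale A A' C
  have hrel : ∑ i, f' i • x i = 0 := by
    rw [← hfx]
    refine Finset.sum_congr rfl fun i _ => ?_
    rw [Algebra.smul_def, Algebra.smul_def, hA'C, hf']
  obtain ⟨k, a, y, h1, h2⟩ := Module.Flat.isTrivialRelation_of_sum_smul_eq_zero hrel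
  refine ⟨k, fun i j => φ (a i j), y, ?_, ?_⟩
  · intro i
    rw [h1 i]
    refine Finset.sum_congr rfl fun j _ => ?_
    rw [Algebra.smul_def, Algebra.smul_def, hA'C]
  · intro j
    have := congrArg φ (h2 j)
    rw [map_sum, map_zero] at this
    rw [← this]
    refine Finset.sum_congr rfl fun i _ => ?_
    rw [map_mul, hf']

/-- an element of an étale algebra dying in a flat `B` is killed by elements generating the unit
ideal of `B` -/
theorem exists_smul_eq_zero [Module.Flat A B] {A' : Type u} [CommRing A'] [Algebra A A']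
    [Algebra.Etale A A'] (φ : A' →ₐ[A] B) (s : A') (hs : φ s = 0) :
    ∃ (k : ℕ) (a : Fin k → A') (y : Fin k → B), (∀ j, a j * s = 0) ∧ ∑ j, φ (a j) * y j = 1 := by
  let _ : Algebra A' B := φ.toRingHom.toAlgebra
  have hφ : ∀ x, algebraMap A' B x = φ x := fun x => rfl
  have hT : IsScalarTower A A' B := IsScalarTower.of_algebraMap_eq fun a => (φ.commutes a).symm
  have hflat : Module.Flat A' B := FlatOfEtale.flat_of_etale A A' B
  have hrel : ∑ _i : Unit, (fun _ => s) _i • (fun _ => (1 : B)) _i = 0 := by
    simp only [Finset.univ_unique, Finset.sum_singleton]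
    rw [Algebra.smul_def, mul_one, hφ, hs]
  obtain ⟨k, a, y, h1, h2⟩ := Module.Flat.isTrivialRelation_of_sum_smul_eq_zero hrel
  refine ⟨k, fun j => a () j, y, fun j => ?_, ?_⟩
  · have := h2 j
    simp only [Finset.univ_unique, Finset.sum_singleton] at this
    rw [mul_comm]; exact this
  · have := h1 ()
    simp only [Algebra.smul_def, hφ] at this
    exact this.symm

end UnionEtale

end Groth.Agent.H3
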