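import Groth.Agent.H3.HensQFFinite

/-!
# Integral algebras over a henselian local ring: the local rings at primes over the closed point
-/

set_option autoImplicit false
universe u

open TensorProduct IsLocalRing

namespace Groth.Agent.H3

namespace HensIntegralLocal

/-- quasi-finite at `Q` over a henselian local ring: elements outside `Q` become invertible
after multiplying with an element outside `Q` -/
theorem exists_mul_sub_one (Rh : Type u) [CommRing Rh] [HenselianLocalRing Rh]
    (C : Type u) [CommRing C] [Algebra Rh C] [Algebra.FiniteType Rh C]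
    (Q : Ideal C) [Q.IsPrime] [Q.LiesOver (maximalIdeal Rh)] [Algebra.QuasiFiniteAt Rh Q]
    (s : C) (hs : s ∉ Q) : ∃ u e : C, e ∉ Q ∧ e * (s * u - 1) = 0 := by
  obtain ⟨e, he, heQ, hfin, huniq⟩ := exists_idempotent_of_quasiFiniteAt Rh C Q
  haveI : Algebra.IsIntegral Rh (C ⧸ Ideal.span {1 - e}) := Algebra.IsIntegral.of_finite _ _
  have hunit : IsUnit (Ideal.Quotient.mk (Ideal.span {1 - e}) s) := by
    by_contra hnu
    obtain ⟨M, hM, hsM⟩ := exists_max_ideal_of_mem_nonunits hnu
    have hM' : (M.comap (Ideal.Quotient.mk (Ideal.span {1 - e}))).IsPrime :=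
      Ideal.comap_isPrime _ M
    have hover : (M.comap (Ideal.Quotient.mk (Ideal.span {1 - e}))).LiesOver (maximalIdeal Rh) := by
      refine ⟨?_⟩
      have h1 : (M.comap (algebraMap Rh (C ⧸ Ideal.span {1 - e}))).IsMaximal :=
        Ideal.isMaximal_comap_of_isIntegral_of_isMaximal M
      have h2 := IsLocalRing.eq_maximalIdeal h1
      rw [← h2]
      rfl
    have heM : e ∉ M.comap (Ideal.Quotient.mk (Ideal.span {1 - e})) := by
      intro heM
      have h1 : (1 - e) ∈ M.comap (Ideal.Quotient.mk (Ideal.span {1 - e})) := by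
        rw [Ideal.mem_comap]
        have : Ideal.Quotient.mk (Ideal.span {1 - e}) (1 - e) = 0 :=
          Ideal.Quotient.eq_zero_iff_mem.mpr (Ideal.mem_span_singleton_self _)
        rw [this]
        exact M.zero_mem
      have h2 := Ideal.add_mem _ heM h1
      rw [add_sub_cancel] at h2
      exact hM'.ne_top ((Ideal.eq_top_iff_one _).mpr h2)
    have := huniq _ hM' hover heM
    apply hs
    rw [← this]
    exact hsM
  obtain ⟨ub, hub⟩ := hunit.exists_right_inv
  obtain ⟨u, rfl⟩ := Ideal.Quotient.mk_surjective ub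
  refine ⟨u, e, heQ, ?_⟩
  rw [← map_mul, ← map_one (Ideal.Quotient.mk (Ideal.span {1 - e})), ← sub_eq_zero, ← map_sub,
    Ideal.Quotient.eq_zero_iff_mem, Ideal.mem_span_singleton'] at hub
  obtain ⟨w, hw⟩ := hub
  rw [← hw]
  have : e * (w * (1 - e)) = w * (e - e * e) := by ring
  rw [this, he.eq, sub_self, mul_zero]

/-- a local ring integral over a henselian local ring is henselian -/
theorem henselianLocalRing_of_isIntegral (Rh : Type u) [CommRing Rh] [HenselianLocalRing Rh]
    (T : Type u) [CommRing T] [IsLocalRing T] [Algebra Rh T] [Algebra.IsIntegral Rh T] :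
    HenselianLocalRing T := by
  have h0 : HenselianRing Rh (maximalIdeal Rh) := inferInstance
  have h1 := henselianRing_of_isIntegral h0 T
  apply henselianLocalRing_of_henselianRing
  apply henselianRing_of_le_radical h1
  rw [Ideal.radical_eq_sInf]
  refine le_sInf ?_
  rintro J ⟨hJ, hJp⟩
  have h2 : maximalIdeal Rh ≤ J.comap (algebraMap Rh T) := Ideal.map_le_iff_le_comap.mp hJ
  have h3 : (J.comap (algebraMap Rh T)).IsPrime := Ideal.comap_isPrime _ J
  have h4 : maximalIdeal Rh = J.comap (algebraMap Rh T) :=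
    (IsLocalRing.maximalIdeal.isMaximal Rh).eq_of_le h3.ne_top h2
  have h5 : J.IsMaximal := by
    apply Ideal.isMaximal_of_isIntegral_of_isMaximal_comap (R := Rh) J
    rw [← h4]
    infer_instance
  rw [IsLocalRing.eq_maximalIdeal h5]

section Integral

/-- for an integral algebra, the localization at a prime over the closed point is a quotient -/
theorem algebraMap_localization_surjective (Rh : Type u) [CommRing Rh] [HenselianLocalRing Rh]
    (C : Type u) [CommRing C] [Algebra Rh C] [Algebra.IsIntegral Rh C]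
    (Q : Ideal C) [Q.IsPrime] [Q.LiesOver (maximalIdeal Rh)] :
    Function.Surjective (algebraMap C (Localization.AtPrime Q)) := by
  classical
  have key : ∀ s : C, s ∉ Q → ∃ u : C, algebraMap C (Localization.AtPrime Q) s *
      algebraMap C (Localization.AtPrime Q) u = 1 := by
    intro s hs
    let C₀ : Subalgebra Rh C := Algebra.adjoin Rh {s}
    haveI : Module.Finite Rh C₀ :=
      Algebra.finite_adjoin_simple_of_isIntegral (Algebra.IsIntegral.isIntegral s)
    let Q₀ : Ideal C₀ := Q.comap C₀.val.toRingHom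
    haveI : Q₀.IsPrime := Ideal.comap_isPrime _ Q
    haveI : Q₀.LiesOver (maximalIdeal Rh) := by
      refine ⟨?_⟩
      have h1 := Ideal.over_def Q (maximalIdeal Rh)
      rw [h1]
      ext r
      rfl
    let s₀ : C₀ := ⟨s, Algebra.subset_adjoin (Set.mem_singleton s)⟩
    have hs₀ : s₀ ∉ Q₀ := hs
    obtain ⟨u, e, heQ, hue⟩ := exists_mul_sub_one Rh C₀ Q₀ s₀ hs₀
    refine ⟨(u : C), ?_⟩
    have h2 : (e : C) * (s * (u : C) - 1) = 0 := by
      have := congrArg (fun x : C₀ => (x : C)) hue
      exact this
    have h3 : algebraMap C (Localization.AtPrime Q) (s * (u : C) - 1) = 0 := by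
      rw [IsLocalization.map_eq_zero_iff Q.primeCompl]
      exact ⟨⟨(e : C), heQ⟩, h2⟩
    rw [map_sub, map_mul, map_one, sub_eq_zero] at h3
    exact h3
  intro x
  obtain ⟨c, ⟨s, hs⟩, rfl⟩ := IsLocalization.exists_mk'_eq Q.primeCompl x
  obtain ⟨u, hu⟩ := key s hs
  refine ⟨c * u, ?_⟩
  rw [IsLocalization.eq_mk'_iff_mul_eq, map_mul, mul_assoc, mul_comm (algebraMap C _ u), hu,
    mul_one]

theorem isIntegral_localization (Rh : Type u) [CommRing Rh] [HenselianLocalRing Rh]
    (C : Type u) [CommRing C] [Algebra Rh C] [Algebra.IsIntegral Rh C]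
    (Q : Ideal C) [Q.IsPrime] [Q.LiesOver (maximalIdeal Rh)] :
    Algebra.IsIntegral Rh (Localization.AtPrime Q) :=
  Algebra.IsIntegral.of_surjective (IsScalarTower.toAlgHom Rh C (Localization.AtPrime Q))
    (algebraMap_localization_surjective Rh C Q)

end Integral

theorem henselianLocalRing_localization (Rh : Type u) [CommRing Rh] [HenselianLocalRing Rh]
    (C : Type u) [CommRing C] [Algebra Rh C] [Algebra.IsIntegral Rh C]
    (Q : Ideal C) [Q.IsPrime] [Q.LiesOver (maximalIdeal Rh)] :
    HenselianLocalRing (Localization.AtPrime Q) := by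
  haveI := isIntegral_localization Rh C Q
  exact henselianLocalRing_of_isIntegral Rh (Localization.AtPrime Q)

end HensIntegralLocal

end Groth.Agent.H3
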