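import Mathlib.RingTheory.IntegralClosure.IntegrallyClosed
import Mathlib.RingTheory.Polynomial.ScaleRoots
import Mathlib.Algebra.Polynomial.Lifts
import Mathlib.RingTheory.Localization.FractionRing

/-!
# A ring which is locally (on finite subsets) the image of injective maps from normal domains
is a normal domain
-/

set_option autoImplicit false
universe u

namespace Groth.Agent.H3

namespace NormalColim

open Polynomial

theorem isDomain_of_forall_finset {S : Type u} [CommRing S] [Nontrivial S]
    (h : ∀ s : Finset S, ∃ (L : Type u) (_ : CommRing L) (_ : IsDomain L) (ψ : L →+* S),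
      Function.Injective ψ ∧ (s : Set S) ⊆ Set.range ψ) : IsDomain S := by
  classical
  have : NoZeroDivisors S := by
    refine ⟨fun {x y} hxy => ?_⟩
    obtain ⟨L, _, _, ψ, hψ, hs⟩ := h {x, y}
    obtain ⟨x', rfl⟩ : ∃ x', ψ x' = x := hs (by simp)
    obtain ⟨y', rfl⟩ : ∃ y', ψ y' = y := hs (by simp)
    rw [← map_mul] at hxy
    have h0 : x' * y' = 0 := hψ (hxy.trans (map_zero ψ).symm)
    rcases mul_eq_zero.mp h0 with h1 | h1
    · left; rw [h1, map_zero]
    · right; rw [h1, map_zero]
  exact NoZeroDivisors.to_isDomain S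

theorem isIntegrallyClosed_of_forall_finset {S : Type u} [CommRing S] [IsDomain S]
    (h : ∀ s : Finset S, ∃ (L : Type u) (_ : CommRing L) (_ : IsDomain L)
      (_ : IsIntegrallyClosed L) (ψ : L →+* S),
      Function.Injective ψ ∧ (s : Set S) ⊆ Set.range ψ) : IsIntegrallyClosed S := by
  classical
  rw [isIntegrallyClosed_iff (FractionRing S)]
  intro z hz
  obtain ⟨a, b, hb, rfl⟩ := IsFractionRing.div_surjective (A := S) z
  obtain ⟨p, hpm, hp⟩ := hz
  have hinjS : Function.Injective (algebraMap S (FractionRing S)) :=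
    IsFractionRing.injective S (FractionRing S)
  have h1 : eval₂ (algebraMap S (FractionRing S)) (algebraMap S (FractionRing S) a)
      (scaleRoots p b) = 0 :=
    scaleRoots_eval₂_eq_zero_of_eval₂_div_eq_zero hinjS hp hb
  rw [eval₂_at_apply] at h1
  have h2 : eval a (scaleRoots p b) = 0 := hinjS (h1.trans (map_zero _).symm)
  have hb0 : b ≠ 0 := nonZeroDivisors.ne_zero hb
  obtain ⟨L, _, _, _, ψ, hψ, hs⟩ := h ({a, b} ∪ p.coeffs)
  obtain ⟨a', rfl⟩ : ∃ a', ψ a' = a := hs (by simp)
  obtain ⟨b', rfl⟩ : ∃ b', ψ b' = b := hs (by simp)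
  have hlift : p ∈ lifts ψ := by
    rw [lifts_iff_coeffs_subset_range]
    intro c hc
    exact hs (by simp [hc])
  obtain ⟨p', hp'map, -, hp'm⟩ := lifts_and_natDegree_eq_and_monic hlift hpm
  have h3 : eval a' (scaleRoots p' b') = 0 := by
    apply hψ
    rw [map_zero, ← eval₂_at_apply, ← eval_map, map_scaleRoots, hp'map]
    · exact h2
    · rw [hp'm.leadingCoeff, map_one]; exact one_ne_zero
  have hb'0 : b' ≠ 0 := fun h => hb0 (by rw [h, map_zero])
  let KL := FractionRing L
  let f := algebraMap L KL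
  have hinjL : Function.Injective f := IsFractionRing.injective L KL
  have hfb : f b' ≠ 0 := fun h => hb'0 (hinjL (h.trans (map_zero f).symm))
  have h4 : eval₂ f (f a' / f b') p' = 0 := by
    have h5 := scaleRoots_eval₂_mul (p := p') f (f a' / f b') b'
    rw [mul_div_cancel₀ _ hfb, eval₂_at_apply, h3, map_zero] at h5
    exact (mul_eq_zero.mp h5.symm).resolve_left (pow_ne_zero _ hfb)
  have hint : IsIntegral L (f a' / f b') := ⟨p', hp'm, h4⟩
  obtain ⟨d', hd'⟩ := (isIntegrallyClosed_iff KL).mp inferInstance hint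
  have h6 : a' = b' * d' := by
    apply hinjL
    rw [map_mul]
    change f a' = f b' * f d'
    rw [hd', mul_div_cancel₀ _ hfb]
  refine ⟨ψ d', ?_⟩
  rw [h6, map_mul, map_mul, mul_div_assoc, mul_comm, div_mul_cancel₀]
  exact fun h => hb0 (hinjS (h.trans (map_zero _).symm))

end NormalColim

end Groth.Agent.H3
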