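import Groth.Agent.H3.UnionEtale
import Groth.Agent.H3.NormalColim
import Groth.Agent.H47.SmoothReduced
import Groth.Agent.H20.EtaleNormal
import Mathlib.RingTheory.QuasiFinite.Basic
import Mathlib.RingTheory.Unramified.LocalStructure
import Mathlib.RingTheory.KrullDimension.Basic
import Mathlib.RingTheory.TensorProduct.Quotient
import Mathlib.RingTheory.Ideal.Quotient.Nilpotent

/-!
# Properties of flat local algebras which are unions of étale images
-/

set_option autoImplicit false
universe u

namespace Groth.Agent.H3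

namespace UnionEtale

open TensorProduct Polynomial IsLocalRing

variable {A : Type u} [CommRing A] {B : Type u} [CommRing B] [Algebra A B]

/-- an element of an étale algebra dying in a flat local `B` is killed by an element becoming a
unit in `B` -/
theorem exists_mul_eq_zero_of_local [Module.Flat A B] [IsLocalRing B] {A' : Type u} [CommRing A']
    [Algebra A A'] [Algebra.Etale A A'] (φ : A' →ₐ[A] B) (s : A') (hs : φ s = 0) :
    ∃ k : A', IsUnit (φ k) ∧ k * s = 0 := by
  obtain ⟨n, a, y, h1, h2⟩ := exists_smul_eq_zero φ s hs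
  by_contra hcon
  have hall : ∀ j, φ (a j) ∈ maximalIdeal B := by
    intro j
    rw [mem_maximalIdeal, mem_nonunits_iff]
    intro hu
    exact hcon ⟨a j, hu, h1 j⟩
  have : (1 : B) ∈ maximalIdeal B := by
    rw [← h2]
    exact Ideal.sum_mem _ fun j _ => Ideal.mul_mem_right _ _ (hall j)
  exact (mem_maximalIdeal _).mp this isUnit_one

/-- the image of `J A'` under an `A`-algebra map lies in `J B` -/
theorem algHom_mem_map {A' : Type u} [CommRing A'] [Algebra A A'] (φ : A' →ₐ[A] B) (J : Ideal A)
    {x : A'} (hx : x ∈ J.map (algebraMap A A')) : φ x ∈ J.map (algebraMap A B) := by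
  have h1 : J.map (algebraMap A A') ≤ (J.map (algebraMap A B)).comap φ.toRingHom := by
    rw [Ideal.map_le_iff_le_comap]
    intro a ha
    rw [Ideal.mem_comap, Ideal.mem_comap]
    change φ (algebraMap A A' a) ∈ _
    rw [φ.commutes]
    exact Ideal.mem_map_of_mem _ ha
  exact h1 hx

/-- passing to the localization of an étale algebra at an element becoming a unit -/
theorem exists_away {A' : Type u} [CommRing A'] [Algebra A A'] [Algebra.Etale A A']
    (φ : A' →ₐ[A] B) (k : A') (hk : IsUnit (φ k)) :
    ∃ (_ : Algebra.Etale A (Localization.Away k)) (φ' : Localization.Away k →ₐ[A] B),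
      ∀ z, φ' (algebraMap A' _ z) = φ z := by
  have het : Algebra.Etale A' (Localization.Away k) := Algebra.Etale.of_isLocalizationAway k
  exact ⟨Algebra.Etale.comp A A' _, IsLocalization.Away.liftAlgHom k hk,
    fun z => IsLocalization.Away.lift_eq k hk z⟩

theorem etale_quotient (J : Ideal A) (A' : Type u) [CommRing A'] [Algebra A A']
    [Algebra.Etale A A'] : Algebra.Etale (A ⧸ J) (A' ⧸ J.map (algebraMap A A')) :=
  Algebra.Etale.of_equiv (Algebra.TensorProduct.quotIdealMapEquivQuotTensor A' J).symm

/-- nilpotent elements of an étale algebra lie in the extension of the nilradical -/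
theorem mem_map_nilradical_of_isNilpotent (A' : Type u) [CommRing A'] [Algebra A A']
    [Algebra.Etale A A'] {x : A'} (hx : IsNilpotent x) :
    x ∈ (nilradical A).map (algebraMap A A') := by
  have hred : IsReduced (A ⧸ nilradical A) :=
    (Ideal.isRadical_iff_quotient_reduced _).mp (Ideal.radical_isRadical _)
  have het := etale_quotient (nilradical A) A'
  have hred' : IsReduced (A' ⧸ (nilradical A).map (algebraMap A A')) :=
    Groth.Agent.H47.isReduced_of_etale (A ⧸ nilradical A) _
  have h1 : IsNilpotent (Ideal.Quotient.mk ((nilradical A).map (algebraMap A A')) x) :=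
    hx.map _
  exact Ideal.Quotient.eq_zero_iff_mem.mp h1.eq_zero

/-- The nilradical of a flat local union of étale images is the extension of the nilradical. -/
theorem map_nilradical (h : IsUnion A B) [Module.Flat A B] [IsLocalRing B] :
    (nilradical A).map (algebraMap A B) = nilradical B := by
  apply le_antisymm
  · rw [Ideal.map_le_iff_le_comap]
    intro a ha
    rw [Ideal.mem_comap, mem_nilradical]
    exact (mem_nilradical.mp ha).map _
  · intro x hx
    obtain ⟨n, hn⟩ := mem_nilradical.mp hx
    obtain ⟨A', _, _, _, φ, hφ⟩ := h x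
    obtain ⟨x', rfl⟩ : ∃ x', φ x' = x := hφ rfl
    have h0 : φ (x' ^ n) = 0 := by rw [map_pow, hn]
    obtain ⟨k, hk, hk0⟩ := exists_mul_eq_zero_of_local φ (x' ^ n) h0
    obtain ⟨het, φ', hφ'⟩ := exists_away φ k hk
    have h1 : (algebraMap A' (Localization.Away k) x') ^ n = 0 := by
      have hu : IsUnit (algebraMap A' (Localization.Away k) k) :=
        IsLocalization.Away.algebraMap_isUnit k
      have := congrArg (algebraMap A' (Localization.Away k)) hk0
      rw [map_mul, map_zero, map_pow] at this
      exact (hu.mul_right_eq_zero).mp this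
    have h2 := mem_map_nilradical_of_isNilpotent (A := A) (Localization.Away k) ⟨n, h1⟩
    have h3 := algHom_mem_map φ' (nilradical A) h2
    rwa [hφ'] at h3

theorem isReduced (h : IsUnion A B) [Module.Flat A B] [IsLocalRing B] [IsReduced A] :
    IsReduced B := by
  rw [← nilradical_eq_bot_iff, ← map_nilradical h, nilradical_eq_zero, Ideal.zero_eq_bot,
    Ideal.map_bot]

/-- distinct comparable primes of a union of étale images have distinct contractions -/
theorem under_lt_under (h : IsUnion A B) {q q' : Ideal B} [q.IsPrime] [q'.IsPrime]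
    (hq : q < q') : q.under A < q'.under A := by
  refine lt_of_le_of_ne (Ideal.comap_mono hq.le) fun heq => ?_
  obtain ⟨x, hx', hx⟩ := Set.exists_of_ssubset hq
  obtain ⟨A', _, _, _, φ, hφ⟩ := h x
  obtain ⟨x', rfl⟩ : ∃ x', φ x' = x := hφ rfl
  have hQF : Algebra.QuasiFinite A A' := inferInstance
  let Q : Ideal A' := q.comap φ.toRingHom
  let Q' : Ideal A' := q'.comap φ.toRingHom
  have hQ : Q.IsPrime := Ideal.comap_isPrime _ _
  have hQ' : Q'.IsPrime := Ideal.comap_isPrime _ _
  have hle : Q ≤ Q' := Ideal.comap_mono hq.le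
  have hu : ∀ J : Ideal B, (J.comap φ.toRingHom).under A = J.under A := by
    intro J
    ext a
    simp only [Ideal.under_def, Ideal.mem_comap]
    change φ (algebraMap A A' a) ∈ J ↔ _
    rw [φ.commutes]
  have hund : Q.under A = Q'.under A := by
    rw [hu, hu, heq]
  have hQQ' : Q = Q' := Algebra.QuasiFinite.eq_of_le_of_under_eq Q Q' hle hund
  have h1 : x' ∈ Q' := hx'
  rw [← hQQ'] at h1
  exact hx h1

theorem ringKrullDim_le (h : IsUnion A B) : ringKrullDim B ≤ ringKrullDim A := by
  refine Order.krullDim_le_of_strictMono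
    (fun q : PrimeSpectrum B => (⟨q.asIdeal.under A, inferInstance⟩ : PrimeSpectrum A)) ?_
  intro q q' hq
  have h' : q.asIdeal < q'.asIdeal := hq
  exact under_lt_under h h'

/-- every finite subset of a flat local union of étale images lies in the image of an injective
map from the local ring of an étale algebra -/
theorem exists_local [IsLocalRing A] [IsLocalRing B] [IsLocalHom (algebraMap A B)]
    (h : IsUnion A B) [Module.Flat A B] (s : Finset B) :
    ∃ (A' : Type u) (_ : CommRing A') (_ : Algebra A A') (_ : Algebra.Etale A A') (Q : Ideal A')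
      (_ : Q.IsPrime) (_ : Q.LiesOver (maximalIdeal A)) (ψ : Localization.AtPrime Q →+* B),
      Function.Injective ψ ∧ (s : Set B) ⊆ Set.range ψ := by
  obtain ⟨A', _, _, _, φ, hφ⟩ := h.finset s
  let Q : Ideal A' := (maximalIdeal B).comap φ.toRingHom
  have hQ : Q.IsPrime := Ideal.comap_isPrime _ _
  have hQo : Q.LiesOver (maximalIdeal A) := by
    constructor
    ext r
    rw [Ideal.under_def, Ideal.mem_comap, Ideal.mem_comap]
    change r ∈ maximalIdeal A ↔ φ (algebraMap A A' r) ∈ maximalIdeal B
    rw [φ.commutes, ← Ideal.mem_comap, IsLocalRing.maximalIdeal_comap]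
  have hunit : ∀ y : Q.primeCompl, IsUnit (φ.toRingHom y) := by
    intro y
    by_contra hy
    exact y.2 ((IsLocalRing.mem_maximalIdeal _).mpr hy)
  let ψ : Localization.AtPrime Q →+* B := IsLocalization.lift hunit
  refine ⟨A', inferInstance, inferInstance, inferInstance, Q, hQ, hQo, ψ, ?_, ?_⟩
  · rw [injective_iff_map_eq_zero]
    intro x hx
    obtain ⟨y, t, rfl⟩ := IsLocalization.exists_mk'_eq Q.primeCompl x
    rw [IsLocalization.lift_mk'_spec, mul_zero] at hx
    obtain ⟨k, hk, hk0⟩ := exists_mul_eq_zero_of_local φ y hx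
    have hkQ : k ∉ Q := fun hkQ => (IsLocalRing.mem_maximalIdeal _).mp hkQ hk
    rw [IsLocalization.mk'_eq_zero_iff]
    exact ⟨⟨k, hkQ⟩, hk0⟩
  · intro x hx
    obtain ⟨x', rfl⟩ := hφ hx
    exact ⟨algebraMap A' _ x', IsLocalization.lift_eq hunit x'⟩

theorem isDomain_and_isIntegrallyClosed [IsLocalRing A] [IsLocalRing B]
    [IsLocalHom (algebraMap A B)] (h : IsUnion A B) [Module.Flat A B]
    [IsDomain A] [IsIntegrallyClosed A] : IsDomain B ∧ IsIntegrallyClosed B := by
  have hic : IsIntegrallyClosed (Localization.AtPrime (maximalIdeal A)) :=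
    isIntegrallyClosed_of_isLocalization _ (maximalIdeal A).primeCompl
      (Ideal.primeCompl_le_nonZeroDivisors _)
  have key : ∀ s : Finset B, ∃ (L : Type u) (_ : CommRing L) (_ : IsDomain L)
      (_ : IsIntegrallyClosed L) (ψ : L →+* B),
      Function.Injective ψ ∧ (s : Set B) ⊆ Set.range ψ := by
    intro s
    obtain ⟨A', _, _, _, Q, _, _, ψ, hψ, hs⟩ := exists_local h s
    obtain ⟨h1, h2⟩ := Groth.Agent.H20.isDomain_and_isIntegrallyClosed_localization_of_etale
      (R := A) (S := A') (maximalIdeal A) Q
    exact ⟨Localization.AtPrime Q, inferInstance, h1, h2, ψ, hψ, hs⟩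
  have hdom : IsDomain B := NormalColim.isDomain_of_forall_finset fun s => by
    obtain ⟨L, _, hL, _, ψ, h⟩ := key s
    exact ⟨L, _, hL, ψ, h⟩
  exact ⟨hdom, NormalColim.isIntegrallyClosed_of_forall_finset key⟩

end UnionEtale

end Groth.Agent.H3
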