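import Groth.Agent.H3.HensIso
import Mathlib.RingTheory.Localization.AtPrime.Basic
import Mathlib.RingTheory.TensorProduct.Maps
import Mathlib.RingTheory.Ideal.Over

/-!
# The henselization of `S_q` is the henselization of `(R^h ⊗_R S)_Q`
-/

set_option autoImplicit false
universe u

open TensorProduct IsLocalRing

namespace Groth.Agent.H3

namespace HensTensorPrime

/-- a ring hom out of a localization at a prime is local as soon as it sends the prime into
the maximal ideal -/
theorem isLocalHom_of_map_le {R : Type*} [CommRing R] (p : Ideal R) [p.IsPrime] {D : Type*}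
    [CommRing D] [IsLocalRing D] (f : Localization.AtPrime p →+* D)
    (h : ∀ x ∈ p, f (algebraMap R (Localization.AtPrime p) x) ∈ maximalIdeal D) :
    IsLocalHom f := by
  refine ((local_hom_TFAE f).out 0 2).mpr ?_
  rw [← IsLocalization.AtPrime.map_eq_maximalIdeal p (Localization.AtPrime p), Ideal.map_map,
    Ideal.map_le_iff_le_comap]
  intro x hx
  exact h x hx

/-- two ring homs out of a tensor product agreeing on both factors are equal -/
theorem ringHom_ext_tensor {R A B D : Type*} [CommRing R] [CommRing A] [CommRing B] [CommRing D]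
    [Algebra R A] [Algebra R B] (u v : A ⊗[R] B →+* D)
    (h1 : ∀ a : A, u (a ⊗ₜ 1) = v (a ⊗ₜ 1)) (h2 : ∀ b : B, u (1 ⊗ₜ b) = v (1 ⊗ₜ b)) : u = v := by
  refine RingHom.ext fun t => ?_
  induction t using TensorProduct.induction_on with
  | zero => rw [map_zero, map_zero]
  | tmul a b =>
    have : a ⊗ₜ[R] b = (a ⊗ₜ[R] (1 : B)) * ((1 : A) ⊗ₜ[R] b) := by
      rw [Algebra.TensorProduct.tmul_mul_tmul, mul_one, one_mul]
    rw [this, map_mul, map_mul, h1, h2]
  | add x y hx hy => rw [map_add, map_add, hx, hy]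

section Main

variable (R : Type u) [CommRing R] (S : Type u) [CommRing S] [Algebra R S]
  (p : Ideal R) [p.IsPrime] (q : Ideal S) [q.IsPrime] [q.LiesOver p]
  (Rh : Type u) [CommRing Rh] [IsLocalRing Rh] [Algebra (Localization.AtPrime p) Rh]
  [IsLocalHom (algebraMap (Localization.AtPrime p) Rh)]
  [hRh : Hensel.IsHenselization (Localization.AtPrime p) Rh] [Algebra R Rh]
  [IsScalarTower R (Localization.AtPrime p) Rh]
  (Sh : Type u) [CommRing Sh] [IsLocalRing Sh] [Algebra (Localization.AtPrime q) Sh]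
  [IsLocalHom (algebraMap (Localization.AtPrime q) Sh)]
  [hSh : Hensel.IsHenselization (Localization.AtPrime q) Sh] [Algebra S Sh]
  [IsScalarTower S (Localization.AtPrime q) Sh] [Algebra R Sh] [IsScalarTower R S Sh]
  [Algebra Rh Sh] [IsScalarTower R Rh Sh]

/-- the map `R^h ⊗_R S → S^h` -/
noncomputable abbrev phi : Rh ⊗[R] S →ₐ[R] Sh :=
  Algebra.TensorProduct.lift (IsScalarTower.toAlgHom R Rh Sh) (IsScalarTower.toAlgHom R S Sh)
    (fun _ _ => Commute.all _ _)

/-- the prime `Q` -/
noncomputable abbrev Q : Ideal (Rh ⊗[R] S) := Ideal.comap (phi R S Rh Sh) (maximalIdeal Sh)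

theorem isUnit_phi (y : (Q R S Rh Sh).primeCompl) : IsUnit ((phi R S Rh Sh).toRingHom y) := by
  have : (phi R S Rh Sh) y ∉ maximalIdeal Sh := fun h => y.2 h
  exact IsLocalRing.notMem_maximalIdeal.mp this

/-- the map `T = (R^h ⊗ S)_Q → S^h` -/
noncomputable def psi : Localization.AtPrime (Q R S Rh Sh) →+* Sh :=
  IsLocalization.lift (M := (Q R S Rh Sh).primeCompl) (g := (phi R S Rh Sh).toRingHom)
    (isUnit_phi R S Rh Sh)

theorem psi_algebraMap (d : Rh ⊗[R] S) :
    psi R S Rh Sh (algebraMap _ (Localization.AtPrime (Q R S Rh Sh)) d) = phi R S Rh Sh d :=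
  IsLocalization.lift_eq _ d

theorem isLocalHom_psi : IsLocalHom (psi R S Rh Sh) := by
  apply isLocalHom_of_map_le
  intro x hx
  rw [psi_algebraMap]
  exact hx

theorem phi_one_tmul (s : S) : phi R S Rh Sh (1 ⊗ₜ s) = algebraMap S Sh s := by
  rw [Algebra.TensorProduct.lift_tmul, map_one, one_mul]
  rfl

theorem phi_tmul_one (r : Rh) : phi R S Rh Sh (r ⊗ₜ 1) = algebraMap Rh Sh r := by
  rw [Algebra.TensorProduct.lift_tmul, map_one, mul_one]
  rfl

theorem isUnit_lam (y : q.primeCompl) : IsUnit (((algebraMap (Rh ⊗[R] S)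
    (Localization.AtPrime (Q R S Rh Sh))).comp
      (Algebra.TensorProduct.includeRight : S →ₐ[R] Rh ⊗[R] S).toRingHom) y) := by
  change IsUnit (algebraMap (Rh ⊗[R] S) (Localization.AtPrime (Q R S Rh Sh)) (1 ⊗ₜ (y : S)))
  apply IsLocalization.map_units _ (⟨1 ⊗ₜ (y : S), ?_⟩ : (Q R S Rh Sh).primeCompl)
  change ¬ (phi R S Rh Sh (1 ⊗ₜ (y : S)) ∈ maximalIdeal Sh)
  rw [phi_one_tmul, IsLocalRing.notMem_maximalIdeal,
    IsScalarTower.algebraMap_apply S (Localization.AtPrime q) Sh]
  exact (IsLocalization.map_units (Localization.AtPrime q) y).map _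

/-- the map `S_q → T` -/
noncomputable def lam : Localization.AtPrime q →+* Localization.AtPrime (Q R S Rh Sh) :=
  IsLocalization.lift (M := q.primeCompl) (isUnit_lam R S q Rh Sh)

theorem lam_algebraMap (s : S) : lam R S q Rh Sh (algebraMap S _ s) =
    algebraMap (Rh ⊗[R] S) (Localization.AtPrime (Q R S Rh Sh)) (1 ⊗ₜ s) :=
  IsLocalization.lift_eq _ s

theorem psi_comp_lam : (psi R S Rh Sh).comp (lam R S q Rh Sh) =
    algebraMap (Localization.AtPrime q) Sh := by
  apply IsLocalization.ringHom_ext q.primeCompl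
  ext s
  change psi R S Rh Sh (lam R S q Rh Sh (algebraMap S _ s)) = algebraMap _ Sh (algebraMap S _ s)
  rw [lam_algebraMap, psi_algebraMap, phi_one_tmul, ← IsScalarTower.algebraMap_apply]

theorem isLocalHom_lam : IsLocalHom (lam R S q Rh Sh) := by
  haveI : IsLocalHom ((psi R S Rh Sh).comp (lam R S q Rh Sh)) := by
    rw [psi_comp_lam]; infer_instance
  exact isLocalHom_of_comp (lam R S q Rh Sh) (psi R S Rh Sh)

include p q hRh hSh in
/-- `S^h` is a henselization of `T` -/
theorem isHenselization :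
    letI : Algebra (Localization.AtPrime (Q R S Rh Sh)) Sh := (psi R S Rh Sh).toAlgebra
    haveI : IsLocalHom (algebraMap (Localization.AtPrime (Q R S Rh Sh)) Sh) :=
      isLocalHom_psi R S Rh Sh
    Hensel.IsHenselization (Localization.AtPrime (Q R S Rh Sh)) Sh := by
  letI : Algebra (Localization.AtPrime (Q R S Rh Sh)) Sh := (psi R S Rh Sh).toAlgebra
  haveI : IsLocalHom (algebraMap (Localization.AtPrime (Q R S Rh Sh)) Sh) :=
    isLocalHom_psi R S Rh Sh
  refine ⟨hSh.henselian, ?_⟩
  intro D _ _ f hf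
  haveI := isLocalHom_lam R S q Rh Sh
  have hfL : IsLocalHom (f.comp (lam R S q Rh Sh)) := RingHom.isLocalHom_comp _ _
  obtain ⟨g, hg, huniq⟩ := hSh.universal D (f.comp (lam R S q Rh Sh)) hfL
  have hgS : ∀ s : S, g (algebraMap S Sh s) =
      f (algebraMap (Rh ⊗[R] S) (Localization.AtPrime (Q R S Rh Sh)) (1 ⊗ₜ s)) := by
    intro s
    have := congrArg (fun θ : Localization.AtPrime q →+* D => θ (algebraMap S _ s)) hg
    change g (algebraMap (Localization.AtPrime q) Sh (algebraMap S _ s)) =
      f (lam R S q Rh Sh (algebraMap S _ s)) at this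
    rw [← IsScalarTower.algebraMap_apply, lam_algebraMap] at this
    exact this
  -- the two maps on `Rh`
  let iL : Rh →+* Rh ⊗[R] S :=
    (Algebra.TensorProduct.includeLeft : Rh →ₐ[R] Rh ⊗[R] S).toRingHom
  let u₁ : Rh →+* D := g.comp (algebraMap Rh Sh)
  let u₂ : Rh →+* D :=
    (f.comp (algebraMap (Rh ⊗[R] S) (Localization.AtPrime (Q R S Rh Sh)))).comp iL
  have hR : ∀ x : R, u₁ (algebraMap R Rh x) = u₂ (algebraMap R Rh x) := by
    intro x
    change g (algebraMap Rh Sh (algebraMap R Rh x)) =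
      f (algebraMap (Rh ⊗[R] S) _ ((algebraMap R Rh x) ⊗ₜ 1))
    rw [← IsScalarTower.algebraMap_apply, IsScalarTower.algebraMap_apply R S Sh, hgS]
    congr 2
    rw [Algebra.algebraMap_eq_smul_one, Algebra.algebraMap_eq_smul_one (A := Rh),
      TensorProduct.smul_tmul]
  have h12 : u₁.comp (algebraMap (Localization.AtPrime p) Rh) =
      u₂.comp (algebraMap (Localization.AtPrime p) Rh) := by
    apply IsLocalization.ringHom_ext p.primeCompl
    ext x
    change u₁ (algebraMap _ Rh (algebraMap R _ x)) = u₂ (algebraMap _ Rh (algebraMap R _ x))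
    rw [← IsScalarTower.algebraMap_apply]
    exact hR x
  have hloc : IsLocalHom (u₂.comp (algebraMap (Localization.AtPrime p) Rh)) := by
    apply isLocalHom_of_map_le
    intro x hx
    change u₂ (algebraMap _ Rh (algebraMap R _ x)) ∈ maximalIdeal D
    rw [← IsScalarTower.algebraMap_apply, ← hR]
    change g (algebraMap Rh Sh (algebraMap R Rh x)) ∈ maximalIdeal D
    rw [← IsScalarTower.algebraMap_apply, IsScalarTower.algebraMap_apply R S Sh, hgS,
      ← lam_algebraMap R S q Rh Sh]
    have hxq : algebraMap R S x ∈ q := by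
      have := Ideal.LiesOver.over (p := p) (P := q)
      rw [this] at hx
      exact hx
    have h1 : algebraMap S (Localization.AtPrime q) (algebraMap R S x) ∈
        maximalIdeal (Localization.AtPrime q) := by
      rw [← IsLocalization.AtPrime.map_eq_maximalIdeal q (Localization.AtPrime q)]
      exact Ideal.mem_map_of_mem _ hxq
    have h2 : maximalIdeal (Localization.AtPrime q) ≤
        (maximalIdeal D).comap (f.comp (lam R S q Rh Sh)) :=
      ((local_hom_TFAE (f.comp (lam R S q Rh Sh))).out 0 3).mp hfL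
    exact h2 h1
  obtain ⟨u, -, huu⟩ := hRh.universal D (u₂.comp (algebraMap (Localization.AtPrime p) Rh)) hloc
  have hu12 : u₁ = u₂ := (huu u₁ h12).trans (huu u₂ rfl).symm
  have hmain : g.comp (psi R S Rh Sh) = f := by
    apply IsLocalization.ringHom_ext (Q R S Rh Sh).primeCompl
    apply ringHom_ext_tensor
    · intro r
      change g (psi R S Rh Sh (algebraMap _ _ (r ⊗ₜ 1))) = f (algebraMap _ _ (r ⊗ₜ 1))
      rw [psi_algebraMap, phi_tmul_one]
      exact congrArg (fun θ : Rh →+* D => θ r) hu12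
    · intro s
      change g (psi R S Rh Sh (algebraMap _ _ (1 ⊗ₜ s))) = f (algebraMap _ _ (1 ⊗ₜ s))
      rw [psi_algebraMap, phi_one_tmul, hgS]
  refine ⟨g, hmain, ?_⟩
  intro g' hg'
  apply huniq
  have hg'' : g'.comp (psi R S Rh Sh) = f := hg'
  change g'.comp (algebraMap (Localization.AtPrime q) Sh) = f.comp (lam R S q Rh Sh)
  rw [← psi_comp_lam R S q Rh Sh, ← RingHom.comp_assoc, hg'']

end Main

end HensTensorPrime

end Groth.Agent.H3
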