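import Groth.Agent.H3.PairIdem
import Mathlib.RingTheory.IntegralClosure.IsIntegralClosure.Basic

/-!
# Idempotent lifting for integral algebras over henselian pairs
-/

set_option autoImplicit false
universe u v

namespace Groth.Agent.H3

open Polynomial

section

variable {A : Type u} [CommRing A] {I : Ideal A}

/-- An element of `I • ⊤` lies in `I • span s` for a finite set `s`. -/
theorem exists_finset_mem_smul_span {M : Type v} [AddCommGroup M] [Module A M] {x : M}
    (hx : x ∈ (I • ⊤ : Submodule A M)) :
    ∃ s : Finset M, x ∈ I • Submodule.span A (s : Set M) := by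
  classical
  refine Submodule.smul_induction_on hx ?_ ?_
  · intro r hr n _
    refine ⟨{n}, ?_⟩
    exact Submodule.smul_mem_smul hr (Submodule.subset_span (by simp))
  · rintro x y ⟨s, hs⟩ ⟨t, ht⟩
    refine ⟨s ∪ t, Submodule.add_mem _ ?_ ?_⟩
    · exact Submodule.smul_mono le_rfl (Submodule.span_mono (by simp)) hs
    · exact Submodule.smul_mono le_rfl (Submodule.span_mono (by simp)) ht

/-- Idempotent lifting for integral algebras over a henselian pair. -/
theorem exists_idempotent_lift_of_isIntegral (h : HenselianRing A I) (B : Type v) [CommRing B]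
    [Algebra A B] [Algebra.IsIntegral A B] (b : B) (hb : b * b - b ∈ I.map (algebraMap A B)) :
    ∃ e : B, IsIdempotentElem e ∧ e - b ∈ I.map (algebraMap A B) := by
  classical
  have hb' : b * b - b ∈ (I • ⊤ : Submodule A B) := by
    rw [Ideal.smul_top_eq_map]; exact hb
  obtain ⟨s, hs⟩ := exists_finset_mem_smul_span hb'
  let B' : Subalgebra A B := Algebra.adjoin A (insert b (s : Set B))
  have hfin : Module.Finite A B' := by
    have : (Algebra.adjoin A (insert b (s : Set B))).toSubmodule.FG :=
      fg_adjoin_of_finite ((Finset.finite_toSet s).insert b)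
        (fun x _ => Algebra.IsIntegral.isIntegral x)
    exact Module.Finite.iff_fg.mpr this
  have hbB' : b ∈ B' := Algebra.subset_adjoin (Set.mem_insert _ _)
  have hsB' : Submodule.span A (s : Set B) ≤ Subalgebra.toSubmodule B' := by
    rw [Submodule.span_le]
    intro x hx
    exact Algebra.subset_adjoin (Set.mem_insert_of_mem _ hx)
  let b' : B' := ⟨b, hbB'⟩
  have hb'mem : b' * b' - b' ∈ I.map (algebraMap A B') := by
    have h1 : (b * b - b) ∈ (I • ⊤ : Submodule A B').map B'.val.toLinearMap := by
      rw [Submodule.map_smul'']
      refine Submodule.smul_mono le_rfl ?_ hs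
      rw [Submodule.map_top]
      intro x hx
      exact ⟨⟨x, hsB' hx⟩, rfl⟩
    obtain ⟨y, hy, hyx⟩ := h1
    have h2 : y = b' * b' - b' := by
      apply Subtype.ext
      change B'.val y = _
      have h3 : B'.val.toLinearMap y = B'.val y := rfl
      rw [← h3, hyx]
      rfl
    rw [← h2]
    have h4 : (I • ⊤ : Submodule A B') = (I.map (algebraMap A B')).restrictScalars A :=
      Ideal.smul_top_eq_map I
    rw [h4] at hy
    exact hy
  obtain ⟨e', he', heb'⟩ := exists_idempotent_lift_of_henselianRing h B' b' hb'mem
  refine ⟨(e' : B), ?_, ?_⟩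
  · have := congrArg (Subtype.val) he'.eq
    exact this
  · have h1 : (I.map (algebraMap A B')).map B'.val.toRingHom ≤ I.map (algebraMap A B) := by
      rw [Ideal.map_map]
      exact le_of_eq (congrArg (fun f => I.map f) (B'.val.comp_algebraMap))
    have := h1 (Ideal.mem_map_of_mem B'.val.toRingHom heb')
    exact this

theorem bijOn_idempotents_of_isIntegral (h : HenselianRing A I) (B : Type v) [CommRing B]
    [Algebra A B] [Algebra.IsIntegral A B] :
    Set.BijOn (Ideal.Quotient.mk (I.map (algebraMap A B)))
      {e : B | IsIdempotentElem e} {e | IsIdempotentElem e} := by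
  refine ⟨fun e he => he.map _, ?_, ?_⟩
  · intro e he e' he' hee'
    apply idempotent_eq_of_sub_mem_jacobson he he'
    apply map_le_jacobson_of_isIntegral h.jac B
    exact Ideal.Quotient.eq.mp hee'
  · intro ē hē
    obtain ⟨b, rfl⟩ := Ideal.Quotient.mk_surjective ē
    have hb : b * b - b ∈ I.map (algebraMap A B) := by
      rw [← Ideal.Quotient.eq, map_mul]; exact hē.eq
    obtain ⟨e, he, heb⟩ := exists_idempotent_lift_of_isIntegral h B b hb
    exact ⟨e, he, Ideal.Quotient.eq.mpr heb⟩

/-- An integral algebra over a henselian pair is henselian along the extended ideal. -/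
theorem henselianRing_of_isIntegral (h : HenselianRing A I) (B : Type u) [CommRing B]
    [Algebra A B] [Algebra.IsIntegral A B] : HenselianRing B (I.map (algebraMap A B)) := by
  apply henselianRing_of_bijOn_idempotents
  intro C _ _ hfin
  let _ : Algebra A C := ((algebraMap B C).comp (algebraMap A B)).toAlgebra
  have : IsScalarTower A B C := IsScalarTower.of_algebraMap_eq' rfl
  have : Algebra.IsIntegral B C := Algebra.IsIntegral.of_finite B C
  have : Algebra.IsIntegral A C := Algebra.IsIntegral.trans B
  have hmap : (I.map (algebraMap A B)).map (algebraMap B C) = I.map (algebraMap A C) := by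
    rw [Ideal.map_map]; rfl
  rw [hmap]
  exact bijOn_idempotents_of_isIntegral h C

end

end Groth.Agent.H3
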