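import Groth.Agent.H3.HensTensorPrime
import Groth.Agent.H3.StrictHensMaxIdeal2
import Groth.Agent.H3.StrictHensUnique

/-!
# The strict henselization of `S_q` is the strict henselization of `(R^sh ⊗_R S)_Q`
-/

set_option autoImplicit false
universe u

open TensorProduct IsLocalRing

namespace Groth.Agent.H3

namespace StrictHensTensorPrime

open HensTensorPrime

section Maps

variable (R : Type u) [CommRing R] (S : Type u) [CommRing S] [Algebra R S]
  (q : Ideal S) [q.IsPrime]
  (Rh : Type u) [CommRing Rh] [IsLocalRing Rh] [Algebra R Rh]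
  (Sh : Type u) [CommRing Sh] [IsLocalRing Sh] [Algebra (Localization.AtPrime q) Sh]
  [IsLocalHom (algebraMap (Localization.AtPrime q) Sh)] [Algebra S Sh]
  [IsScalarTower S (Localization.AtPrime q) Sh] [Algebra R Sh] [IsScalarTower R S Sh]
  [Algebra Rh Sh] [IsScalarTower R Rh Sh]

theorem isUnit_lam' (y : q.primeCompl) : IsUnit (((algebraMap (Rh ⊗[R] S)
    (Localization.AtPrime (Q R S Rh Sh))).comp
      (Algebra.TensorProduct.includeRight : S →ₐ[R] Rh ⊗[R] S).toRingHom) y) := by
  change IsUnit (algebraMap (Rh ⊗[R] S) (Localization.AtPrime (Q R S Rh Sh)) (1 ⊗ₜ (y : S)))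
  apply IsLocalization.map_units _ (⟨1 ⊗ₜ (y : S), ?_⟩ : (Q R S Rh Sh).primeCompl)
  change ¬ (phi R S Rh Sh (1 ⊗ₜ (y : S)) ∈ maximalIdeal Sh)
  rw [phi_one_tmul, IsLocalRing.notMem_maximalIdeal,
    IsScalarTower.algebraMap_apply S (Localization.AtPrime q) Sh]
  exact (IsLocalization.map_units (Localization.AtPrime q) y).map _

/-- the map `S_q → T` -/
noncomputable def lam' : Localization.AtPrime q →+* Localization.AtPrime (Q R S Rh Sh) :=
  IsLocalization.lift (M := q.primeCompl) (isUnit_lam' R S q Rh Sh)

theorem lam'_algebraMap (s : S) : lam' R S q Rh Sh (algebraMap S _ s) =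
    algebraMap (Rh ⊗[R] S) (Localization.AtPrime (Q R S Rh Sh)) (1 ⊗ₜ s) :=
  IsLocalization.lift_eq _ s

theorem psi_comp_lam' : (psi R S Rh Sh).comp (lam' R S q Rh Sh) =
    algebraMap (Localization.AtPrime q) Sh := by
  apply IsLocalization.ringHom_ext q.primeCompl
  ext s
  change psi R S Rh Sh (lam' R S q Rh Sh (algebraMap S _ s)) = algebraMap _ Sh (algebraMap S _ s)
  rw [lam'_algebraMap, psi_algebraMap, phi_one_tmul, ← IsScalarTower.algebraMap_apply]

theorem isLocalHom_lam' : IsLocalHom (lam' R S q Rh Sh) := by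
  haveI : IsLocalHom ((psi R S Rh Sh).comp (lam' R S q Rh Sh)) := by
    rw [psi_comp_lam']; infer_instance
  exact isLocalHom_of_comp (lam' R S q Rh Sh) (psi R S Rh Sh)

end Maps

section Main

variable (R : Type u) [CommRing R] (S : Type u) [CommRing S] [Algebra R S]
  (p : Ideal R) [p.IsPrime] (q : Ideal S) [q.IsPrime] [q.LiesOver p]
  (Rh : Type u) [CommRing Rh] [IsLocalRing Rh] [Algebra (Localization.AtPrime p) Rh]
  [IsLocalHom (algebraMap (Localization.AtPrime p) Rh)]
  [hRh : Hensel.IsStrictHenselization (Localization.AtPrime p) Rh] [Algebra R Rh]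
  [IsScalarTower R (Localization.AtPrime p) Rh]
  (Sh : Type u) [CommRing Sh] [IsLocalRing Sh] [Algebra (Localization.AtPrime q) Sh]
  [IsLocalHom (algebraMap (Localization.AtPrime q) Sh)]
  [hSh : Hensel.IsStrictHenselization (Localization.AtPrime q) Sh] [Algebra S Sh]
  [IsScalarTower S (Localization.AtPrime q) Sh] [Algebra R Sh] [IsScalarTower R S Sh]
  [Algebra Rh Sh] [IsScalarTower R Rh Sh]

include p q hRh hSh in
/-- `S^sh` is a strict henselization of `T` -/
theorem isStrictHenselization :
    letI : Algebra (Localization.AtPrime (Q R S Rh Sh)) Sh := (psi R S Rh Sh).toAlgebra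
    haveI : IsLocalHom (algebraMap (Localization.AtPrime (Q R S Rh Sh)) Sh) :=
      isLocalHom_psi R S Rh Sh
    Hensel.IsStrictHenselization (Localization.AtPrime (Q R S Rh Sh)) Sh := by
  letI : Algebra (Localization.AtPrime (Q R S Rh Sh)) Sh := (psi R S Rh Sh).toAlgebra
  haveI hψloc : IsLocalHom (algebraMap (Localization.AtPrime (Q R S Rh Sh)) Sh) :=
    isLocalHom_psi R S Rh Sh
  haveI hψloc' : IsLocalHom (psi R S Rh Sh) := isLocalHom_psi R S Rh Sh
  haveI hlam := isLocalHom_lam' R S q Rh Sh
  have hψalg : algebraMap (Localization.AtPrime (Q R S Rh Sh)) Sh = psi R S Rh Sh := rfl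
  refine ⟨hSh.henselian, ?_, ?_⟩
  · -- separable closure
    have hsc := hSh.isSepClosure
    letI : Algebra (Localization.AtPrime q) (Localization.AtPrime (Q R S Rh Sh)) :=
      (lam' R S q Rh Sh).toAlgebra
    haveI : IsLocalHom (algebraMap (Localization.AtPrime q)
        (Localization.AtPrime (Q R S Rh Sh))) := hlam
    haveI : IsScalarTower (Localization.AtPrime q) (Localization.AtPrime (Q R S Rh Sh)) Sh :=
      IsScalarTower.of_algebraMap_eq fun x =>
        (congrArg (fun θ : Localization.AtPrime q →+* Sh => θ x)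
          (psi_comp_lam' R S q Rh Sh)).symm
    haveI : IsScalarTower (ResidueField (Localization.AtPrime q))
        (ResidueField (Localization.AtPrime (Q R S Rh Sh))) (ResidueField Sh) := by
      refine IsScalarTower.of_algebraMap_eq fun x => ?_
      obtain ⟨y, rfl⟩ := residue_surjective x
      rw [ResidueField.algebraMap_residue, ResidueField.algebraMap_residue,
        ResidueField.algebraMap_residue, ← IsScalarTower.algebraMap_apply]
    haveI := hsc.separable
    exact ⟨hsc.sep_closed, Algebra.isSeparable_tower_top_of_isSeparable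
      (ResidueField (Localization.AtPrime q)) _ _⟩
  · intro D _ _ f hf τ hτ
    have hfL : IsLocalHom (f.comp (lam' R S q Rh Sh)) := RingHom.isLocalHom_comp _ _
    have hτL : τ.comp (ResidueField.map (algebraMap (Localization.AtPrime q) Sh)) =
        ResidueField.map (f.comp (lam' R S q Rh Sh)) := by
      have h1 : ResidueField.map (algebraMap (Localization.AtPrime q) Sh) =
          (ResidueField.map (psi R S Rh Sh)).comp (ResidueField.map (lam' R S q Rh Sh)) := by
        rw [← ResidueField.map_comp]
        congr 1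
        exact (psi_comp_lam' R S q Rh Sh).symm
      rw [h1, ← RingHom.comp_assoc]
      have h2 : τ.comp (ResidueField.map (psi R S Rh Sh)) = ResidueField.map f := hτ
      rw [h2, ← ResidueField.map_comp]
    obtain ⟨g, ⟨hg, hgres⟩, huniq⟩ := hSh.universal D (f.comp (lam' R S q Rh Sh)) τ hτL
    have hgS : ∀ s : S, g (algebraMap S Sh s) =
        f (algebraMap (Rh ⊗[R] S) (Localization.AtPrime (Q R S Rh Sh)) (1 ⊗ₜ s)) := by
      intro s
      have := congrArg (fun θ : Localization.AtPrime q →+* D => θ (algebraMap S _ s)) hg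
      change g (algebraMap (Localization.AtPrime q) Sh (algebraMap S _ s)) =
        f (lam' R S q Rh Sh (algebraMap S _ s)) at this
      rw [← IsScalarTower.algebraMap_apply, lam'_algebraMap] at this
      exact this
    let iL : Rh →+* Rh ⊗[R] S :=
      (Algebra.TensorProduct.includeLeft : Rh →ₐ[R] Rh ⊗[R] S).toRingHom
    let u₁ : Rh →+* D := g.comp (algebraMap Rh Sh)
    let u₂ : Rh →+* D :=
      (f.comp (algebraMap (Rh ⊗[R] S) (Localization.AtPrime (Q R S Rh Sh)))).comp iL
    have hR : ∀ x : R, u₁ (algebraMap R Rh x) = u₂ (algebraMap R Rh x) := by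
      intro x
      change g (algebraMap Rh Sh (algebraMap R Rh x)) =
        f (algebraMap (Rh ⊗[R] S) _ ((algebraMap R Rh x) ⊗ₜ 1))
      rw [← IsScalarTower.algebraMap_apply, IsScalarTower.algebraMap_apply R S Sh, hgS]
      congr 2
      rw [Algebra.algebraMap_eq_smul_one, Algebra.algebraMap_eq_smul_one (A := Rh),
        TensorProduct.smul_tmul]
    have h12 : u₁.comp (algebraMap (Localization.AtPrime p) Rh) =
        u₂.comp (algebraMap (Localization.AtPrime p) Rh) := by
      apply IsLocalization.ringHom_ext p.primeCompl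
      ext x
      change u₁ (algebraMap _ Rh (algebraMap R _ x)) = u₂ (algebraMap _ Rh (algebraMap R _ x))
      rw [← IsScalarTower.algebraMap_apply]
      exact hR x
    have hloc : IsLocalHom (u₂.comp (algebraMap (Localization.AtPrime p) Rh)) := by
      apply isLocalHom_of_map_le
      intro x hx
      change u₂ (algebraMap _ Rh (algebraMap R _ x)) ∈ maximalIdeal D
      rw [← IsScalarTower.algebraMap_apply, ← hR]
      change g (algebraMap Rh Sh (algebraMap R Rh x)) ∈ maximalIdeal D
      rw [← IsScalarTower.algebraMap_apply, IsScalarTower.algebraMap_apply R S Sh, hgS,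
        ← lam'_algebraMap R S q Rh Sh]
      have hxq : algebraMap R S x ∈ q := by
        have := Ideal.LiesOver.over (p := p) (P := q)
        rw [this] at hx
        exact hx
      have h1 : algebraMap S (Localization.AtPrime q) (algebraMap R S x) ∈
          maximalIdeal (Localization.AtPrime q) := by
        rw [← IsLocalization.AtPrime.map_eq_maximalIdeal q (Localization.AtPrime q)]
        exact Ideal.mem_map_of_mem _ hxq
      have h2 : maximalIdeal (Localization.AtPrime q) ≤
          (maximalIdeal D).comap (f.comp (lam' R S q Rh Sh)) :=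
        ((local_hom_TFAE (f.comp (lam' R S q Rh Sh))).out 0 3).mp hfL
      exact h2 h1
    -- `u₂` is local
    have hu₂loc : IsLocalHom u₂ := by
      refine ((local_hom_TFAE u₂).out 0 2).mpr ?_
      rw [← SH.map_maximalIdeal_eq_of_isStrictHenselization (Localization.AtPrime p) hRh,
        Ideal.map_map]
      exact ((local_hom_TFAE (u₂.comp (algebraMap (Localization.AtPrime p) Rh))).out 0 2).mp hloc
    let τ' : ResidueField Rh →+* ResidueField D := ResidueField.map u₂
    have hτ' : τ'.comp (ResidueField.map (algebraMap (Localization.AtPrime p) Rh)) =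
        ResidueField.map (u₂.comp (algebraMap (Localization.AtPrime p) Rh)) :=
      (ResidueField.map_comp _ _).symm
    obtain ⟨u, -, huu⟩ := hRh.universal D (u₂.comp (algebraMap (Localization.AtPrime p) Rh))
      τ' hτ'
    have hres₁ : ∀ x : Rh, residue D (u₁ x) = τ' (residue Rh x) := by
      intro x
      change residue D (g (algebraMap Rh Sh x)) = residue D (u₂ x)
      rw [hgres]
      change _ = residue D (f (algebraMap (Rh ⊗[R] S) _ (x ⊗ₜ 1)))
      have h3 : residue D (f (algebraMap (Rh ⊗[R] S) _ (x ⊗ₜ 1))) =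
          τ (residue Sh (psi R S Rh Sh (algebraMap (Rh ⊗[R] S) _ (x ⊗ₜ 1)))) := by
        have := congrArg (fun θ : ResidueField (Localization.AtPrime (Q R S Rh Sh)) →+*
          ResidueField D => θ (residue _ (algebraMap (Rh ⊗[R] S) _ (x ⊗ₜ 1)))) hτ
        exact this.symm
      rw [h3, psi_algebraMap, phi_tmul_one]
    have hu12 : u₁ = u₂ :=
      (huu u₁ ⟨h12, hres₁⟩).trans (huu u₂ ⟨rfl, fun x => rfl⟩).symm
    have hmain : g.comp (psi R S Rh Sh) = f := by
      apply IsLocalization.ringHom_ext (Q R S Rh Sh).primeCompl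
      apply ringHom_ext_tensor
      · intro r
        change g (psi R S Rh Sh (algebraMap _ _ (r ⊗ₜ 1))) = f (algebraMap _ _ (r ⊗ₜ 1))
        rw [psi_algebraMap, phi_tmul_one]
        exact congrArg (fun θ : Rh →+* D => θ r) hu12
      · intro s
        change g (psi R S Rh Sh (algebraMap _ _ (1 ⊗ₜ s))) = f (algebraMap _ _ (1 ⊗ₜ s))
        rw [psi_algebraMap, phi_one_tmul, hgS]
    refine ⟨g, ⟨hmain, hgres⟩, ?_⟩
    rintro g' ⟨hg', hg'res⟩
    apply huniq
    refine ⟨?_, hg'res⟩
    have hg'' : g'.comp (psi R S Rh Sh) = f := hg'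
    change g'.comp (algebraMap (Localization.AtPrime q) Sh) = f.comp (lam' R S q Rh Sh)
    rw [← psi_comp_lam' R S q Rh Sh, ← RingHom.comp_assoc, hg'']

end Main

end StrictHensTensorPrime

end Groth.Agent.H3
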