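import Groth.Agent.H3.HenselQF
import Groth.Agent.H3.PairIdemIntegral
import Groth.Agent.H3.HensRadical
import Groth.Agent.H3.Henselization
import Groth.Agent.H3.HensTensorPrime
import Groth.Agent.H3.StrictHensTensorPrime
import Groth.Agent.H3.StrictHensUnique

/-!
# Quasi-finite at a prime over a henselian local ring: the local ring is finite and henselian
-/

set_option autoImplicit false
universe u

open TensorProduct IsLocalRing

namespace Groth.Agent.H3

namespace HensQFFinite

section LemmaA

variable (Rh : Type u) [CommRing Rh] [HenselianLocalRing Rh]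
  (C : Type u) [CommRing C] [Algebra Rh C] [Algebra.FiniteType Rh C]
  (Q : Ideal C) [Q.IsPrime] [Q.LiesOver (maximalIdeal Rh)] [Algebra.QuasiFiniteAt Rh Q]

/-- the local ring at a prime over the closed point, quasi-finite there, is a finite module -/
theorem finite_localization : Module.Finite Rh (Localization.AtPrime Q) := by
  obtain ⟨e, he, heQ, hfin, huniq⟩ := exists_idempotent_of_quasiFiniteAt Rh C Q
  have hzero : algebraMap C (Localization.AtPrime Q) (1 - e) = 0 := by
    rw [IsLocalization.map_eq_zero_iff Q.primeCompl]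
    refine ⟨⟨e, heQ⟩, ?_⟩
    change e * (1 - e) = 0
    rw [mul_sub, mul_one, he.eq, sub_self]
  let g : (C ⧸ Ideal.span {1 - e}) →ₐ[Rh] Localization.AtPrime Q :=
    Ideal.Quotient.liftₐ (Ideal.span {1 - e}) (IsScalarTower.toAlgHom Rh C (Localization.AtPrime Q))
      (by
        intro a ha
        obtain ⟨c, rfl⟩ := Ideal.mem_span_singleton'.mp ha
        change algebraMap C (Localization.AtPrime Q) (c * (1 - e)) = 0
        rw [map_mul, hzero, mul_zero])
  have hg : ∀ c : C, g (Ideal.Quotient.mk _ c) = algebraMap C (Localization.AtPrime Q) c :=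
    fun c => rfl
  haveI : Algebra.IsIntegral Rh (C ⧸ Ideal.span {1 - e}) := Algebra.IsIntegral.of_finite _ _
  have hunit : ∀ s : C, s ∉ Q → IsUnit (Ideal.Quotient.mk (Ideal.span {1 - e}) s) := by
    intro s hs
    by_contra hnu
    obtain ⟨M, hM, hsM⟩ := exists_max_ideal_of_mem_nonunits hnu
    have hM' : (M.comap (Ideal.Quotient.mk (Ideal.span {1 - e}))).IsPrime :=
      Ideal.comap_isPrime _ M
    have hover : (M.comap (Ideal.Quotient.mk (Ideal.span {1 - e}))).LiesOver (maximalIdeal Rh) := by
      refine ⟨?_⟩
      have h1 : (M.comap (algebraMap Rh (C ⧸ Ideal.span {1 - e}))).IsMaximal :=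
        Ideal.isMaximal_comap_of_isIntegral_of_isMaximal M
      have h2 := IsLocalRing.eq_maximalIdeal h1
      rw [← h2]
      rfl
    have heM : e ∉ M.comap (Ideal.Quotient.mk (Ideal.span {1 - e})) := by
      intro heM
      have h1 : (1 - e) ∈ M.comap (Ideal.Quotient.mk (Ideal.span {1 - e})) := by
        rw [Ideal.mem_comap]
        have : Ideal.Quotient.mk (Ideal.span {1 - e}) (1 - e) = 0 :=
          Ideal.Quotient.eq_zero_iff_mem.mpr (Ideal.mem_span_singleton_self _)
        rw [this]
        exact M.zero_mem
      have h2 := Ideal.add_mem _ heM h1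
      rw [add_sub_cancel] at h2
      exact hM'.ne_top ((Ideal.eq_top_iff_one _).mpr h2)
    have := huniq _ hM' hover heM
    apply hs
    rw [← this]
    exact hsM
  have hsurj : Function.Surjective g := by
    intro x
    obtain ⟨c, ⟨s, hs⟩, rfl⟩ := IsLocalization.exists_mk'_eq Q.primeCompl x
    obtain ⟨u, hu⟩ := (hunit s hs).exists_right_inv
    refine ⟨Ideal.Quotient.mk _ c * u, ?_⟩
    rw [map_mul, hg, IsLocalization.eq_mk'_iff_mul_eq]
    change _ * algebraMap C (Localization.AtPrime Q) s = _
    rw [← hg s, mul_assoc, ← map_mul, mul_comm u, hu, map_one, mul_one]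
  exact Module.Finite.of_surjective g.toLinearMap hsurj

/-- the local ring at a prime over the closed point, quasi-finite there, is henselian -/
theorem henselianLocalRing_localization (Rh : Type u) [CommRing Rh] [HenselianLocalRing Rh]
    (C : Type u) [CommRing C] [Algebra Rh C] [Algebra.FiniteType Rh C]
    (Q : Ideal C) [Q.IsPrime] [Q.LiesOver (maximalIdeal Rh)] [Algebra.QuasiFiniteAt Rh Q] :
    HenselianLocalRing (Localization.AtPrime Q) := by
  haveI := finite_localization Rh C Q
  haveI : Algebra.IsIntegral Rh (Localization.AtPrime Q) := Algebra.IsIntegral.of_finite _ _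
  have h0 : HenselianRing Rh (maximalIdeal Rh) := inferInstance
  have h1 := henselianRing_of_isIntegral h0 (Localization.AtPrime Q)
  apply henselianLocalRing_of_henselianRing
  apply henselianRing_of_le_radical h1
  rw [Ideal.radical_eq_sInf]
  refine le_sInf ?_
  rintro J ⟨hJ, hJp⟩
  have h2 : maximalIdeal Rh ≤ J.comap (algebraMap Rh (Localization.AtPrime Q)) :=
    Ideal.map_le_iff_le_comap.mp hJ
  have h3 : (J.comap (algebraMap Rh (Localization.AtPrime Q))).IsPrime := Ideal.comap_isPrime _ J
  have h4 : maximalIdeal Rh = J.comap (algebraMap Rh (Localization.AtPrime Q)) :=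
    (IsLocalRing.maximalIdeal.isMaximal Rh).eq_of_le h3.ne_top h2
  have h5 : J.IsMaximal := by
    apply Ideal.isMaximal_of_isIntegral_of_isMaximal_comap (R := Rh) J
    rw [← h4]
    infer_instance
  rw [IsLocalRing.eq_maximalIdeal h5]

end LemmaA

section Self

variable (T : Type u) [CommRing T] [HenselianLocalRing T]

/-- a henselian local ring is its own henselization -/
theorem isHenselization_self : Hensel.IsHenselization T T := by
  refine ⟨inferInstance, ?_⟩
  intro D _ _ f _
  refine ⟨f, ?_, ?_⟩
  · ext x; rfl
  · intro g hg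
    rw [← hg]
    ext x; rfl

/-- a strictly henselian local ring is its own strict henselization -/
theorem isStrictHenselization_self [IsSepClosed (ResidueField T)] :
    Hensel.IsStrictHenselization T T := by
  refine ⟨inferInstance, ?_, ?_⟩
  · refine @IsSepClosure.mk _ _ _ _ IsLocalRing.ResidueField.instAlgebra inferInstance ?_
    refine @Algebra.IsSeparable.mk _ _ _ _ IsLocalRing.ResidueField.instAlgebra ?_
    intro x
    obtain ⟨t, rfl⟩ := residue_surjective x
    exact @isSeparable_algebraMap (ResidueField T) _ (ResidueField T) _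
      IsLocalRing.ResidueField.instAlgebra (residue T t)
  intro D _ _ f _ τ hτ
  refine ⟨f, ⟨?_, ?_⟩, ?_⟩
  · ext x; rfl
  · intro x
    have := congrArg (fun φ : ResidueField T →+* ResidueField D => φ (residue T x)) hτ
    simp only [RingHom.comp_apply] at this
    rw [ResidueField.map_residue, ResidueField.map_residue] at this
    exact this.symm
  · rintro g ⟨hg, -⟩
    rw [← hg]
    ext x; rfl

end Self

section Main

variable (R : Type u) [CommRing R] (S : Type u) [CommRing S] [Algebra R S]
  (q : Ideal S) [q.IsPrime]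
  (Rh : Type u) [CommRing Rh] [IsLocalRing Rh] [Algebra R Rh]
  (Sh : Type u) [CommRing Sh] [IsLocalRing Sh] [Algebra (Localization.AtPrime q) Sh]
  [IsLocalHom (algebraMap (Localization.AtPrime q) Sh)] [Algebra S Sh]
  [IsScalarTower S (Localization.AtPrime q) Sh] [Algebra R Sh] [IsScalarTower R S Sh]
  [Algebra Rh Sh] [IsScalarTower R Rh Sh] [IsLocalHom (algebraMap Rh Sh)]

open HensTensorPrime

theorem comap_includeRight :
    q = (Q R S Rh Sh).comap (Algebra.TensorProduct.includeRight : S →ₐ[R] Rh ⊗[R] S).toRingHom := by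
  ext s
  rw [Ideal.mem_comap]
  change _ ↔ phi R S Rh Sh (1 ⊗ₜ s) ∈ maximalIdeal Sh
  rw [phi_one_tmul, IsScalarTower.algebraMap_apply S (Localization.AtPrime q) Sh]
  constructor
  · intro hs
    have h1 : algebraMap S (Localization.AtPrime q) s ∈ maximalIdeal (Localization.AtPrime q) := by
      rw [← IsLocalization.AtPrime.map_eq_maximalIdeal q (Localization.AtPrime q)]
      exact Ideal.mem_map_of_mem _ hs
    have h2 := ((local_hom_TFAE (algebraMap (Localization.AtPrime q) Sh)).out 0 3).mp
      (inferInstance : IsLocalHom (algebraMap (Localization.AtPrime q) Sh))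
    exact h2 h1
  · intro hs
    by_contra hsq
    have h1 : IsUnit (algebraMap S (Localization.AtPrime q) s) :=
      IsLocalization.map_units (Localization.AtPrime q) (⟨s, hsq⟩ : q.primeCompl)
    exact (IsLocalRing.mem_maximalIdeal _).mp hs (h1.map _)

theorem liesOver_Q : (Q R S Rh Sh).LiesOver (maximalIdeal Rh) := by
  refine ⟨?_⟩
  ext r
  rw [Ideal.under_def, Ideal.mem_comap]
  change _ ↔ phi R S Rh Sh (algebraMap Rh (Rh ⊗[R] S) r) ∈ maximalIdeal Sh
  rw [Algebra.TensorProduct.algebraMap_apply, Algebra.algebraMap_self, RingHom.id_apply,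
    phi_tmul_one]
  constructor
  · intro hr
    have h2 := ((local_hom_TFAE (algebraMap Rh Sh)).out 0 3).mp
      (inferInstance : IsLocalHom (algebraMap Rh Sh))
    exact h2 hr
  · intro hr
    by_contra hrm
    have h1 : IsUnit r := IsLocalRing.notMem_maximalIdeal.mp hrm
    exact (IsLocalRing.mem_maximalIdeal _).mp hr (h1.map _)

theorem psi_algebraMap_left (r : Rh) :
    psi R S Rh Sh (algebraMap Rh (Localization.AtPrime (Q R S Rh Sh)) r) = algebraMap Rh Sh r := by
  rw [IsScalarTower.algebraMap_apply Rh (Rh ⊗[R] S) (Localization.AtPrime (Q R S Rh Sh)),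
    psi_algebraMap, Algebra.TensorProduct.algebraMap_apply, Algebra.algebraMap_self,
    RingHom.id_apply, phi_tmul_one]

variable [Algebra.FiniteType R S] [Algebra.QuasiFiniteAt R q]

include q in
theorem finite_T [HenselianLocalRing Rh] :
    Module.Finite Rh (Localization.AtPrime (Q R S Rh Sh)) := by
  haveI := liesOver_Q R S Rh Sh
  haveI : Algebra.QuasiFiniteAt Rh (Q R S Rh Sh) :=
    Algebra.QuasiFiniteAt.baseChange q (Q R S Rh Sh) (comap_includeRight R S q Rh Sh)
  exact finite_localization Rh (Rh ⊗[R] S) (Q R S Rh Sh)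

include q in
theorem henselian_T [HenselianLocalRing Rh] :
    HenselianLocalRing (Localization.AtPrime (Q R S Rh Sh)) := by
  haveI := liesOver_Q R S Rh Sh
  haveI : Algebra.QuasiFiniteAt Rh (Q R S Rh Sh) :=
    Algebra.QuasiFiniteAt.baseChange q (Q R S Rh Sh) (comap_includeRight R S q Rh Sh)
  exact henselianLocalRing_localization Rh (Rh ⊗[R] S) (Q R S Rh Sh)

include q in
/-- finiteness of `S^h` over `R^h` as soon as `psi` is surjective -/
theorem finite_of_surjective [HenselianLocalRing Rh]
    (hsurj : Function.Surjective (psi R S Rh Sh)) : Module.Finite Rh Sh := by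
  haveI := finite_T R S q Rh Sh
  let l : Localization.AtPrime (Q R S Rh Sh) →ₗ[Rh] Sh :=
    { toFun := psi R S Rh Sh
      map_add' := map_add _
      map_smul' := by
        intro r x
        rw [Algebra.smul_def, map_mul, psi_algebraMap_left, RingHom.id_apply, Algebra.smul_def] }
  exact Module.Finite.of_surjective l hsurj

end Main

end HensQFFinite

end Groth.Agent.H3
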