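import Groth.Agent.H3.HensIntegralBC
import Groth.Agent.H3.HensIso

/-!
# The integral base change of a henselization is a henselization
-/

set_option autoImplicit false
universe u

namespace Groth.Agent.H3

namespace HensIntegralBC

open TensorProduct Hens2

variable {A B Ah : Type u} [CommRing A] [CommRing B] [CommRing Ah] [Algebra A B]
  (I : Ideal A) (J : Ideal B) [Algebra A Ah]

theorem henselianRing_tensor' (hrad : J.radical = (I.map (algebraMap A B)).radical)
    [Algebra.IsIntegral A B] (hA : HenselianRing Ah (I.map (algebraMap A Ah))) :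
    HenselianRing (B ⊗[A] Ah) (J.map (algebraMap B (B ⊗[A] Ah))) := by
  have h1 := HensIso.henselianRing_of_ringEquiv
    (Algebra.TensorProduct.comm A Ah B).toRingEquiv _ (henselianRing_tensor I J hrad hA)
  rw [Ideal.map_map] at h1
  have h2 : ((Algebra.TensorProduct.comm A Ah B).toRingEquiv : Ah ⊗[A] B →+* B ⊗[A] Ah).comp
      (incR A B Ah) = algebraMap B (B ⊗[A] Ah) := by
    ext b
    change (Algebra.TensorProduct.comm A Ah B) ((1 : Ah) ⊗ₜ[A] b) = algebraMap B (B ⊗[A] Ah) b
    rw [Algebra.TensorProduct.comm_tmul, Algebra.TensorProduct.algebraMap_apply]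
    rfl
  rwa [h2] at h1

/-- The base change of a henselization of `(A, I)` along an integral map `A → B` is a
henselization of `(B, J)` when `J` and `IB` have the same radical. -/
theorem isPairHenselization_tensor (hIJ : I.map (algebraMap A B) ≤ J)
    (hrad : J.radical = (I.map (algebraMap A B)).radical)
    [Algebra.IsIntegral A B] (hA : IsPairHenselization A I Ah) :
    IsPairHenselization B J (B ⊗[A] Ah) := by
  refine ⟨henselianRing_tensor' I J hrad hA.1, ?_⟩
  intro C _ K g hCK hJK
  have hIK : I.map (g.comp (algebraMap A B)) ≤ K := by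
    rw [← Ideal.map_map]
    exact (Ideal.map_mono hIJ).trans hJK
  obtain ⟨h, hh, hhuniq⟩ := hA.2 C K (g.comp (algebraMap A B)) hCK hIK
  let _ : Algebra A C := (g.comp (algebraMap A B)).toAlgebra
  let g' : B →ₐ[A] C := { g with commutes' := fun a => rfl }
  let h' : Ah →ₐ[A] C :=
    { h with commutes' := fun a => congrArg (fun φ : A →+* C => φ a) hh }
  refine ⟨(Algebra.TensorProduct.productMap g' h').toRingHom, ?_, ?_⟩
  · ext b
    change Algebra.TensorProduct.productMap g' h' (algebraMap B (B ⊗[A] Ah) b) = g b
    rw [Algebra.TensorProduct.algebraMap_apply, Algebra.TensorProduct.productMap_apply_tmul,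
      map_one, mul_one]
    rfl
  · intro G hG
    have hG' : ∀ b : B, G (b ⊗ₜ[A] (1 : Ah)) = g b := fun b =>
      congrArg (fun φ : B →+* C => φ b) hG
    have e1 : G.comp (Algebra.TensorProduct.includeRight : Ah →ₐ[A] B ⊗[A] Ah).toRingHom = h := by
      apply hhuniq
      ext a
      change G ((1 : B) ⊗ₜ[A] (algebraMap A Ah a)) = g (algebraMap A B a)
      rw [← hG', Algebra.algebraMap_eq_smul_one (A := Ah),
        Algebra.algebraMap_eq_smul_one (A := B), TensorProduct.tmul_smul,
        TensorProduct.smul_tmul']
    have e1' : ∀ a : Ah, G ((1 : B) ⊗ₜ[A] a) = h a := fun a =>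
      congrArg (fun φ : Ah →+* C => φ a) e1
    refine RingHom.ext fun t => ?_
    induction t using TensorProduct.induction_on with
    | zero => rw [map_zero, map_zero]
    | tmul b a =>
      change G (b ⊗ₜ[A] a) = Algebra.TensorProduct.productMap g' h' (b ⊗ₜ[A] a)
      rw [Algebra.TensorProduct.productMap_apply_tmul]
      have : b ⊗ₜ[A] a = (b ⊗ₜ[A] (1 : Ah)) * ((1 : B) ⊗ₜ[A] a) := by
        rw [Algebra.TensorProduct.tmul_mul_tmul, mul_one, one_mul]
      rw [this, map_mul, hG', e1']
      rfl
    | add x y hx hy => rw [map_add, map_add, hx, hy]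

end HensIntegralBC

end Groth.Agent.H3
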