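import Groth.Agent.H3.HensQFFinite

/-!
# Strict henselizations: transfer along an isomorphism of the base, maps between them,
and bijectivity of `psi` in the quasi-finite case
-/

set_option autoImplicit false
universe u

open TensorProduct IsLocalRing

namespace Groth.Agent.H3

namespace StrictHensBaseEquiv

section Transfer

variable {A A' S : Type u} [CommRing A] [IsLocalRing A] [CommRing A'] [IsLocalRing A']
  [CommRing S] [IsLocalRing S] [Algebra A S] [IsLocalHom (algebraMap A S)]
  [Algebra A' S] [IsLocalHom (algebraMap A' S)]

/-- strict henselizations transfer along an isomorphism of the base -/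
theorem isStrictHenselization_of_base_ringEquiv (e : A' ≃+* A)
    (he : ∀ x : A', algebraMap A' S x = algebraMap A S (e x))
    (h : Hensel.IsStrictHenselization A S) : Hensel.IsStrictHenselization A' S := by
  have hsc := h.isSepClosure
  refine ⟨h.henselian, ?_, ?_⟩
  · refine ⟨hsc.sep_closed, ?_⟩
    haveI := hsc.separable
    refine Algebra.IsSeparable.of_equiv_equiv (ResidueField.mapEquiv e.symm)
      (RingEquiv.refl (ResidueField S)) ?_
    ext x
    obtain ⟨a, rfl⟩ := residue_surjective x
    change algebraMap (ResidueField A') (ResidueField S)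
      (ResidueField.map (e.symm : A →+* A') (residue A a)) =
        algebraMap (ResidueField A) (ResidueField S) (residue A a)
    rw [ResidueField.map_residue, ResidueField.algebraMap_residue,
      ResidueField.algebraMap_residue]
    change residue S (algebraMap A' S (e.symm a)) = _
    rw [he, RingEquiv.apply_symm_apply]
  · intro D _ _ f hf τ hτ
    haveI : IsLocalHom (f.comp (e.symm : A →+* A')) := RingHom.isLocalHom_comp _ _
    have hτ' : τ.comp (ResidueField.map (algebraMap A S)) =
        ResidueField.map (f.comp (e.symm : A →+* A')) := by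
      ext x
      obtain ⟨a, rfl⟩ := residue_surjective x
      have h1 := congrArg (fun φ : ResidueField A' →+* ResidueField D =>
        φ (residue A' (e.symm a))) hτ
      simp only [RingHom.comp_apply] at h1
      rw [ResidueField.map_residue, ResidueField.map_residue, he,
        RingEquiv.apply_symm_apply] at h1
      rw [RingHom.comp_apply, ResidueField.map_residue, ResidueField.map_residue]
      exact h1
    obtain ⟨g, ⟨hg, hgres⟩, huniq⟩ := h.universal D (f.comp (e.symm : A →+* A')) τ hτ'
    refine ⟨g, ⟨?_, hgres⟩, ?_⟩
    · ext x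
      have h1 := congrArg (fun φ : A →+* D => φ (e x)) hg
      simp only [RingHom.comp_apply] at h1
      rw [RingHom.comp_apply, he]
      rw [h1]
      change f (e.symm (e x)) = f x
      rw [RingEquiv.symm_apply_apply]
    · rintro g' ⟨hg', hg'res⟩
      apply huniq
      refine ⟨?_, hg'res⟩
      ext a
      have h1 := congrArg (fun φ : A' →+* D => φ (e.symm a)) hg'
      simp only [RingHom.comp_apply] at h1
      rw [he, RingEquiv.apply_symm_apply] at h1
      rw [RingHom.comp_apply, h1]
      rfl

end Transfer

section Maps

variable (A S T : Type u) [CommRing A] [IsLocalRing A] [CommRing S] [IsLocalRing S] [Algebra A S]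
  [IsLocalHom (algebraMap A S)] [CommRing T] [HenselianLocalRing T]
  [IsSepClosed (ResidueField T)] [Algebra A T] [IsLocalHom (algebraMap A T)]

/-- a strict henselization maps locally to every strictly henselian local algebra -/
theorem exists_local_map (h : Hensel.IsStrictHenselization A S) :
    ∃ g : S →+* T, g.comp (algebraMap A S) = algebraMap A T ∧ IsLocalHom g := by
  haveI := h.isSepClosure.separable
  let τ₀ : ResidueField S →ₐ[ResidueField A] ResidueField T := IsSepClosed.lift
  have hτ : τ₀.toRingHom.comp (ResidueField.map (algebraMap A S)) =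
      ResidueField.map (algebraMap A T) := by
    ext x
    obtain ⟨a, rfl⟩ := residue_surjective x
    have h1 := τ₀.commutes (residue A a)
    rw [ResidueField.algebraMap_residue, ResidueField.algebraMap_residue] at h1
    rw [RingHom.comp_apply, ResidueField.map_residue, ResidueField.map_residue]
    exact h1
  obtain ⟨g, ⟨hg, hgres⟩, -⟩ := h.universal T (algebraMap A T) τ₀.toRingHom hτ
  refine ⟨g, hg, ⟨?_⟩⟩
  intro x hx
  by_contra hnu
  have h1 : residue S x = 0 := (residue_eq_zero_iff x).mpr ((mem_maximalIdeal x).mpr hnu)
  have h2 : residue T (g x) = 0 := by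
    rw [hgres, h1]
    exact map_zero _
  exact (residue_ne_zero_iff_isUnit (g x)).mpr hx h2

end Maps

section Psi

open HensTensorPrime

variable (R : Type u) [CommRing R] (S : Type u) [CommRing S] [Algebra R S]
  (p : Ideal R) [p.IsPrime] (q : Ideal S) [q.IsPrime] [q.LiesOver p]
  (Rh : Type u) [CommRing Rh] [IsLocalRing Rh] [Algebra (Localization.AtPrime p) Rh]
  [IsLocalHom (algebraMap (Localization.AtPrime p) Rh)]
  [hRh : Hensel.IsStrictHenselization (Localization.AtPrime p) Rh] [Algebra R Rh]
  [IsScalarTower R (Localization.AtPrime p) Rh]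
  (Sh : Type u) [CommRing Sh] [IsLocalRing Sh] [Algebra (Localization.AtPrime q) Sh]
  [IsLocalHom (algebraMap (Localization.AtPrime q) Sh)]
  [hSh : Hensel.IsStrictHenselization (Localization.AtPrime q) Sh] [Algebra S Sh]
  [IsScalarTower S (Localization.AtPrime q) Sh] [Algebra R Sh] [IsScalarTower R S Sh]
  [Algebra Rh Sh] [IsScalarTower R Rh Sh] [IsLocalHom (algebraMap Rh Sh)]
  [Algebra.FiniteType R S] [Algebra.QuasiFiniteAt R q]

include p q hRh hSh in
/-- in the quasi-finite case the strict henselization of `S_q` is the local ring of
`R^sh ⊗_R S` at `Q` -/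
theorem psi_bijective : Function.Bijective (psi R S Rh Sh) := by
  classical
  haveI hhRh : HenselianLocalRing Rh := hRh.henselian
  haveI scRh : IsSepClosed (IsLocalRing.ResidueField Rh) := hRh.isSepClosure.sep_closed
  have hH := StrictHensTensorPrime.isStrictHenselization R S p q Rh Sh
  haveI hT : HenselianLocalRing (Localization.AtPrime (Q R S Rh Sh)) :=
    HensQFFinite.henselian_T R S q Rh Sh
  haveI fT : Module.Finite Rh (Localization.AtPrime (Q R S Rh Sh)) :=
    HensQFFinite.finite_T R S q Rh Sh
  haveI lRT : IsLocalHom (algebraMap Rh (Localization.AtPrime (Q R S Rh Sh))) := by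
    haveI : IsLocalHom ((psi R S Rh Sh).comp (algebraMap Rh
        (Localization.AtPrime (Q R S Rh Sh)))) := by
      have : (psi R S Rh Sh).comp (algebraMap Rh
        (Localization.AtPrime (Q R S Rh Sh))) = algebraMap Rh Sh := by
        ext r
        exact HensQFFinite.psi_algebraMap_left R S Rh Sh r
      rw [this]
      infer_instance
    exact isLocalHom_of_comp _ (psi R S Rh Sh)
  haveI aT : Algebra.IsAlgebraic (IsLocalRing.ResidueField Rh) (IsLocalRing.ResidueField
      (Localization.AtPrime (Q R S Rh Sh))) :=
    Algebra.IsAlgebraic.of_finite _ _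
  haveI scT : IsSepClosed (IsLocalRing.ResidueField
      (Localization.AtPrime (Q R S Rh Sh))) :=
    Algebra.IsAlgebraic.isSepClosed (F := IsLocalRing.ResidueField Rh)
  have hself := HensQFFinite.isStrictHenselization_self
    (Localization.AtPrime (Q R S Rh Sh))
  letI algT : Algebra (Localization.AtPrime (Q R S Rh Sh)) Sh :=
    (psi R S Rh Sh).toAlgebra
  haveI lT : IsLocalHom (algebraMap (Localization.AtPrime (Q R S Rh Sh)) Sh) :=
    isLocalHom_psi R S Rh Sh
  obtain ⟨e⟩ := SH.exists_algEquiv hself hH
  have hfun : ∀ x, psi R S Rh Sh x = e x := fun x => (e.commutes x).symm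
  constructor
  · intro x y hxy
    rw [hfun, hfun] at hxy
    exact e.injective hxy
  · intro y
    obtain ⟨x, rfl⟩ := e.surjective y
    exact ⟨x, hfun x⟩

end Psi

end StrictHensBaseEquiv

end Groth.Agent.H3
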