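import Groth.Agent.H3.EtNbhdImage
import Groth.Agent.H3.FlatOfEtale
import Mathlib.RingTheory.Flat.EquationalCriterion

/-!
# An algebra over the henselization which is flat over the base is flat over the henselization
-/

set_option autoImplicit false
universe u

namespace Groth.Agent.H3

namespace HensColimFlat

open Hens2 TensorProduct

variable {A : Type u} [CommRing A] {I : Ideal A}
variable {B : Type u} [CommRing B] [Algebra A B]

/-- A `B`-algebra which is flat over `A` is flat over the henselization `B` of `(A, I)`. -/
theorem flat_of_flat (hB : IsPairHenselization A I B) (C : Type u) [CommRing C] [Algebra A C]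
    [Algebra B C] [IsScalarTower A B C] [Module.Flat A C] : Module.Flat B C := by
  classical
  rw [Module.Flat.iff_forall_isTrivialRelation]
  intro l f x hfx
  obtain ⟨A', _, _, hN, φ, hφ⟩ := EtNbhd.inImage_finset hB (Finset.univ.image f)
  have hf' : ∀ i, ∃ a' : A', φ a' = f i := fun i =>
    hφ (by simp)
  choose f' hf' using hf'
  have := hN.etale
  let _ : Algebra A' C := ((algebraMap B C).comp φ.toRingHom).toAlgebra
  have hA'C : ∀ a' : A', algebraMap A' C a' = algebraMap B C (φ a') := fun _ => rfl
  have hT : IsScalarTower A A' C := by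
    refine IsScalarTower.of_algebraMap_eq fun a => ?_
    rw [hA'C, φ.commutes, ← IsScalarTower.algebraMap_apply]
  have hflat : Module.Flat A' C := FlatOfEtale.flat_of_etale A A' C
  have hrel : ∑ i, f' i • x i = 0 := by
    rw [← hfx]
    refine Finset.sum_congr rfl fun i _ => ?_
    rw [Algebra.smul_def, Algebra.smul_def, hA'C, hf']
  obtain ⟨k, a, y, h1, h2⟩ := Module.Flat.isTrivialRelation_of_sum_smul_eq_zero hrel
  refine ⟨k, fun i j => φ (a i j), y, ?_, ?_⟩
  · intro i
    rw [h1 i]
    refine Finset.sum_congr rfl fun j _ => ?_
    rw [Algebra.smul_def, Algebra.smul_def, hA'C]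
  · intro j
    have := congrArg φ (h2 j)
    rw [map_sum, map_zero] at this
    rw [← this]
    refine Finset.sum_congr rfl fun i _ => ?_
    rw [map_mul, hf']

end HensColimFlat

end Groth.Agent.H3
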