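import Groth.Agent.H3.EtaleLiftMain
import Groth.Agent.H3.PairIdemIntegral
import Mathlib.RingTheory.TensorProduct.Quotient

/-!
# Uniqueness of lifts into unramified algebras, and maps between finite étale algebras
-/

set_option autoImplicit false
universe u

namespace Groth.Agent.H3

namespace EtaleLift

open TensorProduct

variable {A : Type u} [CommRing A] {A' : Type u} [CommRing A'] [Algebra A A']

/-- Two `A`-algebra maps from an unramified algebra which agree modulo an ideal contained in the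
Jacobson radical are equal. -/
theorem algHom_eq_of_unramified [Algebra.EssFiniteType A A'] [Algebra.FormallyUnramified A A']
    {C : Type u} [CommRing C] [Algebra A C] (J : Ideal C) (hJ : J ≤ Ideal.jacobson ⊥)
    (τ₁ τ₂ : A' →ₐ[A] C) (h : ∀ x, τ₁ x - τ₂ x ∈ J) : τ₁ = τ₂ := by
  obtain ⟨e, he, hsp⟩ : ∃ e, IsIdempotentElem e ∧
      KaehlerDifferential.ideal A A' = Ideal.span {e} :=
    (Ideal.isIdempotentElem_iff_of_fg _ (KaehlerDifferential.ideal_fg A A')).mp <|
      (Ideal.cotangent_subsingleton_iff _).mp <| inferInstanceAs <| Subsingleton Ω[A'⁄A]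
  let ψ : A' ⊗[A] A' →ₐ[A] C := Algebra.TensorProduct.lift τ₁ τ₂ (fun _ _ => Commute.all _ _)
  have hψ : ∀ x y : A', ψ (x ⊗ₜ y) = τ₁ x * τ₂ y := fun x y => by simp [ψ]
  have hker : ∀ z ∈ KaehlerDifferential.ideal A A', ψ z ∈ J := by
    intro z hz
    rw [← KaehlerDifferential.span_range_eq_ideal] at hz
    refine Submodule.span_induction ?_ ?_ ?_ ?_ hz
    · rintro _ ⟨x, rfl⟩
      rw [map_sub, hψ, hψ, map_one, map_one, one_mul, mul_one, ← neg_sub]
      exact Ideal.neg_mem_iff _ |>.mpr (h x)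
    · rw [map_zero]; exact Ideal.zero_mem _
    · intro x y _ _ hx hy; rw [map_add]; exact Ideal.add_mem _ hx hy
    · intro c x _ hx; rw [smul_eq_mul, map_mul]; exact Ideal.mul_mem_left _ _ hx
  have hc : ψ e = 0 := by
    have h1 : ψ e ∈ J := hker e (by rw [hsp]; exact Ideal.subset_span rfl)
    have h2 : IsIdempotentElem (ψ e) := he.map ψ
    have h3 : IsUnit (1 - ψ e) := isUnit_of_one_sub_mem hJ (by rwa [sub_sub_cancel])
    have h4 : (1 - ψ e) * ψ e = 0 := by rw [sub_mul, one_mul, h2.eq, sub_self]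
    exact (h3.mul_right_eq_zero).mp h4
  apply AlgHom.ext
  intro x
  have h1 : (1 : A') ⊗ₜ[A] x - x ⊗ₜ[A] (1 : A') ∈ Ideal.span {e} := by
    rw [← hsp]; exact KaehlerDifferential.one_smul_sub_smul_one_mem_ideal A x
  obtain ⟨d, hd⟩ := Ideal.mem_span_singleton'.mp h1
  have h2 := congrArg ψ hd
  rw [map_mul, hc, mul_zero, map_sub, hψ, hψ, map_one, map_one, one_mul, mul_one] at h2
  exact (sub_eq_zero.mp h2.symm).symm

section FiniteEtale

variable {I : Ideal A}

/-- Existence and uniqueness of lifts of maps from an étale algebra to an integral algebra over a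
henselian pair. -/
theorem existsUnique_lift_of_etale_of_henselian [Algebra.Etale A A']
    (B : Type u) [CommRing B] [Algebra A B] (hB : HenselianRing B (I.map (algebraMap A B)))
    (σ₀ : A' →ₐ[A] B ⧸ I.map (algebraMap A B)) :
    ∃! φ : A' →ₐ[A] B, ∀ x, Ideal.Quotient.mk (I.map (algebraMap A B)) (φ x) = σ₀ x := by
  let E := B ⊗[A] A'
  let σ : E →ₐ[B] B ⧸ I.map (algebraMap A B) :=
    Algebra.TensorProduct.lift (Algebra.ofId B _) σ₀ (fun _ _ => Commute.all _ _)
  have hσ : ∀ x : A', σ (1 ⊗ₜ x) = σ₀ x := fun x => by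
    change Algebra.TensorProduct.lift _ _ _ (1 ⊗ₜ x) = _
    rw [Algebra.TensorProduct.lift_tmul, map_one, one_mul]
  obtain ⟨τ, hτ⟩ := exists_lift_of_etale hB σ
  let φ : A' →ₐ[A] B := (τ.restrictScalars A).comp Algebra.TensorProduct.includeRight
  have hφ : ∀ x, φ x = τ (1 ⊗ₜ x) := fun x => rfl
  refine ⟨φ, ?_, ?_⟩
  · intro x
    have h1 := congrArg (fun g : E →ₐ[B] B ⧸ I.map (algebraMap A B) => g (1 ⊗ₜ x)) hτ
    simp only [AlgHom.comp_apply, Ideal.Quotient.mkₐ_eq_mk] at h1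
    rw [hφ, h1, hσ]
  · intro φ' hφ'
    apply algHom_eq_of_unramified (I.map (algebraMap A B)) hB.jac
    intro x
    rw [← Ideal.Quotient.eq, hφ', ← hσ]
    have h1 := congrArg (fun g : E →ₐ[B] B ⧸ I.map (algebraMap A B) => g (1 ⊗ₜ x)) hτ
    simp only [AlgHom.comp_apply, Ideal.Quotient.mkₐ_eq_mk] at h1
    rw [hφ, h1]

theorem existsUnique_lift_of_etale_of_isIntegral (h : HenselianRing A I) [Algebra.Etale A A']
    (B : Type u) [CommRing B] [Algebra A B] [Algebra.IsIntegral A B]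
    (σ₀ : A' →ₐ[A] B ⧸ I.map (algebraMap A B)) :
    ∃! φ : A' →ₐ[A] B, ∀ x, Ideal.Quotient.mk (I.map (algebraMap A B)) (φ x) = σ₀ x :=
  existsUnique_lift_of_etale_of_henselian B (henselianRing_of_isIntegral h B) σ₀

/-- Maps between finite étale algebras over a henselian pair are determined by, and can be lifted
from, their reductions. -/
theorem finite_etale_hom_bijective (h : HenselianRing A I)
    (B₁ B₂ : Type u) [CommRing B₁] [CommRing B₂] [Algebra A B₁] [Algebra A B₂]
    [Algebra.Etale A B₁] [Algebra.IsIntegral A B₂] :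
    Function.Bijective (fun φ : B₁ →ₐ[A] B₂ =>
      Algebra.TensorProduct.map (AlgHom.id (A ⧸ I) (A ⧸ I)) φ) := by
  let θ := Algebra.TensorProduct.quotIdealMapEquivQuotTensor (A := A) B₂ I
  have hθ : ∀ b : B₂, θ (Ideal.Quotient.mk _ b) = 1 ⊗ₜ b := fun b => rfl
  constructor
  · intro φ φ' hφφ'
    apply algHom_eq_of_unramified (I.map (algebraMap A B₂))
      (map_le_jacobson_of_isIntegral h.jac B₂)
    intro x
    rw [← Ideal.Quotient.eq]
    apply θ.injective
    rw [hθ, hθ]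
    have h1 := congrArg (fun g : (A ⧸ I) ⊗[A] B₁ →ₐ[A ⧸ I] (A ⧸ I) ⊗[A] B₂ => g (1 ⊗ₜ x)) hφφ'
    simpa using h1
  · intro χ
    let σ₀ : B₁ →ₐ[A] B₂ ⧸ I.map (algebraMap A B₂) :=
      ((θ.symm.toAlgHom.restrictScalars A).comp (χ.restrictScalars A)).comp
        Algebra.TensorProduct.includeRight
    have hσ₀ : ∀ x, θ (σ₀ x) = χ (1 ⊗ₜ x) := fun x => by simp [σ₀]
    obtain ⟨φ, hφ, -⟩ := existsUnique_lift_of_etale_of_isIntegral h B₂ σ₀
    refine ⟨φ, ?_⟩
    apply Algebra.TensorProduct.ext'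
    intro a x
    have h1 : (a ⊗ₜ[A] x : (A ⧸ I) ⊗[A] B₁) = a • (1 ⊗ₜ x) := by
      rw [TensorProduct.smul_tmul', smul_eq_mul, mul_one]
    rw [Algebra.TensorProduct.map_tmul, AlgHom.id_apply, h1, map_smul, ← hσ₀, ← hφ, hθ,
      TensorProduct.smul_tmul', smul_eq_mul, mul_one]

end FiniteEtale

end EtaleLift

end Groth.Agent.H3
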