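import Groth.Agent.H3.UnionEtale
import Mathlib.RingTheory.Etale.Weakly

/-!
# A flat union of étale images is weakly étale
-/

set_option autoImplicit false
universe u

namespace Groth.Agent.H3

namespace UnionEtale

open TensorProduct

variable {A : Type u} [CommRing A] {B : Type u} [CommRing B] [Algebra A B]

/-- base change of a union of étale images -/
theorem IsUnion.baseChange (h : IsUnion A B) (C : Type u) [CommRing C] [Algebra A C] :
    IsUnion C (C ⊗[A] B) := by
  intro x
  change x ∈ imageAlg C (C ⊗[A] B)
  induction x using TensorProduct.induction_on with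
  | zero => exact Subalgebra.zero_mem _
  | add x y hx hy => exact Subalgebra.add_mem _ hx hy
  | tmul c b =>
    obtain ⟨A', _, _, _, φ, hφ⟩ := h b
    obtain ⟨b', rfl⟩ : ∃ b', φ b' = b := hφ rfl
    refine ⟨C ⊗[A] A', inferInstance, inferInstance, inferInstance,
      Algebra.TensorProduct.map (AlgHom.id C C) φ, ?_⟩
    rintro _ rfl
    exact ⟨c ⊗ₜ b', by simp⟩

/-- A flat union of étale images is weakly étale. -/
theorem IsUnion.weaklyEtale (h : IsUnion A B) [Module.Flat A B] : Algebra.WeaklyEtale A B where
  flat := inferInstance
  flat_lmul' := by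
    have hU : IsUnion B (B ⊗[A] B) := h.baseChange B
    let _ : Algebra (B ⊗[A] B) B := (Algebra.TensorProduct.lmul' A (S := B)).toRingHom.toAlgebra
    have hT : IsScalarTower B (B ⊗[A] B) B := by
      refine IsScalarTower.of_algebraMap_eq fun b => ?_
      change b = Algebra.TensorProduct.lmul' A (S := B) (b ⊗ₜ 1)
      rw [Algebra.TensorProduct.lmul'_apply_tmul, mul_one]
    have : Module.Flat (B ⊗[A] B) B := hU.flat_of_flat B
    exact this

end UnionEtale

end Groth.Agent.H3
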