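import Mathlib.Topology.NoetherianSpace
import Mathlib.Topology.DiscreteSubset
import Mathlib.RingTheory.QuasiFinite.Basic
import Mathlib.RingTheory.LocalRing.ResidueField.Fiber
import Mathlib.RingTheory.Spectrum.Prime.Noetherian

set_option autoImplicit false
universe u

namespace Groth.Agent.H3

theorem finite_isOpen_singleton (X : Type*) [TopologicalSpace X]
    [TopologicalSpace.NoetherianSpace X] : {x : X | IsOpen ({x} : Set X)}.Finite := by
  apply (TopologicalSpace.NoetherianSpace.isCompact _).finite
  rw [isDiscrete_iff_forall_mem_exists_isOpen]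
  intro y hy
  refine ⟨{y}, hy, ?_⟩
  ext z
  simp only [Set.mem_inter_iff, Set.mem_singleton_iff, Set.mem_ofPred_eq, and_iff_left_iff_imp]
  rintro rfl
  exact hy

open TensorProduct in
/-- The set of primes over a given prime at which a finite type algebra is quasi-finite is finite. -/
theorem finite_quasiFiniteAt_primesOver (R S : Type*) [CommRing R] [CommRing S] [Algebra R S]
    [Algebra.FiniteType R S] (p : Ideal R) [p.IsPrime] :
    {q : Ideal S | ∃ (_ : q.IsPrime) (_ : q.LiesOver p), Algebra.QuasiFiniteAt R q}.Finite := by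
  have : IsNoetherianRing (p.Fiber S) :=
    Algebra.FiniteType.isNoetherianRing p.ResidueField (p.Fiber S)
  have hfin := finite_isOpen_singleton (PrimeSpectrum (p.Fiber S))
  refine (hfin.image (fun Q => Q.asIdeal.comap
    (Algebra.TensorProduct.includeRight : S →ₐ[R] p.ResidueField ⊗[R] S).toRingHom)).subset ?_
  rintro q ⟨hq, hqp, hqf⟩
  let Q : PrimeSpectrum (p.Fiber S) := PrimeSpectrum.primesOverOrderIsoFiber R S p ⟨q, hq, hqp⟩
  have hQ : Q.asIdeal.comap (Algebra.TensorProduct.includeRight :
      S →ₐ[R] p.ResidueField ⊗[R] S).toRingHom = q := by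
    have := (PrimeSpectrum.primesOverOrderIsoFiber R S p).symm_apply_apply ⟨q, hq, hqp⟩
    exact congr($(this).1)
  refine ⟨Q, ?_, hQ⟩
  have : Algebra.QuasiFiniteAt p.ResidueField Q.asIdeal :=
    Algebra.QuasiFiniteAt.baseChange q Q.asIdeal hQ.symm
  exact (Algebra.QuasiFiniteAt.isClopen_singleton (R := p.ResidueField) Q).isOpen

end Groth.Agent.H3
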