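import Groth.Agent.H3.CartIsoSplit
import Groth.Agent.H15.MTLift3
import Groth.Agent.H97.FFDescent

/-! Finite groups of multiplicative type: cocommutativity, projectivity, etale Cartier dual. -/

set_option autoImplicit false
set_option linter.style.haveILetI false
set_option linter.unusedSectionVars false
universe u
open scoped TensorProduct
open CartDual

namespace Groth.Agent.H3.CartRing

open Groth.Agent.H15.MTC Groth.Agent.H26

section tmulcomm

variable {R : Type*} [CommRing R] (S : Type*) [CommRing S] [Algebra R S]
  {B : Type*} [AddCommGroup B] [Module R B]
  {T : Type*} [AddCommGroup T] [Module R T] [Module S T] [IsScalarTower R S T]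

theorem tmul₂_comm (θ : B →ₗ[R] T) (y : B ⊗[R] B) :
    tmul₂ S θ (TensorProduct.comm R B B y) = TensorProduct.comm S T T (tmul₂ S θ y) := by
  induction y using TensorProduct.induction_on with
  | zero => simp
  | tmul a b => simp
  | add x y hx hy => simp only [map_add, hx, hy]

end tmulcomm

variable (R : Type u) [CommRing R] (A : Type u) [CommRing A] [HopfAlgebra R A]

/-- a group of multiplicative type is commutative -/
theorem isCocomm_of_isMultType (h : SGA3b.IsMultType R A) : Coalgebra.IsCocomm R A := by
  obtain ⟨ι, _, c, hc⟩ := exists_atlas R A h
  refine ⟨?_⟩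
  apply LinearMap.ext
  intro a
  rw [← sub_eq_zero]
  apply eq_zero_of_forall_tmul₂_eq_zero hc
  intro i
  rw [map_sub, sub_eq_zero, LinearMap.comp_apply]
  change tmul₂ (c i).R' (c i).L.toLinearMap (TensorProduct.comm R A A (Coalgebra.comul a)) = _
  rw [tmul₂_comm, ← (c i).isChart.coalg.comul, Coalgebra.comm_comul]

/-- a finite group of multiplicative type is locally free -/
theorem projective_of_isMultType [Module.Finite R A] (h : SGA3b.IsMultType R A) :
    Module.Projective R A := by
  obtain ⟨s, hs, hloc⟩ := h
  have key : ∀ g : s, Module.Projective (Localization.Away g.1)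
      (Localization.Away g.1 ⊗[R] A) := by
    intro g
    obtain ⟨R', _, _, hff, M, _, ⟨e⟩⟩ := hloc g.1 g.2
    haveI := hff
    haveI : Module.Projective R'
        (R' ⊗[Localization.Away g.1] (Localization.Away g.1 ⊗[R] A)) :=
      Module.Projective.of_equiv e.symm.toCoalgEquiv.toLinearEquiv
    exact (Groth.Agent.H97.FFDescent.projective_of_tensorProduct (Localization.Away g.1) R' _).2
  have hfp : Module.FinitePresentation R A :=
    Module.FinitePresentation.of_localizationSpan' s hs
      (Rₚ := fun g => Localization.Away g.1) (Mₚ := fun g => Localization.Away g.1 ⊗[R] A)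
      (fun g => TensorProduct.mk R _ A 1)
      (fun g => by haveI := key g; exact Module.finitePresentation_of_projective _ _)
  have hflat : Module.Flat R A :=
    Module.flat_of_isLocalized_span R A s hs (fun g => Localization.Away g.1 ⊗[R] A)
      (fun g => TensorProduct.mk R _ A 1)
      (fun g => by
        haveI := key g
        exact Module.Flat.trans R (Localization.Away g.1) _)
  exact Module.Flat.projective_of_finitePresentation

attribute [local instance] Algebra.TensorProduct.rightAlgebra in
/-- the Cartier dual of a finite group of multiplicative type is etale -/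
theorem etale_dual_of_isMultType [Module.Finite R A] [Module.Projective R A]
    [Coalgebra.IsCocomm R A] (h : SGA3b.IsMultType R A) : Algebra.Etale R (D R A) := by
  obtain ⟨ι, _, c, hc⟩ := exists_atlas R A h
  have hunr : Algebra.FormallyUnramified R (D R A) := by
    rw [Algebra.formallyUnramified_iff]
    refine ⟨fun p q => ?_⟩
    rw [← sub_eq_zero]
    apply eq_zero_of_forall_tmul_eq_zero hc
    intro i
    have hsub : Subsingleton ((c i).R' ⊗[R] Ω[D R A⁄R]) := by
      rcases subsingleton_or_nontrivial (c i).R' with hT | hT
      · exact Module.subsingleton (c i).R' _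
      · let b : Module.Basis (c i).N (c i).R' ((c i).R' ⊗[R] A) :=
          (MonoidAlgebra.basis (c i).N (c i).R').map (c i).isChart.bc.equiv.symm
        have hb : ∀ m, IsGroupLikeElem (c i).R' (b m) := by
          intro m
          have h1 : b m = (c i).isChart.bc.equiv.symm (MonoidAlgebra.single m 1) := by
            simp [b]
          rw [h1]
          exact isGroupLikeElem_equiv_symm (c i).isChart.coalg (c i).isChart.bc
            (MonoidAlgebra.isGroupLikeElem_single_one (R := (c i).R') (A := (c i).R') m)
        haveI := isFiniteSplit_of_basis R A (c i).R' b hb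
        have hu : Algebra.FormallyUnramified (c i).R' ((c i).R' ⊗[R] D R A) := inferInstance
        rw [Algebra.formallyUnramified_iff] at hu
        exact (KaehlerDifferential.tensorKaehlerEquivBase R (c i).R' (D R A)
          ((c i).R' ⊗[R] D R A)).toEquiv.subsingleton
    exact Subsingleton.elim _ _
  haveI := hunr
  haveI : Module.FinitePresentation R (D R A) := Module.finitePresentation_of_projective _ _
  haveI : Algebra.FinitePresentation R (D R A) := Algebra.FinitePresentation.of_finitePresentation _ _
  exact Algebra.Etale.of_formallyUnramified_of_flat

end Groth.Agent.H3.CartRing
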