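import Groth.Agent.H3.CartBC
import Groth.Agent.H3.EtaleLiftUnique
import Groth.Agent.H79.CartBij

/-! Lifting homomorphisms between finite commutative group schemes with etale Cartier dual over a
henselian pair. -/

set_option autoImplicit false
set_option linter.style.haveILetI false
set_option linter.unusedSectionVars false
universe u
open scoped TensorProduct
open CartDual

namespace Groth.Agent.H3.CartRing

/-- Over a henselian pair `(A, I)`, every homomorphism between the reductions of two finite locally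
free commutative groups, the source of whose Cartier dual is etale, lifts. -/
theorem exists_lift_bialgHom (A : Type u) [CommRing A] (I : Ideal A) (h : HenselianRing A I)
    (B : Type u) [CommRing B] [HopfAlgebra A B] [Coalgebra.IsCocomm A B] [Module.Finite A B]
    [Module.Projective A B] [Algebra.Etale A (D A B)]
    (C : Type u) [CommRing C] [HopfAlgebra A C] [Coalgebra.IsCocomm A C] [Module.Finite A C]
    [Module.Projective A C]
    (φ₀ : ((A ⧸ I) ⊗[A] C) →ₐc[A ⧸ I] ((A ⧸ I) ⊗[A] B)) :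
    ∃ φ : C →ₐc[A] B, ∀ c : C, φ₀ ((1 : A ⧸ I) ⊗ₜ[A] c) = (1 : A ⧸ I) ⊗ₜ[A] (φ c) := by
  let χ : (A ⧸ I) ⊗[A] D A B →ₐ[A ⧸ I] (A ⧸ I) ⊗[A] D A C :=
    ((bcEquiv A C (A ⧸ I)).symm.toAlgHom.comp
      ((CartDual.transpose (A ⧸ I) φ₀ :
        D (A ⧸ I) ((A ⧸ I) ⊗[A] B) →ₐc[A ⧸ I] D (A ⧸ I) ((A ⧸ I) ⊗[A] C)) :
        D (A ⧸ I) ((A ⧸ I) ⊗[A] B) →ₐ[A ⧸ I] D (A ⧸ I) ((A ⧸ I) ⊗[A] C))).comp
      (bcEquiv A B (A ⧸ I)).toAlgHom
  have hχ : ∀ (y : (A ⧸ I) ⊗[A] D A B) (g : (A ⧸ I) ⊗[A] C),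
      Pg A C (A ⧸ I) g (χ y) = Pg A B (A ⧸ I) (φ₀ g) y := by
    intro y g
    rw [← bcEquiv_apply, ← bcEquiv_apply]
    simp [χ]
  haveI : Algebra.IsIntegral A (D A C) := inferInstance
  obtain ⟨ψ, hψ⟩ := (Groth.Agent.H3.EtaleLift.finite_etale_hom_bijective h (D A B) (D A C)).2 χ
  have hψ1 : ∀ e : D A B, χ ((1 : A ⧸ I) ⊗ₜ[A] e) = (1 : A ⧸ I) ⊗ₜ[A] ψ e := by
    intro e
    rw [← hψ]
    simp
  have key : ∀ (e : D A B) (c : C),
      Ideal.Quotient.mk I (ψ e c) = pair e (φ₀ ((1 : A ⧸ I) ⊗ₜ[A] c)) := by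
    intro e c
    have h1 := hχ ((1 : A ⧸ I) ⊗ₜ[A] e) ((1 : A ⧸ I) ⊗ₜ[A] c)
    rw [hψ1, Pg_tmul, Pg_tmul, one_mul, one_mul, pair_tmul] at h1
    rw [← h1, Algebra.smul_def, mul_one]
    rfl
  have hcounit : (Bialgebra.counitAlgHom A (D A C)).comp ψ = Bialgebra.counitAlgHom A (D A B) := by
    apply Groth.Agent.H3.EtaleLift.algHom_eq_of_unramified I h.jac
    intro e
    rw [← Ideal.Quotient.eq]
    have h1 : φ₀ ((1 : A ⧸ I) ⊗ₜ[A] (1 : C)) = (1 : A ⧸ I) ⊗ₜ[A] (1 : B) := by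
      rw [← Algebra.TensorProduct.one_def, map_one, Algebra.TensorProduct.one_def]
    rw [AlgHom.comp_apply, Bialgebra.counitAlgHom_apply, Bialgebra.counitAlgHom_apply,
      CartDual.coalgebra_counit_apply, CartDual.coalgebra_counit_apply, key e 1, h1, pair_tmul,
      Algebra.smul_def, mul_one]
    rfl
  have hL : ∀ (c c' : C) (y : D A B ⊗[A] D A B),
      Ideal.Quotient.mk I (ev₂ A C (TensorProduct.map ψ.toLinearMap ψ.toLinearMap y) (c ⊗ₜ c')) =
        pairq A B (A ⧸ I) (φ₀ ((1 : A ⧸ I) ⊗ₜ[A] c)) (φ₀ ((1 : A ⧸ I) ⊗ₜ[A] c')) y := by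
    intro c c' y
    induction y using TensorProduct.induction_on with
    | zero => simp
    | tmul x x' =>
      rw [TensorProduct.map_tmul, ev₂_tmul, map_mul, pairq_tmul, AlgHom.toLinearMap_apply,
        AlgHom.toLinearMap_apply, key, key]
    | add y y' hy hy' =>
      rw [map_add, map_add, LinearMap.add_apply, map_add, hy, hy', map_add]
  have hcomul : (Algebra.TensorProduct.map ψ ψ).comp (Bialgebra.comulAlgHom A (D A B)) =
      (Bialgebra.comulAlgHom A (D A C)).comp ψ := by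
    apply Groth.Agent.H3.EtaleLift.algHom_eq_of_unramified
      (I.map (algebraMap A (D A C ⊗[A] D A C)))
      (Groth.Agent.H3.map_le_jacobson_of_isIntegral h.jac _)
    intro e
    have hmem : (Algebra.TensorProduct.map ψ ψ) (Coalgebra.comul (R := A) e) -
        Coalgebra.comul (R := A) (ψ e) ∈ I • (⊤ : Submodule A (D A C ⊗[A] D A C)) := by
      apply mem_smul_top_of_ev₂
      intro c c'
      rw [← Ideal.Quotient.eq_zero_iff_mem, map_sub, LinearMap.sub_apply, map_sub, sub_eq_zero]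
      have h1 : (Algebra.TensorProduct.map ψ ψ) (Coalgebra.comul (R := A) e) =
          TensorProduct.map ψ.toLinearMap ψ.toLinearMap (Coalgebra.comul (R := A) e) := rfl
      rw [h1, hL, pairq_comul, CartDual.comul_def, ev₂_comul_tmul, key, ← map_mul,
        Algebra.TensorProduct.tmul_mul_tmul, one_mul]
    have h3 : (I • (⊤ : Submodule A (D A C ⊗[A] D A C))) =
        (I.map (algebraMap A (D A C ⊗[A] D A C))).restrictScalars A :=
      Ideal.smul_top_eq_map (R := A) (S := D A C ⊗[A] D A C) I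
    rw [h3] at hmem
    exact hmem
  let ψc : D A B →ₐc[A] D A C := BialgHom.ofAlgHom ψ hcounit hcomul
  have hψc : ∀ e : D A B, ψc e = ψ e := fun e => rfl
  refine ⟨Groth.Agent.H79.untranspose A C B ψc, fun c => ?_⟩
  apply eq_of_pair_eq
  intro x
  rw [pair_tmul, Groth.Agent.H79.untranspose_spec, hψc, ← key, Algebra.smul_def, mul_one]
  rfl

end Groth.Agent.H3.CartRing
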