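import Mathlib.RingTheory.Henselian
import Mathlib.RingTheory.Etale.StandardEtale
import Mathlib.RingTheory.Unramified.LocalStructure
import Mathlib.RingTheory.LocalRing.ResidueField.Ideal
import Mathlib.RingTheory.Localization.Away.Basic

set_option autoImplicit false
universe u

namespace Groth.Agent.H3

open Polynomial IsLocalRing

section StdEtale

variable {R : Type*} [CommRing R] {S : Type*} [CommRing S] [HenselianLocalRing S] [Algebra R S]
  {B : Type*} [CommRing B] [Algebra R B]

/-- Over a henselian local ring, points of a standard etale algebra with values in the residue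
field lift uniquely. -/
theorem existsUnique_lift_of_standardEtalePresentation (P : StandardEtalePresentation R B)
    (σ : B →ₐ[R] ResidueField S) :
    ∃! φ : B →ₐ[R] S, (IsScalarTower.toAlgHom R S (ResidueField S)).comp φ = σ := by
  have hx₀ : P.HasMap (σ P.x) := P.hasMap.map σ
  have hmonic : (P.f.map (algebraMap R S)).Monic := P.monic_f.map _
  have h1 : aeval (σ P.x) (P.f.map (algebraMap R S)) = 0 := by
    rw [aeval_map_algebraMap]; exact hx₀.1
  have h2 : aeval (σ P.x) (derivative (P.f.map (algebraMap R S))) ≠ 0 := by
    rw [derivative_map, aeval_map_algebraMap]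
    exact hx₀.isUnit_derivative_f.ne_zero
  have hH := ((HenselianLocalRing.TFAE S).out 0 1).mp ‹HenselianLocalRing S›
  obtain ⟨s, hs, hsx⟩ := hH _ hmonic _ h1 h2
  have hsmap : P.HasMap s := by
    refine ⟨?_, ?_⟩
    · rw [← hs.eq_zero, eval_map, aeval_def]
    · have : IsUnit (residue S (aeval s P.g)) := by
        have := hx₀.2
        rw [← hsx] at this
        have e : aeval (residue S s) P.g = residue S (aeval s P.g) := by
          rw [← ResidueField.algebraMap_eq, ← aeval_algebraMap_apply]
        rwa [e] at this
      exact isUnit_of_map_unit (residue S) _ this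
  have hφx : ((P.lift s hsmap).comp P.equivRing.toAlgHom) P.x = s := by simp
  refine ⟨(P.lift s hsmap).comp P.equivRing.toAlgHom, ?_, ?_⟩
  · apply P.hom_ext
    rw [AlgHom.comp_apply, hφx]
    exact hsx
  · intro ψ hψ
    apply P.hom_ext
    rw [hφx]
    have hψx : P.HasMap (ψ P.x) := P.hasMap.map ψ
    have hres : residue S (ψ P.x) = residue S s := by
      rw [hsx, ← hψ]; rfl
    have e1 : (P.f.map (algebraMap R S)).eval (ψ P.x) = 0 := by
      rw [eval_map, ← aeval_def]; exact hψx.1
    have e3 : IsUnit ((derivative (P.f.map (algebraMap R S))).eval (ψ P.x)) := by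
      rw [derivative_map, eval_map, ← aeval_def]; exact hψx.isUnit_derivative_f
    refine IsLocalRing.eq_of_eval_eq_zero_of_not_isUnit_sub e1 hs.eq_zero ?_ e3
    rw [← mem_nonunits_iff, ← mem_maximalIdeal, ← Ideal.Quotient.eq_zero_iff_mem, map_sub,
      sub_eq_zero]
    exact hres

end StdEtale

end Groth.Agent.H3
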