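import Mathlib

/-!
# Topological lemmas on finite closed covers and connectedness

* `reflTransGen_inter_nonempty`: in a preconnected space covered by finitely many nonempty closed
  sets, the intersection graph of the cover is connected.
* `preconnectedSpace_of_cover`: a space covered by preconnected sets with connected intersection
  graph is preconnected.
-/

set_option autoImplicit false

namespace Groth.Agent.H3.GenConn

open Relation

/-- In a preconnected space covered by finitely many nonempty closed sets, any two members of the
cover are joined by a chain of members with consecutive nonempty intersections. -/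
theorem reflTransGen_inter_nonempty {W : Type*} [TopologicalSpace W] [PreconnectedSpace W]
    {ι : Type*} [Finite ι] (Z : ι → Set W) (hcl : ∀ i, IsClosed (Z i))
    (hne : ∀ i, (Z i).Nonempty) (hcov : ⋃ i, Z i = Set.univ) (i j : ι) :
    ReflTransGen (fun a b => (Z a ∩ Z b).Nonempty) i j := by
  classical
  set R : ι → ι → Prop := fun a b => (Z a ∩ Z b).Nonempty with hR
  let A : Set W := ⋃ k ∈ {k | ReflTransGen R i k}, Z k
  let B : Set W := ⋃ k ∈ {k | ¬ ReflTransGen R i k}, Z k
  have hA : IsClosed A := (Set.toFinite _).isClosed_biUnion fun k _ => hcl k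
  have hB : IsClosed B := (Set.toFinite _).isClosed_biUnion fun k _ => hcl k
  have hAB : A = Bᶜ := by
    ext x
    constructor
    · intro hxA hxB
      simp only [A, B, Set.mem_iUnion, Set.mem_setOf_eq, exists_prop] at hxA hxB
      obtain ⟨k, hk, hxk⟩ := hxA
      obtain ⟨l, hl, hxl⟩ := hxB
      exact hl (hk.tail ⟨x, hxk, hxl⟩)
    · intro hxB
      have hx : x ∈ ⋃ k, Z k := hcov ▸ Set.mem_univ x
      obtain ⟨k, hxk⟩ := Set.mem_iUnion.mp hx
      by_cases hk : ReflTransGen R i k
      · exact Set.mem_biUnion (show k ∈ {k | ReflTransGen R i k} from hk) hxk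
      · exact absurd (Set.mem_biUnion (show k ∈ {k | ¬ ReflTransGen R i k} from hk) hxk) hxB
  have hclopen : IsClopen A := ⟨hA, hAB ▸ hB.isOpen_compl⟩
  have hAuniv : A = Set.univ := by
    rcases isClopen_iff.mp hclopen with h | h
    · obtain ⟨x, hx⟩ := hne i
      have : x ∈ A := Set.mem_biUnion (show i ∈ {k | ReflTransGen R i k} from .refl) hx
      rw [h] at this
      exact absurd this (Set.notMem_empty x)
    · exact h
  obtain ⟨x, hx⟩ := hne j
  have hxA : x ∈ A := hAuniv ▸ Set.mem_univ x
  simp only [A, Set.mem_iUnion, Set.mem_setOf_eq, exists_prop] at hxA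
  obtain ⟨k, hk, hxk⟩ := hxA
  exact hk.tail ⟨x, hxk, hx⟩

/-- A space covered by preconnected sets whose intersection graph is connected is preconnected. -/
theorem preconnectedSpace_of_cover {W : Type*} [TopologicalSpace W]
    {ι : Type*} (S : ι → Set W) (hS : ∀ i, IsPreconnected (S i))
    (hcov : ⋃ i, S i = Set.univ)
    (hgraph : ∀ i j, ReflTransGen (fun a b => (S a ∩ S b).Nonempty) i j) :
    PreconnectedSpace W :=
  ⟨hcov ▸ IsPreconnected.iUnion_of_reflTransGen hS hgraph⟩

/-- Transport of a chain along an implication between relations. -/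
theorem reflTransGen_mono' {ι : Type*} {R R' : ι → ι → Prop} (h : ∀ a b, R a b → R' a b)
    {i j : ι} (hij : ReflTransGen R i j) : ReflTransGen R' i j :=
  ReflTransGen.mono h _ _ hij

end Groth.Agent.H3.GenConn
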