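import Mathlib
import Groth.Agent.H3.GenConnTop

/-!
# Geometric irreducibility / connectedness: two assembly lemmas

* `geomIrred_of_surjective`: geometric irreducibility passes along a surjection over the base.
* `geomConn_of_cover`: a scheme over a one-point base which is covered by finitely many
  (indeed any family of) geometrically irreducible pieces whose intersection graph is connected is
  geometrically connected.
-/

set_option autoImplicit false

universe u

open AlgebraicGeometry CategoryTheory Limits

namespace Groth.Agent.H3.GenConn

/-- Geometric irreducibility passes along a surjective morphism over the base. -/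
theorem geomIrred_of_surjective {A B S : Scheme.{u}} (p : A ⟶ S) (q : B ⟶ S) (h : B ⟶ A)
    (hfac : h ≫ p = q) [Surjective h] [GeometricallyIrreducible q] :
    GeometricallyIrreducible p := by
  refine ⟨geometrically_iff_of_isClosedUnderIsomorphisms.mpr fun K _ y => ?_⟩
  haveI : IrreducibleSpace ↥(pullback q y) :=
    GeometricallyIrreducible.geometrically_irreducibleSpace _ _ _ (.of_hasPullback q y)
  let m : pullback q y ⟶ pullback p y :=
    pullback.map q y p y h (𝟙 _) (𝟙 _) (by simp [hfac]) (by simp)
  have hm : Set.range m = Set.univ := by
    rw [Scheme.Pullback.range_map]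
    simp [Set.range_eq_univ.mpr h.surjective]
  have h1 : IsIrreducible (Set.range m) := by
    rw [← Set.image_univ]
    exact (IrreducibleSpace.isIrreducible_univ _).image _ m.continuous.continuousOn
  rw [hm] at h1
  exact (irreducibleSpace_def _).mpr h1

/-- A scheme over a one-point base covered by geometrically irreducible pieces with connected
intersection graph is geometrically connected. -/
theorem geomConn_of_cover {W S : Scheme.{u}} (q : W ⟶ S) [Subsingleton S]
    {ι : Type*} [Nonempty ι] (C : ι → Scheme.{u}) (c : ∀ i, C i ⟶ W)
    (hirr : ∀ i, GeometricallyIrreducible (c i ≫ q))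
    (hcov : ⋃ i, Set.range (c i) = Set.univ)
    (hgraph : ∀ i j, Relation.ReflTransGen
      (fun a b => (Set.range (c a) ∩ Set.range (c b)).Nonempty) i j) :
    GeometricallyConnected q := by
  refine ⟨geometrically_iff_of_isClosedUnderIsomorphisms.mpr fun K _ y => ?_⟩
  -- the projection to `W` is surjective
  haveI : Surjective y := by
    refine ⟨fun s => ?_⟩
    obtain ⟨t⟩ : Nonempty ↥(Spec (.of K)) := inferInstance
    exact ⟨t, Subsingleton.elim _ _⟩
  have hπ : Function.Surjective (pullback.fst q y) := (pullback.fst q y).surjective
  let m : ∀ i, pullback (c i ≫ q) y ⟶ pullback q y := fun i =>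
    pullback.map (c i ≫ q) y q y (c i) (𝟙 _) (𝟙 _) (by simp) (by simp)
  have hm : ∀ i, Set.range (m i) = (pullback.fst q y) ⁻¹' Set.range (c i) := by
    intro i
    rw [Scheme.Pullback.range_map]
    simp
  have hirr' : ∀ i, IsIrreducible (Set.range (m i)) := by
    intro i
    haveI := hirr i
    haveI : IrreducibleSpace ↥(pullback (c i ≫ q) y) :=
      GeometricallyIrreducible.geometrically_irreducibleSpace _ _ _ (.of_hasPullback _ y)
    rw [← Set.image_univ]
    exact (IrreducibleSpace.isIrreducible_univ _).image _ (m i).continuous.continuousOn
  haveI : PreconnectedSpace ↥(pullback q y) := by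
    refine preconnectedSpace_of_cover (fun i => Set.range (m i))
      (fun i => (hirr' i).isPreirreducible.isPreconnected) ?_ ?_
    · simp only [hm]
      rw [← Set.preimage_iUnion, hcov, Set.preimage_univ]
    · intro i j
      refine reflTransGen_mono' ?_ (hgraph i j)
      intro a b ⟨w, hwa, hwb⟩
      obtain ⟨z, rfl⟩ := hπ w
      exact ⟨z, by rw [hm]; exact hwa, by rw [hm]; exact hwb⟩
  haveI : Nonempty ↥(pullback q y) := by
    obtain ⟨i⟩ : Nonempty ι := inferInstance
    exact (hirr' i).nonempty.to_subtype.map Subtype.val
  exact { toNonempty := inferInstance }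

end Groth.Agent.H3.GenConn
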