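import Mathlib
import Groth.Agent.H3.GenConnFibre
import Groth.Agent.S9764

/-!
# Closures of closed subsets of the generic fibre

For `f : X ⟶ Y` with `Y` irreducible and a closed subset `Z` of the generic fibre, the closure of
`Z` in `X` with its reduced induced structure is a closed subscheme `closι f Z` of `X` whose generic
fibre is (topologically) `Z`. If the reduced induced structure on `Z` is geometrically irreducible
over the residue field of the generic point, so is the generic fibre of `closι f Z ≫ f`.
-/

set_option autoImplicit false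

universe u

open AlgebraicGeometry CategoryTheory Limits TopologicalSpace

namespace Groth.Agent.H3.GenConn

/-- The statement of S0419 (geometric irreducibility spreads out from the generic fibre). -/
def CoreHyp : Prop :=
  ∀ {X Y : Scheme.{u}} (f : X ⟶ Y) [IrreducibleSpace ↑Y] [LocallyOfFiniteType f] [QuasiCompact f]
    (_ : GeometricallyIrreducible (f.fiberToSpecResidueField (genericPoint ↑Y))),
    ∃ V : Y.Opens, (V : Set ↑Y).Nonempty ∧ GeometricallyIrreducible (f ∣_ V)

/-- A nonempty open subset of an irreducible space contains the generic point. -/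
theorem genericPoint_mem_of_nonempty {Y : Type*} [TopologicalSpace Y] [IrreducibleSpace Y]
    [QuasiSober Y] {V : Set Y} (hV : IsOpen V) (hne : V.Nonempty) : genericPoint Y ∈ V := by
  rw [(genericPoint_spec Y).mem_open_set_iff hV]
  simpa using hne

/-- Pointwise form of the core hypothesis. -/
theorem core_pointwise (core : CoreHyp.{u}) {X Y : Scheme.{u}} (f : X ⟶ Y) [IrreducibleSpace ↑Y]
    [LocallyOfFiniteType f] [QuasiCompact f]
    (h : GeometricallyIrreducible (f.fiberToSpecResidueField (genericPoint ↑Y))) :
    ∃ V : Y.Opens, genericPoint ↑Y ∈ V ∧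
      ∀ y ∈ V, GeometricallyIrreducible (f.fiberToSpecResidueField y) := by
  obtain ⟨V, hVne, hV⟩ := core f h
  refine ⟨V, genericPoint_mem_of_nonempty V.isOpen hVne, fun y hy => ?_⟩
  have hE := Groth.Agent.S9764.result f V.ι (f ∣_ V) (f ⁻¹ᵁ V).ι
    (isPullback_morphismRestrict f V).flip
  have h1 : (⟨y, hy⟩ : ↥V) ∈ {y' : ↑(V : Scheme.{u}) |
      GeometricallyIrreducible ((f ∣_ V).fiberToSpecResidueField y')} := by
    show GeometricallyIrreducible ((f ∣_ V).fiberToSpecResidueField ⟨y, hy⟩)
    infer_instance
  rw [hE] at h1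
  exact h1

variable {X Y : Scheme.{u}} (f : X ⟶ Y) (η : Y)

/-- The closure in `X` of a subset of the fibre over `η`. -/
noncomputable def clos (Z : Set ↑(f.fiber η)) : Closeds ↑X :=
  Closeds.closure (f.fiberι η '' Z)

/-- The reduced induced closed subscheme on the closure of a subset of the fibre over `η`. -/
noncomputable abbrev closι (Z : Set ↑(f.fiber η)) :
    (Scheme.IdealSheafData.vanishingIdeal (clos f η Z)).subscheme ⟶ X :=
  (Scheme.IdealSheafData.vanishingIdeal (clos f η Z)).subschemeι

theorem range_closι (Z : Set ↑(f.fiber η)) :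
    Set.range (closι f η Z) = closure (f.fiberι η '' Z) := by
  rw [Scheme.IdealSheafData.range_subschemeι, Scheme.IdealSheafData.coe_support_vanishingIdeal]
  rfl

/-- A point of the fibre over `η` in the closure of a closed subset of that fibre lies in it. -/
theorem mem_image_of_mem_closure {Z : Set ↑(f.fiber η)} (hZ : IsClosed Z) {x : X}
    (hx : x ∈ closure (f.fiberι η '' Z)) (hfx : f x = η) :
    x ∈ f.fiberι η '' Z := by
  have hxr : x ∈ Set.range (f.fiberι η) := by
    rw [f.range_fiberι]; exact hfx
  obtain ⟨w, rfl⟩ := hxr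
  refine ⟨w, ?_, rfl⟩
  have hind : Topology.IsInducing (f.fiberι η) := (f.fiberι η).isEmbedding.isInducing
  have : w ∈ closure Z := by
    rw [hind.closure_eq_preimage_closure_image]; exact hx
  rwa [hZ.closure_eq] at this

/-- If the reduced induced structure on a closed subset `Z` of the fibre over `η` is geometrically
irreducible, so is the fibre over `η` of the closure of `Z`. -/
theorem geomIrr_clos_fiber {Z : Set ↑(f.fiber η)} (hZ : IsClosed Z)
    (h : GeometricallyIrreducible
      ((Scheme.IdealSheafData.vanishingIdeal (⟨Z, hZ⟩ : Closeds _)).subschemeι ≫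
        f.fiberToSpecResidueField η)) :
    GeometricallyIrreducible ((closι f η Z ≫ f).fiberToSpecResidueField η) := by
  let Zc : Closeds ↑(f.fiber η) := ⟨Z, hZ⟩
  let bι := (Scheme.IdealSheafData.vanishingIdeal Zc).subschemeι
  have hker : (closι f η Z).ker ≤ (bι ≫ f.fiberι η).ker := by
    rw [Scheme.IdealSheafData.ker_subschemeι]
    have := Scheme.IdealSheafData.map_vanishingIdeal (f.fiberι η) Zc
    rw [Scheme.IdealSheafData.map] at this
    rw [this]
    exact le_rfl
  let h₀ := IsClosedImmersion.lift (closι f η Z) (bι ≫ f.fiberι η) hker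
  have h₀fac : h₀ ≫ closι f η Z = bι ≫ f.fiberι η := IsClosedImmersion.lift_fac _ _ hker
  let hh : (Scheme.IdealSheafData.vanishingIdeal Zc).subscheme ⟶ (closι f η Z ≫ f).fiber η :=
    pullback.lift h₀ (bι ≫ f.fiberToSpecResidueField η) (by
      rw [← Category.assoc, h₀fac, Category.assoc, Category.assoc]
      congr 1
      exact f.fiber_fac η)
  have hh_fst : hh ≫ (closι f η Z ≫ f).fiberι η = h₀ := pullback.lift_fst _ _ _
  have hh_snd : hh ≫ (closι f η Z ≫ f).fiberToSpecResidueField η =
      bι ≫ f.fiberToSpecResidueField η := pullback.lift_snd _ _ _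
  have : Surjective hh := by
    refine ⟨fun w => ?_⟩
    set t := (closι f η Z ≫ f).fiberι η w with ht
    have hft : (closι f η Z ≫ f) t = η := by
      have : t ∈ Set.range ((closι f η Z ≫ f).fiberι η) := ⟨w, rfl⟩
      rw [(closι f η Z ≫ f).range_fiberι] at this
      exact this
    have hx : closι f η Z t ∈ closure (f.fiberι η '' Z) := by
      rw [← range_closι]; exact ⟨t, rfl⟩
    have hfx : f (closι f η Z t) = η := by
      rw [← Scheme.Hom.comp_apply]; exact hft
    obtain ⟨z, hzZ, hz⟩ := mem_image_of_mem_closure f η hZ hx hfx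
    have hzr : z ∈ Set.range bι := by
      rw [Scheme.IdealSheafData.range_subschemeι,
        Scheme.IdealSheafData.coe_support_vanishingIdeal]
      exact hzZ
    obtain ⟨b, rfl⟩ := hzr
    refine ⟨b, ?_⟩
    apply ((closι f η Z ≫ f).fiberι η).isEmbedding.injective
    rw [← Scheme.Hom.comp_apply, hh_fst]
    apply (closι f η Z).isEmbedding.injective
    rw [← Scheme.Hom.comp_apply, h₀fac, Scheme.Hom.comp_apply, hz]
  exact geomIrred_of_surjective _ _ hh hh_snd

end Groth.Agent.H3.GenConn
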