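import Mathlib
import Groth.Agent.H3.GenConnClos
import Groth.Agent.H20.GenFibreImage

/-!
# Geometric connectedness spreads out from the generic fibre (given the irreducible case)

`exists_open_geomConn`: let `f : X ⟶ Y` be of finite type with `Y` irreducible. Assume that
geometric irreducibility spreads out from the generic fibre (`CoreHyp`, the statement of S0419), that
all irreducible components of the generic fibre of `f` are geometrically irreducible
(`CompGeomIrr f`) and that the generic fibre is geometrically connected. Then the fibres of `f` over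
an open neighbourhood of the generic point are geometrically connected.
-/

set_option autoImplicit false

universe u

open AlgebraicGeometry CategoryTheory Limits TopologicalSpace

namespace Groth.Agent.H3.GenConn

variable {X Y : Scheme.{u}} (f : X ⟶ Y)

/-- The fibres of a morphism of finite type have finitely many irreducible components. -/
theorem finite_irreducibleComponents_fiber [LocallyOfFiniteType f] [QuasiCompact f] (y : Y) :
    (irreducibleComponents ↑(f.fiber y)).Finite := by
  haveI : LocallyOfFiniteType (f.fiberToSpecResidueField y) :=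
    MorphismProperty.pullback_snd _ _ inferInstance
  haveI := LocallyOfFiniteType.isLocallyNoetherian (f.fiberToSpecResidueField y)
  haveI : IsNoetherian (f.fiber y) := { }
  exact NoetherianSpace.finite_irreducibleComponents

/-- The closure of a fibre is the union of the closures of its irreducible components. -/
theorem closure_fiber_eq [LocallyOfFiniteType f] [QuasiCompact f] (y : Y) :
    closure (f ⁻¹' {y}) =
      ⋃ Z ∈ irreducibleComponents ↑(f.fiber y), closure (f.fiberι y '' Z) := by
  rw [← (finite_irreducibleComponents_fiber f y).closure_biUnion, ← f.range_fiberι y,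
    ← Set.image_univ, ← sUnion_irreducibleComponents, Set.sUnion_eq_biUnion, Set.image_iUnion₂]

variable [IrreducibleSpace ↑Y]

/-- Every irreducible component of the generic fibre, with its reduced induced structure, is
geometrically irreducible (the conclusion of S1357). -/
def CompGeomIrr : Prop :=
  ∀ (Z : Set ↑(f.fiber (genericPoint ↑Y)))
    (hZ : Z ∈ irreducibleComponents ↑(f.fiber (genericPoint ↑Y))),
    GeometricallyIrreducible ((Scheme.IdealSheafData.vanishingIdeal
      (⟨Z, isClosed_of_mem_irreducibleComponents Z hZ⟩ : Closeds _)).subschemeι ≫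
        f.fiberToSpecResidueField (genericPoint ↑Y))

/-- The comparison map from the fibre of a closed subscheme to the fibre of the ambient scheme. -/
noncomputable def fiberMap {T : Scheme.{u}} (i : T ⟶ X) (y : Y) : (i ≫ f).fiber y ⟶ f.fiber y :=
  pullback.map (i ≫ f) (Y.fromSpecResidueField y) f (Y.fromSpecResidueField y) i (𝟙 _) (𝟙 _)
    (by simp) (by simp)

theorem fiberMap_toSpec {T : Scheme.{u}} (i : T ⟶ X) (y : Y) :
    fiberMap f i y ≫ f.fiberToSpecResidueField y = (i ≫ f).fiberToSpecResidueField y :=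
  (pullback.lift_snd _ _ _).trans (Category.comp_id _)

theorem range_fiberMap {T : Scheme.{u}} (i : T ⟶ X) (y : Y) :
    Set.range (fiberMap f i y) = (f.fiberι y) ⁻¹' Set.range i := by
  refine (Scheme.Pullback.range_map (i ≫ f) (Y.fromSpecResidueField y) f
    (Y.fromSpecResidueField y) i (𝟙 _) (𝟙 _) (by simp) (by simp)).trans ?_
  have h1 : Set.range ⇑(𝟙 (Spec (Y.residueField y)) : Spec (Y.residueField y) ⟶ _) = Set.univ :=
    Set.range_eq_univ.mpr (fun x => ⟨x, rfl⟩)
  rw [h1, Set.preimage_univ, Set.inter_univ]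
  rfl

theorem exists_open_geomConn [LocallyOfFiniteType f] [QuasiCompact f]
    (core : CoreHyp.{u}) (hcomp : CompGeomIrr f)
    (hconn : GeometricallyConnected (f.fiberToSpecResidueField (genericPoint ↑Y))) :
    ∃ V : Y.Opens, genericPoint ↑Y ∈ V ∧
      ∀ y ∈ V, GeometricallyConnected (f.fiberToSpecResidueField y) := by
  have hfin := finite_irreducibleComponents_fiber f (genericPoint ↑Y)
  haveI : Finite ↥(irreducibleComponents ↑(f.fiber (genericPoint ↑Y))) := hfin.to_subtype
  have hclosed : ∀ Z : ↥(irreducibleComponents ↑(f.fiber (genericPoint ↑Y))), IsClosed Z.1 :=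
    fun Z => isClosed_of_mem_irreducibleComponents Z.1 Z.2
  -- the generic fibre is connected
  haveI : ConnectedSpace ↑(f.fiber (genericPoint ↑Y)) :=
    GeometricallyConnected.connectedSpace_of_subsingleton
      (f.fiberToSpecResidueField (genericPoint ↑Y))
  -- Step C: the core on the closures of the components
  have hC : ∀ Z : ↥(irreducibleComponents ↑(f.fiber (genericPoint ↑Y))), ∃ V : Y.Opens,
      genericPoint ↑Y ∈ V ∧ ∀ y ∈ V, GeometricallyIrreducible
        ((closι f (genericPoint ↑Y) Z.1 ≫ f).fiberToSpecResidueField y) := fun Z =>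
    core_pointwise core (closι f (genericPoint ↑Y) Z.1 ≫ f)
      (geomIrr_clos_fiber f (genericPoint ↑Y) (hclosed Z) (hcomp Z.1 Z.2))
  choose VC hVCη hVC using hC
  -- Step D: the closures cover over an open
  obtain ⟨V₁, hV₁ne, hV₁⟩ := Groth.Agent.H20.GenFibre.exists_open_preimage_subset_closure_fiber f
  have hV₁η : genericPoint ↑Y ∈ V₁ := genericPoint_mem_of_nonempty V₁.isOpen hV₁ne
  -- Step E: intersections of closures
  have hE : ∀ p : {p : ↥(irreducibleComponents ↑(f.fiber (genericPoint ↑Y))) ×
        ↥(irreducibleComponents ↑(f.fiber (genericPoint ↑Y))) // (p.1.1 ∩ p.2.1).Nonempty},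
      ∃ V : Y.Opens, genericPoint ↑Y ∈ V ∧ ∀ y ∈ V, ∃ x : X,
        x ∈ closure (f.fiberι (genericPoint ↑Y) '' p.1.1.1) ∧
        x ∈ closure (f.fiberι (genericPoint ↑Y) '' p.1.2.1) ∧ f x = y := by
    rintro ⟨⟨Z, Z'⟩, z, hzZ, hzZ'⟩
    let Tp : Closeds ↑X := clos f (genericPoint ↑Y) Z.1 ⊓ clos f (genericPoint ↑Y) Z'.1
    let e := (Scheme.IdealSheafData.vanishingIdeal Tp).subschemeι ≫ f
    have hrange : Set.range (Scheme.IdealSheafData.vanishingIdeal Tp).subschemeι =
        closure (f.fiberι (genericPoint ↑Y) '' Z.1) ∩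
          closure (f.fiberι (genericPoint ↑Y) '' Z'.1) := by
      rw [Scheme.IdealSheafData.range_subschemeι,
        Scheme.IdealSheafData.coe_support_vanishingIdeal]
      rfl
    have hη : genericPoint ↑Y ∈ Set.range e := by
      have hx₀ : f.fiberι (genericPoint ↑Y) z ∈
          Set.range (Scheme.IdealSheafData.vanishingIdeal Tp).subschemeι := by
        rw [hrange]
        exact ⟨subset_closure ⟨z, hzZ, rfl⟩, subset_closure ⟨z, hzZ', rfl⟩⟩
      obtain ⟨t, ht⟩ := hx₀
      refine ⟨t, ?_⟩
      show f ((Scheme.IdealSheafData.vanishingIdeal Tp).subschemeι t) = _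
      rw [ht]
      have : f.fiberι (genericPoint ↑Y) z ∈ Set.range (f.fiberι (genericPoint ↑Y)) := ⟨z, rfl⟩
      rw [f.range_fiberι] at this
      exact this
    obtain ⟨V, hVne, hV⟩ := Groth.Agent.H20.GenFibre.exists_open_subset_range e hη
    refine ⟨V, genericPoint_mem_of_nonempty V.isOpen hVne, fun y hy => ?_⟩
    obtain ⟨t, rfl⟩ := hV hy
    have ht : (Scheme.IdealSheafData.vanishingIdeal Tp).subschemeι t ∈
        Set.range (Scheme.IdealSheafData.vanishingIdeal Tp).subschemeι := ⟨t, rfl⟩
    rw [hrange] at ht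
    exact ⟨_, ht.1, ht.2, rfl⟩
  choose VE hVEη hVE using hE
  -- the open set
  let W : Set ↑Y := ((V₁ : Set ↑Y) ∩ ⋂ Z, (VC Z : Set ↑Y)) ∩ ⋂ p, (VE p : Set ↑Y)
  have hWo : IsOpen W :=
    (V₁.isOpen.inter (isOpen_iInter_of_finite fun Z => (VC Z).isOpen)).inter
      (isOpen_iInter_of_finite fun p => (VE p).isOpen)
  refine ⟨⟨W, hWo⟩, ⟨⟨hV₁η, Set.mem_iInter.mpr hVCη⟩, Set.mem_iInter.mpr hVEη⟩, fun y hy => ?_⟩
  obtain ⟨⟨hy₁, hyC⟩, hyE⟩ := hy
  rw [Set.mem_iInter] at hyC hyE
  -- Step F
  haveI : Nonempty ↥(irreducibleComponents ↑(f.fiber (genericPoint ↑Y))) := by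
    obtain ⟨w⟩ : Nonempty ↑(f.fiber (genericPoint ↑Y)) := inferInstance
    have : w ∈ ⋃₀ irreducibleComponents ↑(f.fiber (genericPoint ↑Y)) := by
      rw [sUnion_irreducibleComponents]; exact Set.mem_univ w
    obtain ⟨Z, hZ, -⟩ := this
    exact ⟨⟨Z, hZ⟩⟩
  haveI : Subsingleton ↥(Spec (Y.residueField y)) :=
    inferInstanceAs (Subsingleton (PrimeSpectrum (Y.residueField y)))
  refine geomConn_of_cover (f.fiberToSpecResidueField y)
    (fun Z : ↥(irreducibleComponents ↑(f.fiber (genericPoint ↑Y))) =>
      (closι f (genericPoint ↑Y) Z.1 ≫ f).fiber y)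
    (fun Z => fiberMap f (closι f (genericPoint ↑Y) Z.1) y) ?_ ?_ ?_
  · intro Z
    rw [fiberMap_toSpec]
    exact hVC Z y (hyC Z)
  · rw [Set.eq_univ_iff_forall]
    intro w
    have hw : f (f.fiberι y w) ∈ V₁ := by
      have : f.fiberι y w ∈ Set.range (f.fiberι y) := ⟨w, rfl⟩
      rw [f.range_fiberι] at this
      rw [show f (f.fiberι y w) = y from this]
      exact hy₁
    have h1 := hV₁ _ hw
    rw [closure_fiber_eq] at h1
    simp only [Set.mem_iUnion, exists_prop] at h1
    obtain ⟨Z, hZ, hwZ⟩ := h1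
    refine Set.mem_iUnion.mpr ⟨⟨Z, hZ⟩, ?_⟩
    rw [range_fiberMap, Set.mem_preimage, range_closι]
    exact hwZ
  · intro Z Z'
    have hgen := reflTransGen_inter_nonempty
      (fun Z : ↥(irreducibleComponents ↑(f.fiber (genericPoint ↑Y))) => Z.1) hclosed
      (fun Z => Z.2.1.nonempty)
      (by
        rw [Set.eq_univ_iff_forall]
        intro w
        have : w ∈ ⋃₀ irreducibleComponents ↑(f.fiber (genericPoint ↑Y)) := by
          rw [sUnion_irreducibleComponents]; exact Set.mem_univ w
        obtain ⟨Z, hZ, hw⟩ := this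
        exact Set.mem_iUnion.mpr ⟨⟨Z, hZ⟩, hw⟩) Z Z'
    refine reflTransGen_mono' ?_ hgen
    intro a b hab
    obtain ⟨x, hxa, hxb, hfx⟩ := hVE ⟨(a, b), hab⟩ y (hyE _)
    have hxr : x ∈ Set.range (f.fiberι y) := by
      rw [f.range_fiberι]; exact hfx
    obtain ⟨w, rfl⟩ := hxr
    refine ⟨w, ?_, ?_⟩
    · rw [range_fiberMap, Set.mem_preimage, range_closι]; exact hxa
    · rw [range_fiberMap, Set.mem_preimage, range_closι]; exact hxb

end Groth.Agent.H3.GenConn
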