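import Mathlib
import Groth.Agent.H3.GenConnMain
import Groth.Agent.S9765

/-!
# S0420 from S0419 and S1357

`s0420_of`: the statement of S0420 (geometric connectedness spreads out from the generic fibre),
assuming the statements of S0419 (`CoreHyp`) and S1357 (a finite étale cover of a nonempty open over
which the irreducible components of the generic fibre become geometrically irreducible).
-/

set_option autoImplicit false

universe u

open AlgebraicGeometry CategoryTheory Limits TopologicalSpace

namespace Groth.Agent.H3.GenConn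

/-- The statement of S1357. -/
def CoverHyp : Prop :=
  ∀ {X Y : Scheme.{u}} (f : X ⟶ Y) [IrreducibleSpace ↑Y] [LocallyOfFiniteType f] [QuasiCompact f],
    ∃ (V : Y.Opens) (Y' : Scheme.{u}) (g : Y' ⟶ (V : Scheme.{u})) (hY' : IrreducibleSpace ↑Y'), (V : Set ↑Y).Nonempty ∧ IsAffine Y' ∧ Surjective g ∧ IsFinite g ∧ Etale g ∧
      ∀ (Z : Set ↑((pullback.snd f (g ≫ V.ι)).fiber (genericPoint ↑Y'))) (hZ : Z ∈ irreducibleComponents ↑((pullback.snd f (g ≫ V.ι)).fiber (genericPoint ↑Y'))),
        GeometricallyIrreducible ((Scheme.IdealSheafData.vanishingIdeal (⟨Z, isClosed_of_mem_irreducibleComponents Z hZ⟩ : TopologicalSpace.Closeds _)).subschemeι ≫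
          (pullback.snd f (g ≫ V.ι)).fiberToSpecResidueField (genericPoint ↑Y'))

/-- A morphism between irreducible schemes whose range is dense maps the generic point to the
generic point. -/
theorem map_genericPoint_of_dense {Y' Y : Scheme.{u}} [IrreducibleSpace ↑Y'] [IrreducibleSpace ↑Y]
    (g : Y' ⟶ Y) (hg : Dense (Set.range g)) : g (genericPoint ↑Y') = genericPoint ↑Y := by
  have h1 : IsGenericPoint (g (genericPoint ↑Y')) (Set.univ : Set ↑Y) := by
    rw [IsGenericPoint, ← Set.univ_subset_iff, ← hg.closure_eq]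
    apply closure_minimal _ isClosed_closure
    rintro _ ⟨y', rfl⟩
    have h2 : y' ∈ closure ({genericPoint ↑Y'} : Set ↑Y') := by
      rw [(genericPoint_spec ↑Y').def]; exact Set.mem_univ _
    have h3 := image_closure_subset_closure_image g.continuous (Set.mem_image_of_mem g h2)
    rwa [Set.image_singleton] at h3
  exact h1.eq (genericPoint_spec ↑Y)

theorem s0420_of (core : CoreHyp.{u}) (cover : CoverHyp.{u})
    {X Y : Scheme.{u}} (f : X ⟶ Y) [IrreducibleSpace ↑Y] [LocallyOfFiniteType f] [QuasiCompact f]
    (h : GeometricallyConnected (f.fiberToSpecResidueField (genericPoint ↑Y))) :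
    ∃ V : Y.Opens, (V : Set ↑Y).Nonempty ∧ GeometricallyConnected (f ∣_ V) := by
  obtain ⟨V, Y', g, hY', hVne, -, hsurj, -, het, hZ⟩ := cover f
  let gV : Y' ⟶ Y := g ≫ V.ι
  let f' : pullback f gV ⟶ Y' := pullback.snd f gV
  have hE := Groth.Agent.S9765.result f gV f' (pullback.fst f gV) (IsPullback.of_hasPullback f gV)
  have hrange : Set.range gV = (V : Set ↑Y) := by
    show Set.range (g ≫ V.ι) = _
    rw [Scheme.Hom.comp_base, TopCat.coe_comp, Set.range_comp,
      Set.range_eq_univ.mpr g.surjective, Set.image_univ]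
    exact Scheme.Opens.range_ι V
  have hηη : gV (genericPoint ↑Y') = genericPoint ↑Y := by
    apply map_genericPoint_of_dense
    rw [hrange]
    exact V.isOpen.dense hVne
  have hconn' : GeometricallyConnected (f'.fiberToSpecResidueField (genericPoint ↑Y')) := by
    have : genericPoint ↑Y' ∈ {y' : ↑Y' | GeometricallyConnected (f'.fiberToSpecResidueField y')} := by
      rw [hE, Set.mem_preimage, hηη]
      exact h
    exact this
  obtain ⟨V', hη'V', hV'⟩ := exists_open_geomConn f' core hZ hconn'
  have hopen : IsOpenMap gV := by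
    haveI : UniversallyOpen g := inferInstance
    exact (V.ι.isOpenEmbedding.isOpenMap).comp g.isOpenMap
  let W : Y.Opens := ⟨gV '' (V' : Set ↑Y'), hopen _ V'.isOpen⟩
  have hW : ∀ y ∈ W, GeometricallyConnected (f.fiberToSpecResidueField y) := by
    rintro _ ⟨y', hy', rfl⟩
    have : y' ∈ {y' : ↑Y' | GeometricallyConnected (f'.fiberToSpecResidueField y')} := hV' y' hy'
    rw [hE] at this
    exact this
  refine ⟨W, ⟨gV (genericPoint ↑Y'), genericPoint ↑Y', hη'V', rfl⟩, ?_⟩
  rw [geometricallyConnected_iff, geometrically_iff_forall_fiberToSpecResidueField]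
  intro y
  have hE2 := Groth.Agent.S9765.result f W.ι (f ∣_ W) (f ⁻¹ᵁ W).ι
    (isPullback_morphismRestrict f W).flip
  have hy : y ∈ {y' : ↑(W : Scheme.{u}) |
      GeometricallyConnected ((f ∣_ W).fiberToSpecResidueField y')} := by
    rw [hE2]
    exact hW y.1 y.2
  exact (geometricallyConnected_iff _).mp hy

end Groth.Agent.H3.GenConn
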