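import Groth.Agent.H3.EtRetract
import Mathlib.RingTheory.Etale.StandardEtale
import Mathlib.RingTheory.Henselian
import Mathlib.FieldTheory.IsSepClosed
import Mathlib.RingTheory.Polynomial.ScaleRoots
import Mathlib.RingTheory.LocalRing.ResidueField.Ideal
import Mathlib.Algebra.Polynomial.Lifts
import Mathlib.Algebra.Polynomial.FieldDivision
import Mathlib.RingTheory.AdjoinRoot
import Mathlib.RingTheory.Localization.Integer

/-!
# Étale retractions force strictly henselian local rings at maximal ideals
-/

set_option autoImplicit false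
universe u

namespace Groth.Agent.H3

namespace EtRetract

open Polynomial

variable (A : Type u) [CommRing A]
  (h : ∀ (B : Type u) [CommRing B] [Algebra A B],
      Module.FaithfullyFlat A B → Algebra.Etale A B → Nonempty (B →ₐ[A] A))
  (m : Ideal A) [hm : m.IsMaximal]

include h in
/-- a standard étale algebra with a point in a field over `κ(m)` maps to `A_m` -/
theorem exists_algHom_of_field (P : StandardEtalePair A) (L : Type u) [Field L] [Algebra A L]
    (hker : RingHom.ker (algebraMap A L) = m) (x : L) (hx : P.HasMap x) :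
    Nonempty (P.Ring →ₐ[A] Localization.AtPrime m) := by
  let ρ := P.lift x hx
  have hq : (RingHom.ker ρ.toRingHom).comap (algebraMap A P.Ring) = m := by
    rw [← hker]
    ext a
    rw [Ideal.mem_comap, RingHom.mem_ker, RingHom.mem_ker]
    change ρ (algebraMap A P.Ring a) = 0 ↔ _
    rw [ρ.commutes]
  haveI : (RingHom.ker ρ.toRingHom).IsPrime := RingHom.ker_isPrime _
  exact exists_algHom_localization A h m P.Ring (RingHom.ker ρ.toRingHom) hq

theorem ker_algebraMap_residueField : RingHom.ker (algebraMap A m.ResidueField) = m := by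
  ext a
  rw [RingHom.mem_ker, IsScalarTower.algebraMap_apply A (A ⧸ m) m.ResidueField,
    map_eq_zero_iff _ (m.injective_algebraMap_quotient_residueField)]
  exact Ideal.Quotient.eq_zero_iff_mem

include h in
/-- simple roots in the residue field of monic polynomials over `A` lift to `A_m` -/
theorem exists_root (G : A[X]) (hG : G.Monic) (b₀ : m.ResidueField)
    (h0 : aeval b₀ G = 0) (h1 : aeval b₀ (derivative G) ≠ 0) :
    ∃ a : Localization.AtPrime m, aeval a G = 0 ∧
      IsLocalRing.residue (Localization.AtPrime m) a = b₀ := by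
  let R := Localization.AtPrime m
  let κ := m.ResidueField
  let Gb : κ[X] := G.map (algebraMap A κ)
  have hroot : Gb.IsRoot b₀ := by rw [IsRoot.def, eval_map_algebraMap]; exact h0
  obtain ⟨Hb, hHb⟩ := dvd_iff_isRoot.mpr hroot
  have hder : eval b₀ (derivative Gb) = eval b₀ Hb := by
    rw [hHb, derivative_mul]
    simp
  have hHb0 : eval b₀ Hb ≠ 0 := by
    rw [← hder, derivative_map, eval_map_algebraMap]
    exact h1
  obtain ⟨H, hH⟩ := Polynomial.map_surjective (algebraMap A κ)
    m.algebraMap_residueField_surjective Hb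
  let P : StandardEtalePair A := ⟨G, hG, derivative G * H, ⟨H, 0, 1, by ring⟩⟩
  have hevalH : ∀ c : κ, aeval c H = eval c Hb := by
    intro c
    rw [← hH, eval_map_algebraMap]
  have hmap : P.HasMap b₀ := by
    refine ⟨h0, ?_⟩
    change IsUnit (aeval b₀ (derivative G * H))
    rw [map_mul, hevalH]
    exact (mul_ne_zero h1 hHb0).isUnit
  obtain ⟨ψ⟩ := exists_algHom_of_field A h m P κ (ker_algebraMap_residueField A m) b₀ hmap
  have hψ : P.HasMap (ψ P.X) := P.hasMap_X.map ψ
  have hψ' : P.HasMap ((IsScalarTower.toAlgHom A R κ) (ψ P.X)) := hψ.map _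
  refine ⟨ψ P.X, hψ.1, ?_⟩
  set c : κ := IsLocalRing.residue R (ψ P.X) with hc
  have hc' : (IsScalarTower.toAlgHom A R κ) (ψ P.X) = c := rfl
  rw [hc'] at hψ'
  have h2 : eval c Gb = 0 := by
    rw [eval_map_algebraMap]; exact hψ'.1
  have h3 : eval c Hb ≠ 0 := by
    have h4 : IsUnit (aeval c (derivative G * H)) := hψ'.2
    rw [map_mul, hevalH] at h4
    exact right_ne_zero_of_mul h4.ne_zero
  rw [hHb, eval_mul, eval_sub, eval_X, eval_C] at h2
  rcases mul_eq_zero.mp h2 with h5 | h5
  · exact sub_eq_zero.mp h5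
  · exact absurd h5 h3

include h in
theorem isSepClosed_residueField : IsSepClosed m.ResidueField := by
  let R := Localization.AtPrime m
  let κ := m.ResidueField
  refine IsSepClosed.of_exists_root _ fun p hpm hpi hps => ?_
  have hlifts : p ∈ Polynomial.lifts (algebraMap A κ) := by
    rw [Polynomial.lifts_iff_coeff_lifts]
    intro n
    exact m.algebraMap_residueField_surjective _
  obtain ⟨G, hGmap, -, hGmonic⟩ := Polynomial.lifts_and_natDegree_eq_and_monic hlifts hpm
  let P : StandardEtalePair A := ⟨G, hGmonic, derivative G, ⟨1, 0, 1, by ring⟩⟩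
  haveI : Fact (Irreducible p) := ⟨hpi⟩
  let L := AdjoinRoot p
  have hkerL : RingHom.ker (algebraMap A L) = m := by
    have h2 := ker_algebraMap_residueField A m
    ext a
    have h3 : a ∈ m ↔ algebraMap A κ a = 0 := by rw [← RingHom.mem_ker, h2]
    rw [h3, RingHom.mem_ker, IsScalarTower.algebraMap_apply A κ L,
      map_eq_zero_iff _ (algebraMap κ L).injective]
  have haeval : ∀ q : A[X], aeval (AdjoinRoot.root p) q =
      eval₂ (AdjoinRoot.of p) (AdjoinRoot.root p) (q.map (algebraMap A κ)) := by
    intro q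
    rw [eval₂_map, aeval_def]
    congr 1
  have hmap : P.HasMap (AdjoinRoot.root p : L) := by
    refine ⟨?_, ?_⟩
    · change aeval (AdjoinRoot.root p) G = 0
      rw [haeval, hGmap, AdjoinRoot.eval₂_root]
    · change IsUnit (aeval (AdjoinRoot.root p) (derivative G))
      rw [haeval, ← derivative_map, hGmap]
      obtain ⟨a, b, hab⟩ := hps
      have h1 := congrArg (eval₂ (AdjoinRoot.of p) (AdjoinRoot.root p)) hab
      rw [eval₂_add, eval₂_mul, eval₂_mul, AdjoinRoot.eval₂_root, mul_zero, zero_add,
        eval₂_one] at h1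
      exact IsUnit.of_mul_eq_one _ (by rw [mul_comm]; exact h1)
  obtain ⟨ψ⟩ := exists_algHom_of_field A h m P L hkerL _ hmap
  have hψ' : P.HasMap ((IsScalarTower.toAlgHom A R κ) (ψ P.X)) := (P.hasMap_X.map ψ).map _
  refine ⟨(IsScalarTower.toAlgHom A R κ) (ψ P.X), ?_⟩
  rw [← hGmap, eval_map_algebraMap]
  exact hψ'.1

include h in
theorem henselianLocalRing : HenselianLocalRing (Localization.AtPrime m) := by
  classical
  let R := Localization.AtPrime m
  let κ := m.ResidueField
  refine ((HenselianLocalRing.TFAE R).out 0 1).mpr ?_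
  intro f hf a₀ h0 h1
  set n := f.natDegree with hn
  obtain ⟨s, hs⟩ := IsLocalization.exist_integer_multiples_of_finset m.primeCompl
    ((Finset.range (n + 1)).image f.coeff)
  set u : R := algebraMap A R s with hu
  have huu : IsUnit u := IsLocalization.map_units R s
  let F := scaleRoots f u
  have hFm : F.Monic := (monic_scaleRoots_iff u).mpr hf
  have hlifts : F ∈ Polynomial.lifts (algebraMap A R) := by
    rw [Polynomial.lifts_iff_coeff_lifts]
    intro i
    rw [coeff_scaleRoots]
    rcases lt_trichotomy i n with hi | hi | hi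
    · obtain ⟨c, hc⟩ := hs (f.coeff i) (Finset.mem_image_of_mem _ (Finset.mem_range.mpr (by omega)))
      obtain ⟨k, hk⟩ : ∃ k, n - i = k + 1 := ⟨n - i - 1, by omega⟩
      refine ⟨c * s ^ k, ?_⟩
      rw [map_mul, hc, map_pow, Algebra.smul_def, ← hu]
      rw [← hn, hk, pow_succ]
      ring
    · refine ⟨1, ?_⟩
      rw [hi, hn, map_one, Nat.sub_self, pow_zero, mul_one]
      exact hf.coeff_natDegree.symm
    · refine ⟨0, ?_⟩
      rw [map_zero, coeff_eq_zero_of_natDegree_lt hi, zero_mul]
  obtain ⟨G, hGmap, -, hGmonic⟩ := Polynomial.lifts_and_natDegree_eq_and_monic hlifts hFm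
  -- the residue polynomial
  set ub : κ := IsLocalRing.residue R u with hub
  have hub0 : ub ≠ 0 := by
    have := huu.map (IsLocalRing.residue R)
    exact this.ne_zero
  let fb : κ[X] := f.map (IsLocalRing.residue R)
  have hfbm : fb.Monic := hf.map _
  have hGb : G.map (algebraMap A κ) = scaleRoots fb ub := by
    have h2 : G.map (algebraMap A κ) = (G.map (algebraMap A R)).map (IsLocalRing.residue R) := by
      rw [Polynomial.map_map]
      rfl
    rw [h2, hGmap]
    exact map_scaleRoots f u (IsLocalRing.residue R) (by rw [hf.leadingCoeff, map_one]; exact one_ne_zero)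
  have hfb0 : fb.IsRoot a₀ := by
    rw [IsRoot.def]
    have : eval a₀ fb = aeval a₀ f := by
      rw [aeval_def, eval_map]
      rfl
    rw [this]; exact h0
  have hfb1 : ¬ (derivative fb).IsRoot a₀ := by
    rw [IsRoot.def]
    have : eval a₀ (derivative fb) = aeval a₀ (derivative f) := by
      rw [aeval_def, derivative_map, eval_map]
      rfl
    rw [this]; exact h1
  have hmult : ¬ 1 < fb.rootMultiplicity a₀ := by
    rw [one_lt_rootMultiplicity_iff_isRoot hfbm.ne_zero]
    exact fun hh => hfb1 hh.2
  have hmult' : ¬ 1 < (scaleRoots fb ub).rootMultiplicity (ub * a₀) := by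
    rw [rootMultiplicity_scaleRoots fb (isRegular_of_ne_zero hub0).left]
    exact hmult
  have hsr0 : (scaleRoots fb ub).IsRoot (ub * a₀) := by
    rw [IsRoot.def, scaleRoots_eval_mul, hfb0, mul_zero]
  have hsr1 : ¬ (derivative (scaleRoots fb ub)).IsRoot (ub * a₀) := by
    intro hh
    apply hmult'
    rw [one_lt_rootMultiplicity_iff_isRoot (scaleRoots_ne_zero hfbm.ne_zero _)]
    exact ⟨hsr0, hh⟩
  have hG0 : aeval (ub * a₀) G = 0 := by
    rw [← eval_map_algebraMap, hGb]; exact hsr0
  have hG1 : aeval (ub * a₀) (derivative G) ≠ 0 := by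
    rw [← eval_map_algebraMap, ← derivative_map, hGb]; exact hsr1
  obtain ⟨a', ha', hra'⟩ := exists_root A h m G hGmonic (ub * a₀) hG0 hG1
  obtain ⟨v, hv⟩ := huu.exists_left_inv
  refine ⟨v * a', ?_, ?_⟩
  · have h3 : eval (u * (v * a')) F = u ^ f.natDegree * eval (v * a') f :=
      scaleRoots_eval_mul f (v * a') u
    have h4 : u * (v * a') = a' := by
      rw [← mul_assoc, mul_comm u v, hv, one_mul]
    rw [h4] at h3
    have h5 : eval a' F = 0 := by
      rw [← hGmap, eval_map_algebraMap]; exact ha'
    rw [h5] at h3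
    rw [IsRoot.def]
    exact ((huu.pow _).mul_right_eq_zero.mp h3.symm)
  · have h6 : IsLocalRing.residue R v * ub = 1 := by
      rw [hub, ← map_mul, hv, map_one]
    rw [map_mul, hra', ← mul_assoc, h6, one_mul]

end EtRetract

end Groth.Agent.H3
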