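import Mathlib.RingTheory.Etale.Pi
import Mathlib.RingTheory.Smooth.Flat
import Mathlib.RingTheory.Spectrum.Prime.Chevalley
import Mathlib.RingTheory.Flat.FaithfullyFlat.Algebra
import Mathlib.RingTheory.Ideal.GoingDown
import Mathlib.RingTheory.Localization.AtPrime.Basic
import Mathlib.RingTheory.Localization.Away.Basic
import Mathlib.Tactic.Ring
import Mathlib.Tactic.LinearCombination

/-!
# Rings whose faithfully flat étale algebras have retractions

Let `A` be a ring such that every faithfully flat étale `A`-algebra has a retraction, and `m` a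
maximal ideal.  Every étale `A`-algebra with a prime over `m` has an `A`-algebra map to `A_m`.
-/

set_option autoImplicit false
universe u

namespace Groth.Agent.H3

namespace EtRetract

/-- two-element family of types -/
def Fam (B C : Type u) : Bool → Type u
  | true => B
  | false => C

instance Fam.commRing (B C : Type u) [CommRing B] [CommRing C] : ∀ b, CommRing (Fam B C b)
  | true => (inferInstance : CommRing B)
  | false => (inferInstance : CommRing C)

instance Fam.algebra (A : Type u) [CommRing A] (B C : Type u) [CommRing B] [CommRing C]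
    [Algebra A B] [Algebra A C] : ∀ b, Algebra A (Fam B C b)
  | true => (inferInstance : Algebra A B)
  | false => (inferInstance : Algebra A C)

instance Fam.etale (A : Type u) [CommRing A] (B C : Type u) [CommRing B] [CommRing C]
    [Algebra A B] [Algebra A C] [Algebra.Etale A B] [Algebra.Etale A C] :
    ∀ b, Algebra.Etale A (Fam B C b)
  | true => (inferInstance : Algebra.Etale A B)
  | false => (inferInstance : Algebra.Etale A C)

/-- the product of two algebras as a product over `Bool` -/
def piFamEquiv (A : Type u) [CommRing A] (B C : Type u) [CommRing B] [CommRing C]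
    [Algebra A B] [Algebra A C] : (∀ b, Fam B C b) ≃ₐ[A] B × C where
  toFun f := (f true, f false)
  invFun p := fun b => match b with
    | true => p.1
    | false => p.2
  left_inv f := by funext b; cases b <;> rfl
  right_inv p := rfl
  map_mul' _ _ := rfl
  map_add' _ _ := rfl
  commutes' _ := rfl

theorem etale_prod (A : Type u) [CommRing A] (B C : Type u) [CommRing B] [CommRing C]
    [Algebra A B] [Algebra A C] [Algebra.Etale A B] [Algebra.Etale A C] :
    Algebra.Etale A (B × C) :=
  Algebra.Etale.of_equiv (piFamEquiv A B C)

variable (A : Type u) [CommRing A]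

theorem eq_zero_or_one_of_isIdempotentElem {R : Type*} [CommRing R] [IsLocalRing R] {e : R}
    (he : IsIdempotentElem e) : e = 0 ∨ e = 1 := by
  have h1 : e * (1 - e) = 0 := by
    have : e * e = e := he
    linear_combination -this
  rcases IsLocalRing.isUnit_or_isUnit_one_sub_self e with h | h
  · right
    have := h.mul_right_eq_zero.mp h1
    linear_combination -this
  · left
    exact h.mul_left_eq_zero.mp h1

/-- the key lemma -/
theorem exists_algHom_localization
    (h : ∀ (B : Type u) [CommRing B] [Algebra A B],
      Module.FaithfullyFlat A B → Algebra.Etale A B → Nonempty (B →ₐ[A] A))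
    (m : Ideal A) [hm : m.IsMaximal] (B : Type u) [CommRing B] [Algebra A B] [Algebra.Etale A B]
    (q : Ideal B) [hqp : q.IsPrime] (hq : q.comap (algebraMap A B) = m) :
    Nonempty (B →ₐ[A] Localization.AtPrime m) := by
  have hopen : IsOpenMap (PrimeSpectrum.comap (algebraMap A B)) :=
    PrimeSpectrum.isOpenMap_comap_of_hasGoingDown_of_finitePresentation
  have hU : IsOpen (Set.range (PrimeSpectrum.comap (algebraMap A B))) := hopen.isOpen_range
  obtain ⟨J, hJ⟩ := (PrimeSpectrum.isClosed_iff_zeroLocus_ideal _).mp hU.isClosed_compl
  have hmU : (⟨m, hm.isPrime⟩ : PrimeSpectrum A) ∈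
      Set.range (PrimeSpectrum.comap (algebraMap A B)) :=
    ⟨⟨q, hqp⟩, PrimeSpectrum.ext hq⟩
  have hJm : ¬ J ≤ m := by
    intro hle
    have : (⟨m, hm.isPrime⟩ : PrimeSpectrum A) ∈ PrimeSpectrum.zeroLocus (J : Set A) := by
      rw [PrimeSpectrum.mem_zeroLocus]
      exact hle
    rw [← hJ] at this
    exact this hmU
  obtain ⟨j, hjJ, hjm⟩ := Set.not_subset.mp hJm
  obtain ⟨y, x, hxm, hyx⟩ := hm.exists_inv hjm
  -- the cover
  let C := Localization.Away x
  have hEt : Algebra.Etale A (B × C) := etale_prod A B C
  have hFlat : Module.Flat A (B × C) := inferInstance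
  have hFF : Module.FaithfullyFlat A (B × C) := by
    refine Module.FaithfullyFlat.of_comap_surjective fun p => ?_
    by_cases hp : p ∈ Set.range (PrimeSpectrum.comap (algebraMap A B))
    · obtain ⟨q', rfl⟩ := hp
      refine ⟨PrimeSpectrum.comap (RingHom.fst B C) q', ?_⟩
      rw [← PrimeSpectrum.comap_comp_apply]
      rfl
    · have hpJ : p ∈ PrimeSpectrum.zeroLocus (J : Set A) := by
        rw [← hJ]; exact hp
      have hjp : j ∈ p.asIdeal := (PrimeSpectrum.mem_zeroLocus _ _).mp hpJ hjJ
      have hxp : x ∉ p.asIdeal := by
        intro hx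
        have h1 : (1 : A) ∈ p.asIdeal := by
          rw [← hyx]
          exact Ideal.add_mem _ (Ideal.mul_mem_left _ _ hjp) hx
        exact p.2.ne_top ((Ideal.eq_top_iff_one _).mpr h1)
      have hdisj : Disjoint (Submonoid.powers x : Set A) (p.asIdeal : Set A) := by
        rw [Set.disjoint_left]
        rintro _ ⟨n, rfl⟩ hn
        exact hxp (p.2.mem_of_pow_mem n hn)
      have hprime := IsLocalization.isPrime_of_isPrime_disjoint (Submonoid.powers x) C p.asIdeal
        p.2 hdisj
      have hcomap := IsLocalization.comap_map_of_isPrime_disjoint (Submonoid.powers x) C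
        p.2 hdisj
      refine ⟨PrimeSpectrum.comap (RingHom.snd B C) ⟨_, hprime⟩, ?_⟩
      rw [← PrimeSpectrum.comap_comp_apply]
      exact PrimeSpectrum.ext hcomap
  obtain ⟨σ⟩ := h (B × C) hFF hEt
  let R := Localization.AtPrime m
  let τ : (B × C) →ₐ[A] R := (Algebra.ofId A R).comp σ
  have hidem : IsIdempotentElem (τ ((1, 0) : B × C)) := by
    change τ (1, 0) * τ (1, 0) = τ (1, 0)
    rw [← map_mul]
    simp
  have hne : τ ((1, 0) : B × C) ≠ 0 := by
    intro h0
    have h1 : τ ((0, 1) : B × C) = 1 := by
      have : ((0, 1) : B × C) = 1 - (1, 0) := by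
        ext <;> simp
      rw [this, map_sub, map_one, h0, sub_zero]
    have h2 : τ ((0, algebraMap A C x) : B × C) * τ ((0, IsLocalization.Away.invSelf x) : B × C)
        = 1 := by
      rw [← map_mul, ← h1]
      congr 1
      ext
      · simp
      · simp only [Prod.mk_mul_mk]
        exact IsLocalization.Away.mul_invSelf x
    have h3 : τ ((0, algebraMap A C x) : B × C) = algebraMap A R x := by
      have : ((0, algebraMap A C x) : B × C) = x • ((0, 1) : B × C) := by
        ext
        · simp
        · simp [Algebra.smul_def]
      rw [this, map_smul, h1, Algebra.smul_def, mul_one]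
    rw [h3] at h2
    have h4 : IsUnit (algebraMap A R x) := IsUnit.of_mul_eq_one _ h2
    have h5 := (IsLocalization.AtPrime.isUnit_to_map_iff R m x).mp h4
    exact h5 hxm
  have hone : τ ((1, 0) : B × C) = 1 :=
    (eq_zero_or_one_of_isIdempotentElem hidem).resolve_left hne
  refine ⟨{ toFun := fun b => τ (b, 0)
            map_one' := hone
            map_mul' := fun a b => by rw [← map_mul]; simp
            map_zero' := by
              have : ((0, 0) : B × C) = 0 := rfl
              rw [this, map_zero]
            map_add' := fun a b => by rw [← map_add]; simp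
            commutes' := fun a => by
              have : ((algebraMap A B a, 0) : B × C) = a • ((1, 0) : B × C) := by
                ext
                · simp [Algebra.smul_def]
                · simp
              rw [this, map_smul, hone, Algebra.smul_def, mul_one] }⟩

end EtRetract

end Groth.Agent.H3
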