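import Groth.Agent.H3.PairIdem
import Mathlib.LinearAlgebra.Matrix.Charpoly.Coeff
import Mathlib.LinearAlgebra.Matrix.ToLin
import Mathlib.RingTheory.TensorProduct.Basic
import Mathlib.Algebra.Module.Projective
import Mathlib.RingTheory.Finiteness.Cardinality

/-!
# Lifting finite projective modules over henselian pairs
-/

set_option autoImplicit false
universe u v

namespace Groth.Agent.H3

open Polynomial

section MatIdem

variable {A : Type u} [CommRing A] {I : Ideal A}

theorem matrix_map_eq_zero_of_mem_smul_top {n : ℕ} (x : Matrix (Fin n) (Fin n) A)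
    (hx : x ∈ (I • ⊤ : Submodule A (Matrix (Fin n) (Fin n) A))) :
    x.map (Ideal.Quotient.mk I) = 0 := by
  refine Submodule.smul_induction_on hx ?_ ?_
  · intro a ha y _
    ext i j
    simp only [Matrix.map_apply, Matrix.smul_apply, smul_eq_mul, Matrix.zero_apply]
    exact Ideal.Quotient.eq_zero_iff_mem.mpr (Ideal.mul_mem_right _ _ ha)
  · intro y z hy hz
    rw [Matrix.map_add _ (map_add _), hy, hz, add_zero]

/-- Lifting idempotent matrices over a henselian pair. -/
theorem exists_idempotent_matrix_lift (h : HenselianRing A I) (n : ℕ)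
    (M : Matrix (Fin n) (Fin n) A)
    (hM : (M * M - M).map (Ideal.Quotient.mk I) = 0) :
    ∃ e : Matrix (Fin n) (Fin n) A, e * e = e ∧
      e.map (Ideal.Quotient.mk I) = M.map (Ideal.Quotient.mk I) := by
  classical
  rcases subsingleton_or_nontrivial A with hA | hA
  · exact ⟨M, Subsingleton.elim _ _, rfl⟩
  rcases Nat.eq_zero_or_pos n with hn | hn
  · subst hn
    exact ⟨M, Subsingleton.elim _ _, rfl⟩
  obtain ⟨P, hPdef⟩ : ∃ P : A[X], P = (M * M - M).charpoly := ⟨_, rfl⟩
  have hPm : P.Monic := by rw [hPdef]; exact Matrix.charpoly_monic _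
  have hPmap : P.map (Ideal.Quotient.mk I) = X ^ n := by
    rw [hPdef, ← Matrix.charpoly_map, hM, Matrix.charpoly_zero, Fintype.card_fin]
  have hPb : Polynomial.aeval (M * M - M) P = 0 := by
    rw [hPdef]; exact Matrix.aeval_self_charpoly _
  have hqeq : (X * X - X : A[X]) = X ^ 2 - X := by ring
  have hqm : (X * X - X : A[X]).Monic := by
    rw [hqeq]
    exact monic_X_pow_sub (lt_of_le_of_lt degree_X_le (by norm_num))
  have hqd : (X * X - X : A[X]).natDegree ≠ 0 := by
    rw [hqeq, natDegree_sub_eq_left_of_natDegree_lt (by simp), natDegree_X_pow]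
    norm_num
  obtain ⟨G, hGdef⟩ : ∃ G : A[X], G = P.comp (X * X - X) := ⟨_, rfl⟩
  have hGm : G.Monic := by rw [hGdef]; exact hPm.comp hqm hqd
  have hGmap : G.map (Ideal.Quotient.mk I) = X ^ n * (X - 1) ^ n := by
    rw [hGdef, Polynomial.map_comp, hPmap, X_pow_comp, ← mul_pow]
    congr 1
    simp only [Polynomial.map_sub, Polynomial.map_mul, Polynomial.map_X]
    ring
  have hGb : Polynomial.aeval M G = 0 := by
    rw [hGdef, Polynomial.aeval_comp]
    simpa using hPb
  obtain ⟨E, Q, R, hE, hEX, hR⟩ := exists_poly_idem h n hn G hGm hGmap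
  refine ⟨Polynomial.aeval M E, ?_, ?_⟩
  · obtain ⟨T, hT⟩ := hE
    have h1 : Polynomial.aeval M (E * E - E) = 0 := by
      rw [hT, map_mul, hGb, zero_mul]
    rw [map_sub, map_mul, sub_eq_zero] at h1
    exact h1
  · have h1 : Polynomial.aeval M E - M = (M * M - M) * Polynomial.aeval M Q +
        Polynomial.aeval M R := by
      have := congrArg (Polynomial.aeval M) hEX
      simpa using this
    have h2 : (Polynomial.aeval M E - M).map (Ideal.Quotient.mk I) = 0 := by
      rw [h1, Matrix.map_add _ (map_add _), Matrix.map_mul, hM, zero_mul, zero_add]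
      exact matrix_map_eq_zero_of_mem_smul_top _ (aeval_mem_smul_top M R hR)
    rw [Matrix.map_sub _ (map_sub _), sub_eq_zero] at h2
    exact h2

end MatIdem

section ProjLift

variable {A : Type u} [CommRing A] {I : Ideal A}

open TensorProduct Matrix

/-- Finite projective modules lift along a henselian pair. -/
theorem exists_finite_projective_lift (h : HenselianRing A I) (Q : Type u) [AddCommGroup Q]
    [Module (A ⧸ I) Q] [Module.Finite (A ⧸ I) Q] [Module.Projective (A ⧸ I) Q] :
    ∃ (P : Type u) (_ : AddCommGroup P) (_ : Module A P), Module.Finite A P ∧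
      Module.Projective A P ∧ Nonempty (TensorProduct A (A ⧸ I) P ≃ₗ[A ⧸ I] Q) := by
  classical
  obtain ⟨n, π, hπ⟩ := Module.Finite.exists_fin' (A ⧸ I) Q
  obtain ⟨s, hs⟩ := LinearMap.exists_rightInverse_of_surjective π (LinearMap.range_eq_top.2 hπ)
  have hs' : ∀ q, π (s q) = q := fun q => by
    have := congrArg (fun f : Q →ₗ[A ⧸ I] Q => f q) hs
    simpa using this
  obtain ⟨Mbar, hMbardef⟩ : ∃ Mbar : Matrix (Fin n) (Fin n) (A ⧸ I),
      Mbar = LinearMap.toMatrix' (s ∘ₗ π) := ⟨_, rfl⟩
  have hMbarv : ∀ v, Mbar *ᵥ v = s (π v) := by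
    intro v
    rw [hMbardef, ← Matrix.toLin'_apply, Matrix.toLin'_toMatrix']
    rfl
  have hidem : Mbar * Mbar = Mbar := by
    rw [hMbardef, ← LinearMap.toMatrix'_comp]
    congr 1
    refine LinearMap.ext fun v => ?_
    simp only [LinearMap.comp_apply, hs']
  obtain ⟨M, hM⟩ : ∃ M : Matrix (Fin n) (Fin n) A, M.map (Ideal.Quotient.mk I) = Mbar := by
    refine ⟨Mbar.map (Function.surjInv Ideal.Quotient.mk_surjective), ?_⟩
    ext i j
    simp [Function.surjInv_eq]
  obtain ⟨e, he, heM⟩ := exists_idempotent_matrix_lift h n M (by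
    rw [Matrix.map_sub _ (map_sub _), Matrix.map_mul, hM, hidem, sub_self])
  rw [hM] at heM
  obtain ⟨el, heldef⟩ : ∃ el : (Fin n → A) →ₗ[A] (Fin n → A), el = Matrix.mulVecLin e := ⟨_, rfl⟩
  have hel : ∀ y, el y = e *ᵥ y := fun y => by rw [heldef]; rfl
  have helel : ∀ y, el (el y) = el y := by
    intro y
    rw [hel, hel, Matrix.mulVec_mulVec, he]
  let mkF : (Fin n → A) →ₗ[A] (Fin n → A ⧸ I) := (Algebra.linearMap A (A ⧸ I)).compLeft (Fin n)
  have hmkF : ∀ y i, mkF y i = Ideal.Quotient.mk I (y i) := fun y i => rfl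
  have hcompat : ∀ y, mkF (el y) = s (π (mkF y)) := by
    intro y
    rw [← hMbarv, ← heM]
    funext i
    rw [hmkF, hel, RingHom.map_mulVec]
    rfl
  have hmkFsurj : Function.Surjective mkF := by
    intro v
    refine ⟨fun i => Function.surjInv Ideal.Quotient.mk_surjective (v i), ?_⟩
    funext i
    rw [hmkF]
    exact Function.surjInv_eq _ _
  refine ⟨LinearMap.range el, inferInstance, inferInstance, inferInstance, ?_, ?_⟩
  · refine Module.Projective.of_split (LinearMap.range el).subtype el.rangeRestrict ?_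
    ext ⟨_, y, rfl⟩ : 2
    simp only [LinearMap.comp_apply, Submodule.subtype_apply, LinearMap.id_apply,
      LinearMap.codRestrict_apply, helel]
  · let Φ₀ : (A ⧸ I) ⊗[A] (LinearMap.range el) →ₗ[A ⧸ I] (Fin n → A ⧸ I) :=
      LinearMap.liftBaseChange (A ⧸ I) (mkF ∘ₗ (LinearMap.range el).subtype)
    let Φ : (A ⧸ I) ⊗[A] (LinearMap.range el) →ₗ[A ⧸ I] Q := π ∘ₗ Φ₀
    have hΦ : ∀ p : LinearMap.range el, Φ (1 ⊗ₜ p) = π (mkF p.1) := by
      intro p
      simp [Φ, Φ₀]
    refine ⟨LinearEquiv.ofBijective Φ ⟨?_, ?_⟩⟩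
    · rw [injective_iff_map_eq_zero]
      intro x hx
      obtain ⟨p, rfl⟩ := TensorProduct.mk_surjective _ _ _ Ideal.Quotient.mk_surjective x
      change Φ (1 ⊗ₜ p) = 0 at hx
      change (1 : A ⧸ I) ⊗ₜ[A] p = 0
      rw [hΦ] at hx
      have hp1 : el p.1 = p.1 := by
        obtain ⟨y, hy⟩ := p.2
        rw [← hy, helel]
      have hp2 : mkF p.1 = 0 := by
        rw [← hp1, hcompat, hx, map_zero]
      have hp3 : ∀ i, p.1 i ∈ I := fun i => by
        have := congrFun hp2 i
        rw [hmkF] at this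
        exact Ideal.Quotient.eq_zero_iff_mem.mp this
      have hp4' : p.1 = ∑ i, p.1 i • el (fun j => if i = j then (1 : A) else 0) := by
        have h1 := congrArg el (pi_eq_sum_univ p.1)
        rw [hp1, map_sum] at h1
        refine h1.trans (Finset.sum_congr rfl fun i _ => ?_)
        rw [map_smul]
      have hp4 : p = ∑ i, (p.1 i) •
          (⟨el (fun j => if i = j then (1 : A) else 0), _, rfl⟩ : LinearMap.range el) := by
        apply Subtype.ext
        rw [Submodule.coe_sum]
        exact hp4'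
      rw [hp4, TensorProduct.tmul_sum]
      refine Finset.sum_eq_zero fun i _ => ?_
      rw [TensorProduct.tmul_smul]
      have : (p.1 i) • (1 : A ⧸ I) = 0 := by
        rw [Algebra.smul_def, mul_one]
        exact Ideal.Quotient.eq_zero_iff_mem.mpr (hp3 i)
      rw [TensorProduct.smul_tmul', this, TensorProduct.zero_tmul]
    · intro q
      obtain ⟨y, hy⟩ := hmkFsurj (s q)
      refine ⟨1 ⊗ₜ ⟨el y, y, rfl⟩, ?_⟩
      rw [hΦ, hcompat, hy, hs', hs']

end ProjLift

end Groth.Agent.H3
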