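import Mathlib.RingTheory.Localization.Away.Basic
import Mathlib.RingTheory.Spectrum.Prime.Topology
import Mathlib.RingTheory.Ideal.Quotient.Operations
import Mathlib.RingTheory.Ideal.Maps
import Mathlib.Tactic.Ring
import Mathlib.Tactic.LinearCombination

/-!
# Principal opens around `V(J)` and quotients of `R[1/j]` with `j ≡ 1 mod J`
-/

set_option autoImplicit false
universe u

namespace Groth.Agent.H3

namespace AwayQuot

variable {R : Type u} [CommRing R]

/-- An open set containing `V(J)` contains a principal open `D(j)` with `j ≡ 1 mod J`. -/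
theorem exists_basicOpen_subset (J : Ideal R) (U : Set (PrimeSpectrum R)) (hU : IsOpen U)
    (hJU : PrimeSpectrum.zeroLocus (J : Set R) ⊆ U) :
    ∃ j : R, j - 1 ∈ J ∧ (PrimeSpectrum.basicOpen j : Set (PrimeSpectrum R)) ⊆ U := by
  obtain ⟨K, hK⟩ := (PrimeSpectrum.isClosed_iff_zeroLocus_ideal _).mp hU.isClosed_compl
  have h1 : PrimeSpectrum.zeroLocus ((K ⊔ J : Ideal R) : Set R) = ∅ := by
    rw [PrimeSpectrum.zeroLocus_sup, ← hK]
    ext p
    simp only [Set.mem_inter_iff, Set.mem_compl_iff, Set.mem_empty_iff_false, iff_false, not_and]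
    intro hp hp'
    exact hp (hJU hp')
  have h2 : K ⊔ J = ⊤ := (PrimeSpectrum.zeroLocus_empty_iff_eq_top).mp h1
  have h3 : (1 : R) ∈ K ⊔ J := by rw [h2]; trivial
  obtain ⟨k, hk, i, hi, hki⟩ := Submodule.mem_sup.mp h3
  refine ⟨k, ?_, ?_⟩
  · have : k - 1 = -i := by rw [← hki]; ring
    rw [this]
    exact J.neg_mem hi
  · intro p hp
    by_contra hpU
    have h4 : p ∈ PrimeSpectrum.zeroLocus (K : Set R) := by
      rw [← hK]; exact hpU
    exact hp (h4 hk)

/-- If `j ≡ 1 mod J` then `R/J → R[1/j]/J R[1/j]` is bijective. -/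
theorem quotientMap_bijective (J : Ideal R) (j : R) (hj : j - 1 ∈ J)
    (S : Type u) [CommRing S] [Algebra R S] [IsLocalization.Away j S] :
    Function.Bijective (Ideal.quotientMap (J.map (algebraMap R S)) (algebraMap R S)
      Ideal.le_comap_map) := by
  have hju : IsUnit (Ideal.Quotient.mk J j) := by
    have : Ideal.Quotient.mk J j = 1 := by
      rw [← map_one (Ideal.Quotient.mk J), Ideal.Quotient.eq]
      exact hj
    rw [this]; exact isUnit_one
  let τ : S →+* R ⧸ J := IsLocalization.Away.lift j hju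
  have hτ : ∀ x, τ (algebraMap R S x) = Ideal.Quotient.mk J x :=
    fun x => IsLocalization.Away.lift_eq j hju x
  have hτJ : ∀ y ∈ J.map (algebraMap R S), τ y = 0 := by
    intro y hy
    have : J.map (algebraMap R S) ≤ RingHom.ker τ := by
      rw [Ideal.map_le_iff_le_comap]
      intro x hx
      rw [Ideal.mem_comap, RingHom.mem_ker, hτ]
      exact Ideal.Quotient.eq_zero_iff_mem.mpr hx
    exact this hy
  constructor
  · rw [injective_iff_map_eq_zero]
    intro a ha
    obtain ⟨x, rfl⟩ := Ideal.Quotient.mk_surjective a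
    rw [Ideal.quotientMap_mk, Ideal.Quotient.eq_zero_iff_mem] at ha
    have := hτJ _ ha
    rwa [hτ] at this
  · intro b
    obtain ⟨y, rfl⟩ := Ideal.Quotient.mk_surjective b
    obtain ⟨x, ⟨_, n, rfl⟩, rfl⟩ := IsLocalization.exists_mk'_eq (Submonoid.powers j) y
    refine ⟨Ideal.Quotient.mk J x, ?_⟩
    rw [Ideal.quotientMap_mk, Ideal.Quotient.eq]
    have h4 : IsLocalization.mk' S x (⟨j ^ n, n, rfl⟩ : Submonoid.powers j) *
        algebraMap R S (j ^ n) = algebraMap R S x :=
      IsLocalization.mk'_spec S x (⟨j ^ n, n, rfl⟩ : Submonoid.powers j)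
    obtain ⟨c, hc⟩ := sub_dvd_pow_sub_pow j 1 n
    rw [one_pow] at hc
    have h5 : algebraMap R S x - IsLocalization.mk' S x (⟨j ^ n, n, rfl⟩ : Submonoid.powers j) =
        IsLocalization.mk' S x (⟨j ^ n, n, rfl⟩ : Submonoid.powers j) *
          algebraMap R S ((j - 1) * c) := by
      rw [← hc, ← h4, map_sub, map_one]; ring
    rw [h5]
    exact Ideal.mul_mem_left _ _ (Ideal.mem_map_of_mem _ (J.mul_mem_right _ hj))

end AwayQuot

end Groth.Agent.H3
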