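import Mathlib.RingTheory.ZariskisMainTheorem
import Mathlib.RingTheory.RingHom.QuasiFinite
import Groth.Agent.H3.AwayQuot

/-!
# Quasi-finite principal opens
-/

set_option autoImplicit false
universe u

namespace Groth.Agent.H3

namespace QuasiFiniteAway

variable {A R : Type u} [CommRing A] [CommRing R] [Algebra A R]

theorem exists_away_quasiFinite [Algebra.FiniteType A R] (p : Ideal R) [p.IsPrime]
    [Algebra.QuasiFiniteAt A p] :
    ∃ r ∉ p, Algebra.QuasiFinite A (Localization.Away r) := by
  obtain ⟨S', hS', r, hrp, H⟩ :=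
    Algebra.QuasiFiniteAt.exists_fg_and_exists_notMem_and_awayMap_bijective (R := A) p
  have : Module.Finite A S' := ⟨(Submodule.fg_top _).mpr hS'⟩
  have : Algebra.QuasiFinite A (Localization.Away r) := .trans _ S' _
  exact ⟨r.1, hrp, .of_surjective_algHom (Localization.awayMapₐ S'.val r) H.2⟩

theorem quasiFinite_away_of_cover (j : R)
    (hcov : ∀ q : Ideal R, q.IsPrime → j ∉ q →
      ∃ r ∉ q, Algebra.QuasiFinite A (Localization.Away r)) :
    Algebra.QuasiFinite A (Localization.Away j) := by
  rw [← RingHom.quasiFinite_algebraMap]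
  let T := Localization.Away j
  let s : Set T := {t | ∃ r : R, t = algebraMap R T r ∧ Algebra.QuasiFinite A (Localization.Away r)}
  have hs : Ideal.span s = ⊤ := by
    by_contra hne
    obtain ⟨m, hm, hle⟩ := Ideal.exists_le_maximal _ hne
    have hmp : m.IsPrime := hm.isPrime
    have hjm : j ∉ m.comap (algebraMap R T) := by
      intro hj
      rw [Ideal.mem_comap] at hj
      exact hmp.ne_top (Ideal.eq_top_of_isUnit_mem _ hj (IsLocalization.Away.algebraMap_isUnit j))
    obtain ⟨r, hr, hqf⟩ := hcov (m.comap (algebraMap R T)) inferInstance hjm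
    apply hr
    rw [Ideal.mem_comap]
    exact hle (Ideal.subset_span ⟨r, rfl, hqf⟩)
  refine RingHom.QuasiFinite.ofLocalizationSpanTarget (algebraMap A T) s hs ?_
  rintro ⟨t, r, rfl, hqf⟩
  let W := Localization.Away (algebraMap R T r)
  have hcomp : (algebraMap T W).comp (algebraMap A T) = algebraMap A W := by
    ext a
    exact (IsScalarTower.algebraMap_apply A T W a).symm
  change ((algebraMap T W).comp (algebraMap A T)).QuasiFinite
  rw [hcomp, RingHom.quasiFinite_algebraMap]
  have hru : IsUnit ((IsScalarTower.toAlgHom A R W) r) := by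
    change IsUnit (algebraMap R W r)
    rw [IsScalarTower.algebraMap_apply R T W]
    exact IsLocalization.Away.algebraMap_isUnit _
  have hju : IsUnit (algebraMap R W j) := by
    rw [IsScalarTower.algebraMap_apply R T W]
    exact (IsLocalization.Away.algebraMap_isUnit j).map _
  let f : Localization.Away r →ₐ[A] W := IsLocalization.Away.liftAlgHom r hru
  have hf : ∀ y : R, f (algebraMap R _ y) = algebraMap R W y :=
    fun y => IsLocalization.Away.lift_eq r hru y
  refine Algebra.QuasiFinite.of_forall_exists_mul_mem_range f fun x => ?_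
  obtain ⟨n, τ, hτ⟩ := IsLocalization.Away.surj (algebraMap R T r) x
  obtain ⟨m, y, hy⟩ := IsLocalization.Away.surj j τ
  refine ⟨algebraMap R _ (r ^ n * j ^ m), ?_, algebraMap R _ y, ?_⟩
  · rw [hf, map_mul, map_pow, map_pow]
    exact (hru.pow n).mul (hju.pow m)
  · change f (algebraMap R _ y) = x * f (algebraMap R _ (r ^ n * j ^ m))
    rw [hf, hf, map_mul, ← mul_assoc, map_pow, IsScalarTower.algebraMap_apply R T W r, hτ,
      map_pow, IsScalarTower.algebraMap_apply R T W j, ← map_pow, ← map_mul, hy,
      ← IsScalarTower.algebraMap_apply R T W]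

end QuasiFiniteAway

end Groth.Agent.H3
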