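import Mathlib.RingTheory.AdicCompletion.Functoriality

/-!
# A linear map inducing bijections on all truncations induces a bijection of adic completions
-/

set_option autoImplicit false

namespace Groth.Agent.H3

namespace AdicMapBij

open LinearMap

variable {R : Type*} [CommRing R] (I : Ideal R)
variable {M : Type*} [AddCommGroup M] [Module R M]
variable {N : Type*} [AddCommGroup N] [Module R N]

theorem reduceModIdeal_bijective (f : M →ₗ[R] N) (J : Ideal R)
    (hinj : ∀ x : M, f x ∈ (J • ⊤ : Submodule R N) → x ∈ (J • ⊤ : Submodule R M))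
    (hsurj : ∀ y : N, ∃ x : M, y - f x ∈ (J • ⊤ : Submodule R N)) :
    Function.Bijective (f.reduceModIdeal J) := by
  constructor
  · rw [injective_iff_map_eq_zero]
    intro q hq
    obtain ⟨x, rfl⟩ := Submodule.Quotient.mk_surjective _ q
    rw [reduceModIdeal_apply, Submodule.Quotient.mk_eq_zero] at hq
    rw [Submodule.Quotient.mk_eq_zero]
    exact hinj x hq
  · intro q
    obtain ⟨y, rfl⟩ := Submodule.Quotient.mk_surjective _ q
    obtain ⟨x, hx⟩ := hsurj y
    refine ⟨Submodule.Quotient.mk x, ?_⟩
    rw [reduceModIdeal_apply, Submodule.Quotient.eq]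
    rw [← neg_sub]
    exact Submodule.neg_mem _ hx

theorem map_bijective_of_reduceModIdeal (f : M →ₗ[R] N)
    (h : ∀ n, Function.Bijective (f.reduceModIdeal (I ^ n))) :
    Function.Bijective (AdicCompletion.map I f) := by
  constructor
  · intro x y hxy
    apply AdicCompletion.ext
    intro n
    apply (h n).1
    have := congrArg (fun z => z.val n) hxy
    simpa only [AdicCompletion.map_val_apply] using this
  · intro y
    have hx : ∀ n, ∃ q, f.reduceModIdeal (I ^ n) q = y.val n := fun n => (h n).2 (y.val n)
    choose x hx using hx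
    refine ⟨⟨x, ?_⟩, ?_⟩
    · intro m n hmn
      apply (h m).1
      have h1 := LinearMap.congr_fun (AdicCompletion.transitionMap_comp_reduceModIdeal I f hmn) (x n)
      simp only [LinearMap.coe_comp, Function.comp_apply, LinearMap.coe_restrictScalars] at h1
      rw [← h1, hx n, hx m]
      exact y.2 hmn
    · apply AdicCompletion.ext
      intro n
      rw [AdicCompletion.map_val_apply]
      exact hx n

theorem map_bijective (f : M →ₗ[R] N)
    (hinj : ∀ (n : ℕ) (x : M), f x ∈ (I ^ n • ⊤ : Submodule R N) → x ∈ (I ^ n • ⊤ : Submodule R M))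
    (hsurj : ∀ (n : ℕ) (y : N), ∃ x : M, y - f x ∈ (I ^ n • ⊤ : Submodule R N)) :
    Function.Bijective (AdicCompletion.map I f) :=
  map_bijective_of_reduceModIdeal I f fun n =>
    reduceModIdeal_bijective f (I ^ n) (hinj n) (hsurj n)

end AdicMapBij

end Groth.Agent.H3
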