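import Groth.Agent.H3.DualFrameMat
import Groth.Prelude.Def_Hoch

/-!
# The comodule structure on the bidual of a finitely presented comodule whose dual has a frame
(helper3)

`C` a flat coalgebra over `R`, `L` a finitely presented comodule, `(q_j, ξ_j)` a frame of `L^∨`.
Then `L^∨∨` carries a comodule structure, `v ↦ ∑ v(q_j) ξ_i ⊗ a_ij`, for which the evaluation map
`L → L^∨∨` is a comodule map.  Linear maps out of `L^∨∨` into a torsionless module are determined
by their restriction to `L`.
-/

set_option autoImplicit false
universe u v w w'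

open TensorProduct HopfRep

namespace Groth.Agent.H3.BidualComod

open Groth.Agent.H3.DualFrame Groth.Agent.H3.DualFrameMat

section Basic

variable {R : Type u} [CommRing R] {L : Type v} [AddCommGroup L] [Module R L] {n : ℕ}
  (fr : Frame R L n)

lemma dd_expand (v : Module.Dual R (Module.Dual R L)) : v = ∑ i, v (fr.q i) • fr.ξ i := by
  ext φ
  conv_lhs => rw [fr.expand φ]
  simp only [map_sum, map_smul, smul_eq_mul, LinearMap.sum_apply, LinearMap.smul_apply]
  exact Finset.sum_congr rfl fun i _ => mul_comm _ _

include fr in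
/-- a linear map out of the bidual into a torsionless module which vanishes on the image of the
evaluation map is zero -/
theorem eq_zero_of_comp_eval_eq_zero {W : Type w} [AddCommGroup W] [Module R W]
    (hW : ∀ w : W, (∀ f : Module.Dual R W, f w = 0) → w = 0)
    (h : Module.Dual R (Module.Dual R L) →ₗ[R] W) (h0 : h ∘ₗ Module.Dual.eval R L = 0) : h = 0 := by
  ext v
  apply hW
  intro f
  set φ : Module.Dual R L := ∑ i, f (h (fr.ξ i)) • fr.q i with hφ
  have h1 : f (h v) = v φ := by
    conv_lhs => rw [dd_expand fr v]
    simp only [map_sum, map_smul, smul_eq_mul, hφ]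
    exact Finset.sum_congr rfl fun i _ => mul_comm _ _
  have h2 : φ = 0 := by
    ext e
    have h3 : f (h (Module.Dual.eval R L e)) = 0 := by
      have := LinearMap.congr_fun h0 e
      simp only [LinearMap.comp_apply, LinearMap.zero_apply] at this
      rw [this, map_zero]
    have h4 : f (h (Module.Dual.eval R L e)) = Module.Dual.eval R L e φ := by
      conv_lhs => rw [dd_expand fr (Module.Dual.eval R L e)]
      simp only [map_sum, map_smul, smul_eq_mul, hφ]
      exact Finset.sum_congr rfl fun i _ => mul_comm _ _
    rw [LinearMap.zero_apply, ← h3, h4, Module.Dual.eval_apply]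
  rw [h1, h2, map_zero]

/-- extension of a linear map `L → Rᵐ` to the bidual -/
def extend {m : ℕ} (lam : L →ₗ[R] (Fin m → R)) : Module.Dual R (Module.Dual R L) →ₗ[R] (Fin m → R) :=
  LinearMap.pi fun s => Module.Dual.eval R (Module.Dual R L) (LinearMap.proj s ∘ₗ lam)

lemma extend_eval {m : ℕ} (lam : L →ₗ[R] (Fin m → R)) (e : L) :
    extend lam (Module.Dual.eval R L e) = lam e := by
  funext s
  simp [extend, Module.Dual.eval_apply]

end Basic

section Coact

variable {R : Type u} [CommRing R] {L : Type v} [AddCommGroup L] [Module R L] {n : ℕ}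
  (fr : Frame R L n)
  {C : Type w} [AddCommGroup C] [Module R C] [Coalgebra R C] [Comod R C L]
  [Module.FinitePresentation R L] [Module.Flat R C]

/-- the coaction on the bidual -/
noncomputable def ddCoact : Module.Dual R (Module.Dual R L) →ₗ[R]
    Module.Dual R (Module.Dual R L) ⊗[R] C :=
  ∑ i, ∑ j, (Module.Dual.eval R (Module.Dual R L) (fr.q j)).smulRight
    (fr.ξ i ⊗ₜ[R] amat (C := C) fr i j)

lemma ddCoact_apply (v : Module.Dual R (Module.Dual R L)) :
    ddCoact (C := C) fr v = ∑ i, ∑ j, v (fr.q j) • (fr.ξ i ⊗ₜ[R] amat (C := C) fr i j) := by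
  simp [ddCoact, LinearMap.sum_apply, Module.Dual.eval_apply]

lemma ddCoact_xi (k : Fin n) :
    ddCoact (C := C) fr (fr.ξ k) = ∑ i, fr.ξ i ⊗ₜ[R] amat (C := C) fr i k := by
  rw [ddCoact_apply]
  refine Finset.sum_congr rfl fun i _ => ?_
  simp only [← TensorProduct.tmul_smul]
  rw [← TensorProduct.tmul_sum]
  congr 1
  exact amat_norm_right fr i k

/-- the evaluation map intertwines the coactions -/
theorem ddCoact_eval (e : L) :
    ddCoact (C := C) fr (Module.Dual.eval R L e) =
      (Module.Dual.eval R L).rTensor C (Comod.coact (k := R) (A := C) e) := by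
  have key : ∀ w : L ⊗[R] C, (Module.Dual.eval R L).rTensor C w =
      ∑ i, fr.ξ i ⊗ₜ[R] contr C (fr.q i) w := by
    intro w
    induction w using TensorProduct.induction_on with
    | zero => simp
    | tmul e' c =>
      rw [LinearMap.rTensor_tmul]
      conv_lhs => rw [dd_expand fr (Module.Dual.eval R L e'), TensorProduct.sum_tmul]
      refine Finset.sum_congr rfl fun i _ => ?_
      rw [contr_tmul, Module.Dual.eval_apply, TensorProduct.smul_tmul]
    | add x y hx hy =>
      simp only [map_add, hx, hy, TensorProduct.tmul_add, Finset.sum_add_distrib]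
  rw [key, ddCoact_apply]
  refine Finset.sum_congr rfl fun i _ => ?_
  simp only [← TensorProduct.tmul_smul]
  rw [← TensorProduct.tmul_sum]
  congr 1
  rw [← cmap_apply, cmap_q]
  rfl

/-- the comodule structure on the bidual -/
@[reducible] noncomputable def ddComod : Comod R C (Module.Dual R (Module.Dual R L)) where
  coact := ddCoact (C := C) fr
  coassoc := by
    ext v
    simp only [LinearMap.comp_apply, LinearEquiv.coe_coe]
    rw [ddCoact_apply]
    simp only [map_sum, map_smul, LinearMap.rTensor_tmul, LinearMap.lTensor_tmul, ddCoact_xi,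
      TensorProduct.sum_tmul, TensorProduct.assoc_tmul, comul_amat, TensorProduct.tmul_sum,
      Finset.smul_sum]
    conv_lhs => rw [Finset.sum_comm]
    conv_rhs => rw [Finset.sum_comm]
    refine Finset.sum_congr rfl fun j _ => ?_
    rw [Finset.sum_comm]
  counit_comp := by
    ext v
    simp only [LinearMap.comp_apply, LinearMap.flip_apply, TensorProduct.mk_apply]
    rw [ddCoact_apply]
    simp only [map_sum, map_smul, LinearMap.lTensor_tmul, counit_amat]
    conv_rhs => rw [dd_expand fr v, TensorProduct.sum_tmul]
    rw [Finset.sum_comm]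
    refine Finset.sum_congr rfl fun j _ => ?_
    rw [← Finset.smul_sum, ← TensorProduct.smul_tmul']
    congr 1
    have h1 : ∀ i, fr.ξ i ⊗ₜ[R] fr.e j i = (fr.e j i • fr.ξ i) ⊗ₜ[R] (1 : R) := by
      intro i
      rw [TensorProduct.smul_tmul, smul_eq_mul, mul_one]
    simp only [h1]
    rw [← TensorProduct.sum_tmul]
    congr 1
    ext φ
    simp only [LinearMap.sum_apply, LinearMap.smul_apply, smul_eq_mul]
    have h2 := congrArg (fr.ξ j) (fr.expand φ)
    rw [map_sum] at h2
    simp only [map_smul, smul_eq_mul] at h2
    rw [h2]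
    refine Finset.sum_congr rfl fun i _ => ?_
    exact mul_comm _ _

theorem isComodHom_eval :
    @Hoch.IsComodHom R _ C _ _ _ L _ _ _ (Module.Dual R (Module.Dual R L)) _ _
      (ddComod (C := C) fr) (Module.Dual.eval R L) := by
  unfold Hoch.IsComodHom
  ext e
  exact ddCoact_eval fr e

end Coact

end Groth.Agent.H3.BidualComod
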