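import Groth.Agent.H3.CartIsoSplit

/-! Base change of the Cartier dual: `T ⊗ D(A) ≃ D_T(T ⊗ A)` as algebras, and the compatibility
of the pairing with the comultiplication of the dual. -/

set_option autoImplicit false
set_option linter.style.haveILetI false
set_option linter.unusedSectionVars false
universe u
open scoped TensorProduct
open CartDual

namespace Groth.Agent.H3.CartRing

section BC

variable (R : Type u) [CommRing R] (A : Type u) [CommRing A] [HopfAlgebra R A]
  [Coalgebra.IsCocomm R A] [Module.Finite R A] [Module.Projective R A]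
  (T : Type u) [CommRing T] [Algebra R T]

/-- base change of the dual, as a linear equivalence -/
noncomputable def bcLin : T ⊗[R] D R A ≃ₗ[T] D T (T ⊗[R] A) :=
  (Module.evalEquiv T (T ⊗[R] D R A)) ≪≫ₗ (PgEquiv R A T).dualMap ≪≫ₗ
    (toDual T (T ⊗[R] A)).symm

theorem bcLin_apply (y : T ⊗[R] D R A) (g : T ⊗[R] A) :
    bcLin R A T y g = Pg R A T g y := rfl

theorem bcLin_one : bcLin R A T 1 = 1 := by
  apply WithConv.ext
  apply LinearMap.ext
  intro g
  change bcLin R A T 1 g = (1 : D T (T ⊗[R] A)) g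
  rw [bcLin_apply, Algebra.TensorProduct.one_def, Pg_tmul, one_mul, pair_one]
  simp [CartDual.coe_apply, LinearMap.convOne_apply]

theorem convMul_bcLin_tmul (t t' : T) (x x' : D R A) (G : (T ⊗[R] A) ⊗[T] (T ⊗[R] A)) :
    LinearMap.mul' T T (TensorProduct.map (bcLin R A T (t ⊗ₜ x)).ofConv
      (bcLin R A T (t' ⊗ₜ x')).ofConv G) = t * t' * pair₂ x x' G := by
  induction G using TensorProduct.induction_on with
  | zero => simp
  | tmul g g' =>
    rw [TensorProduct.map_tmul, LinearMap.mul'_apply, pair₂_tmul, ← CartDual.coe_apply,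
      ← CartDual.coe_apply, bcLin_apply, bcLin_apply, Pg_tmul, Pg_tmul]
    ring
  | add G G' h h' => rw [map_add, map_add, h, h', map_add, mul_add]

theorem bcLin_mul (y y' : T ⊗[R] D R A) :
    bcLin R A T (y * y') = bcLin R A T y * bcLin R A T y' := by
  letI : Semiring (T ⊗[R] D R A) := inferInstance
  haveI : RightDistribClass (T ⊗[R] D R A) := inferInstance
  haveI : LeftDistribClass (T ⊗[R] D R A) := inferInstance
  letI : MulZeroClass (T ⊗[R] D R A) := inferInstance
  induction y using TensorProduct.induction_on with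
  | zero =>
    have h0 : (0 : T ⊗[R] D R A) * y' = 0 := zero_mul y'
    rw [h0, map_zero, zero_mul]
  | add y₁ y₂ h₁ h₂ => rw [add_mul, map_add, h₁, h₂, map_add, add_mul]
  | tmul t x =>
    induction y' using TensorProduct.induction_on with
    | zero =>
      have h0 : (t ⊗ₜ[R] x : T ⊗[R] D R A) * 0 = 0 := mul_zero _
      rw [h0, map_zero, mul_zero]
    | add y₁ y₂ h₁ h₂ => rw [mul_add, map_add, h₁, h₂, map_add, mul_add]
    | tmul t' x' =>
      apply WithConv.ext
      apply LinearMap.ext
      intro g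
      change bcLin R A T (t ⊗ₜ x * t' ⊗ₜ x') g =
        (bcLin R A T (t ⊗ₜ x) * bcLin R A T (t' ⊗ₜ x')) g
      rw [Algebra.TensorProduct.tmul_mul_tmul, bcLin_apply, Pg_tmul, LinearMap.convMul_apply,
        convMul_bcLin_tmul, pair₂_comul]

/-- base change of the dual, as an algebra equivalence -/
noncomputable def bcEquiv : T ⊗[R] D R A ≃ₐ[T] D T (T ⊗[R] A) :=
  AlgEquiv.ofLinearEquiv (bcLin R A T) (bcLin_one R A T) (bcLin_mul R A T)

theorem bcEquiv_apply (y : T ⊗[R] D R A) (g : T ⊗[R] A) :
    bcEquiv R A T y g = Pg R A T g y := rfl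

theorem bcEquiv_tmul (t : T) (x : D R A) (g : T ⊗[R] A) :
    bcEquiv R A T (t ⊗ₜ x) g = t * pair x g := by
  rw [bcEquiv_apply, Pg_tmul]

/-- `x ⊗ x' ↦ pair x g * pair x' g'` -/
noncomputable def pairq (g g' : T ⊗[R] A) : D R A ⊗[R] D R A →ₗ[R] T :=
  LinearMap.mul' R T ∘ₗ TensorProduct.map (pairL g) (pairL g')

theorem pairq_tmul (g g' : T ⊗[R] A) (x x' : D R A) :
    pairq R A T g g' (x ⊗ₜ x') = pair x g * pair x' g' := by
  simp [pairq]

theorem pairq_tmul_tmul (t t' : T) (a a' : A) (y : D R A ⊗[R] D R A) :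
    pairq R A T (t ⊗ₜ a) (t' ⊗ₜ a') y = ev₂ R A y (a ⊗ₜ a') • (t * t') := by
  induction y using TensorProduct.induction_on with
  | zero => simp
  | tmul x x' =>
    rw [pairq_tmul, pair_tmul, pair_tmul, ev₂_tmul, smul_mul_smul_comm]
  | add y y' h h' => rw [map_add, h, h', map_add, LinearMap.add_apply, add_smul]

theorem pairq_comul (g g' : T ⊗[R] A) (e : D R A) :
    pairq R A T g g' (Coalgebra.comul (R := R) e) = pair e (g * g') := by
  induction g using TensorProduct.induction_on with
  | zero => simp [pairq, pairL_zero]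
  | add g₁ g₂ h₁ h₂ =>
    rw [add_mul, map_add, ← h₁, ← h₂]
    simp [pairq, pairL_add, TensorProduct.map_add_left]
  | tmul t a =>
    induction g' using TensorProduct.induction_on with
    | zero => simp [pairq, pairL_zero]
    | add g₁ g₂ h₁ h₂ =>
      rw [mul_add, map_add, ← h₁, ← h₂]
      simp [pairq, pairL_add, TensorProduct.map_add_right]
    | tmul t' a' =>
      rw [pairq_tmul_tmul, Algebra.TensorProduct.tmul_mul_tmul, pair_tmul, CartDual.comul_def,
        ev₂_comul_tmul]

theorem dual_coords {n : ℕ} (a : Fin n → A) (x : Fin n → D R A)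
    (hax : ∀ b : A, b = ∑ j, (x j) b • a j) (f : D R A) : f = ∑ j, f (a j) • x j := by
  apply WithConv.ext
  apply LinearMap.ext
  intro b
  change f b = (∑ j, f (a j) • x j) b
  conv_lhs => rw [hax b]
  rw [CartDual.coe_apply, map_sum, CartDual.coe_apply]
  simp [CartDual.coe_apply, mul_comm]

theorem tensor_coords {n : ℕ} (a : Fin n → A) (x : Fin n → D R A)
    (hax : ∀ b : A, b = ∑ j, (x j) b • a j) (z : D R A ⊗[R] D R A) :
    z = ∑ i, ∑ j, ev₂ R A z (a i ⊗ₜ a j) • (x i ⊗ₜ[R] x j) := by
  induction z using TensorProduct.induction_on with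
  | zero => simp
  | tmul f f' =>
    conv_lhs => rw [dual_coords R A a x hax f, dual_coords R A a x hax f']
    rw [TensorProduct.sum_tmul]
    refine Finset.sum_congr rfl fun i _ => ?_
    rw [TensorProduct.tmul_sum]
    refine Finset.sum_congr rfl fun j _ => ?_
    rw [TensorProduct.smul_tmul_smul, ev₂_tmul]
  | add z z' h h' =>
    conv_lhs => rw [h, h']
    rw [← Finset.sum_add_distrib]
    refine Finset.sum_congr rfl fun i _ => ?_
    rw [← Finset.sum_add_distrib]
    refine Finset.sum_congr rfl fun j _ => ?_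
    rw [map_add, LinearMap.add_apply, add_smul]

/-- an element of `D ⊗ D` all of whose values lie in an ideal lies in the extended submodule -/
theorem mem_smul_top_of_ev₂ (I : Ideal R) (z : D R A ⊗[R] D R A)
    (h : ∀ a a' : A, ev₂ R A z (a ⊗ₜ a') ∈ I) :
    z ∈ I • (⊤ : Submodule R (D R A ⊗[R] D R A)) := by
  obtain ⟨n, a, x, hax⟩ := exists_coords R A
  rw [tensor_coords R A a x hax z]
  refine Submodule.sum_mem _ fun i _ => Submodule.sum_mem _ fun j _ => ?_
  exact Submodule.smul_mem_smul (h _ _) Submodule.mem_top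

end BC

end Groth.Agent.H3.CartRing
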