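import Groth.Agent.H3.CartBC
import Groth.Agent.H79.CartBij

/-! Base change of the Cartier dual as an isomorphism of bialgebras, and the transpose of an
isomorphism of bialgebras. -/

set_option autoImplicit false
set_option linter.style.haveILetI false
set_option linter.unusedSectionVars false
universe u
open scoped TensorProduct
open CartDual

namespace Groth.Agent.H3.CartRing

section BCB

variable (R : Type u) [CommRing R] (A : Type u) [CommRing A] [HopfAlgebra R A]
  [Coalgebra.IsCocomm R A] [Module.Finite R A] [Module.Projective R A]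
  (T : Type u) [CommRing T] [Algebra R T]

theorem bcEquiv_counit (y : T ⊗[R] D R A) :
    Coalgebra.counit (R := T) (bcEquiv R A T y) = Coalgebra.counit (R := T) y := by
  induction y using TensorProduct.induction_on with
  | zero => simp
  | add y y' hy hy' => rw [map_add, map_add, map_add, hy, hy']
  | tmul t x =>
    rw [CartDual.coalgebra_counit_apply, Algebra.TensorProduct.one_def, bcEquiv_tmul, pair_tmul,
      TensorProduct.counit_tmul, CommSemiring.counit_apply, CartDual.coalgebra_counit_apply,
      mul_smul_comm, mul_one]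

theorem ev₂_map_bcEquiv (t : T) (z : D R A ⊗[R] D R A) (g g' : T ⊗[R] A) :
    ev₂ T (T ⊗[R] A) (TensorProduct.map (bcEquiv R A T).toLinearMap (bcEquiv R A T).toLinearMap
      (TensorProduct.AlgebraTensorModule.tensorTensorTensorComm R T R T T T (D R A) (D R A)
        (((1 : T) ⊗ₜ[T] t) ⊗ₜ[R] z))) (g ⊗ₜ g') = t * pairq R A T g g' z := by
  induction z using TensorProduct.induction_on with
  | zero => simp
  | add z z' hz hz' =>
    rw [TensorProduct.tmul_add, map_add, map_add, map_add, LinearMap.add_apply, hz, hz', map_add,
      mul_add]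
  | tmul x x' =>
    rw [TensorProduct.AlgebraTensorModule.tensorTensorTensorComm_tmul, TensorProduct.map_tmul,
      ev₂_tmul, pairq_tmul]
    change bcEquiv R A T ((1 : T) ⊗ₜ x) g * bcEquiv R A T (t ⊗ₜ x') g' = _
    rw [bcEquiv_tmul, bcEquiv_tmul]
    ring

theorem bcEquiv_comul (y : T ⊗[R] D R A) :
    TensorProduct.map (bcEquiv R A T).toLinearMap (bcEquiv R A T).toLinearMap
      (Coalgebra.comul (R := T) y) = Coalgebra.comul (R := T) (bcEquiv R A T y) := by
  induction y using TensorProduct.induction_on with
  | zero => simp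
  | add y y' hy hy' => rw [map_add, map_add, map_add, map_add, hy, hy']
  | tmul t x =>
    apply (ev₂ T (T ⊗[R] A)).injective
    apply TensorProduct.ext'
    intro g g'
    rw [ev₂_coalgebra_comul_tmul, bcEquiv_tmul, TensorProduct.comul_tmul,
      CommSemiring.comul_apply, ev₂_map_bcEquiv, pairq_comul]

theorem bcEquiv_counit_comp :
    (Bialgebra.counitAlgHom T (D T (T ⊗[R] A))).comp
      (bcEquiv R A T : T ⊗[R] D R A →ₐ[T] D T (T ⊗[R] A)) =
      Bialgebra.counitAlgHom T (T ⊗[R] D R A) := by
  apply AlgHom.ext
  intro y
  exact bcEquiv_counit R A T y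

theorem bcEquiv_comul_comp :
    (Algebra.TensorProduct.map (bcEquiv R A T : T ⊗[R] D R A →ₐ[T] D T (T ⊗[R] A))
      (bcEquiv R A T : T ⊗[R] D R A →ₐ[T] D T (T ⊗[R] A))).comp
      (Bialgebra.comulAlgHom T (T ⊗[R] D R A)) =
      (Bialgebra.comulAlgHom T (D T (T ⊗[R] A))).comp
        (bcEquiv R A T : T ⊗[R] D R A →ₐ[T] D T (T ⊗[R] A)) := by
  apply AlgHom.ext
  intro y
  have h1 := bcEquiv_comul R A T y
  simp only [AlgHom.comp_apply, Bialgebra.comulAlgHom_apply, AlgEquiv.coe_algHom]
  rw [← h1]
  generalize (Coalgebra.comul (R := T) y) = w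
  induction w using TensorProduct.induction_on with
  | zero => simp
  | add w w' hw hw' => rw [map_add, map_add, hw, hw']
  | tmul p q => simp

/-- base change of the dual, as an isomorphism of bialgebras -/
noncomputable def bcBialg : T ⊗[R] D R A ≃ₐc[T] D T (T ⊗[R] A) :=
  BialgEquiv.ofAlgEquiv (R := T) (A := T ⊗[R] D R A) (B := D T (T ⊗[R] A)) (bcEquiv R A T)
    (bcEquiv_counit_comp R A T) (bcEquiv_comul_comp R A T)

end BCB

section Transpose

variable (R : Type u) [CommRing R] {A B : Type u} [CommRing A] [Bialgebra R A] [CommRing B]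
  [Bialgebra R B] [Module.Finite R A] [Module.Projective R A] [Module.Finite R B]
  [Module.Projective R B]

/-- the transpose of an isomorphism of bialgebras -/
noncomputable def transposeEquiv (e : A ≃ₐc[R] B) : D R B ≃ₐc[R] D R A :=
  BialgEquiv.ofBialgHom (transpose R (e : A →ₐc[R] B)) (transpose R (e.symm : B →ₐc[R] A))
    (by
      apply BialgHom.ext
      intro x
      apply WithConv.ext
      apply LinearMap.ext
      intro a
      change transpose R (e : A →ₐc[R] B) (transpose R (e.symm : B →ₐc[R] A) x) a = x a
      rw [transpose_apply, transpose_apply]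
      exact congrArg x (e.symm_apply_apply a))
    (by
      apply BialgHom.ext
      intro x
      apply WithConv.ext
      apply LinearMap.ext
      intro b
      change transpose R (e.symm : B →ₐc[R] A) (transpose R (e : A →ₐc[R] B) x) b = x b
      rw [transpose_apply, transpose_apply]
      exact congrArg x (e.apply_symm_apply b))

end Transpose

end Groth.Agent.H3.CartRing
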