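import Groth.Agent.H3.CartRingPts
import Groth.Prelude.Def_SGA3b
import Mathlib.RingTheory.Bialgebra.MonoidAlgebra
import Mathlib.RingTheory.HopfAlgebra.GroupLike
import Mathlib.RingTheory.TensorProduct.Pi

/-! Core: a finite projective commutative cocommutative Hopf algebra whose dual is split by a
ring `T` with only trivial idempotents becomes a group algebra over `T`. -/

set_option autoImplicit false
set_option linter.style.haveILetI false
set_option linter.unusedSectionVars false
universe u
open scoped TensorProduct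
open CartDual

namespace Groth.Agent.H3.CartRing

section Eval

variable {T : Type*} [CommRing T] [Nontrivial T] {n : ℕ}

/-- algebra maps from a finite power of a ring with only trivial idempotents are evaluations -/
theorem exists_eval_of_algHom (hT : ∀ e : T, IsIdempotentElem e → e = 0 ∨ e = 1)
    (f : (Fin n → T) →ₐ[T] T) : ∃ i, ∀ v, f v = v i := by
  classical
  let a : Fin n → T := fun j => f (Pi.single j 1)
  have ha : ∀ j, a j = 0 ∨ a j = 1 := by
    intro j
    apply hT
    change f (Pi.single j 1) * f (Pi.single j 1) = f (Pi.single j 1)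
    rw [← map_mul, ← Pi.single_mul, mul_one]
  have hsum : ∑ j, a j = 1 := by
    change ∑ j, f (Pi.single j 1) = 1
    rw [← map_sum, Finset.univ_sum_single]
    exact map_one f
  have hex : ∃ i, a i = 1 := by
    by_contra hne
    push Not at hne
    have : ∀ j, a j = 0 := fun j => (ha j).resolve_right (hne j)
    rw [Finset.sum_eq_zero fun j _ => this j] at hsum
    exact zero_ne_one hsum
  obtain ⟨i, hi⟩ := hex
  have horth : ∀ j, j ≠ i → a j = 0 := by
    intro j hj
    have h1 : a i * a j = 0 := by
      change f (Pi.single i 1) * f (Pi.single j 1) = 0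
      rw [← map_mul, ← Pi.single_mul_left, Pi.single_eq_of_ne hj.symm, mul_zero, Pi.single_zero,
        map_zero]
    rwa [hi, one_mul] at h1
  refine ⟨i, fun v => ?_⟩
  have hv : v = ∑ j, v j • (Pi.single j (1 : T) : Fin n → T) := by
    ext l
    simp [Finset.sum_apply, Pi.single_apply]
  conv_lhs => rw [hv]
  rw [map_sum]
  simp only [map_smul, smul_eq_mul]
  rw [Finset.sum_eq_single i]
  · change v i * a i = v i
    rw [hi, mul_one]
  · intro j _ hj
    change v j * a j = 0
    rw [horth j hj, mul_zero]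
  · intro h
    exact absurd (Finset.mem_univ i) h

end Eval

section Core

variable (R : Type u) [CommRing R] (A : Type u) [CommRing A] [HopfAlgebra R A]
  [Coalgebra.IsCocomm R A] [Module.Finite R A] [Module.Projective R A]
  (T : Type u) [CommRing T] [Algebra R T]

/-- the `T`-linear functional on `T ⊗ D` attached to an element of `T ⊗ A` -/
noncomputable def Pg (g : T ⊗[R] A) : T ⊗[R] D R A →ₗ[T] T :=
  LinearMap.liftBaseChange T (pairL g)

theorem Pg_tmul (g : T ⊗[R] A) (t : T) (x : D R A) : Pg R A T g (t ⊗ₜ x) = t * pair x g := by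
  simp [Pg, LinearMap.liftBaseChange_tmul]

theorem Pg_add (g h : T ⊗[R] A) : Pg R A T (g + h) = Pg R A T g + Pg R A T h := by
  apply TensorProduct.AlgebraTensorModule.ext
  intro t x
  rw [LinearMap.add_apply, Pg_tmul, Pg_tmul, Pg_tmul, map_add, mul_add]

theorem Pg_smul (c : T) (g : T ⊗[R] A) : Pg R A T (c • g) = c • Pg R A T g := by
  apply TensorProduct.AlgebraTensorModule.ext
  intro t x
  rw [LinearMap.smul_apply, Pg_tmul, Pg_tmul, map_smul, smul_eq_mul, smul_eq_mul]
  ring

theorem eq_zero_of_Pg_eq_zero (g : T ⊗[R] A) (h : Pg R A T g = 0) : g = 0 := by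
  apply eq_of_pair_eq
  intro x
  have := LinearMap.congr_fun h ((1 : T) ⊗ₜ x)
  rw [Pg_tmul, one_mul, LinearMap.zero_apply] at this
  rw [this, map_zero]

theorem exists_Pg_eq (f : T ⊗[R] D R A →ₗ[T] T) : ∃ g : T ⊗[R] A, Pg R A T g = f := by
  obtain ⟨g, hg⟩ := exists_pair_eq (k := R) (A := A) (R := T)
    ((f.restrictScalars R) ∘ₗ (TensorProduct.mk R T (D R A) 1))
  refine ⟨g, ?_⟩
  apply TensorProduct.AlgebraTensorModule.ext
  intro t x
  rw [Pg_tmul, hg]
  have : t ⊗ₜ[R] x = t • ((1 : T) ⊗ₜ[R] x) := by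
    rw [TensorProduct.smul_tmul', smul_eq_mul, mul_one]
  rw [this, map_smul, smul_eq_mul]
  rfl

/-- the `T`-algebra map on `T ⊗ D` attached to a group-like element -/
noncomputable def Fg (g : GroupLike T (T ⊗[R] A)) : T ⊗[R] D R A →ₐ[T] T :=
  Algebra.TensorProduct.lift (AlgHom.id T T) (fwdHom R A T g) (fun _ _ => Commute.all _ _)

theorem Fg_tmul (g : GroupLike T (T ⊗[R] A)) (t : T) (x : D R A) :
    Fg R A T g (t ⊗ₜ x) = t * pair x g.val := by
  simp [Fg, fwdHom_apply]

theorem Fg_eq_Pg (g : GroupLike T (T ⊗[R] A)) (y : T ⊗[R] D R A) :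
    Fg R A T g y = Pg R A T g.val y := by
  have : (Fg R A T g).toLinearMap = Pg R A T g.val := by
    apply TensorProduct.AlgebraTensorModule.ext
    intro t x
    rw [AlgHom.toLinearMap_apply, Fg_tmul, Pg_tmul]
  exact LinearMap.congr_fun this y

theorem Fg_injective : Function.Injective (Fg R A T) := by
  intro g h hgh
  apply fwdHom_injective R A T
  ext x
  have := DFunLike.congr_fun hgh ((1 : T) ⊗ₜ x)
  rw [Fg_tmul, Fg_tmul, one_mul, one_mul] at this
  rw [fwdHom_apply, fwdHom_apply]
  exact this

theorem Fg_surjective : Function.Surjective (Fg R A T) := by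
  intro F
  obtain ⟨g, hg⟩ := fwdHom_surjective R A T
    ((F.restrictScalars R).comp (Algebra.TensorProduct.includeRight : D R A →ₐ[R] T ⊗[R] D R A))
  refine ⟨g, ?_⟩
  apply Algebra.TensorProduct.ext'
  intro t x
  rw [Fg_tmul, ← fwdHom_apply, hg]
  have : t ⊗ₜ[R] x = t • ((1 : T) ⊗ₜ[R] x) := by
    rw [TensorProduct.smul_tmul', smul_eq_mul, mul_one]
  rw [this, map_smul, smul_eq_mul]
  rfl

end Core

end Groth.Agent.H3.CartRing
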