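import Groth.Agent.H3.CartIsoCore

/-! A finite projective commutative cocommutative Hopf algebra whose dual is split by a
ring `T` with only trivial idempotents becomes a group algebra over `T`. -/

set_option autoImplicit false
set_option linter.style.haveILetI false
set_option linter.unusedSectionVars false
universe u
open scoped TensorProduct
open CartDual

namespace Groth.Agent.H3.CartRing

variable (R : Type u) [CommRing R] (A : Type u) [CommRing A] [HopfAlgebra R A]
  [Coalgebra.IsCocomm R A] [Module.Finite R A] [Module.Projective R A]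
  (T : Type u) [CommRing T] [Algebra R T]

theorem isDiag_of_split [Nontrivial T] (hT : ∀ e : T, IsIdempotentElem e → e = 0 ∨ e = 1)
    (n : ℕ) (σ : T ⊗[R] D R A ≃ₐ[T] (Fin n → T)) : SGA3b.IsDiag T (T ⊗[R] A) := by
  classical
  -- the group-like elements attached to the points
  have hgl : ∀ i : Fin n, ∃ g : GroupLike T (T ⊗[R] A),
      Fg R A T g = (Pi.evalAlgHom T (fun _ : Fin n => T) i).comp σ.toAlgHom :=
    fun i => Fg_surjective R A T _
  choose gl hgl using hgl
  have hglσ : ∀ i y, Fg R A T (gl i) y = σ y i := by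
    intro i y
    rw [hgl i]
    rfl
  -- every group-like element is one of them
  have hall : ∀ g : GroupLike T (T ⊗[R] A), ∃ i, g = gl i := by
    intro g
    obtain ⟨i, hi⟩ := exists_eval_of_algHom hT ((Fg R A T g).comp σ.symm.toAlgHom)
    refine ⟨i, Fg_injective R A T ?_⟩
    refine DFunLike.ext _ _ fun y => ?_
    have := hi (σ y)
    rw [AlgHom.comp_apply] at this
    change Fg R A T g (σ.symm (σ y)) = σ y i at this
    rw [σ.symm_apply_apply] at this
    rw [hglσ]
    simpa using this
  -- the coordinate map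
  let y : Fin n → T ⊗[R] D R A := fun j => σ.symm (Pi.single j 1)
  have hy : ∀ z : T ⊗[R] D R A, z = ∑ j, (σ z j) • y j := by
    intro z
    apply σ.injective
    rw [map_sum]
    simp only [map_smul, y, σ.apply_symm_apply]
    ext l
    simp [Finset.sum_apply, Pi.single_apply]
  let Λ : T ⊗[R] A →ₗ[T] (Fin n → T) :=
    { toFun := fun g j => Pg R A T g (y j)
      map_add' := fun g h => by
        ext j
        simp only [Pg_add, LinearMap.add_apply, Pi.add_apply]
      map_smul' := fun c g => by
        ext j
        simp only [Pg_smul, LinearMap.smul_apply, Pi.smul_apply, RingHom.id_apply] }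
  have hΛ : ∀ g j, Λ g j = Pg R A T g (y j) := fun _ _ => rfl
  have hΛgl : ∀ i, Λ (gl i).val = Pi.single i 1 := by
    intro i
    ext j
    rw [hΛ, ← Fg_eq_Pg, hglσ]
    simp only [y, σ.apply_symm_apply, Pi.single_apply]
    simp only [eq_comm]
  have hΛinj : Function.Injective Λ := by
    rw [injective_iff_map_eq_zero]
    intro g hg
    apply eq_zero_of_Pg_eq_zero R A T
    apply LinearMap.ext
    intro z
    rw [hy z, map_sum]
    simp only [map_smul, LinearMap.zero_apply]
    apply Finset.sum_eq_zero
    intro j _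
    have := congrFun hg j
    rw [hΛ] at this
    rw [this]
    simp
  have hΛsurj : Function.Surjective Λ := by
    intro v
    obtain ⟨g, hg⟩ := exists_Pg_eq R A T
      ((∑ l, v l • (LinearMap.proj l : (Fin n → T) →ₗ[T] T)) ∘ₗ σ.toLinearMap)
    refine ⟨g, ?_⟩
    ext j
    rw [hΛ, hg]
    simp only [LinearMap.coe_comp, Function.comp_apply, AlgEquiv.toLinearMap_apply, y,
      σ.apply_symm_apply, LinearMap.sum_apply, LinearMap.smul_apply, LinearMap.proj_apply,
      Pi.single_apply, smul_eq_mul]
    simp
  -- injectivity of `gl`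
  have hglinj : Function.Injective gl := by
    intro i l hil
    have h1 : (Pi.single i 1 : Fin n → T) = Pi.single l 1 := by
      rw [← hΛgl i, ← hΛgl l, hil]
    have h2 := congrFun h1 i
    rw [Pi.single_eq_same, Pi.single_apply] at h2
    by_contra hne
    rw [if_neg hne] at h2
    exact one_ne_zero h2
  let ι : Fin n ≃ GroupLike T (T ⊗[R] A) := Equiv.ofBijective gl
    ⟨hglinj, fun g => by obtain ⟨i, hi⟩ := hall g; exact ⟨i, hi.symm⟩⟩
  -- the comparison map
  let Ψ := MonoidAlgebra.liftGroupLikeBialgHom (R := T) (A := T ⊗[R] A)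
  let E : MonoidAlgebra T (GroupLike T (T ⊗[R] A)) ≃ₗ[T] (Fin n → T) :=
    (MonoidAlgebra.coeffLinearEquiv T) ≪≫ₗ Finsupp.domLCongr ι.symm ≪≫ₗ
      Finsupp.linearEquivFunOnFinite T T (Fin n)
  have hcomp : Λ ∘ₗ (Ψ : MonoidAlgebra T (GroupLike T (T ⊗[R] A)) →ₗ[T] T ⊗[R] A) =
      E.toLinearMap := by
    apply MonoidAlgebra.lhom_ext'
    intro m
    apply LinearMap.ext
    intro t
    obtain ⟨i, rfl⟩ := ι.surjective m
    have h1 : Ψ (MonoidAlgebra.single (ι i) t) = t • (gl i).val := by
      simp [Ψ, MonoidAlgebra.liftGroupLikeBialgHom, MonoidAlgebra.lift_single, ι]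
    have h2 : E (MonoidAlgebra.single (ι i) t) = Pi.single i t := by
      simp [E]
    change Λ (Ψ (MonoidAlgebra.single (ι i) t)) = E (MonoidAlgebra.single (ι i) t)
    rw [h1, h2, map_smul, hΛgl]
    ext l
    simp [Pi.single_apply]
  have hΨbij : Function.Bijective Ψ := by
    constructor
    · intro a b hab
      apply E.injective
      have h1 := LinearMap.congr_fun hcomp a
      have h2 := LinearMap.congr_fun hcomp b
      simp only [LinearMap.coe_comp, Function.comp_apply, LinearEquiv.coe_coe] at h1 h2
      rw [← h1, ← h2]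
      exact congrArg Λ hab
    · intro z
      obtain ⟨a, ha⟩ := E.surjective (Λ z)
      refine ⟨a, hΛinj ?_⟩
      have h1 := LinearMap.congr_fun hcomp a
      simp only [LinearMap.coe_comp, Function.comp_apply, LinearEquiv.coe_coe] at h1
      rw [← ha, ← h1]
      rfl
  exact ⟨GroupLike T (T ⊗[R] A), inferInstance, ⟨(BialgEquiv.ofBijective Ψ hΨbij).symm⟩⟩

end Groth.Agent.H3.CartRing
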