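import Groth.Agent.H3.FEtConn2

/-! Over a connected base, a finite etale algebra is split by a connected finite etale faithfully
flat algebra. -/

set_option autoImplicit false
set_option linter.style.haveILetI false
universe u

namespace Groth.Agent.H3.FEtConn

open PrimeSpectrum TopologicalSpace TensorProduct

theorem faithfullyFlat_of_nontrivial (R : Type u) [CommRing R] [ConnectedSpace (PrimeSpectrum R)]
    (T : Type u) [CommRing T] [Algebra R T] [Module.Finite R T] [Algebra.Etale R T]
    [Nontrivial T] : Module.FaithfullyFlat R T := by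
  haveI : Module.FinitePresentation R T :=
    Module.FinitePresentation.of_finite_of_finitePresentation _ _
  obtain ⟨r, hr⟩ := exists_rank R T
  have hrpos : 0 < r := by
    rcases Nat.eq_zero_or_pos r with h | h
    · exfalso
      have : Module.rankAtStalk (R := R) T = 0 := by
        ext p
        rw [hr p, h]
        rfl
      rw [Module.rankAtStalk_eq_zero_iff_subsingleton] at this
      exact not_subsingleton _ this
    · exact h
  apply Module.FaithfullyFlat.of_comap_surjective
  rw [← PrimeSpectrum.rankAtStalk_pos_iff_comap_surjective]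
  intro p
  rw [hr p]
  exact hrpos

/-- Over a connected base, a finite etale algebra is split by a connected finite etale
faithfully flat algebra. -/
theorem exists_connected_split (R : Type u) [CommRing R] [ConnectedSpace (PrimeSpectrum R)]
    (S : Type u) [CommRing S] [Algebra R S] [Algebra.Etale R S] [Module.Finite R S] :
    ∃ (T : Type u) (_ : CommRing T) (_ : Algebra R T), Module.Finite R T ∧ Algebra.Etale R T ∧
      Module.FaithfullyFlat R T ∧ ConnectedSpace (PrimeSpectrum T) ∧
      ∃ n : ℕ, Nonempty (T ⊗[R] S ≃ₐ[T] (Fin n → T)) := by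
  haveI : Module.FinitePresentation R S :=
    Module.FinitePresentation.of_finite_of_finitePresentation _ _
  haveI : Nontrivial R := by
    obtain ⟨p₀⟩ := (inferInstance : Nonempty (PrimeSpectrum R))
    exact p₀.nontrivial
  obtain ⟨n, hn⟩ := exists_rank R S
  have hn' : Module.rankAtStalk (R := R) S = n := by
    ext p
    rw [hn p]
    rfl
  obtain ⟨T₀, _, _, hff, hfin, het, hsplit⟩ :=
    Algebra.IsFiniteSplit.exists_tensorProduct_of_etale hn'
  haveI : Nontrivial T₀ :=
    (FaithfulSMul.algebraMap_injective R T₀).nontrivial
  haveI : Module.FinitePresentation R T₀ :=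
    Module.FinitePresentation.of_finite_of_finitePresentation _ _
  obtain ⟨r, hr⟩ := exists_rank R T₀
  obtain ⟨T', _, _, h1, h2, h3, ⟨φ⟩⟩ := exists_connected R r T₀ hr
  haveI : Nontrivial T' := by
    obtain ⟨p₀⟩ := (inferInstance : Nonempty (PrimeSpectrum T'))
    exact p₀.nontrivial
  refine ⟨T', inferInstance, inferInstance, h1, h2, faithfullyFlat_of_nontrivial R T', h3, ?_⟩
  letI : Algebra T₀ T' := φ.toRingHom.toAlgebra
  haveI : IsScalarTower R T₀ T' := IsScalarTower.of_algebraMap_eq fun x => (φ.commutes x).symm
  have hs : Algebra.IsFiniteSplit T' (T' ⊗[T₀] (T₀ ⊗[R] S)) := inferInstance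
  have hs' : Algebra.IsFiniteSplit T' (T' ⊗[R] S) :=
    Algebra.IsFiniteSplit.of_algEquiv (Algebra.TensorProduct.cancelBaseChange R T₀ T' T' S)
  exact Algebra.IsFiniteSplit.nonempty_algEquiv_fun T' (T' ⊗[R] S)

end Groth.Agent.H3.FEtConn
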