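import Groth.Agent.H3.CartIsoMain
import Groth.Agent.H3.FEtConn3
import Mathlib.LinearAlgebra.Dual.Basis
import Mathlib.RingTheory.Etale.Descent

/-! Isotriviality over a connected base from an etale Cartier dual, and conversely. -/

set_option autoImplicit false
set_option linter.style.haveILetI false
set_option linter.unusedSectionVars false
universe u
open scoped TensorProduct
open CartDual

namespace Groth.Agent.H3.CartRing

variable (R : Type u) [CommRing R] (A : Type u) [CommRing A] [HopfAlgebra R A]
  [Coalgebra.IsCocomm R A] [Module.Finite R A] [Module.Projective R A]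

/-- Over a connected base, a finite locally free commutative group with etale Cartier dual is
isotrivial. -/
theorem isIsotrivial_of_etale_dual [ConnectedSpace (PrimeSpectrum R)]
    [Algebra.Etale R (D R A)] : SGA3b.IsIsotrivial R A := by
  obtain ⟨T, _, _, hfin, het, hff, hconn, n, ⟨σ⟩⟩ :=
    Groth.Agent.H3.FEtConn.exists_connected_split R (D R A)
  haveI : Nontrivial T := by
    obtain ⟨p₀⟩ := (inferInstance : Nonempty (PrimeSpectrum T))
    exact p₀.nontrivial
  exact ⟨T, inferInstance, inferInstance, het, hfin, hff,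
    isDiag_of_split R A T (fun e he => Groth.Agent.H3.FEtConn.idem_of_connectedSpace e he) n σ⟩

variable (T : Type u) [CommRing T] [Algebra R T]

/-- the pairing as a linear equivalence onto the dual of `T ⊗ D` -/
noncomputable def PgEquiv : T ⊗[R] A ≃ₗ[T] Module.Dual T (T ⊗[R] D R A) :=
  LinearEquiv.ofBijective
    { toFun := Pg R A T
      map_add' := Pg_add R A T
      map_smul' := Pg_smul R A T }
    ⟨by
      rw [injective_iff_map_eq_zero]
      intro g hg
      exact eq_zero_of_Pg_eq_zero R A T g hg,
     fun f => exists_Pg_eq R A T f⟩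

theorem PgEquiv_apply (g : T ⊗[R] A) (z : T ⊗[R] D R A) : PgEquiv R A T g z = Pg R A T g z := rfl

/-- a basis of group-like elements of `T ⊗ A` splits the dual -/
theorem isFiniteSplit_of_basis [Nontrivial T] {M : Type*} (b : Module.Basis M T (T ⊗[R] A))
    (hb : ∀ m, IsGroupLikeElem T (b m)) : Algebra.IsFiniteSplit T (T ⊗[R] D R A) := by
  classical
  haveI : Finite M := Module.Finite.finite_basis b
  haveI : Fintype M := Fintype.ofFinite M
  let b' : Module.Basis M T (Module.Dual T (T ⊗[R] D R A)) := b.map (PgEquiv R A T)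
  let F : T ⊗[R] D R A →ₐ[T] (M → T) :=
    Pi.algHom T (fun _ : M => T) (fun m => Fg R A T ⟨b m, hb m⟩)
  let L : T ⊗[R] D R A ≃ₗ[T] (M → T) :=
    Module.evalEquiv T (T ⊗[R] D R A) ≪≫ₗ b'.dualBasis.equivFun
  have hFL : ∀ z, F z = L z := by
    intro z
    ext m
    change Fg R A T ⟨b m, hb m⟩ z = b'.dualBasis.repr (Module.evalEquiv T _ z) m
    rw [Module.Basis.dualBasis_repr, Fg_eq_Pg]
    rfl
  have hF : Function.Bijective F := by
    have : (F : T ⊗[R] D R A → (M → T)) = L := funext hFL
    rw [this]
    exact L.bijective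
  exact Algebra.IsFiniteSplit.of_algEquiv (AlgEquiv.ofBijective F hF).symm

/-- If `A` becomes diagonalisable after a faithfully flat base change, its dual is etale. -/
theorem etale_dual_of_isDiag [Nontrivial T] [Module.FaithfullyFlat R T]
    (h : SGA3b.IsDiag T (T ⊗[R] A)) : Algebra.Etale R (D R A) := by
  obtain ⟨M, _, ⟨e⟩⟩ := h
  let b₀ : Module.Basis M T (MonoidAlgebra T M) := MonoidAlgebra.basis M T
  let b : Module.Basis M T (T ⊗[R] A) := b₀.map e.symm.toLinearEquiv
  have hb : ∀ m, IsGroupLikeElem T (b m) := by
    intro m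
    have h1 : b m = e.symm (MonoidAlgebra.single m 1) := by
      simp [b, b₀]
      rfl
    rw [h1]
    exact (MonoidAlgebra.isGroupLikeElem_single_one (R := T) (A := T) m).map e.symm
  haveI := isFiniteSplit_of_basis R A T b hb
  exact Algebra.Etale.of_etale_tensorProduct_of_faithfullyFlat (R := R) (S := D R A) T

end Groth.Agent.H3.CartRing
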