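import Groth.Prelude.Def_CartDual
import Mathlib.RingTheory.Bialgebra.GroupLike
import Mathlib.RingTheory.Bialgebra.Convolution
import Mathlib.RingTheory.HopfAlgebra.TensorProduct
import Mathlib.LinearAlgebra.TensorProduct.Basis
import Mathlib.LinearAlgebra.Dual.Basis
import Mathlib.Algebra.Module.FinitePresentation

/-! The pairing between the base change `T ⊗ A` of a finite projective Hopf algebra over any
commutative ring and its dual (ring-level version of `Groth.Agent.H83.CartPts`). -/

set_option autoImplicit false
universe u v w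
open scoped TensorProduct
open CartDual

namespace Groth.Agent.H3.CartRing

section Pair

variable {k : Type u} [CommRing k] {A : Type v} [AddCommGroup A] [Module k A]
  {R : Type w} [CommRing R] [Algebra k R]

/-- pairing with a linear form, `R`-linearly: `r ⊗ a ↦ x a • r` -/
noncomputable def pair (x : D k A) : R ⊗[k] A →ₗ[R] R :=
  (TensorProduct.AlgebraTensorModule.rid k R R).toLinearMap ∘ₗ
    TensorProduct.AlgebraTensorModule.lTensor R R (toDual k A x)

@[simp] theorem pair_tmul (x : D k A) (r : R) (a : A) :
    pair x (r ⊗ₜ[k] a) = x a • r := by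
  simp [pair, CartDual.coe_apply]

theorem pair_eq (x : D k A) (g : R ⊗[k] A) :
    pair x g = TensorProduct.rid k R (((toDual k A x).lTensor R) g) := by
  induction g using TensorProduct.induction_on with
  | zero => simp
  | tmul r a => simp [CartDual.coe_apply]
  | add g h hg hh => rw [map_add, map_add, map_add, hg, hh]

theorem pair_add (x y : D k A) (g : R ⊗[k] A) : pair (x + y) g = pair x g + pair y g := by
  induction g using TensorProduct.induction_on with
  | zero => simp
  | tmul r a => simp [CartDual.coe_apply, add_smul]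
  | add g h hg hh => rw [map_add, map_add, map_add, hg, hh]; abel

theorem pair_smul (c : k) (x : D k A) (g : R ⊗[k] A) : pair (c • x) g = c • pair x g := by
  induction g using TensorProduct.induction_on with
  | zero => simp
  | tmul r a => simp [CartDual.coe_apply, mul_smul]
  | add g h hg hh => rw [map_add, map_add, hg, hh, smul_add]

/-- the pairing as a `k`-linear map in the linear form -/
noncomputable def pairL (g : R ⊗[k] A) : D k A →ₗ[k] R where
  toFun x := pair x g
  map_add' x y := pair_add x y g
  map_smul' c x := pair_smul c x g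

@[simp] theorem pairL_apply (g : R ⊗[k] A) (x : D k A) : pairL g x = pair x g := rfl

theorem pairL_add (g h : R ⊗[k] A) : pairL (g + h) = pairL g + pairL h := by
  ext x; simp

theorem pairL_zero : pairL (0 : R ⊗[k] A) = 0 := by
  ext x; simp

/-- the pairing on the tensor square over `R` -/
noncomputable def pair₂ (x y : D k A) : (R ⊗[k] A) ⊗[R] (R ⊗[k] A) →ₗ[R] R :=
  LinearMap.mul' R R ∘ₗ TensorProduct.map (pair x) (pair y)

@[simp] theorem pair₂_tmul (x y : D k A) (g h : R ⊗[k] A) :
    pair₂ x y (g ⊗ₜ[R] h) = pair x g * pair y h := by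
  simp [pair₂]

end Pair

section Coord

variable {k : Type u} [CommRing k] {A : Type v} [AddCommGroup A] [Module k A]
  [Module.Finite k A] [Module.Projective k A]
  {R : Type w} [CommRing R] [Algebra k R]

variable (k A) in
/-- dual coordinates for a finite projective module -/
theorem exists_coords : ∃ (n : ℕ) (a : Fin n → A) (x : Fin n → D k A),
    ∀ b : A, b = ∑ j, (x j) b • a j := by
  obtain ⟨n, f, g, hf, -, hfg⟩ := Module.Finite.exists_comp_eq_id_of_projective k A
  refine ⟨n, fun j => f (Pi.single j 1),
    fun j => WithConv.toConv ((LinearMap.proj j : (Fin n → k) →ₗ[k] k) ∘ₗ g), fun b => ?_⟩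
  have h1 : b = f (g b) := by
    have := LinearMap.congr_fun hfg b
    simpa using this.symm
  conv_lhs => rw [h1]
  have h2 : g b = ∑ j, (g b j) • (Pi.single j (1 : k) : Fin n → k) := by
    ext i
    simp [Finset.sum_apply, Pi.single_apply]
  conv_lhs => rw [h2]
  rw [map_sum]
  refine Finset.sum_congr rfl fun j _ => ?_
  rw [map_smul]
  rfl

/-- the pairing separates the elements of `R ⊗ A` -/
theorem eq_of_pair_eq (g h : R ⊗[k] A) (hgh : ∀ x : D k A, pair x g = pair x h) : g = h := by
  obtain ⟨n, a, x, hax⟩ := exists_coords k A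
  have key : ∀ g : R ⊗[k] A, g = ∑ j, pair (x j) g ⊗ₜ[k] a j := by
    intro g
    induction g using TensorProduct.induction_on with
    | zero => simp
    | tmul r b =>
      conv_lhs => rw [hax b]
      rw [TensorProduct.tmul_sum]
      refine Finset.sum_congr rfl fun j _ => ?_
      rw [pair_tmul, TensorProduct.tmul_smul, TensorProduct.smul_tmul']
    | add g h hg hh =>
      conv_lhs => rw [hg, hh]
      rw [← Finset.sum_add_distrib]
      refine Finset.sum_congr rfl fun j _ => ?_
      rw [map_add, TensorProduct.add_tmul]
  rw [key g, key h]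
  refine Finset.sum_congr rfl fun j _ => ?_
  rw [hgh]

/-- every linear map from the dual is a pairing -/
theorem exists_pair_eq (φ : D k A →ₗ[k] R) : ∃ g : R ⊗[k] A, ∀ x : D k A, pair x g = φ x := by
  obtain ⟨n, a, x, hax⟩ := exists_coords k A
  refine ⟨∑ j, φ (x j) ⊗ₜ[k] a j, fun y => ?_⟩
  rw [map_sum]
  simp only [pair_tmul]
  have hy : y = ∑ j, y (a j) • x j := by
    apply WithConv.ext
    apply LinearMap.ext
    intro b
    have hb := hax b
    have h1 : y.ofConv b = ∑ j, (x j) b • y.ofConv (a j) := by
      conv_lhs => rw [hb]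
      rw [map_sum]
      refine Finset.sum_congr rfl fun j _ => ?_
      rw [map_smul]
    rw [h1]
    have h2 : (∑ j, y (a j) • x j).ofConv b = ∑ j, (y (a j) • x j).ofConv b := by
      rw [WithConv.ofConv_sum, LinearMap.sum_apply]
    rw [h2]
    refine Finset.sum_congr rfl fun j _ => ?_
    simp [CartDual.coe_apply, mul_comm]
  conv_rhs => rw [hy, map_sum]
  simp only [map_smul]

/-- the pairing on the tensor square separates elements -/
theorem eq_of_pair₂_eq (t t' : (R ⊗[k] A) ⊗[R] (R ⊗[k] A))
    (h : ∀ x y : D k A, pair₂ x y t = pair₂ x y t') : t = t' := by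
  obtain ⟨n, a, x, hax⟩ := exists_coords k A
  have key1 : ∀ g : R ⊗[k] A, g = ∑ j, pair (x j) g • ((1 : R) ⊗ₜ[k] a j) := by
    intro g
    induction g using TensorProduct.induction_on with
    | zero => simp
    | tmul r b =>
      conv_lhs => rw [hax b]
      rw [TensorProduct.tmul_sum]
      refine Finset.sum_congr rfl fun j _ => ?_
      rw [pair_tmul, TensorProduct.tmul_smul, TensorProduct.smul_tmul', TensorProduct.smul_tmul',
        smul_eq_mul, mul_one]
    | add g h hg hh =>
      conv_lhs => rw [hg, hh]
      rw [← Finset.sum_add_distrib]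
      refine Finset.sum_congr rfl fun j _ => ?_
      rw [map_add, add_smul]
  have key : ∀ t : (R ⊗[k] A) ⊗[R] (R ⊗[k] A),
      t = ∑ j, ∑ l, pair₂ (x j) (x l) t • (((1 : R) ⊗ₜ[k] a j) ⊗ₜ[R] ((1 : R) ⊗ₜ[k] a l)) := by
    intro t
    induction t using TensorProduct.induction_on with
    | zero => simp
    | tmul g g' =>
      conv_lhs => rw [key1 g, key1 g']
      rw [TensorProduct.sum_tmul]
      refine Finset.sum_congr rfl fun j _ => ?_
      rw [TensorProduct.tmul_sum]
      refine Finset.sum_congr rfl fun l _ => ?_
      rw [pair₂_tmul, TensorProduct.smul_tmul_smul]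
    | add t t' ht ht' =>
      conv_lhs => rw [ht, ht']
      rw [← Finset.sum_add_distrib]
      refine Finset.sum_congr rfl fun j _ => ?_
      rw [← Finset.sum_add_distrib]
      refine Finset.sum_congr rfl fun l _ => ?_
      rw [map_add, add_smul]
  rw [key t, key t']
  refine Finset.sum_congr rfl fun j _ => Finset.sum_congr rfl fun l _ => ?_
  rw [h]

end Coord

end Groth.Agent.H3.CartRing
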