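import Groth.Agent.H3.CartRingPair

/-! Group-like elements of `T ⊗ A` are the `T`-points of the dual Hopf algebra, over any
commutative base ring, for `A` finite projective. -/

set_option autoImplicit false
universe u v w
open scoped TensorProduct
open CartDual

namespace Groth.Agent.H3.CartRing

section Hopf

variable {k : Type u} [CommRing k] {A : Type v} [CommRing A] [HopfAlgebra k A]
  {R : Type w} [CommRing R] [Algebra k R]

theorem pair_one (g : R ⊗[k] A) : pair (1 : D k A) g = Coalgebra.counit (R := R) g := by
  have : (pair (1 : D k A) : R ⊗[k] A →ₗ[R] R) = Coalgebra.counit (R := R) := by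
    apply TensorProduct.AlgebraTensorModule.ext
    intro r a
    rw [pair_tmul, TensorProduct.counit_tmul, CommSemiring.counit_apply]
    congr 1
  exact LinearMap.congr_fun this g

theorem pair₂_comul (x y : D k A) (g : R ⊗[k] A) :
    pair₂ x y (Coalgebra.comul (R := R) g) = pair (x * y) g := by
  have : (pair₂ x y : (R ⊗[k] A) ⊗[R] (R ⊗[k] A) →ₗ[R] R) ∘ₗ Coalgebra.comul (R := R) =
      pair (x * y) := by
    apply TensorProduct.AlgebraTensorModule.ext
    intro r a
    rw [LinearMap.comp_apply, TensorProduct.comul_tmul, pair_tmul, CommSemiring.comul_apply]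
    have h1 : (x * y) a = LinearMap.mul' k k (TensorProduct.map x.ofConv y.ofConv
        (Coalgebra.comul (R := k) a)) := LinearMap.convMul_apply x y a
    rw [h1]
    generalize Coalgebra.comul (R := k) a = t
    induction t using TensorProduct.induction_on with
    | zero => simp
    | tmul a₁ a₂ =>
      rw [TensorProduct.AlgebraTensorModule.tensorTensorTensorComm_tmul, pair₂_tmul, pair_tmul,
        pair_tmul, TensorProduct.map_tmul, LinearMap.mul'_apply]
      simp only [CartDual.coe_apply, Algebra.smul_def, mul_one, map_mul]
      ring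
    | add t t' ht ht' =>
      rw [TensorProduct.tmul_add, map_add, map_add, ht, ht', map_add, map_add, add_smul]
  exact LinearMap.congr_fun this g

end Hopf

section Main

variable (k : Type u) [CommRing k] (A : Type v) [CommRing A] [HopfAlgebra k A]
  [Module.Finite k A] [Module.Projective k A] (R : Type w) [CommRing R] [Algebra k R]

/-- the algebra map attached to a group-like element -/
noncomputable def fwdHom (g : GroupLike R (R ⊗[k] A)) : D k A →ₐ[k] R :=
  AlgHom.ofLinearMap (pairL g.val)
    (by
      rw [pairL_apply, pair_one]
      exact g.isGroupLikeElem_val.counit_eq_one)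
    (by
      intro x y
      rw [pairL_apply, pairL_apply, pairL_apply, ← pair₂_comul,
        g.isGroupLikeElem_val.comul_eq_tmul_self, pair₂_tmul])

theorem fwdHom_apply (g : GroupLike R (R ⊗[k] A)) (x : D k A) :
    fwdHom k A R g x = pair x g.val := rfl

theorem fwdHom_injective : Function.Injective (fwdHom k A R) := by
  intro g h hgh
  apply GroupLike.val_injective
  apply eq_of_pair_eq
  intro x
  have := DFunLike.congr_fun hgh x
  rwa [fwdHom_apply, fwdHom_apply] at this

theorem fwdHom_surjective : Function.Surjective (fwdHom k A R) := by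
  intro f
  obtain ⟨g₀, hg₀⟩ := exists_pair_eq (f.toLinearMap)
  have hgl : IsGroupLikeElem R g₀ := by
    refine ⟨?_, ?_⟩
    · rw [← pair_one, hg₀]
      exact map_one f
    · apply eq_of_pair₂_eq
      intro x y
      rw [pair₂_comul, pair₂_tmul, hg₀, hg₀, hg₀]
      exact map_mul f x y
  refine ⟨⟨g₀, hgl⟩, ?_⟩
  ext x
  rw [fwdHom_apply]
  exact hg₀ x

end Main

end Groth.Agent.H3.CartRing
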