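import Groth.Agent.H3.ChartLocal

/-!
# Products of charts and glueing of Hopf algebras along an idempotent decomposition
-/

set_option autoImplicit false
set_option linter.unusedSectionVars false
set_option linter.style.haveILetI false
universe u
open scoped TensorProduct

namespace Groth.Agent.H3.ChartLoc

open Groth.Agent.H26 Groth.Agent.H3.Idem Groth.Agent.H15.MTC

section PiPiece

variable {J : Type*} [DecidableEq J] (K : J → Type*) [∀ j, CommRing (K j)]

/-- a factor of a product of rings is a piece of the product -/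
theorem isPiece_pi (j : J) :
    letI : Algebra (∀ j, K j) (K j) := (Pi.evalRingHom K j).toAlgebra
    IsPiece (∀ j, K j) (Pi.single j 1) (K j) := by
  letI : Algebra (∀ j, K j) (K j) := (Pi.evalRingHom K j).toAlgebra
  constructor
  · intro x
    exact ⟨Pi.single j x, by change (Pi.single j x : ∀ j, K j) j = x; simp⟩
  · intro x
    change x j = 0 ↔ _
    constructor
    · intro hx
      funext i
      by_cases hij : i = j
      · subst hij
        simp [hx]
      · simp [Pi.single_eq_of_ne hij]
    · intro hx
      have := congrFun hx j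
      simpa using this

end PiPiece

section PC

variable {R : Type u} [CommRing R] {A : Type u} [CommRing A] [HopfAlgebra R A]
  {M : Type u} [CommGroup M]

/-- charts of the same type over finitely many algebras give a chart over their product -/
theorem hasDChart_pi {J : Type u} [Fintype J] (K : J → Type u) [∀ j, CommRing (K j)]
    [∀ j, Algebra R (K j)] (h : ∀ j, HasDChart R A (K j) M) :
    HasDChart R A (∀ j, K j) M := by
  classical
  letI iA : ∀ j, Algebra (∀ j, K j) (K j) := fun j => (Pi.evalRingHom K j).toAlgebra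
  haveI : ∀ j, IsScalarTower R (∀ j, K j) (K j) := fun j =>
    IsScalarTower.of_algebraMap_eq (fun r => rfl)
  have he : CompleteOrthogonalIdempotents (fun j => (Pi.single j 1 : ∀ j, K j)) :=
    CompleteOrthogonalIdempotents.single K
  have hL : ∀ j, IsPiece (∀ j, K j) (Pi.single j 1 : ∀ j, K j) (K j) := fun j => isPiece_pi K j
  choose l hco hbc using h
  let q : ∀ j, MonoidAlgebra (∀ j, K j) M →ₐ[∀ j, K j] MonoidAlgebra (K j) M :=
    fun j => mapCoeff (S := ∀ j, K j) (S' := K j) M
  have hqbc : ∀ j, IsBaseChange (K j) (q j).toLinearMap := fun j => isBaseChange_mapCoeff M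
  have hqco : ∀ j, IsCoalgMapOver (K j) (q j).toLinearMap := fun j => isCoalgMapOver_mapCoeff M
  let Ξ : MonoidAlgebra (∀ j, K j) M →ₐ[∀ j, K j] ∀ j, MonoidAlgebra (K j) M := AlgHom.pi q
  have hΞ : Function.Bijective Ξ := by
    constructor
    · rw [injective_iff_map_eq_zero]
      intro y hy
      apply joint_injective he hL (fun j => (q j).toLinearMap) hqbc y
      intro j
      exact congrFun hy j
    · intro z
      obtain ⟨y, hy⟩ := joint_surjective he hL (fun j => (q j).toLinearMap) hqbc z
      exact ⟨y, funext hy⟩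
  let Ξe : MonoidAlgebra (∀ j, K j) M ≃ₐ[∀ j, K j] ∀ j, MonoidAlgebra (K j) M :=
    AlgEquiv.ofBijective Ξ hΞ
  let l' : A →ₐ[R] MonoidAlgebra (∀ j, K j) M :=
    ((Ξe.symm : (∀ j, MonoidAlgebra (K j) M) →ₐ[∀ j, K j] _).restrictScalars R).comp
      (AlgHom.pi l)
  have key : ∀ j a, q j (l' a) = l j a := by
    intro j a
    have h1 : Ξe (l' a) = fun j => l j a := by
      change Ξe (Ξe.symm _) = _
      rw [AlgEquiv.apply_symm_apply]
      rfl
    exact congrFun h1 j
  have hcomp : ∀ j, ((q j).toLinearMap.restrictScalars R).comp l'.toLinearMap =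
      (l j).toLinearMap := fun j => LinearMap.ext (key j)
  refine ⟨l', ?_, ?_⟩
  · apply isCoalgMapOver_of_pieces he hL l'.toLinearMap (fun j => (q j).toLinearMap) hqbc hqco
    intro j
    rw [hcomp j]
    exact hco j
  · apply isBaseChange_of_pieces he hL l'.toLinearMap (fun j => (q j).toLinearMap) hqbc
    intro j
    rw [hcomp j]
    exact hbc j

end PC

section Glue

variable {K : Type u} [CommRing K] {B B' : Type u} [CommRing B] [HopfAlgebra K B] [CommRing B']
  [HopfAlgebra K B']
  {ι : Type u} [Fintype ι] {e : ι → K} (he : CompleteOrthogonalIdempotents e)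
  {L : ι → Type u} [∀ c, CommRing (L c)] [∀ c, Algebra K (L c)]
  (hL : ∀ c, IsPiece K (e c) (L c))
  {H : ι → Type u} [∀ c, CommRing (H c)] [∀ c, HopfAlgebra (L c) (H c)] [∀ c, Algebra K (H c)]
  [∀ c, IsScalarTower K (L c) (H c)]
  (p : ∀ c, B →ₐ[K] H c) (p' : ∀ c, B' →ₐ[K] H c)

include he hL in
/-- two Hopf algebras with the same pieces are isomorphic -/
theorem nonempty_bialgEquiv_of_pieces
    (hp : ∀ c, IsBaseChange (L c) (p c).toLinearMap)
    (hpco : ∀ c, IsCoalgMapOver (L c) (p c).toLinearMap)
    (hp' : ∀ c, IsBaseChange (L c) (p' c).toLinearMap)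
    (hpco' : ∀ c, IsCoalgMapOver (L c) (p' c).toLinearMap) :
    Nonempty (B ≃ₐc[K] B') := by
  let Ξ : B' →ₐ[K] ∀ c, H c := AlgHom.pi p'
  have hΞ : Function.Bijective Ξ := by
    constructor
    · rw [injective_iff_map_eq_zero]
      intro y hy
      apply joint_injective he hL (fun c => (p' c).toLinearMap) hp' y
      intro c
      exact congrFun hy c
    · intro z
      obtain ⟨y, hy⟩ := joint_surjective he hL (fun c => (p' c).toLinearMap) hp' z
      exact ⟨y, funext hy⟩
  let Ξe : B' ≃ₐ[K] ∀ c, H c := AlgEquiv.ofBijective Ξ hΞ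
  let f : B →ₐ[K] B' := (Ξe.symm : (∀ c, H c) →ₐ[K] B').comp (AlgHom.pi p)
  have key : ∀ c b, p' c (f b) = p c b := by
    intro c b
    have h1 : Ξe (f b) = fun c => p c b := by
      change Ξe (Ξe.symm _) = _
      rw [AlgEquiv.apply_symm_apply]
      rfl
    exact congrFun h1 c
  have hcomp : ∀ c, ((p' c).toLinearMap.restrictScalars K).comp f.toLinearMap =
      (p c).toLinearMap := fun c => LinearMap.ext (key c)
  have hco : IsCoalgMapOver K f.toLinearMap := by
    apply isCoalgMapOver_of_pieces he hL f.toLinearMap (fun c => (p' c).toLinearMap) hp' hpco'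
    intro c
    rw [hcomp c]
    exact hpco c
  have hbc : IsBaseChange K f.toLinearMap := by
    apply isBaseChange_of_pieces he hL f.toLinearMap (fun c => (p' c).toLinearMap) hp'
    intro c
    rw [hcomp c]
    exact hp c
  exact nonempty_bialgEquiv_of_chart f hco hbc

end Glue

end Groth.Agent.H3.ChartLoc
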