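import Groth.Agent.H3.IdemPiece
import Groth.Agent.H15.MTBC

/-!
# Charts can be tested on the pieces of an idempotent decomposition

`K` a ring with a complete family of orthogonal idempotents `e c` and pieces `L c`.  A linear map
`l : A → Hh` into a `K`-coalgebra is a base change map / a coalgebra map over `K` as soon as its
composites with base change coalgebra maps `q c : Hh → H c` to the pieces are.
-/

set_option autoImplicit false
set_option linter.unusedSectionVars false
set_option linter.style.haveILetI false
universe u v
open scoped TensorProduct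

namespace Groth.Agent.H3.ChartLoc

open Groth.Agent.H26 Groth.Agent.H3.Idem

section Tmul

variable {K : Type*} [CommRing K] (L : Type*) [CommRing L] [Algebra K L]
  {N : Type*} [AddCommGroup N] [Module K N]
  {N₁ : Type*} [AddCommGroup N₁] [Module K N₁] [Module L N₁] [IsScalarTower K L N₁]

/-- base change commutes with tensor squares -/
theorem isBaseChange_tmul₂ {q : N →ₗ[K] N₁} (hq : IsBaseChange L q) :
    IsBaseChange L (tmul₂ L q) := by
  let e : L ⊗[K] (N ⊗[K] N) ≃ₗ[L] N₁ ⊗[L] N₁ :=
    (TensorProduct.AlgebraTensorModule.distribBaseChange K L N N).trans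
      (TensorProduct.congr hq.equiv hq.equiv)
  refine IsBaseChange.of_equiv e (fun x => ?_)
  induction x using TensorProduct.induction_on with
  | zero => simp
  | add x y hx hy => rw [TensorProduct.tmul_add, map_add, map_add, hx, hy]
  | tmul a b =>
    simp [e, IsBaseChange.equiv_tmul]

end Tmul

section TmulComp

variable {R : Type*} [CommRing R] {K : Type*} [CommRing K] [Algebra R K]
  {L : Type*} [CommRing L] [Algebra K L] [Algebra R L] [IsScalarTower R K L]
  {A : Type*} [AddCommGroup A] [Module R A]
  {Hh : Type*} [AddCommGroup Hh] [Module R Hh] [Module K Hh] [IsScalarTower R K Hh]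
  {H : Type*} [AddCommGroup H] [Module R H] [Module K H] [Module L H]
  [IsScalarTower K L H] [IsScalarTower R K H] [IsScalarTower R L H]

theorem tmul₂_comp (l : A →ₗ[R] Hh) (q : Hh →ₗ[K] H) (x : A ⊗[R] A) :
    tmul₂ L q (tmul₂ K l x) = tmul₂ L ((q.restrictScalars R).comp l) x := by
  induction x using TensorProduct.induction_on with
  | zero => simp
  | add x y hx hy => rw [map_add, map_add, map_add, hx, hy]
  | tmul a b => simp

end TmulComp

section Loc

variable {R : Type*} [CommRing R] {K : Type*} [CommRing K] [Algebra R K]
  {A : Type*} [AddCommGroup A] [Module R A] [CoalgebraStruct R A]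
  {Hh : Type*} [AddCommGroup Hh] [Module R Hh] [Module K Hh] [IsScalarTower R K Hh]
  [CoalgebraStruct K Hh]
  {ι : Type*} [Fintype ι] {e : ι → K} (he : CompleteOrthogonalIdempotents e)
  {L : ι → Type*} [∀ c, CommRing (L c)] [∀ c, Algebra K (L c)] [∀ c, Algebra R (L c)]
  [∀ c, IsScalarTower R K (L c)]
  (hL : ∀ c, IsPiece K (e c) (L c))
  {H : ι → Type*} [∀ c, AddCommGroup (H c)] [∀ c, Module R (H c)] [∀ c, Module K (H c)]
  [∀ c, Module (L c) (H c)] [∀ c, IsScalarTower K (L c) (H c)] [∀ c, IsScalarTower R K (H c)]
  [∀ c, IsScalarTower R (L c) (H c)] [∀ c, CoalgebraStruct (L c) (H c)]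
  (l : A →ₗ[R] Hh) (q : ∀ c, Hh →ₗ[K] H c)
  (hqbc : ∀ c, IsBaseChange (L c) (q c))

include he hL hqbc in
/-- a map which is a base change map on all pieces is a base change map -/
theorem isBaseChange_of_pieces
    (hbc : ∀ c, IsBaseChange (L c) (((q c).restrictScalars R).comp l)) :
    IsBaseChange K l := by
  let φ : K ⊗[R] A →ₗ[K] Hh := l.liftBaseChange K
  have hφ : ∀ c, IsBaseChange (L c) ((q c).comp φ) := by
    intro c
    let e' : L c ⊗[K] (K ⊗[R] A) ≃ₗ[L c] H c :=
      (TensorProduct.AlgebraTensorModule.cancelBaseChange R K (L c) (L c) A).trans (hbc c).equiv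
    refine IsBaseChange.of_equiv e' (fun x => ?_)
    induction x using TensorProduct.induction_on with
    | zero => simp
    | add x y hx hy => rw [TensorProduct.tmul_add, map_add, map_add, hx, hy]
    | tmul k a =>
      simp only [e', φ, LinearEquiv.trans_apply,
        TensorProduct.AlgebraTensorModule.cancelBaseChange_tmul, IsBaseChange.equiv_tmul,
        LinearMap.comp_apply, LinearMap.liftBaseChange_tmul, map_smul,
        LinearMap.restrictScalars_apply]
      rw [← algebraMap_smul (L c) k (1 : L c), smul_eq_mul, mul_one, algebraMap_smul]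
  have hinj : Function.Injective φ := by
    rw [injective_iff_map_eq_zero]
    intro x hx
    apply joint_injective he hL (fun c => (q c).comp φ) hφ x
    intro c
    rw [LinearMap.comp_apply, hx, map_zero]
  have hsurj : Function.Surjective φ := by
    intro y
    obtain ⟨x, hx⟩ := joint_surjective he hL (fun c => (q c).comp φ) hφ (fun c => q c y)
    refine ⟨x, ?_⟩
    rw [← sub_eq_zero]
    apply joint_injective he hL q hqbc
    intro c
    rw [map_sub, sub_eq_zero]
    exact hx c
  refine IsBaseChange.of_equiv (LinearEquiv.ofBijective φ ⟨hinj, hsurj⟩) (fun a => ?_)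
  change φ ((1 : K) ⊗ₜ[R] a) = l a
  rw [LinearMap.liftBaseChange_tmul, one_smul]

include he hL hqbc in
/-- a map which is a coalgebra map on all pieces is a coalgebra map -/
theorem isCoalgMapOver_of_pieces (hqco : ∀ c, IsCoalgMapOver (L c) (q c))
    (hco : ∀ c, IsCoalgMapOver (L c) (((q c).restrictScalars R).comp l)) :
    IsCoalgMapOver K l where
  comul a := by
    rw [← sub_eq_zero]
    apply joint_injective he hL (fun c => tmul₂ (L c) (q c))
      (fun c => isBaseChange_tmul₂ (L c) (hqbc c))
    intro c
    rw [map_sub, sub_eq_zero, ← (hqco c).comul, tmul₂_comp, ← (hco c).comul]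
    rfl
  counit a := by
    rw [← sub_eq_zero]
    apply joint_injective he hL (fun c => Algebra.linearMap K (L c))
      (fun c => IsBaseChange.linearMap K (L c))
    intro c
    rw [map_sub, sub_eq_zero]
    change algebraMap K (L c) _ = algebraMap K (L c) _
    rw [← (hqco c).counit, ← IsScalarTower.algebraMap_apply R K (L c)]
    exact (hco c).counit a

end Loc

end Groth.Agent.H3.ChartLoc
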