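import Groth.Agent.H15.MTBC

/-!
# Transport of charts along isomorphisms of the group and of the Hopf algebra
-/

set_option autoImplicit false
set_option linter.unusedSectionVars false
universe u
open scoped TensorProduct

namespace Groth.Agent.H3.ChartLoc

open Groth.Agent.H26 Groth.Agent.H15.MTC

variable {R : Type u} [CommRing R] {A : Type u} [CommRing A] [HopfAlgebra R A]
  {K : Type u} [CommRing K] [Algebra R K] {M : Type u} [CommGroup M]

/-- a chart of type `M` is a chart of any isomorphic type -/
theorem hasDChart_congr_group {M' : Type u} [CommGroup M'] (h : HasDChart R A K M)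
    (e : M ≃* M') : HasDChart R A K M' := by
  obtain ⟨l, hco, hbc⟩ := h
  let E : MonoidAlgebra K M ≃ₐc[K] MonoidAlgebra K M' := MonoidAlgebra.domCongrBialgEquiv K K e
  refine ⟨((E : MonoidAlgebra K M →ₐ[K] MonoidAlgebra K M').restrictScalars R).comp l, ?_, ?_⟩
  · have h1 := IsCoalgMapOver.comp (S₂ := K)
      (isCoalgMapOver_of_coalgHom (E : MonoidAlgebra K M →ₗc[K] MonoidAlgebra K M')) hco
    exact h1
  · have h1 := hbc.comp (IsBaseChange.ofEquiv E.toLinearEquiv)
    exact h1

/-- charts transport along isomorphisms of Hopf algebras -/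
theorem hasDChart_of_bialgEquiv {B : Type u} [CommRing B] [HopfAlgebra R B] (E : B ≃ₐc[R] A)
    (h : HasDChart R A K M) : HasDChart R B K M := by
  obtain ⟨l, hco, hbc⟩ := h
  refine ⟨l.comp (E : B →ₐ[R] A), ?_, ?_⟩
  · have h1 := IsCoalgMapOver.comp (S₁ := R) (S₂ := K) hco
      (isCoalgMapOver_of_coalgHom (E : B →ₗc[R] A))
    exact h1
  · have h1 := IsBaseChange.comp_equiv E.toLinearEquiv l.toLinearMap hbc
    exact h1

end Groth.Agent.H3.ChartLoc
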