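import Groth.Agent.H64.Comod
import Groth.Agent.H92.SubcomodDesc
import Groth.Agent.H82.GLnRes

/-!
# A finite comodule over a projective coalgebra is a quotient of a finitely generated subcomodule
of a cofree comodule `Rᵐ ⊗ C` (helper3)
-/

set_option autoImplicit false
universe u v w

open TensorProduct HopfRep

namespace Groth.Agent.H3.CofreeCover

section Cofree

variable (R : Type u) [CommRing R] (C : Type v) [AddCommGroup C] [Module R C] [Coalgebra R C]
  (N : Type w) [AddCommGroup N] [Module R N]

/-- the cofree comodule structure on the plain tensor product `N ⊗ C` -/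
@[reducible] noncomputable def cofree : Comod R C (N ⊗[R] C) where
  coact := Hoch.Ind.coactAux R C N
  coassoc := (Hoch.Ind.comod R C N).coassoc
  counit_comp := (Hoch.Ind.comod R C N).counit_comp

end Cofree

section Torsionless

variable {R : Type u} [CommRing R]

/-- functionals separate the points of a projective module -/
lemma eq_zero_of_forall_dual_of_projective {G : Type v} [AddCommGroup G] [Module R G]
    [Module.Projective R G] (w : G) (h : ∀ f : Module.Dual R G, f w = 0) : w = 0 := by
  obtain ⟨s, hs⟩ := Module.projective_def'.mp (inferInstance : Module.Projective R G)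
  have h1 : s w = 0 := by
    ext i
    exact h ((Finsupp.lapply i : (G →₀ R) →ₗ[R] R) ∘ₗ s)
  have h2 := LinearMap.congr_fun hs w
  simp only [LinearMap.comp_apply, LinearMap.id_apply] at h2
  rw [← h2, h1, map_zero]

/-- functionals separate the points of a module embedded in a projective module -/
lemma eq_zero_of_forall_dual_of_injective {W : Type v} {G : Type w} [AddCommGroup W] [Module R W]
    [AddCommGroup G] [Module R G] [Module.Projective R G] (ι : W →ₗ[R] G)
    (hι : Function.Injective ι) (w : W) (h : ∀ f : Module.Dual R W, f w = 0) : w = 0 := by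
  apply hι
  rw [map_zero]
  exact eq_zero_of_forall_dual_of_projective (ι w) fun f => h (f ∘ₗ ι)

end Torsionless

section Cover

open Groth.Agent.H64 Groth.Agent.H82.GLnRes

variable (R : Type u) [CommRing R] (C : Type u) [AddCommGroup C] [Module R C] [Coalgebra R C]
  (F : Type u) [AddCommGroup F] [Module R F] [Comod R C F]

lemma counitAux_coact (f : F) :
    counitAux R C F (Comod.coact (k := R) (A := C) f) = f := by
  have h := LinearMap.congr_fun (Comod.counit_comp (k := R) (A := C) (V := F)) f
  simp only [LinearMap.comp_apply, LinearMap.flip_apply, TensorProduct.mk_apply] at h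
  simp only [counitAux, LinearMap.comp_apply, LinearEquiv.coe_coe]
  rw [h]
  simp

omit [Comod R C F] in
lemma counitAux_rTensor {N : Type u} [AddCommGroup N] [Module R N] (π : N →ₗ[R] F)
    (z : N ⊗[R] C) : counitAux R C F (π.rTensor C z) = π (counitAux R C N z) := by
  induction z using TensorProduct.induction_on with
  | zero => simp
  | tmul x c => simp [counitAux]
  | add x y hx hy => simp only [map_add, hx, hy]

lemma rTensor_coact_coact (f : F) :
    (Comod.coact (k := R) (A := C) (V := F)).rTensor C (Comod.coact (k := R) (A := C) f) =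
      Hoch.Ind.coactAux R C F (Comod.coact (k := R) (A := C) f) := by
  have h := LinearMap.congr_fun (rTensor_coact_comp_coact R C F) f
  simpa [Hoch.Ind.coactAux] using h

omit [Comod R C F] in
lemma rTensor_rTensor_coactAux {N : Type u} [AddCommGroup N] [Module R N] (π : N →ₗ[R] F)
    (z : N ⊗[R] C) :
    (π.rTensor C).rTensor C (Hoch.Ind.coactAux R C N z) =
      Hoch.Ind.coactAux R C F (π.rTensor C z) := by
  have h := LinearMap.congr_fun (coactAux_comp_rTensor R C N F π) z
  simpa [Hoch.Ind.coactAux] using h.symm

omit [Comod R C F] in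
lemma counitAux_rTensor_coactAux (y : F ⊗[R] C) :
    (counitAux R C F).rTensor C (Hoch.Ind.coactAux R C F y) = y := by
  have h := LinearMap.congr_fun (counit_rTensor_comp_coactAux R C F) y
  simpa [counitAux] using h

variable {R C F}

/-- the defect map whose kernel is the preimage of `ρ(F)` -/
noncomputable def kap {N : Type u} [AddCommGroup N] [Module R N] (π : N →ₗ[R] F) :
    N ⊗[R] C →ₗ[R] F ⊗[R] C :=
  π.rTensor C - (Comod.coact (k := R) (A := C) (V := F)) ∘ₗ counitAux R C F ∘ₗ π.rTensor C

lemma mem_ker_kap {N : Type u} [AddCommGroup N] [Module R N] (π : N →ₗ[R] F) (p : N ⊗[R] C) :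
    p ∈ LinearMap.ker (kap (C := C) π) ↔
      π.rTensor C p = Comod.coact (k := R) (A := C) (π (counitAux R C N p)) := by
  rw [LinearMap.mem_ker, kap, LinearMap.sub_apply, sub_eq_zero, LinearMap.comp_apply,
    LinearMap.comp_apply, counitAux_rTensor]

theorem isSubcomod_ker_kap [Module.Flat R C] {N : Type u} [AddCommGroup N] [Module R N]
    (π : N →ₗ[R] F) :
    @IsSubcomod R C _ _ _ _ (N ⊗[R] C) _ _ (cofree R C N) (LinearMap.ker (kap (C := C) π)) := by
  intro p hp
  change Hoch.Ind.coactAux R C N p ∈ _
  have hex : Function.Exact ((LinearMap.ker (kap (C := C) π)).subtype.rTensor C)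
      ((kap (C := C) π).rTensor C) :=
    Module.Flat.rTensor_exact C (LinearMap.exact_subtype_ker_map (kap (C := C) π))
  rw [← LinearMap.exact_iff.mp hex, LinearMap.mem_ker]
  have hp' := (mem_ker_kap π p).mp hp
  set f : F := π (counitAux R C N p) with hf
  rw [kap, LinearMap.rTensor_sub, LinearMap.sub_apply, sub_eq_zero, LinearMap.rTensor_comp,
    LinearMap.rTensor_comp, LinearMap.comp_apply, LinearMap.comp_apply,
    rTensor_rTensor_coactAux, counitAux_rTensor_coactAux, hp', rTensor_coact_coact]

end Cover

section Main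

open Groth.Agent.H64 Groth.Agent.H82.GLnRes

/-- **Cover by a subcomodule of a cofree comodule.** -/
theorem exists_cover (R : Type u) [CommRing R] [IsNoetherianRing R] (C : Type u) [AddCommGroup C]
    [Module R C] [Coalgebra R C] [Module.Projective R C]
    (F : Type u) [AddCommGroup F] [Module R F] [Comod R C F] [Module.Finite R F] :
    ∃ (E : Type u) (_ : AddCommGroup E) (_ : Module R E) (_ : Comod R C E) (m : ℕ)
      (lam : E →ₗ[R] (Fin m → R)) (π : (Fin m → R) →ₗ[R] F),
      Module.Finite R E ∧
      (∀ w : E ⊗[R] C, (∀ f : Module.Dual R (E ⊗[R] C), f w = 0) → w = 0) ∧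
      Function.Surjective (π ∘ₗ lam) ∧
      (Comod.coact (k := R) (A := C) (V := F)) ∘ₗ (π ∘ₗ lam) =
        (π ∘ₗ lam).rTensor C ∘ₗ (Comod.coact (k := R) (A := C) (V := E)) := by
  classical
  obtain ⟨m, s, hs⟩ := Module.Finite.exists_fin (R := R) (M := F)
  let π : (Fin m → R) →ₗ[R] F := Fintype.linearCombination R s
  have hπs : ∀ i, π (Pi.single i 1) = s i := by
    intro i
    simp [π, Fintype.linearCombination_apply_single]
  have hπ : Function.Surjective π := by
    rw [← LinearMap.range_eq_top, Fintype.range_linearCombination, hs]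
  letI cP : Comod R C ((Fin m → R) ⊗[R] C) := cofree R C (Fin m → R)
  have hg : Function.Surjective (π.rTensor C) := LinearMap.rTensor_surjective C hπ
  choose p hp using fun i => hg (Comod.coact (k := R) (A := C) (s i))
  -- the preimage of `ρ(F)`
  set E₀ : Submodule R ((Fin m → R) ⊗[R] C) := LinearMap.ker (kap (C := C) π) with hE₀
  have hE₀sub : IsSubcomod (k := R) (A := C) E₀ := isSubcomod_ker_kap π
  have hpE₀ : ∀ i, p i ∈ E₀ := by
    intro i
    rw [hE₀, mem_ker_kap, ← counitAux_rTensor, hp i, counitAux_coact]
  -- local finiteness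
  have hproj : Module.Projective R (R ⊗[R] C) := inferInstance
  obtain ⟨W, hWsub, hMW, hWmin, hWfg⟩ := Groth.Agent.H92.SubcomodDesc.main (A := R) (C := C)
    (V := (Fin m → R) ⊗[R] C) (B := R) (Submodule.span R (Set.range p))
  have hWE₀ : W ≤ E₀ := hWmin E₀ hE₀sub (Submodule.span_le.mpr (by
    rintro _ ⟨i, rfl⟩
    exact hpE₀ i))
  have hWfg' : W.FG := hWfg (Submodule.fg_span (Set.finite_range p))
  letI cW : Comod R C W := subComod W hWsub
  let lam : W →ₗ[R] (Fin m → R) := counitAux R C (Fin m → R) ∘ₗ W.subtype
  have hψ : ∀ e : W, Comod.coact (k := R) (A := C) ((π ∘ₗ lam) e) = π.rTensor C (e : _) := by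
    intro e
    exact ((mem_ker_kap π (e : _)).mp (hWE₀ e.2)).symm
  refine ⟨W, inferInstance, inferInstance, cW, m, lam, π, Module.Finite.iff_fg.mpr hWfg', ?_, ?_, ?_⟩
  · -- torsionless
    intro w hw
    have hinj : Function.Injective (W.subtype.rTensor C) :=
      Module.Flat.rTensor_preserves_injective_linearMap W.subtype W.subtype_injective
    have hPP : Module.Projective R (((Fin m → R) ⊗[R] C) ⊗[R] C) := inferInstance
    exact eq_zero_of_forall_dual_of_injective (G := ((Fin m → R) ⊗[R] C) ⊗[R] C)
      (W.subtype.rTensor C) hinj w hw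
  · -- surjective
    rw [← LinearMap.range_eq_top, eq_top_iff, ← hs, Submodule.span_le]
    rintro _ ⟨i, rfl⟩
    refine ⟨⟨p i, hMW (Submodule.subset_span ⟨i, rfl⟩)⟩, ?_⟩
    change π (counitAux R C (Fin m → R) (p i)) = s i
    rw [← counitAux_rTensor, hp i, counitAux_coact]
  · -- comodule map
    ext e
    simp only [LinearMap.comp_apply]
    have hinj : Function.Injective ((Comod.coact (k := R) (A := C) (V := F)).rTensor C) := by
      apply Function.LeftInverse.injective (g := (counitAux R C F).rTensor C)
      intro y
      rw [← LinearMap.comp_apply, ← LinearMap.rTensor_comp]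
      have : counitAux R C F ∘ₗ (Comod.coact (k := R) (A := C) (V := F)) = LinearMap.id := by
        ext f
        exact counitAux_coact R C F f
      rw [this, LinearMap.rTensor_id, LinearMap.id_apply]
    apply hinj
    have h1 : (Comod.coact (k := R) (A := C) (V := F)) ∘ₗ (π ∘ₗ lam) =
        π.rTensor C ∘ₗ W.subtype := by
      ext e
      exact hψ e
    have h3 : W.subtype.rTensor C (cW.coact e) =
        Hoch.Ind.coactAux R C (Fin m → R) (e : (Fin m → R) ⊗[R] C) :=
      subtype_rTensor_subCoact W hWsub e
    have hL : (Comod.coact (k := R) (A := C) (V := F)).rTensor C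
        (Comod.coact (k := R) (A := C) ((π ∘ₗ lam) e)) =
        Hoch.Ind.coactAux R C F (π.rTensor C (e : (Fin m → R) ⊗[R] C)) := by
      rw [rTensor_coact_coact, hψ e]
    have hR : (Comod.coact (k := R) (A := C) (V := F)).rTensor C
        ((π ∘ₗ lam).rTensor C (cW.coact e)) =
        Hoch.Ind.coactAux R C F (π.rTensor C (e : (Fin m → R) ⊗[R] C)) := by
      rw [← LinearMap.comp_apply, ← LinearMap.rTensor_comp, h1, LinearMap.rTensor_comp,
        LinearMap.comp_apply, h3, rTensor_rTensor_coactAux]
    exact hL.trans hR.symm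

end Main

end Groth.Agent.H3.CofreeCover
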