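import Groth.Agent.H20.ComplBij
import Mathlib.RingTheory.Ideal.Quotient.Operations
import Mathlib.RingTheory.Ideal.Maps

/-!
# Quotients of rings with the same completion

If `φ : S → T` induces bijections `S ⧸ L^n → T ⧸ (L T)^n` for all `n` (stated elementwise) and `J`
is an ideal of `T` generated by images of elements of `S`, then `S ⧸ φ⁻¹ J → T ⧸ J` induces
bijections modulo the powers of the images of `L`.
-/

set_option autoImplicit false
universe u

namespace Groth.Agent.H3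

namespace ComplQuot

variable {S T : Type u} [CommRing S] [CommRing T] (φ : S →+* T) (L : Ideal S)

theorem exists_approx (hs : ∀ (n : ℕ) (t : T), ∃ s : S, t - φ s ∈ (L ^ n).map φ)
    (J : Ideal T) (hJ : J = (J.comap φ).map φ) (n : ℕ) {j : T} (hj : j ∈ J) :
    ∃ j' ∈ J.comap φ, j - φ j' ∈ (L ^ n).map φ := by
  rw [hJ] at hj
  refine Submodule.span_induction (p := fun j _ => ∃ j' ∈ J.comap φ, j - φ j' ∈ (L ^ n).map φ)
    ?_ ?_ ?_ ?_ hj
  · rintro x ⟨x', hx', rfl⟩
    exact ⟨x', hx', by rw [sub_self]; exact Ideal.zero_mem _⟩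
  · exact ⟨0, Ideal.zero_mem _, by rw [map_zero, sub_self]; exact Ideal.zero_mem _⟩
  · rintro x y _ _ ⟨x', hx', hx⟩ ⟨y', hy', hy⟩
    refine ⟨x' + y', Ideal.add_mem _ hx' hy', ?_⟩
    have : x + y - φ (x' + y') = (x - φ x') + (y - φ y') := by rw [map_add]; ring
    rw [this]
    exact Ideal.add_mem _ hx hy
  · rintro a x _ ⟨x', hx', hx⟩
    obtain ⟨a', ha'⟩ := hs n a
    refine ⟨a' * x', Ideal.mul_mem_left _ _ hx', ?_⟩
    have : a • x - φ (a' * x') = (a - φ a') * x + φ a' * (x - φ x') := by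
      rw [map_mul, smul_eq_mul]; ring
    rw [this]
    exact Ideal.add_mem _ (Ideal.mul_mem_right _ _ ha') (Ideal.mul_mem_left _ _ hx)

theorem quotientMap_bijective (hs : ∀ (n : ℕ) (t : T), ∃ s : S, t - φ s ∈ (L ^ n).map φ)
    (hi : ∀ (n : ℕ) (s : S), φ s ∈ (L ^ n).map φ → s ∈ L ^ n)
    (J : Ideal T) (hJ : J = (J.comap φ).map φ)
    (KB : Ideal (S ⧸ J.comap φ)) (KT : Ideal (T ⧸ J))
    (hKB : KB = L.map (Ideal.Quotient.mk _)) (hKT : KT = (L.map φ).map (Ideal.Quotient.mk _))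
    (n : ℕ) (hle : KB ^ n ≤ (KT ^ n).comap (Ideal.quotientMap J φ le_rfl)) :
    Function.Bijective (Ideal.quotientMap (KT ^ n) (Ideal.quotientMap J φ le_rfl) hle) := by
  have hKTn : KT ^ n = ((L ^ n).map φ).map (Ideal.Quotient.mk J) := by
    rw [hKT, Ideal.map_pow, Ideal.map_pow]
  have hKBn : KB ^ n = (L ^ n).map (Ideal.Quotient.mk (J.comap φ)) := by
    rw [hKB, Ideal.map_pow]
  constructor
  · rw [injective_iff_map_eq_zero]
    intro x hx
    obtain ⟨b, rfl⟩ := Ideal.Quotient.mk_surjective x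
    obtain ⟨c, rfl⟩ := Ideal.Quotient.mk_surjective b
    rw [Ideal.quotientMap_mk, Ideal.quotientMap_mk, Ideal.Quotient.eq_zero_iff_mem, hKTn] at hx
    rw [Ideal.Quotient.eq_zero_iff_mem, hKBn]
    rw [Ideal.mem_map_iff_of_surjective _ Ideal.Quotient.mk_surjective] at hx
    obtain ⟨y, hy, hyc⟩ := hx
    have h1 : φ c - y ∈ J := by
      rw [← Ideal.Quotient.eq_zero_iff_mem, map_sub, hyc, sub_self]
    obtain ⟨j', hj', hj⟩ := exists_approx φ L hs J hJ n h1
    have h2 : φ (c - j') ∈ (L ^ n).map φ := by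
      have : φ (c - j') = y + (φ c - y - φ j') := by rw [map_sub]; ring
      rw [this]
      exact Ideal.add_mem _ hy hj
    have h3 := hi n _ h2
    have h4 : Ideal.Quotient.mk (J.comap φ) c = Ideal.Quotient.mk (J.comap φ) (c - j') := by
      rw [map_sub, Ideal.Quotient.eq_zero_iff_mem.mpr hj', sub_zero]
    rw [h4]
    exact Ideal.mem_map_of_mem _ h3
  · intro x
    obtain ⟨t, rfl⟩ := Ideal.Quotient.mk_surjective x
    obtain ⟨c, rfl⟩ := Ideal.Quotient.mk_surjective t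
    obtain ⟨c', hc'⟩ := hs n c
    refine ⟨Ideal.Quotient.mk _ (Ideal.Quotient.mk _ c'), ?_⟩
    rw [Ideal.quotientMap_mk, Ideal.quotientMap_mk]
    symm
    rw [Ideal.Quotient.eq, hKTn, ← map_sub]
    exact Ideal.mem_map_of_mem _ hc'

end ComplQuot

end Groth.Agent.H3
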