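import Groth.Agent.H3.DirLimHens
import Mathlib.RingTheory.FinitePresentation

/-!
# Maps from a finitely presented algebra to a direct limit
-/

set_option autoImplicit false
universe u v

namespace Groth.Agent.H3

namespace DirLim

variable {A : Type u} [CommRing A]
  {κ : Type v} [Preorder κ] [IsDirectedOrder κ] [Nonempty κ]
  {Ra : κ → Type u} [∀ a, CommRing (Ra a)] [∀ a, Algebra A (Ra a)]
  {t : ∀ a b : κ, a ≤ b → (Ra a →+* Ra b)} [DirectedSystem Ra (fun a b h => t a b h)]
  (ht : ∀ (a b : κ) (h : a ≤ b), (t a b h).comp (algebraMap A (Ra a)) = algebraMap A (Ra b))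
  [Algebra A (DirectLimit Ra t)]
  (halg : ∀ (a : κ) (x : A), algebraMap A (DirectLimit Ra t) x =
    DirectLimit.Ring.of Ra t a (algebraMap A (Ra a) x))

/-- the transition maps as algebra maps -/
def tAlg (a b : κ) (h : a ≤ b) : Ra a →ₐ[A] Ra b :=
  { t a b h with commutes' := fun x => congrArg (fun θ : A →+* Ra b => θ x) (ht a b h) }

/-- the canonical maps as algebra maps -/
noncomputable def ofAlg (a : κ) : Ra a →ₐ[A] DirectLimit Ra t :=
  { DirectLimit.Ring.of Ra t a with commutes' := fun x => (halg a x).symm }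

omit [Nonempty κ] in
theorem tAlg_apply (a b : κ) (h : a ≤ b) (x : Ra a) : tAlg ht a b h x = t a b h x := rfl

theorem ofAlg_apply (a : κ) (x : Ra a) : ofAlg halg a x = DirectLimit.Ring.of Ra t a x := rfl

/-- finitely many elements vanishing in the limit vanish at a common level -/
theorem exists_forall_eq_zero {a : κ} (s : Finset (Ra a))
    (hs : ∀ x ∈ s, DirectLimit.Ring.of Ra t a x = 0) :
    ∃ b, ∃ h : a ≤ b, ∀ x ∈ s, t a b h x = 0 := by
  classical
  induction s using Finset.induction_on with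
  | empty => exact ⟨a, le_rfl, fun x hx => absurd hx (Finset.notMem_empty x)⟩
  | insert y s _ ih =>
    obtain ⟨b, hab, hb⟩ := ih (fun x hx => hs x (Finset.mem_insert_of_mem hx))
    obtain ⟨c, hac, hc⟩ := of_eq_zero (hs y (Finset.mem_insert_self y s))
    obtain ⟨d, hbd, hcd⟩ := exists_ge_ge b c
    refine ⟨d, hab.trans hbd, fun x hx => ?_⟩
    rcases Finset.mem_insert.mp hx with rfl | hx
    · rw [← g_g a c d hac hcd, hc, map_zero]
    · rw [← g_g a b d hab hbd, hb x hx, map_zero]

variable {R₀ : Type u} [CommRing R₀] [Algebra A R₀] [Algebra.FinitePresentation A R₀]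

include ht halg in
/-- a map from a finitely presented algebra to the limit factors through a level -/
theorem exists_factor (χ₀ : R₀ →ₐ[A] DirectLimit Ra t) :
    ∃ (a : κ) (ρ : R₀ →ₐ[A] Ra a), ∀ x, DirectLimit.Ring.of Ra t a (ρ x) = χ₀ x := by
  classical
  obtain ⟨n, π, hπ, s, hs⟩ := Algebra.FinitePresentation.out (R := A) (A := R₀)
  obtain ⟨a, y, hy⟩ := exists_of_fin (g := t) (fun k : Fin n => χ₀ (π (MvPolynomial.X k)))
  have h1 : (ofAlg halg a).comp (MvPolynomial.aeval y) = χ₀.comp π := by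
    apply MvPolynomial.algHom_ext
    intro k
    rw [AlgHom.comp_apply, MvPolynomial.aeval_X, ofAlg_apply, hy, AlgHom.comp_apply]
  have h2 : ∀ r ∈ s.image (MvPolynomial.aeval y : MvPolynomial (Fin n) A →ₐ[A] Ra a),
      DirectLimit.Ring.of Ra t a r = 0 := by
    intro r hr
    obtain ⟨p, hp, rfl⟩ := Finset.mem_image.mp hr
    have h3 := congrArg (fun θ : MvPolynomial (Fin n) A →ₐ[A] DirectLimit Ra t => θ p) h1
    change DirectLimit.Ring.of Ra t a (MvPolynomial.aeval y p) = χ₀ (π p) at h3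
    rw [h3]
    have : p ∈ RingHom.ker π.toRingHom := by rw [← hs]; exact Ideal.subset_span hp
    have h4 : π p = 0 := (RingHom.mem_ker).mp this
    rw [h4, map_zero]
  obtain ⟨b, hab, hb⟩ := exists_forall_eq_zero _ h2
  let θ : MvPolynomial (Fin n) A →ₐ[A] Ra b := (tAlg ht a b hab).comp (MvPolynomial.aeval y)
  have hker : RingHom.ker π.toRingHom ≤ RingHom.ker θ.toRingHom := by
    rw [← hs, Ideal.span_le]
    intro p hp
    rw [SetLike.mem_coe, RingHom.mem_ker]
    exact hb _ (Finset.mem_image_of_mem _ hp)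
  refine ⟨b, AlgHom.liftOfSurjective π hπ θ hker, fun x => ?_⟩
  obtain ⟨p, rfl⟩ := hπ x
  rw [AlgHom.liftOfSurjective_apply]
  change DirectLimit.Ring.of Ra t b (t a b hab (MvPolynomial.aeval y p)) = _
  rw [of_f]
  exact congrArg (fun θ : MvPolynomial (Fin n) A →ₐ[A] DirectLimit Ra t => θ p) h1

include ht in
/-- two maps from a finitely presented algebra agreeing in the limit agree at some level -/
theorem exists_eq_of_eq {a : κ} (φ₀ ψ₀ : R₀ →ₐ[A] Ra a)
    (h : ∀ x, DirectLimit.Ring.of Ra t a (φ₀ x) = DirectLimit.Ring.of Ra t a (ψ₀ x)) :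
    ∃ b, ∃ hab : a ≤ b, (tAlg ht a b hab).comp φ₀ = (tAlg ht a b hab).comp ψ₀ := by
  classical
  obtain ⟨n, π, hπ, -⟩ := Algebra.FinitePresentation.out (R := A) (A := R₀)
  have h2 : ∀ r ∈ (Finset.univ : Finset (Fin n)).image
      (fun k => φ₀ (π (MvPolynomial.X k)) - ψ₀ (π (MvPolynomial.X k))),
      DirectLimit.Ring.of Ra t a r = 0 := by
    intro r hr
    obtain ⟨k, -, rfl⟩ := Finset.mem_image.mp hr
    rw [map_sub, h, sub_self]
  obtain ⟨b, hab, hb⟩ := exists_forall_eq_zero _ h2
  refine ⟨b, hab, ?_⟩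
  have h3 : ((tAlg ht a b hab).comp φ₀).comp π = ((tAlg ht a b hab).comp ψ₀).comp π := by
    apply MvPolynomial.algHom_ext
    intro k
    have := hb _ (Finset.mem_image_of_mem _ (Finset.mem_univ k))
    rw [map_sub, sub_eq_zero] at this
    exact this
  apply AlgHom.ext
  intro x
  obtain ⟨p, rfl⟩ := hπ x
  exact congrArg (fun θ : MvPolynomial (Fin n) A →ₐ[A] Ra b => θ p) h3

end DirLim

end Groth.Agent.H3
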