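import Mathlib.RingTheory.FinitePresentation
import Mathlib.RingTheory.Polynomial.IsIntegral
import Mathlib.RingTheory.IntegralClosure.IsIntegral.Basic
import Mathlib.Algebra.Polynomial.Lifts
import Mathlib.Algebra.Polynomial.Div
import Mathlib.Tactic.LinearCombination
import Mathlib.Tactic.Ring

/-!
# The universal factorization algebra of a monic polynomial

For a monic polynomial `G` over `A` and degrees `q`, `p`, the `A`-algebra `U G q p` represents
factorizations `G = g * h` with `g`, `h` monic of degrees `q`, `p`.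
-/

set_option autoImplicit false
universe u v

namespace Groth.Agent.H3

open Polynomial

section MonicOfCoeffs

variable {R : Type*} [CommRing R] {S : Type*} [CommRing S]

/-- the monic polynomial `X^d + ∑ c i X^i`. -/
noncomputable def monicOfCoeffs {d : ℕ} (c : Fin d → R) : R[X] :=
  X ^ d + ∑ i : Fin d, C (c i) * X ^ (i : ℕ)

theorem monicOfCoeffs_monic {d : ℕ} (c : Fin d → R) : (monicOfCoeffs c).Monic :=
  monic_X_pow_add (degree_sum_fin_lt c)

theorem monicOfCoeffs_natDegree [Nontrivial R] {d : ℕ} (c : Fin d → R) :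
    (monicOfCoeffs c).natDegree = d := by
  rw [monicOfCoeffs, natDegree_add_eq_left_of_degree_lt, natDegree_X_pow]
  rw [degree_X_pow]
  exact degree_sum_fin_lt c

theorem monicOfCoeffs_coeff {d : ℕ} (c : Fin d → R) (i : Fin d) :
    (monicOfCoeffs c).coeff i = c i := by
  classical
  rw [monicOfCoeffs, coeff_add, coeff_X_pow, if_neg (ne_of_lt i.2), zero_add, finsetSum_coeff]
  rw [Finset.sum_eq_single i]
  · rw [coeff_C_mul, coeff_X_pow, if_pos rfl, mul_one]
  · intro j _ hj
    rw [coeff_C_mul, coeff_X_pow, if_neg, mul_zero]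
    intro h
    exact hj (Fin.ext h.symm)
  · intro h; exact absurd (Finset.mem_univ i) h

theorem monicOfCoeffs_map {d : ℕ} (c : Fin d → R) (f : R →+* S) :
    (monicOfCoeffs c).map f = monicOfCoeffs (fun i => f (c i)) := by
  simp only [monicOfCoeffs, Polynomial.map_add, Polynomial.map_pow, Polynomial.map_X,
    Polynomial.map_sum, Polynomial.map_mul, Polynomial.map_C]

theorem eq_monicOfCoeffs {d : ℕ} {g : R[X]} (hg : g.Monic) (hd : g.natDegree = d) :
    g = monicOfCoeffs (fun i : Fin d => g.coeff i) := by
  subst hd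
  rw [monicOfCoeffs, Fin.sum_univ_eq_sum_range (fun i => C (g.coeff i) * X ^ i)]
  exact hg.as_sum

theorem monicOfCoeffs_injective {d : ℕ} {c c' : Fin d → R}
    (h : monicOfCoeffs c = monicOfCoeffs c') : c = c' := by
  funext i
  rw [← monicOfCoeffs_coeff c i, h, monicOfCoeffs_coeff]

end MonicOfCoeffs

namespace UnivFactor

variable {A : Type u} [CommRing A] (G : A[X]) (q p : ℕ)

/-- the universal monic polynomial of degree `q` -/
noncomputable def gP : (MvPolynomial (Fin q ⊕ Fin p) A)[X] :=
  monicOfCoeffs (fun i : Fin q => MvPolynomial.X (Sum.inl i))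

/-- the universal monic polynomial of degree `p` -/
noncomputable def hP : (MvPolynomial (Fin q ⊕ Fin p) A)[X] :=
  monicOfCoeffs (fun j : Fin p => MvPolynomial.X (Sum.inr j))

/-- the difference whose coefficients are the relations -/
noncomputable def dP : (MvPolynomial (Fin q ⊕ Fin p) A)[X] :=
  gP q p * hP q p - G.map (algebraMap A (MvPolynomial (Fin q ⊕ Fin p) A))

/-- the ideal of relations -/
noncomputable def rel : Ideal (MvPolynomial (Fin q ⊕ Fin p) A) :=
  Ideal.span (Set.range fun k : ℕ => (dP G q p).coeff k)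

theorem rel_fg : (rel G q p).FG := by
  classical
  have hfin : (Set.range fun k : ℕ => (dP G q p).coeff k).Finite := by
    apply Set.Finite.subset (((dP G q p).support.image (dP G q p).coeff : Finset _).finite_toSet.union
      (Set.finite_singleton 0))
    rintro _ ⟨k, rfl⟩
    by_cases hk : (dP G q p).coeff k = 0
    · right; simpa using hk
    · left
      simp only [Finset.coe_image, Set.mem_image, Finset.mem_coe, mem_support_iff]
      exact ⟨k, hk, rfl⟩
  exact Submodule.fg_span hfin

/-- The universal factorization algebra. -/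
def U : Type u := MvPolynomial (Fin q ⊕ Fin p) A ⧸ rel G q p

noncomputable instance : CommRing (U G q p) :=
  inferInstanceAs (CommRing (MvPolynomial (Fin q ⊕ Fin p) A ⧸ rel G q p))

noncomputable instance : Algebra A (U G q p) :=
  inferInstanceAs (Algebra A (MvPolynomial (Fin q ⊕ Fin p) A ⧸ rel G q p))

/-- the quotient map -/
noncomputable def mkU : MvPolynomial (Fin q ⊕ Fin p) A →ₐ[A] U G q p :=
  Ideal.Quotient.mkₐ A (rel G q p)

theorem mkU_surjective : Function.Surjective (mkU G q p) :=
  Ideal.Quotient.mkₐ_surjective A (rel G q p)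

theorem mkU_eq_zero_iff (x : MvPolynomial (Fin q ⊕ Fin p) A) :
    mkU G q p x = 0 ↔ x ∈ rel G q p :=
  Ideal.Quotient.eq_zero_iff_mem

/-- the universal factor of degree `q` -/
noncomputable def gU : (U G q p)[X] :=
  monicOfCoeffs (fun i : Fin q => mkU G q p (MvPolynomial.X (Sum.inl i)))

/-- the universal factor of degree `p` -/
noncomputable def hU : (U G q p)[X] :=
  monicOfCoeffs (fun j : Fin p => mkU G q p (MvPolynomial.X (Sum.inr j)))

theorem gU_monic : (gU G q p).Monic := monicOfCoeffs_monic _
theorem hU_monic : (hU G q p).Monic := monicOfCoeffs_monic _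

theorem gU_map_natDegree {C' : Type*} [CommRing C'] [Nontrivial C'] (φ : U G q p →+* C') :
    ((gU G q p).map φ).natDegree = q := by
  rw [gU, monicOfCoeffs_map, monicOfCoeffs_natDegree]

theorem hU_map_natDegree {C' : Type*} [CommRing C'] [Nontrivial C'] (φ : U G q p →+* C') :
    ((hU G q p).map φ).natDegree = p := by
  rw [hU, monicOfCoeffs_map, monicOfCoeffs_natDegree]

theorem gP_map : (gP q p).map (mkU G q p).toRingHom = gU G q p := by
  rw [gP, monicOfCoeffs_map]; rfl

theorem hP_map : (hP q p).map (mkU G q p).toRingHom = hU G q p := by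
  rw [hP, monicOfCoeffs_map]; rfl

theorem gU_mul_hU : gU G q p * hU G q p = G.map (algebraMap A (U G q p)) := by
  have h0 : (dP G q p).map (mkU G q p).toRingHom = 0 := by
    ext k
    rw [coeff_map, coeff_zero]
    exact (mkU_eq_zero_iff G q p _).mpr (Ideal.subset_span ⟨k, rfl⟩)
  rw [dP, Polynomial.map_sub, Polynomial.map_mul, gP_map, hP_map, Polynomial.map_map,
    sub_eq_zero] at h0
  rw [h0]
  congr 1

section lift

variable {G q p}
variable {C' : Type v} [CommRing C'] [Algebra A C']

variable (A q p) in
/-- the map on the polynomial ring classifying a pair of monic polynomials -/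
noncomputable def lift₀ (g h : C'[X]) : MvPolynomial (Fin q ⊕ Fin p) A →ₐ[A] C' :=
  MvPolynomial.aeval (Sum.elim (fun i : Fin q => g.coeff i) (fun j : Fin p => h.coeff j))

theorem gP_map_lift₀ (g h : C'[X]) (hg : g.Monic) (hgd : g.natDegree = q) :
    (gP q p).map (lift₀ A q p g h).toRingHom = g := by
  rw [gP, monicOfCoeffs_map]
  conv_rhs => rw [eq_monicOfCoeffs hg hgd]
  congr 1
  funext i
  simp [lift₀]

theorem hP_map_lift₀ (g h : C'[X]) (hh : h.Monic) (hhd : h.natDegree = p) :
    (hP q p).map (lift₀ A q p g h).toRingHom = h := by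
  rw [hP, monicOfCoeffs_map]
  conv_rhs => rw [eq_monicOfCoeffs hh hhd]
  congr 1
  funext i
  simp [lift₀]

theorem lift₀_rel (g h : C'[X]) (hg : g.Monic) (hgd : g.natDegree = q) (hh : h.Monic)
    (hhd : h.natDegree = p) (hfac : g * h = G.map (algebraMap A C')) :
    ∀ a ∈ rel G q p, lift₀ A q p g h a = 0 := by
  have hle : rel G q p ≤ RingHom.ker (lift₀ A q p g h).toRingHom := by
    rw [rel, Ideal.span_le]
    rintro _ ⟨k, rfl⟩
    change (lift₀ A q p g h).toRingHom ((dP G q p).coeff k) = 0
    rw [← coeff_map, dP, Polynomial.map_sub, Polynomial.map_mul, gP_map_lift₀ g h hg hgd,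
      hP_map_lift₀ g h hh hhd, Polynomial.map_map, hfac]
    have : (lift₀ A q p g h).toRingHom.comp
        (algebraMap A (MvPolynomial (Fin q ⊕ Fin p) A)) = algebraMap A C' :=
      (lift₀ A q p g h).comp_algebraMap
    rw [this, sub_self, coeff_zero]
  intro a ha
  exact hle ha

/-- The map out of the universal factorization algebra classifying a factorization. -/
noncomputable def lift (g h : C'[X]) (hg : g.Monic) (hgd : g.natDegree = q) (hh : h.Monic)
    (hhd : h.natDegree = p) (hfac : g * h = G.map (algebraMap A C')) : U G q p →ₐ[A] C' :=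
  Ideal.Quotient.liftₐ (rel G q p) (lift₀ A q p g h) (lift₀_rel g h hg hgd hh hhd hfac)

theorem lift_comp_mkU (g h : C'[X]) (hg : g.Monic) (hgd : g.natDegree = q) (hh : h.Monic)
    (hhd : h.natDegree = p) (hfac : g * h = G.map (algebraMap A C')) :
    (lift g h hg hgd hh hhd hfac).toRingHom.comp (mkU G q p).toRingHom =
      (lift₀ A q p g h).toRingHom := by
  ext x <;> rfl

theorem gU_map_lift (g h : C'[X]) (hg : g.Monic) (hgd : g.natDegree = q) (hh : h.Monic)
    (hhd : h.natDegree = p) (hfac : g * h = G.map (algebraMap A C')) :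
    (gU G q p).map (lift g h hg hgd hh hhd hfac).toRingHom = g := by
  rw [← gP_map, Polynomial.map_map, lift_comp_mkU]
  exact gP_map_lift₀ (A := A) (q := q) (p := p) g h hg hgd

theorem hU_map_lift (g h : C'[X]) (hg : g.Monic) (hgd : g.natDegree = q) (hh : h.Monic)
    (hhd : h.natDegree = p) (hfac : g * h = G.map (algebraMap A C')) :
    (hU G q p).map (lift g h hg hgd hh hhd hfac).toRingHom = h := by
  rw [← hP_map, Polynomial.map_map, lift_comp_mkU]
  exact hP_map_lift₀ (A := A) (q := q) (p := p) g h hh hhd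

/-- Two maps out of the universal factorization algebra inducing the same factorization are
equal. -/
theorem algHom_ext {φ ψ : U G q p →ₐ[A] C'}
    (hg : (gU G q p).map φ.toRingHom = (gU G q p).map ψ.toRingHom)
    (hh : (hU G q p).map φ.toRingHom = (hU G q p).map ψ.toRingHom) : φ = ψ := by
  rw [gU, monicOfCoeffs_map, monicOfCoeffs_map] at hg
  rw [hU, monicOfCoeffs_map, monicOfCoeffs_map] at hh
  have hg' := monicOfCoeffs_injective hg
  have hh' := monicOfCoeffs_injective hh
  have hcomp : φ.comp (mkU G q p) = ψ.comp (mkU G q p) := by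
    apply MvPolynomial.algHom_ext
    intro x
    rcases x with i | j
    · exact congrFun hg' i
    · exact congrFun hh' j
  apply AlgHom.ext
  intro u
  obtain ⟨x, rfl⟩ := mkU_surjective G q p u
  exact AlgHom.congr_fun hcomp x

end lift

theorem adjoin_eq_top : Algebra.adjoin A
    (Set.range fun x : Fin q ⊕ Fin p => mkU G q p (MvPolynomial.X x)) = ⊤ := by
  have h1 : Algebra.adjoin A (Set.range (MvPolynomial.X : Fin q ⊕ Fin p → MvPolynomial _ A)) = ⊤ :=
    MvPolynomial.adjoin_range_X
  have h2 : (Set.range fun x : Fin q ⊕ Fin p => mkU G q p (MvPolynomial.X x)) =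
      (mkU G q p) '' (Set.range (MvPolynomial.X : Fin q ⊕ Fin p → MvPolynomial _ A)) := by
    ext y
    constructor
    · rintro ⟨x, rfl⟩
      exact ⟨_, ⟨x, rfl⟩, rfl⟩
    · rintro ⟨_, ⟨x, rfl⟩, rfl⟩
      exact ⟨x, rfl⟩
  rw [h2, ← AlgHom.map_adjoin, h1, Algebra.map_top, AlgHom.range_eq_top]
  exact mkU_surjective G q p

theorem finite (hG : G.Monic) : Module.Finite A (U G q p) := by
  have hint : ∀ y ∈ (Set.range fun x : Fin q ⊕ Fin p => mkU G q p (MvPolynomial.X x)),
      IsIntegral A y := by
    rintro _ ⟨x, rfl⟩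
    rcases x with i | j
    · have := Polynomial.isIntegral_coeff_of_dvd G (gU G q p) hG (gU_monic G q p)
        ⟨hU G q p, (gU_mul_hU G q p).symm⟩ i
      rwa [gU, monicOfCoeffs_coeff] at this
    · have := Polynomial.isIntegral_coeff_of_dvd G (hU G q p) hG (hU_monic G q p)
        ⟨gU G q p, by rw [mul_comm]; exact (gU_mul_hU G q p).symm⟩ j
      rwa [hU, monicOfCoeffs_coeff] at this
  have := fg_adjoin_of_finite (Set.finite_range _) hint
  rw [adjoin_eq_top] at this
  exact ⟨this⟩

instance finitePresentation : Algebra.FinitePresentation A (U G q p) :=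
  (Algebra.FinitePresentation.quotient (rel_fg G q p) :
    Algebra.FinitePresentation A (MvPolynomial (Fin q ⊕ Fin p) A ⧸ rel G q p))

end UnivFactor

end Groth.Agent.H3
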