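import Groth.Agent.H3.DirLimFP
import Groth.Prelude.Def_Hens2

/-!
# Maps out of a henselization of a finitely presented algebra commute with direct limits
-/

set_option autoImplicit false
universe u

namespace Groth.Agent.H3

namespace DirLim

open Hens2

variable (A : Type u) [CommRing A] (I : Ideal A)
  (R₀ : Type u) [CommRing R₀] [Algebra A R₀] [Algebra.FinitePresentation A R₀]
  (B : Type u) [CommRing B] [Algebra R₀ B] [Algebra A B] [IsScalarTower A R₀ B]
  (hB : IsPairHenselization R₀ (I.map (algebraMap A R₀)) B)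
  {κ : Type u} [Preorder κ] [IsDirectedOrder κ] [Nonempty κ]
  (Ra : κ → Type u) [∀ a, CommRing (Ra a)] [∀ a, Algebra A (Ra a)]
  [hH : ∀ a, HenselianRing (Ra a) (I.map (algebraMap A (Ra a)))]
  (t : ∀ a b : κ, a ≤ b → (Ra a →+* Ra b)) [DirectedSystem Ra (fun a b h => t a b h)]
  (ht : ∀ (a b : κ) (h : a ≤ b), (t a b h).comp (algebraMap A (Ra a)) = algebraMap A (Ra b))
  [Algebra A (DirectLimit Ra t)]
  (halg : ∀ (a : κ) (x : A), algebraMap A (DirectLimit Ra t) x =
    DirectLimit.Ring.of Ra t a (algebraMap A (Ra a) x))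

include ht halg hH in
theorem henselianRing_limit :
    HenselianRing (DirectLimit Ra t) (I.map (algebraMap A (DirectLimit Ra t))) := by
  have hJ : ∀ a b (h : a ≤ b), (I.map (algebraMap A (Ra a))).map (t a b h) ≤
      I.map (algebraMap A (Ra b)) := by
    intro a b h
    rw [Ideal.map_map, ht]
  have h1 := henselianRing_directLimit hJ hH
  have h2 : JL (g := t) (fun a => I.map (algebraMap A (Ra a))) =
      I.map (algebraMap A (DirectLimit Ra t)) := by
    rw [JL]
    have h3 : ∀ a, (I.map (algebraMap A (Ra a))).map (DirectLimit.Ring.of Ra t a) =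
        I.map (algebraMap A (DirectLimit Ra t)) := by
      intro a
      rw [Ideal.map_map]
      congr 1
      exact RingHom.ext fun x => (halg a x).symm
    simp_rw [h3]
    exact iSup_const
  rwa [h2] at h1

include hB in
theorem map_le_of_algHom {C : Type u} [CommRing C] [Algebra A C] (ρ : R₀ →ₐ[A] C) :
    (I.map (algebraMap A R₀)).map ρ.toRingHom ≤ I.map (algebraMap A C) := by
  rw [Ideal.map_map]
  have : ρ.toRingHom.comp (algebraMap A R₀) = algebraMap A C := ρ.comp_algebraMap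
  rw [this]

include hB ht halg hH in
theorem exists_factor_hens (χ : B →ₐ[A] DirectLimit Ra t) :
    ∃ (a : κ) (φ : B →ₐ[A] Ra a), ∀ x : B, DirectLimit.Ring.of Ra t a (φ x) = χ x := by
  obtain ⟨b, ρ, hρ⟩ := exists_factor ht halg (χ.comp (IsScalarTower.toAlgHom A R₀ B))
  obtain ⟨φ', hφ', -⟩ := hB.2 (Ra b) (I.map (algebraMap A (Ra b))) ρ.toRingHom (hH b)
    (map_le_of_algHom A I R₀ B hB ρ)
  have hφ'' : ∀ r : R₀, φ' (algebraMap R₀ B r) = ρ r := fun r =>
    congrArg (fun θ : R₀ →+* Ra b => θ r) hφ'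
  let φ : B →ₐ[A] Ra b := { φ' with
    commutes' := fun x => by
      change φ' (algebraMap A B x) = _
      rw [IsScalarTower.algebraMap_apply A R₀ B, hφ'', ρ.commutes] }
  refine ⟨b, φ, ?_⟩
  have hL := henselianRing_limit A I Ra t ht halg
  obtain ⟨θ, -, hθ⟩ := hB.2 (DirectLimit Ra t) (I.map (algebraMap A (DirectLimit Ra t)))
    (χ.comp (IsScalarTower.toAlgHom A R₀ B)).toRingHom hL
    (map_le_of_algHom A I R₀ B hB _)
  have e1 : (DirectLimit.Ring.of Ra t b).comp φ' = θ := by
    apply hθ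
    ext r
    change DirectLimit.Ring.of Ra t b (φ' (algebraMap R₀ B r)) = _
    rw [hφ'', hρ]
    rfl
  have e2 : χ.toRingHom = θ := by
    apply hθ
    ext r
    rfl
  intro x
  have := congrArg (fun ξ : B →+* DirectLimit Ra t => ξ x) (e1.trans e2.symm)
  exact this

include hB ht hH in
theorem exists_eq_hens (a : κ) (φ ψ : B →ₐ[A] Ra a)
    (h : ∀ x : B, DirectLimit.Ring.of Ra t a (φ x) = DirectLimit.Ring.of Ra t a (ψ x)) :
    ∃ (b : κ) (hab : a ≤ b), ∀ x : B, t a b hab (φ x) = t a b hab (ψ x) := by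
  obtain ⟨b, hab, hb⟩ := exists_eq_of_eq ht (φ.comp (IsScalarTower.toAlgHom A R₀ B))
    (ψ.comp (IsScalarTower.toAlgHom A R₀ B)) (fun r => h _)
  refine ⟨b, hab, ?_⟩
  obtain ⟨θ, -, hθ⟩ := hB.2 (Ra b) (I.map (algebraMap A (Ra b)))
    ((tAlg ht a b hab).comp (φ.comp (IsScalarTower.toAlgHom A R₀ B))).toRingHom (hH b)
    (map_le_of_algHom A I R₀ B hB _)
  have e1 : (t a b hab).comp φ.toRingHom = θ := by
    apply hθ
    ext r
    rfl
  have e2 : (t a b hab).comp ψ.toRingHom = θ := by
    apply hθ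
    ext r
    change t a b hab (ψ (algebraMap R₀ B r)) = _
    have := congrArg (fun ξ : R₀ →ₐ[A] Ra b => ξ r) hb
    exact this.symm
  intro x
  exact congrArg (fun ξ : B →+* Ra b => ξ x) (e1.trans e2.symm)

end DirLim

end Groth.Agent.H3
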