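import Mathlib

/-!
# Frames of the dual of a module and representation of maps into flat modules (helper3)

Let `L` be an `R`-module whose dual `L^∨` is finite projective, with a frame
`(q_j, ξ_j)`: `φ = ∑ ξ_j(φ) q_j` for all `φ ∈ L^∨`.  For a flat module `M` and finitely presented
`L`, every linear map `L → M` can be written as `l ↦ ∑ q_j(l) m_j`, uniquely so if `(m_j)` is
normalised by the idempotent `e_jk = ξ_j(q_k)`.
-/

set_option autoImplicit false
universe u v w w'

open TensorProduct

namespace Groth.Agent.H3.DualFrame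

section Frame

variable (R : Type u) [CommRing R] (L : Type v) [AddCommGroup L] [Module R L] (n : ℕ)

/-- a finite frame (dual basis) of the dual module -/
structure Frame where
  q : Fin n → Module.Dual R L
  ξ : Fin n → Module.Dual R (Module.Dual R L)
  expand : ∀ φ : Module.Dual R L, φ = ∑ j, ξ j φ • q j

theorem exists_frame [Module.Finite R (Module.Dual R L)] [Module.Projective R (Module.Dual R L)] :
    ∃ n, Nonempty (Frame R L n) := by
  obtain ⟨n, f, g, -, -, hfg⟩ := Module.Finite.exists_comp_eq_id_of_projective R (Module.Dual R L)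
  refine ⟨n, ⟨⟨fun j => f (fun i => if j = i then 1 else 0), fun j => LinearMap.proj j ∘ₗ g, ?_⟩⟩⟩
  intro φ
  have h1 : φ = f (g φ) := (LinearMap.congr_fun hfg φ).symm
  conv_lhs => rw [h1, LinearMap.pi_apply_eq_sum_univ f (g φ)]
  rfl

end Frame

section Rep

variable {R : Type u} [CommRing R] {L : Type v} [AddCommGroup L] [Module R L] {n : ℕ}
  (fr : Frame R L n)

/-- the idempotent matrix of the frame -/
def Frame.e (j k : Fin n) : R := fr.ξ j (fr.q k)

lemma Frame.q_eq (k : Fin n) : fr.q k = ∑ j, fr.e j k • fr.q j := fr.expand (fr.q k)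

lemma Frame.q_apply (k : Fin n) (l : L) : fr.q k l = ∑ j, fr.e j k * fr.q j l := by
  conv_lhs => rw [fr.q_eq k]
  simp [LinearMap.sum_apply]

lemma Frame.e_idem (j i : Fin n) : ∑ k, fr.e j k * fr.e k i = fr.e j i := by
  have h := congrArg (fr.ξ j) (fr.q_eq i)
  rw [map_sum] at h
  simp only [map_smul, smul_eq_mul] at h
  change fr.e j i = ∑ k, fr.e k i * fr.e j k at h
  rw [h]
  exact Finset.sum_congr rfl fun k _ => mul_comm _ _

variable {M : Type w} [AddCommGroup M] [Module R M]

/-- the linear map `l ↦ ∑ q_j(l) m_j` -/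
def rep (m : Fin n → M) : L →ₗ[R] M := ∑ j, (fr.q j).smulRight (m j)

lemma rep_apply (m : Fin n → M) (l : L) : rep fr m l = ∑ j, fr.q j l • m j := by
  simp [rep, LinearMap.sum_apply]

/-- normalisation of a coefficient vector -/
def norm (m : Fin n → M) : Fin n → M := fun j => ∑ k, fr.e j k • m k

lemma norm_apply (m : Fin n → M) (j : Fin n) : norm fr m j = ∑ k, fr.e j k • m k := rfl

lemma rep_norm (m : Fin n → M) : rep fr (norm fr m) = rep fr m := by
  ext l
  rw [rep_apply, rep_apply]
  simp only [norm_apply, Finset.smul_sum, smul_smul]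
  rw [Finset.sum_comm]
  refine Finset.sum_congr rfl fun k _ => ?_
  rw [← Finset.sum_smul]
  congr 1
  rw [fr.q_apply k l]
  exact Finset.sum_congr rfl fun j _ => mul_comm _ _

lemma norm_norm (m : Fin n → M) : norm fr (norm fr m) = norm fr m := by
  funext j
  simp only [norm_apply, Finset.smul_sum, smul_smul]
  rw [Finset.sum_comm]
  refine Finset.sum_congr rfl fun i _ => ?_
  rw [← Finset.sum_smul, fr.e_idem]

lemma norm_sub (m m' : Fin n → M) : norm fr (m - m') = norm fr m - norm fr m' := by
  funext j
  simp only [norm_apply, Pi.sub_apply, smul_sub, Finset.sum_sub_distrib]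

lemma rep_sub (m m' : Fin n → M) : rep fr (m - m') = rep fr m - rep fr m' := by
  ext l
  simp only [rep_apply, Pi.sub_apply, smul_sub, Finset.sum_sub_distrib, LinearMap.sub_apply]

lemma rep_map {M' : Type w'} [AddCommGroup M'] [Module R M'] (g : M →ₗ[R] M') (m : Fin n → M) :
    rep fr (fun j => g (m j)) = g ∘ₗ rep fr m := by
  ext l
  simp only [rep_apply, LinearMap.comp_apply, map_sum, map_smul]

lemma norm_map {M' : Type w'} [AddCommGroup M'] [Module R M'] (g : M →ₗ[R] M') (m : Fin n → M) :
    norm fr (fun j => g (m j)) = fun j => g (norm fr m j) := by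
  funext j
  simp only [norm_apply, map_sum, map_smul]

theorem norm_eq_zero_of_rep_eq_zero [Module.Finite R L] [Module.Flat R M] (m : Fin n → M)
    (h : rep fr m = 0) : norm fr m = 0 := by
  let x : (Fin n → R) →ₗ[R] M := Fintype.linearCombination R m
  let f : L →ₗ[R] (Fin n → R) := LinearMap.pi fr.q
  have hxf : x ∘ₗ f = 0 := by
    ext l
    have := LinearMap.congr_fun h l
    rw [rep_apply] at this
    simpa [x, f, Fintype.linearCombination_apply] using this
  obtain ⟨k', a, y, hxy, haf⟩ := Module.Flat.exists_factorization_of_comp_eq_zero_of_free hxf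
  funext j
  have h1 : norm fr m j = x (fun k => fr.e j k) := by
    simp [norm_apply, x, Fintype.linearCombination_apply]
  rw [h1, hxy, LinearMap.comp_apply]
  have h2 : a (fun k => fr.e j k) = 0 := by
    ext κ
    have hψ : ∑ k, (a (fun i => if k = i then 1 else 0) κ) • fr.q k = 0 := by
      ext l
      have h3 := congrArg (fun z => z κ) (LinearMap.congr_fun haf l)
      simp only [LinearMap.comp_apply, LinearMap.zero_apply, Finsupp.coe_zero, Pi.zero_apply] at h3
      rw [LinearMap.pi_apply_eq_sum_univ a (f l)] at h3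
      simp only [Finsupp.coe_finsetSum, Finsupp.coe_smul, Finset.sum_apply, Pi.smul_apply,
        smul_eq_mul] at h3
      simp only [LinearMap.sum_apply, LinearMap.smul_apply, smul_eq_mul, LinearMap.zero_apply]
      refine Eq.trans ?_ h3
      refine Finset.sum_congr rfl fun k _ => ?_
      simp [f, mul_comm]
    have h4 := congrArg (fr.ξ j) hψ
    rw [map_sum, map_zero] at h4
    simp only [map_smul, smul_eq_mul] at h4
    rw [LinearMap.pi_apply_eq_sum_univ a (fun k => fr.e j k)]
    simp only [Finsupp.coe_finsetSum, Finsupp.coe_smul, Finset.sum_apply, Pi.smul_apply,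
      smul_eq_mul, Finsupp.coe_zero, Pi.zero_apply]
    refine Eq.trans ?_ h4
    refine Finset.sum_congr rfl fun k _ => ?_
    exact mul_comm _ _
  rw [h2, map_zero]
  rfl

theorem exists_rep [Module.FinitePresentation R L] [Module.Flat R M] (h : L →ₗ[R] M) :
    ∃ m : Fin n → M, rep fr m = h := by
  obtain ⟨k, h₂, h₃, hh⟩ := Module.Flat.exists_factorization_of_finitePresentation h
  refine ⟨fun j => ∑ κ : Fin k, fr.ξ j (Finsupp.lapply κ ∘ₗ h₂) • h₃ (Finsupp.single κ 1), ?_⟩
  ext l
  rw [rep_apply, hh, LinearMap.comp_apply]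
  have h1 : h₂ l = ∑ κ : Fin k, (h₂ l) κ • Finsupp.single κ (1 : R) := by
    ext i
    simp [Finsupp.single_apply]
  conv_rhs => rw [h1, map_sum]
  simp only [Finset.smul_sum, smul_smul, map_smul]
  rw [Finset.sum_comm]
  refine Finset.sum_congr rfl fun κ _ => ?_
  rw [← Finset.sum_smul]
  congr 1
  have h5 := LinearMap.congr_fun (fr.expand (Finsupp.lapply κ ∘ₗ h₂)) l
  simp only [LinearMap.comp_apply, Finsupp.lapply_apply, LinearMap.sum_apply,
    LinearMap.smul_apply, smul_eq_mul] at h5
  rw [h5]
  exact Finset.sum_congr rfl fun j _ => mul_comm _ _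

/-- the normalised coefficient vector of a linear map into a flat module -/
noncomputable def coef [Module.FinitePresentation R L] [Module.Flat R M] (h : L →ₗ[R] M) :
    Fin n → M := norm fr (exists_rep fr h).choose

lemma rep_coef [Module.FinitePresentation R L] [Module.Flat R M] (h : L →ₗ[R] M) :
    rep fr (coef fr h) = h := by
  unfold coef
  rw [rep_norm]
  exact (exists_rep fr h).choose_spec

lemma norm_coef [Module.FinitePresentation R L] [Module.Flat R M] (h : L →ₗ[R] M) :
    norm fr (coef fr h) = coef fr h := by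
  unfold coef
  rw [norm_norm]

theorem eq_of_rep_eq [Module.Finite R L] [Module.Flat R M] (m m' : Fin n → M)
    (hm : norm fr m = m) (hm' : norm fr m' = m') (h : rep fr m = rep fr m') : m = m' := by
  have h1 : rep fr (m - m') = 0 := by rw [rep_sub, h, sub_self]
  have h2 := norm_eq_zero_of_rep_eq_zero fr _ h1
  rw [norm_sub, hm, hm'] at h2
  exact sub_eq_zero.mp h2

theorem coef_unique [Module.FinitePresentation R L] [Module.Flat R M] (h : L →ₗ[R] M)
    (m : Fin n → M) (hm : norm fr m = m) (hrep : rep fr m = h) : m = coef fr h :=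
  eq_of_rep_eq fr m (coef fr h) hm (norm_coef fr h) (hrep.trans (rep_coef fr h).symm)

end Rep

end Groth.Agent.H3.DualFrame
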