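import Groth.Agent.H3.DualFrameMat
import Mathlib.LinearAlgebra.Matrix.NonsingularInverse

/-!
# The completed matrix corepresentation attached to a frame of the dual of a comodule over a flat
Hopf algebra (helper3)
-/

set_option autoImplicit false
universe u v w

open TensorProduct HopfRep

namespace Groth.Agent.H3.DualFrameHopf

open Groth.Agent.H3.DualFrame Groth.Agent.H3.DualFrameMat

variable {R : Type u} [CommRing R] {A : Type w} [CommRing A] [HopfAlgebra R A] [Module.Flat R A]
  {L : Type v} [AddCommGroup L] [Module R L] [Module.FinitePresentation R L] [Comod R A L]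
  {n : ℕ} (fr : Frame R L n)

/-- the idempotent `ε(a)` -/
def ebar : Matrix (Fin n) (Fin n) R := fun i j => fr.e j i

/-- the normalised coefficient matrix -/
noncomputable def a0 : Matrix (Fin n) (Fin n) A := fun i j => amat (C := A) fr i j

/-- the completed coefficient matrix -/
noncomputable def cmat : Matrix (Fin n) (Fin n) A :=
  a0 (A := A) fr + (1 - (ebar fr).map (algebraMap R A))

lemma ebar_mul_ebar : ebar fr * ebar fr = ebar fr := by
  ext i j
  rw [Matrix.mul_apply]
  change ∑ k, fr.e k i * fr.e j k = fr.e j i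
  rw [← fr.e_idem j i]
  exact Finset.sum_congr rfl fun k _ => mul_comm _ _

lemma ebarA_mul_a0 : (ebar fr).map (algebraMap R A) * a0 (A := A) fr = a0 (A := A) fr := by
  ext i j
  rw [Matrix.mul_apply]
  change ∑ k, algebraMap R A (fr.e k i) * amat (C := A) fr k j = amat (C := A) fr i j
  rw [← amat_norm_left fr i j]
  exact Finset.sum_congr rfl fun k _ => (Algebra.smul_def _ _).symm

lemma a0_mul_ebarA : a0 (A := A) fr * (ebar fr).map (algebraMap R A) = a0 (A := A) fr := by
  ext i j
  rw [Matrix.mul_apply]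
  change ∑ k, amat (C := A) fr i k * algebraMap R A (fr.e j k) = amat (C := A) fr i j
  rw [← amat_norm_right fr i j]
  refine Finset.sum_congr rfl fun k _ => ?_
  rw [Algebra.smul_def, mul_comm]

lemma counit_cmat (i j : Fin n) :
    CoalgebraStruct.counit (R := R) (cmat (A := A) fr i j) = if i = j then 1 else 0 := by
  have h1 : cmat (A := A) fr i j =
      amat (C := A) fr i j + ((if i = j then (1 : A) else 0) - algebraMap R A (fr.e j i)) := by
    simp [cmat, a0, ebar, Matrix.one_apply]
  rw [h1, map_add, map_sub, counit_amat, Bialgebra.counit_algebraMap]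
  split_ifs with hij
  · rw [Bialgebra.counit_one]; ring
  · rw [map_zero]; ring

theorem comul_cmat (i j : Fin n) :
    CoalgebraStruct.comul (R := R) (cmat (A := A) fr i j) =
      ∑ l, cmat (A := A) fr i l ⊗ₜ[R] cmat (A := A) fr l j := by
  let Δ' : A →+* A ⊗[R] A := (Bialgebra.comulAlgHom R A : A →ₐ[R] A ⊗[R] A).toRingHom
  let inl : A →+* A ⊗[R] A := Algebra.TensorProduct.includeLeftRingHom
  let inr : A →+* A ⊗[R] A := (Algebra.TensorProduct.includeRight : A →ₐ[R] A ⊗[R] A).toRingHom
  set E : Matrix (Fin n) (Fin n) A := (ebar fr).map (algebraMap R A) with hE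
  set EE : Matrix (Fin n) (Fin n) (A ⊗[R] A) := (ebar fr).map (algebraMap R (A ⊗[R] A)) with hEE
  have hEE_idem : EE * EE = EE := by
    rw [hEE, ← RingHom.mapMatrix_apply, ← map_mul, ebar_mul_ebar]
  have hE_idem : E * E = E := by
    rw [hE, ← RingHom.mapMatrix_apply, ← map_mul, ebar_mul_ebar]
  have hΔE : Δ'.mapMatrix E = EE := by
    ext i j
    change Δ' (algebraMap R A (ebar fr i j)) = algebraMap R (A ⊗[R] A) (ebar fr i j)
    exact (Bialgebra.comulAlgHom R A).commutes _
  have hlE : inl.mapMatrix E = EE := by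
    ext i j
    change inl (algebraMap R A (ebar fr i j)) = algebraMap R (A ⊗[R] A) (ebar fr i j)
    rfl
  have hrE : inr.mapMatrix E = EE := by
    ext i j
    change inr (algebraMap R A (ebar fr i j)) = algebraMap R (A ⊗[R] A) (ebar fr i j)
    exact (Algebra.TensorProduct.includeRight : A →ₐ[R] A ⊗[R] A).commutes _
  have hΔa : Δ'.mapMatrix (a0 (A := A) fr) =
      inl.mapMatrix (a0 (A := A) fr) * inr.mapMatrix (a0 (A := A) fr) := by
    ext i j
    rw [Matrix.mul_apply]
    change CoalgebraStruct.comul (R := R) (amat (C := A) fr i j) =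
      ∑ l, (amat (C := A) fr i l ⊗ₜ[R] (1 : A)) * ((1 : A) ⊗ₜ[R] amat (C := A) fr l j)
    rw [comul_amat]
    refine Finset.sum_congr rfl fun l _ => ?_
    rw [Algebra.TensorProduct.tmul_mul_tmul, mul_one, one_mul]
  have hcm : cmat (A := A) fr = a0 (A := A) fr + (1 - E) := rfl
  have h1 : inl.mapMatrix (a0 (A := A) fr) * EE = inl.mapMatrix (a0 (A := A) fr) := by
    rw [← hlE, ← map_mul, a0_mul_ebarA]
  have h2 : EE * inr.mapMatrix (a0 (A := A) fr) = inr.mapMatrix (a0 (A := A) fr) := by
    rw [← hrE, ← map_mul, ebarA_mul_a0]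
  have hZ1 : inl.mapMatrix (a0 (A := A) fr) * (1 - EE) = 0 := by
    rw [mul_sub, mul_one, h1, sub_self]
  have hZ2 : (1 - EE) * inr.mapMatrix (a0 (A := A) fr) = 0 := by
    rw [sub_mul, one_mul, h2, sub_self]
  have hZZ : (1 - EE) * (1 - EE) = 1 - EE := by
    rw [mul_sub, mul_one, sub_mul, one_mul, hEE_idem, sub_self, sub_zero]
  have e1 : Δ'.mapMatrix (cmat (A := A) fr) =
      inl.mapMatrix (a0 (A := A) fr) * inr.mapMatrix (a0 (A := A) fr) + (1 - EE) := by
    rw [hcm, map_add, map_sub, map_one, hΔE, hΔa]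
  have e2 : inl.mapMatrix (cmat (A := A) fr) = inl.mapMatrix (a0 (A := A) fr) + (1 - EE) := by
    rw [hcm, map_add, map_sub, map_one, hlE]
  have e3 : inr.mapMatrix (cmat (A := A) fr) = inr.mapMatrix (a0 (A := A) fr) + (1 - EE) := by
    rw [hcm, map_add, map_sub, map_one, hrE]
  have hmain : Δ'.mapMatrix (cmat (A := A) fr) =
      inl.mapMatrix (cmat (A := A) fr) * inr.mapMatrix (cmat (A := A) fr) := by
    rw [e1, e2, e3, add_mul, mul_add, mul_add, hZ1, hZ2, hZZ, add_zero, zero_add]
  have h5 := congrFun (congrFun hmain i) j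
  rw [Matrix.mul_apply] at h5
  change CoalgebraStruct.comul (R := R) (cmat (A := A) fr i j) =
    ∑ l, (cmat (A := A) fr i l ⊗ₜ[R] (1 : A)) * ((1 : A) ⊗ₜ[R] cmat (A := A) fr l j) at h5
  rw [h5]
  refine Finset.sum_congr rfl fun l _ => ?_
  rw [Algebra.TensorProduct.tmul_mul_tmul, mul_one, one_mul]

/-- the antipode applied entrywise -/
noncomputable def smat : Matrix (Fin n) (Fin n) A :=
  fun i j => HopfAlgebraStruct.antipode (R := R) (cmat (A := A) fr i j)

lemma smat_mul_cmat : smat (A := A) fr * cmat (A := A) fr = 1 := by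
  ext i j
  rw [Matrix.mul_apply]
  have h := HopfAlgebra.sum_antipode_mul_eq_algebraMap_counit (R := R)
    (a := cmat (A := A) fr i j) (ι := Fin n)
    ⟨Finset.univ, fun l => cmat (A := A) fr i l, fun l => cmat (A := A) fr l j,
      (comul_cmat fr i j).symm⟩
  simp only at h
  rw [counit_cmat] at h
  rw [Matrix.one_apply]
  split_ifs with hij
  · rw [if_pos hij, map_one] at h; exact h
  · rw [if_neg hij, map_zero] at h; exact h

omit [Module.Flat R A] [Module.FinitePresentation R L] in
/-- a comodule map to the regular comodule is the coefficient map of its counit -/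
lemma hom_eq_cmap (ι : L →ₗ[R] A)
    (hι : (Coalgebra.comul (R := R) (A := A)) ∘ₗ ι =
      ι.rTensor A ∘ₗ (Comod.coact (k := R) (A := A) : L →ₗ[R] L ⊗[R] A)) (l : L) :
    ι l = cmap (C := A) ((Coalgebra.counit (R := R) (A := A)) ∘ₗ ι) l := by
  have h := LinearMap.congr_fun hι l
  simp only [LinearMap.comp_apply] at h
  rw [cmap_apply, contr, LinearMap.comp_apply, LinearMap.rTensor_comp, LinearMap.comp_apply, ← h,
    Coalgebra.rTensor_counit_comul]
  simp

theorem hom_mem_adjoin (ι : L →ₗ[R] A)
    (hι : (Coalgebra.comul (R := R) (A := A)) ∘ₗ ι =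
      ι.rTensor A ∘ₗ (Comod.coact (k := R) (A := A) : L →ₗ[R] L ⊗[R] A)) (l : L) (s : Set A) :
    ι l ∈ Algebra.adjoin R (Set.range (fun p : Fin n × Fin n => cmat (A := A) fr p.1 p.2) ∪ s) := by
  set T := Algebra.adjoin R (Set.range (fun p : Fin n × Fin n => cmat (A := A) fr p.1 p.2) ∪ s)
    with hT
  have hc : ∀ i j, cmat (A := A) fr i j ∈ T := by
    intro i j
    apply Algebra.subset_adjoin
    left
    exact ⟨(i, j), rfl⟩
  have ha : ∀ i j, amat (C := A) fr i j ∈ T := by
    intro i j
    have h1 : amat (C := A) fr i j = cmat (A := A) fr i j -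
        ((if i = j then (1 : A) else 0) - algebraMap R A (fr.e j i)) := by
      simp [cmat, a0, ebar, Matrix.one_apply]
    rw [h1]
    refine Subalgebra.sub_mem _ (hc i j) (Subalgebra.sub_mem _ ?_ (Subalgebra.algebraMap_mem _ _))
    split_ifs
    · exact Subalgebra.one_mem _
    · exact Subalgebra.zero_mem _
  rw [hom_eq_cmap ι hι l]
  generalize (Coalgebra.counit (R := R) (A := A)) ∘ₗ ι = φ
  have hφ : cmap (C := A) φ l = ∑ i, fr.ξ i φ • cmap (C := A) (fr.q i) l := by
    rw [← cmap_sum_smul, ← fr.expand φ]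
  rw [hφ]
  refine Subalgebra.sum_mem _ fun i _ => Subalgebra.smul_mem _ ?_ _
  rw [cmap_q]
  exact Subalgebra.sum_mem _ fun j _ => Subalgebra.smul_mem _ (ha i j) _

include fr in
/-- **Main theorem**: a finitely presented comodule `L` over a flat Hopf algebra whose dual has a
frame of size `n`, with a comodule map `ι` to the regular comodule: there is an `n × n` matrix
corepresentation with invertible determinant whose coefficient algebra contains the image of `ι`.
-/
theorem exists_matrix (ι : L →ₗ[R] A)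
    (hι : (Coalgebra.comul (R := R) (A := A)) ∘ₗ ι =
      ι.rTensor A ∘ₗ (Comod.coact (k := R) (A := A) : L →ₗ[R] L ⊗[R] A)) :
    ∃ a : Matrix (Fin n) (Fin n) A,
      (∀ i j, CoalgebraStruct.comul (R := R) (a i j) = ∑ l, a i l ⊗ₜ[R] a l j) ∧
      (∀ i j, CoalgebraStruct.counit (R := R) (a i j) = if i = j then 1 else 0) ∧
      ∃ u : A, u * a.det = 1 ∧
        ∀ l, ι l ∈ Algebra.adjoin R (Set.range (fun p : Fin n × Fin n => a p.1 p.2) ∪ {u}) := by
  refine ⟨cmat (A := A) fr, comul_cmat fr, counit_cmat fr, (smat (A := A) fr).det, ?_, ?_⟩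
  · rw [← Matrix.det_mul, smat_mul_cmat, Matrix.det_one]
  · intro l
    exact hom_mem_adjoin fr ι hι l _

end Groth.Agent.H3.DualFrameHopf
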