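import Groth.Agent.H3.DualFrame
import Groth.Prelude.Def_HopfRep

/-!
# The matrix of coefficients of a finitely presented comodule with respect to a frame of its dual
(helper3)

`C` a flat coalgebra, `L` a finitely presented comodule, `(q_j, ξ_j)` a frame of `L^∨`.  The
coefficient maps `c_i = (q_i ⊗ id) ∘ ρ : L → C` are written `c_i(l) = ∑ q_j(l) a_ij` with a
normalised matrix `a`; it satisfies `Δ a_ij = ∑ a_ik ⊗ a_kj`, `ε a_ij = ξ_j(q_i)`.
-/

set_option autoImplicit false
universe u v w w'

open TensorProduct HopfRep

namespace Groth.Agent.H3.DualFrameMat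

open Groth.Agent.H3.DualFrame

section Contr

variable {R : Type u} [CommRing R] {L : Type v} [AddCommGroup L] [Module R L]

/-- contraction of the first tensor factor against a functional -/
noncomputable def contr (N : Type w) [AddCommGroup N] [Module R N] (φ : Module.Dual R L) :
    L ⊗[R] N →ₗ[R] N :=
  (TensorProduct.lid R N).toLinearMap ∘ₗ φ.rTensor N

@[simp]
lemma contr_tmul (N : Type w) [AddCommGroup N] [Module R N] (φ : Module.Dual R L) (l : L) (x : N) :
    contr N φ (l ⊗ₜ[R] x) = φ l • x := by
  simp [contr]

lemma contr_map {N : Type w} [AddCommGroup N] [Module R N] {N' : Type w'} [AddCommGroup N']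
    [Module R N'] (g : N →ₗ[R] N') (φ : Module.Dual R L) (z : L ⊗[R] N) :
    g (contr N φ z) = contr N' φ (g.lTensor L z) := by
  induction z using TensorProduct.induction_on with
  | zero => simp
  | tmul l x => simp
  | add x y hx hy => simp only [map_add, hx, hy]

lemma contr_add (N : Type w) [AddCommGroup N] [Module R N] (φ ψ : Module.Dual R L)
    (z : L ⊗[R] N) : contr N (φ + ψ) z = contr N φ z + contr N ψ z := by
  induction z using TensorProduct.induction_on with
  | zero => simp
  | tmul l x => simp [add_smul]
  | add x y hx hy => simp only [map_add, hx, hy]; abel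

lemma contr_smul (N : Type w) [AddCommGroup N] [Module R N] (r : R) (φ : Module.Dual R L)
    (z : L ⊗[R] N) : contr N (r • φ) z = r • contr N φ z := by
  induction z using TensorProduct.induction_on with
  | zero => simp
  | tmul l x => simp [mul_smul]
  | add x y hx hy => simp only [map_add, hx, hy, smul_add]

lemma contr_sum (N : Type w) [AddCommGroup N] [Module R N] {ι : Type*} (s : Finset ι)
    (φ : ι → Module.Dual R L) (z : L ⊗[R] N) :
    contr N (∑ i ∈ s, φ i) z = ∑ i ∈ s, contr N (φ i) z := by
  classical
  induction s using Finset.induction_on with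
  | empty =>
    simp only [Finset.sum_empty]
    induction z using TensorProduct.induction_on with
    | zero => simp
    | tmul l x => simp
    | add x y hx hy => simp only [map_add, hx, hy, add_zero]
  | insert a s ha ih => rw [Finset.sum_insert ha, Finset.sum_insert ha, contr_add, ih]

lemma contr_assoc_tmul {N N' : Type w} [AddCommGroup N] [Module R N] [AddCommGroup N']
    [Module R N'] (φ : Module.Dual R L) (z : L ⊗[R] N) (c : N') :
    contr (N ⊗[R] N') φ (TensorProduct.assoc R L N N' (z ⊗ₜ[R] c)) = contr N φ z ⊗ₜ[R] c := by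
  induction z using TensorProduct.induction_on with
  | zero => simp
  | tmul l x => simp [TensorProduct.smul_tmul']
  | add x y hx hy => simp only [TensorProduct.add_tmul, map_add, hx, hy]

end Contr

section Mat

variable {R : Type u} [CommRing R] {L : Type v} [AddCommGroup L] [Module R L] {n : ℕ}
  (fr : Frame R L n)
  {C : Type w} [AddCommGroup C] [Module R C] [Coalgebra R C] [Comod R C L]

/-- the coefficient map `(φ ⊗ id) ∘ ρ` of a functional -/
noncomputable def cmap (φ : Module.Dual R L) : L →ₗ[R] C :=
  contr C φ ∘ₗ (Comod.coact (k := R) (A := C) : L →ₗ[R] L ⊗[R] C)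

lemma cmap_apply (φ : Module.Dual R L) (l : L) :
    cmap (C := C) φ l = contr C φ (Comod.coact (k := R) (A := C) l) := rfl

lemma cmap_sum_smul {ι : Type*} (s : Finset ι) (r : ι → R) (φ : ι → Module.Dual R L) (l : L) :
    cmap (C := C) (∑ i ∈ s, r i • φ i) l = ∑ i ∈ s, r i • cmap (C := C) (φ i) l := by
  simp only [cmap_apply, contr_sum, contr_smul]

/-- `Δ ∘ c_φ = (c_φ ⊗ id) ∘ ρ` -/
lemma comul_cmap (φ : Module.Dual R L) (l : L) :
    Coalgebra.comul (R := R) (cmap (C := C) φ l) =
      (cmap (C := C) φ).rTensor C (Comod.coact (k := R) (A := C) l) := by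
  rw [cmap_apply, contr_map (Coalgebra.comul (R := R) (A := C)) φ]
  have hco := LinearMap.congr_fun (Comod.coassoc (k := R) (A := C) (V := L)) l
  simp only [LinearMap.comp_apply, LinearEquiv.coe_coe] at hco
  rw [← hco]
  generalize (Comod.coact (k := R) (A := C) l : L ⊗[R] C) = w
  induction w using TensorProduct.induction_on with
  | zero => simp
  | tmul l' c =>
    rw [LinearMap.rTensor_tmul, contr_assoc_tmul, LinearMap.rTensor_tmul, cmap_apply]
  | add x y hx hy => simp only [map_add, hx, hy]

/-- `ε ∘ c_φ = φ` -/
lemma counit_cmap (φ : Module.Dual R L) (l : L) :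
    Coalgebra.counit (R := R) (cmap (C := C) φ l) = φ l := by
  rw [cmap_apply, contr_map (Coalgebra.counit (R := R) (A := C)) φ]
  have hco := LinearMap.congr_fun (Comod.counit_comp (k := R) (A := C) (V := L)) l
  simp only [LinearMap.comp_apply, LinearMap.flip_apply, TensorProduct.mk_apply] at hco
  rw [hco, contr_tmul, smul_eq_mul, mul_one]

variable [Module.FinitePresentation R L] [Module.Flat R C]

/-- the normalised matrix of coefficients -/
noncomputable def amat (i j : Fin n) : C := coef fr (cmap (C := C) (fr.q i)) j

lemma cmap_q (i : Fin n) (l : L) :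
    cmap (C := C) (fr.q i) l = ∑ j, fr.q j l • amat (C := C) fr i j := by
  have h := LinearMap.congr_fun (rep_coef fr (cmap (C := C) (fr.q i))) l
  rw [rep_apply] at h
  exact h.symm

lemma amat_norm_right (i j : Fin n) :
    ∑ k, fr.e j k • amat (C := C) fr i k = amat (C := C) fr i j :=
  congrFun (norm_coef fr (cmap (C := C) (fr.q i))) j

lemma amat_norm_left (i j : Fin n) :
    ∑ k, fr.e k i • amat (C := C) fr k j = amat (C := C) fr i j := by
  have h := coef_unique fr (cmap (C := C) (fr.q i))
    (fun j => ∑ k, fr.e k i • amat (C := C) fr k j) ?_ ?_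
  · exact congrFun h j
  · funext j
    simp only [norm_apply, Finset.smul_sum]
    rw [Finset.sum_comm]
    refine Finset.sum_congr rfl fun k _ => ?_
    simp only [smul_comm _ (fr.e k i)]
    rw [← Finset.smul_sum, amat_norm_right]
  · ext l
    rw [rep_apply]
    simp only [Finset.smul_sum]
    rw [Finset.sum_comm]
    simp only [smul_comm _ (fr.e _ i)]
    simp only [← Finset.smul_sum, ← cmap_q]
    rw [← cmap_sum_smul, ← fr.q_eq]

theorem comul_amat (i j : Fin n) :
    Coalgebra.comul (R := R) (amat (C := C) fr i j) =
      ∑ k, amat (C := C) fr i k ⊗ₜ[R] amat (C := C) fr k j := by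
  have hflat : Module.Flat R (C ⊗[R] C) := inferInstance
  have hfin : Module.Finite R L := inferInstance
  have h := eq_of_rep_eq fr (fun j => Coalgebra.comul (R := R) (amat (C := C) fr i j))
    (fun j => ∑ k, amat (C := C) fr i k ⊗ₜ[R] amat (C := C) fr k j) ?_ ?_ ?_
  · exact congrFun h j
  · rw [norm_map fr (Coalgebra.comul (R := R) (A := C)) (fun j => amat (C := C) fr i j)]
    funext j
    rw [norm_apply, amat_norm_right]
  · funext j
    simp only [norm_apply, Finset.smul_sum]
    rw [Finset.sum_comm]
    refine Finset.sum_congr rfl fun k _ => ?_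
    simp only [← TensorProduct.tmul_smul]
    rw [← TensorProduct.tmul_sum, amat_norm_right]
  · rw [rep_map fr (Coalgebra.comul (R := R) (A := C)) (fun j => amat (C := C) fr i j)]
    ext l
    rw [LinearMap.comp_apply]
    have h1 : rep fr (fun j => amat (C := C) fr i j) l = cmap (C := C) (fr.q i) l := by
      rw [rep_apply, cmap_q]
    rw [h1, comul_cmap, rep_apply]
    -- `(c_i ⊗ id) w = ∑ a_ik ⊗ contr (q_k) w`
    have key : ∀ w : L ⊗[R] C, (cmap (C := C) (fr.q i)).rTensor C w =
        ∑ k, amat (C := C) fr i k ⊗ₜ[R] contr C (fr.q k) w := by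
      intro w
      induction w using TensorProduct.induction_on with
      | zero => simp
      | tmul l' c =>
        rw [LinearMap.rTensor_tmul, cmap_q, TensorProduct.sum_tmul]
        refine Finset.sum_congr rfl fun k _ => ?_
        rw [contr_tmul, TensorProduct.smul_tmul]
      | add x y hx hy =>
        simp only [map_add, hx, hy, TensorProduct.tmul_add, Finset.sum_add_distrib]
    rw [key]
    simp only [Finset.smul_sum]
    rw [Finset.sum_comm]
    refine Finset.sum_congr rfl fun k _ => ?_
    simp only [← TensorProduct.tmul_smul]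
    rw [← TensorProduct.tmul_sum, ← cmap_q, cmap_apply]

theorem counit_amat (i j : Fin n) :
    Coalgebra.counit (R := R) (amat (C := C) fr i j) = fr.e j i := by
  have hfin : Module.Finite R L := inferInstance
  have h := eq_of_rep_eq fr (fun j => Coalgebra.counit (R := R) (amat (C := C) fr i j))
    (fun j => fr.e j i) ?_ ?_ ?_
  · exact congrFun h j
  · rw [norm_map fr (Coalgebra.counit (R := R) (A := C)) (fun j => amat (C := C) fr i j)]
    funext j
    rw [norm_apply, amat_norm_right]
  · funext j
    simp only [norm_apply, smul_eq_mul]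
    exact fr.e_idem j i
  · rw [rep_map fr (Coalgebra.counit (R := R) (A := C)) (fun j => amat (C := C) fr i j)]
    ext l
    rw [LinearMap.comp_apply]
    have h1 : rep fr (fun j => amat (C := C) fr i j) l = cmap (C := C) (fr.q i) l := by
      rw [rep_apply, cmap_q]
    rw [h1, counit_cmap, rep_apply, fr.q_apply i l]
    refine Finset.sum_congr rfl fun k _ => ?_
    rw [smul_eq_mul, mul_comm]

end Mat

end Groth.Agent.H3.DualFrameMat
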