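import Groth.Agent.H6.ReflRegular
import Groth.Agent.H34.HomLoc

/-!
# Duals of finite modules over regular rings of dimension at most two are projective (helper3)
-/

set_option autoImplicit false
universe u

namespace Groth.Agent.H3.DualProjDim2

open IsLocalRing

/-- the dual of a finite module over a regular local ring of dimension at most two is free -/
theorem free_dual_of_dim_le_two (A : Type u) [CommRing A] [IsRegularLocalRing A]
    (hdim : ringKrullDim A ≤ 2) (Q : Type u) [AddCommGroup Q] [Module A Q] [Module.Finite A Q] :
    Module.Free A (Module.Dual A Q) := by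
  have : IsNoetherian A A := inferInstance
  have hfin : Module.Finite A (Module.Dual A Q) := inferInstance
  by_cases hM : Subsingleton (Module.Dual A Q)
  · exact Module.Free.of_subsingleton A _
  rw [not_subsingleton_iff_nontrivial] at hM
  set d := (maximalIdeal A).spanFinrank with hd
  have hdA : ringKrullDim A = d := Groth.Agent.Lead.RLR.ringKrullDim_eq_spanFinrank A
  have hd2 : d ≤ 2 := by
    rw [hdA] at hdim
    exact_mod_cast hdim
  have hdepthA : LocCoh.depth A A = d := Groth.Agent.H29.RegFree.depth_eq_of_regular A d hdA
  have h1 : min 2 (LocCoh.depth A A) ≤ LocCoh.depth A (Module.Dual A Q) :=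
    Groth.Agent.H34.min_two_depth_le_depth_hom (A := A) Q A
  rw [hdepthA] at h1
  have h1' : (d : ℕ∞) ≤ LocCoh.depth A (Module.Dual A Q) := by
    refine le_trans ?_ h1
    rw [le_min_iff]
    exact ⟨by exact_mod_cast hd2, le_rfl⟩
  have h2 := Groth.Agent.H29.CML.depth_le_supportDim (A := A) (Module.Dual A Q)
  have h3 : Module.supportDim A (Module.Dual A Q) ≤ ringKrullDim A :=
    Module.supportDim_le_ringKrullDim A _
  have h4 : LocCoh.depth A (Module.Dual A Q) ≤ (d : ℕ∞) := by
    have := h2.trans (h3.trans hdA.le)
    exact_mod_cast this
  exact Groth.Agent.H29.RegFree.free_of_depth_eq_dim d A hdA (Module.Dual A Q)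
    (le_antisymm h4 h1')

/-- the dual of a finite module over a regular ring of dimension at most two is projective -/
theorem projective_dual_of_regular_dim_le_two (R : Type u) [CommRing R] [IsRegularRing R]
    (hdim : ringKrullDim R ≤ 2) (L : Type u) [AddCommGroup L] [Module R L] [Module.Finite R L] :
    Module.Projective R (Module.Dual R L) := by
  have hfpL : Module.FinitePresentation R L := Module.finitePresentation_of_finite R L
  have hfinD : Module.Finite R (Module.Dual R L) := inferInstance
  have hfpD : Module.FinitePresentation R (Module.Dual R L) :=
    Module.finitePresentation_of_finite R _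
  refine Module.projective_of_localization_maximal'
    (fun P _ => Localization.AtPrime P)
    (fun P _ => Module.Dual (Localization.AtPrime P) (LocalizedModule P.primeCompl L))
    (fun P _ => Groth.Agent.H34.dualLoc P.primeCompl (Localization.AtPrime P)
      (LocalizedModule.mkLinearMap P.primeCompl L)) ?_
  intro P hP
  have hdimP : ringKrullDim (Localization.AtPrime P) ≤ 2 := by
    rw [IsLocalization.AtPrime.ringKrullDim_eq_height P (Localization.AtPrime P)]
    exact (Ideal.height_le_ringKrullDim_of_ne_top hP.ne_top).trans hdim
  have := free_dual_of_dim_le_two (Localization.AtPrime P) hdimP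
    (LocalizedModule P.primeCompl L)
  infer_instance

end Groth.Agent.H3.DualProjDim2
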