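import Groth.Agent.H3.AwayQuot
import Mathlib.RingTheory.Etale.StandardEtale
import Mathlib.RingTheory.Etale.Basic
import Mathlib.RingTheory.TensorProduct.Basic
import Mathlib.Algebra.Polynomial.Div
import Mathlib.Tactic.Ring
import Mathlib.Tactic.Abel
import Mathlib.Tactic.LinearCombination

/-!
# Étale neighbourhoods of a pair `(A, I)`

An étale neighbourhood of `(A, I)` is an étale `A`-algebra `A'` with `A/I → A'/IA'` bijective.
-/

set_option autoImplicit false
universe u

namespace Groth.Agent.H3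

namespace EtNbhd

open TensorProduct Polynomial

variable {A : Type u} [CommRing A] (I : Ideal A)

/-- étale neighbourhood of the pair `(A, I)` -/
structure IsNbhd (A' : Type u) [CommRing A'] [Algebra A A'] : Prop where
  etale : Algebra.Etale A A'
  surj : ∀ x : A', ∃ a : A, x - algebraMap A A' a ∈ I.map (algebraMap A A')
  inj : ∀ a : A, algebraMap A A' a ∈ I.map (algebraMap A A') → a ∈ I

variable {I}

theorem isNbhd_iff_bijective (A' : Type u) [CommRing A'] [Algebra A A'] [Algebra.Etale A A'] :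
    IsNbhd I A' ↔ Function.Bijective
      (Ideal.quotientMap (I.map (algebraMap A A')) (algebraMap A A') Ideal.le_comap_map) := by
  constructor
  · intro h
    constructor
    · rw [injective_iff_map_eq_zero]
      intro x hx
      obtain ⟨a, rfl⟩ := Ideal.Quotient.mk_surjective x
      rw [Ideal.quotientMap_mk, Ideal.Quotient.eq_zero_iff_mem] at hx
      exact Ideal.Quotient.eq_zero_iff_mem.mpr (h.inj a hx)
    · intro y
      obtain ⟨b, rfl⟩ := Ideal.Quotient.mk_surjective y
      obtain ⟨a, ha⟩ := h.surj b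
      refine ⟨Ideal.Quotient.mk _ a, ?_⟩
      rw [Ideal.quotientMap_mk]
      exact (Ideal.Quotient.eq.mpr ha).symm
  · intro h
    refine ⟨inferInstance, ?_, ?_⟩
    · intro x
      obtain ⟨y, hy⟩ := h.2 (Ideal.Quotient.mk _ x)
      obtain ⟨a, rfl⟩ := Ideal.Quotient.mk_surjective y
      rw [Ideal.quotientMap_mk] at hy
      exact ⟨a, Ideal.Quotient.eq.mp hy.symm⟩
    · intro a ha
      have h1 : Ideal.quotientMap (I.map (algebraMap A A')) (algebraMap A A') Ideal.le_comap_map
          (Ideal.Quotient.mk I a) = 0 := by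
        rw [Ideal.quotientMap_mk]
        exact Ideal.Quotient.eq_zero_iff_mem.mpr ha
      have h2 := h.1 (h1.trans (map_zero _).symm)
      exact Ideal.Quotient.eq_zero_iff_mem.mp h2

theorem IsNbhd.self : IsNbhd I A where
  etale := inferInstance
  surj := fun x => ⟨x, by simp⟩
  inj := fun a ha => by simpa using ha

theorem map_map_eq (A' : Type u) [CommRing A'] [Algebra A A'] (A'' : Type u) [CommRing A'']
    [Algebra A' A''] [Algebra A A''] [IsScalarTower A A' A''] :
    (I.map (algebraMap A A')).map (algebraMap A' A'') = I.map (algebraMap A A'') := by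
  rw [Ideal.map_map, ← IsScalarTower.algebraMap_eq]

theorem IsNbhd.trans {A' : Type u} [CommRing A'] [Algebra A A'] {A'' : Type u} [CommRing A'']
    [Algebra A' A''] [Algebra A A''] [IsScalarTower A A' A'']
    (h1 : IsNbhd I A') (h2 : IsNbhd (I.map (algebraMap A A')) A'') : IsNbhd I A'' where
  etale := by
    have := h1.etale
    have := h2.etale
    exact Algebra.Etale.comp A A' A''
  surj := by
    intro x
    obtain ⟨a', ha'⟩ := h2.surj x
    obtain ⟨a, ha⟩ := h1.surj a'
    refine ⟨a, ?_⟩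
    rw [map_map_eq] at ha'
    have h3 : x - algebraMap A A'' a = (x - algebraMap A' A'' a') +
        algebraMap A' A'' (a' - algebraMap A A' a) := by
      rw [map_sub, ← IsScalarTower.algebraMap_apply]; ring
    rw [h3]
    refine Ideal.add_mem _ ha' ?_
    rw [← map_map_eq (I := I) A' A'']
    exact Ideal.mem_map_of_mem _ ha
  inj := by
    intro a ha
    apply h1.inj
    apply h2.inj
    rw [map_map_eq, ← IsScalarTower.algebraMap_apply]
    exact ha

/-- The retraction `A' → A/I` of an étale neighbourhood. -/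
theorem IsNbhd.exists_retraction {A' : Type u} [CommRing A'] [Algebra A A'] (h : IsNbhd I A') :
    ∃ ρ : A' →ₐ[A] A ⧸ I, ∀ x ∈ I.map (algebraMap A A'), ρ x = 0 := by
  have := h.etale
  have hb := (isNbhd_iff_bijective A').mp h
  let e : (A ⧸ I) ≃+* (A' ⧸ I.map (algebraMap A A')) := RingEquiv.ofBijective _ hb
  have he : ∀ a : A, e (Ideal.Quotient.mk I a) = Ideal.Quotient.mk _ (algebraMap A A' a) :=
    fun a => rfl
  let ρ : A' →ₐ[A] A ⧸ I :=
    { toRingHom := e.symm.toRingHom.comp (Ideal.Quotient.mk _)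
      commutes' := by
        intro a
        change e.symm (Ideal.Quotient.mk _ (algebraMap A A' a)) = _
        rw [← he, e.symm_apply_apply]
        rfl }
  refine ⟨ρ, ?_⟩
  intro x hx
  change e.symm (Ideal.Quotient.mk _ x) = 0
  rw [Ideal.Quotient.eq_zero_iff_mem.mpr hx, map_zero]

theorem algHom_eq_zero_of_mem {A' : Type u} [CommRing A'] [Algebra A A'] {C : Type u} [CommRing C]
    [Algebra A C] (ρ : A' →ₐ[A] C) (hC : I.map (algebraMap A C) = ⊥) {x : A'}
    (hx : x ∈ I.map (algebraMap A A')) : ρ x = 0 := by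
  have h1 : I.map (algebraMap A A') ≤ RingHom.ker ρ.toRingHom := by
    rw [Ideal.map_le_iff_le_comap]
    intro a ha
    rw [Ideal.mem_comap, RingHom.mem_ker]
    change ρ (algebraMap A A' a) = 0
    rw [ρ.commutes]
    have : algebraMap A C a ∈ I.map (algebraMap A C) := Ideal.mem_map_of_mem _ ha
    rwa [hC, Ideal.mem_bot] at this
  exact h1 hx

/-- a neighbourhood from a retraction and surjectivity -/
theorem IsNbhd.of_retraction {A' : Type u} [CommRing A'] [Algebra A A'] [Algebra.Etale A A']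
    (hs : ∀ x : A', ∃ a : A, x - algebraMap A A' a ∈ I.map (algebraMap A A'))
    (ρ : A' →ₐ[A] A ⧸ I) : IsNbhd I A' where
  etale := inferInstance
  surj := hs
  inj := by
    intro a ha
    have h1 := algHom_eq_zero_of_mem ρ (by rw [Ideal.Quotient.algebraMap_eq,
      Ideal.map_quotient_self]) ha
    rw [ρ.commutes] at h1
    exact Ideal.Quotient.eq_zero_iff_mem.mp h1

theorem tmul_mem_left {A₁ : Type u} [CommRing A₁] [Algebra A A₁] {A₂ : Type u} [CommRing A₂]
    [Algebra A A₂] {u : A₁} (hu : u ∈ I.map (algebraMap A A₁)) (v : A₂) :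
    u ⊗ₜ[A] v ∈ I.map (algebraMap A (A₁ ⊗[A] A₂)) := by
  revert v
  refine Submodule.span_induction (p := fun u _ => ∀ v : A₂,
    u ⊗ₜ[A] v ∈ I.map (algebraMap A (A₁ ⊗[A] A₂))) ?_ ?_ ?_ ?_ hu
  · rintro _ ⟨i, hi, rfl⟩ v
    have h1 : (algebraMap A A₁ i) ⊗ₜ[A] v = algebraMap A (A₁ ⊗[A] A₂) i * ((1 : A₁) ⊗ₜ[A] v) := by
      rw [Algebra.TensorProduct.algebraMap_apply, Algebra.TensorProduct.tmul_mul_tmul, mul_one,
        one_mul]
    rw [h1]
    exact Ideal.mul_mem_right _ _ (Ideal.mem_map_of_mem _ hi)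
  · intro v
    rw [TensorProduct.zero_tmul]
    exact Ideal.zero_mem _
  · intro x y _ _ hx hy v
    rw [TensorProduct.add_tmul]
    exact Ideal.add_mem _ (hx v) (hy v)
  · intro w x _ hx v
    have h1 : (w • x) ⊗ₜ[A] v = (w ⊗ₜ[A] (1 : A₂)) * (x ⊗ₜ[A] v) := by
      rw [Algebra.TensorProduct.tmul_mul_tmul, one_mul, smul_eq_mul]
    rw [h1]
    exact Ideal.mul_mem_left _ _ (hx v)

theorem tmul_mem_right {A₁ : Type u} [CommRing A₁] [Algebra A A₁] {A₂ : Type u} [CommRing A₂]
    [Algebra A A₂] (u : A₁) {v : A₂} (hv : v ∈ I.map (algebraMap A A₂)) :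
    u ⊗ₜ[A] v ∈ I.map (algebraMap A (A₁ ⊗[A] A₂)) := by
  revert u
  refine Submodule.span_induction (p := fun v _ => ∀ u : A₁,
    u ⊗ₜ[A] v ∈ I.map (algebraMap A (A₁ ⊗[A] A₂))) ?_ ?_ ?_ ?_ hv
  · rintro _ ⟨i, hi, rfl⟩ u
    have h1 : u ⊗ₜ[A] (algebraMap A A₂ i) = algebraMap A (A₁ ⊗[A] A₂) i * (u ⊗ₜ[A] (1 : A₂)) := by
      rw [Algebra.TensorProduct.algebraMap_apply, Algebra.TensorProduct.tmul_mul_tmul, mul_one,
        Algebra.algebraMap_eq_smul_one, Algebra.algebraMap_eq_smul_one, smul_mul_assoc, one_mul,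
        TensorProduct.smul_tmul]
    rw [h1]
    exact Ideal.mul_mem_right _ _ (Ideal.mem_map_of_mem _ hi)
  · intro u
    rw [TensorProduct.tmul_zero]
    exact Ideal.zero_mem _
  · intro x y _ _ hx hy u
    rw [TensorProduct.tmul_add]
    exact Ideal.add_mem _ (hx u) (hy u)
  · intro w x _ hx u
    have h1 : u ⊗ₜ[A] (w • x) = ((1 : A₁) ⊗ₜ[A] w) * (u ⊗ₜ[A] x) := by
      rw [Algebra.TensorProduct.tmul_mul_tmul, one_mul, smul_eq_mul]
    rw [h1]
    exact Ideal.mul_mem_left _ _ (hx u)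

theorem IsNbhd.tensor {A₁ : Type u} [CommRing A₁] [Algebra A A₁] {A₂ : Type u} [CommRing A₂]
    [Algebra A A₂] (h1 : IsNbhd I A₁) (h2 : IsNbhd I A₂) : IsNbhd I (A₁ ⊗[A] A₂) := by
  have := h1.etale
  have := h2.etale
  have : Algebra.Etale A (A₁ ⊗[A] A₂) := Algebra.Etale.comp A A₁ (A₁ ⊗[A] A₂)
  obtain ⟨ρ₁, -⟩ := h1.exists_retraction
  obtain ⟨ρ₂, -⟩ := h2.exists_retraction
  refine IsNbhd.of_retraction ?_ (Algebra.TensorProduct.lift ρ₁ ρ₂ (fun _ _ => Commute.all _ _))
  intro x
  induction x using TensorProduct.induction_on with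
  | zero => exact ⟨0, by simp⟩
  | tmul x y =>
    obtain ⟨a, ha⟩ := h1.surj x
    obtain ⟨c, hc⟩ := h2.surj y
    refine ⟨a * c, ?_⟩
    have h4 : algebraMap A (A₁ ⊗[A] A₂) (a * c) = algebraMap A A₁ a ⊗ₜ[A] algebraMap A A₂ c := by
      rw [Algebra.algebraMap_eq_smul_one, Algebra.algebraMap_eq_smul_one a,
        Algebra.algebraMap_eq_smul_one c, TensorProduct.smul_tmul_smul,
        Algebra.TensorProduct.one_def]
    have h3 : x ⊗ₜ[A] y - algebraMap A (A₁ ⊗[A] A₂) (a * c) =
        (x - algebraMap A A₁ a) ⊗ₜ[A] y + algebraMap A A₁ a ⊗ₜ[A] (y - algebraMap A A₂ c) := by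
      rw [h4, TensorProduct.sub_tmul, TensorProduct.tmul_sub]
      abel
    rw [h3]
    exact Ideal.add_mem _ (tmul_mem_left ha y) (tmul_mem_right _ hc)
  | add x y hx hy =>
    obtain ⟨a, ha⟩ := hx
    obtain ⟨c, hc⟩ := hy
    refine ⟨a + c, ?_⟩
    have : x + y - algebraMap A (A₁ ⊗[A] A₂) (a + c) =
        (x - algebraMap A _ a) + (y - algebraMap A _ c) := by rw [map_add]; ring
    rw [this]
    exact Ideal.add_mem _ ha hc

theorem IsNbhd.away {A' : Type u} [CommRing A'] [Algebra A A'] (h : IsNbhd I A') (s : A')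
    (hs : s - 1 ∈ I.map (algebraMap A A')) : IsNbhd I (Localization.Away s) := by
  refine h.trans ?_
  have : Algebra.Etale A' (Localization.Away s) := Algebra.Etale.of_isLocalizationAway s
  rw [isNbhd_iff_bijective]
  exact AwayQuot.quotientMap_bijective _ s hs _

end EtNbhd

end Groth.Agent.H3
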