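import Groth.Agent.H3.PairHensEtale
import Groth.Agent.H3.HenselBasic

/-!
# Henselization of an étale neighbourhood is a henselization of the base pair
-/

set_option autoImplicit false
universe u

namespace Groth.Agent.H3

namespace PairHens

open Hens2

theorem isPairHenselization_of_etale_quotient_bijective
    (R : Type u) [CommRing R] (I : Ideal R)
    (S : Type u) [CommRing S] [Algebra R S] [Algebra.Etale R S]
    (hq : Function.Bijective
      (Ideal.quotientMap (I.map (algebraMap R S)) (algebraMap R S) Ideal.le_comap_map))
    (H : Type u) [CommRing H] [Algebra S H] [Algebra R H] [IsScalarTower R S H]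
    (hH : IsPairHenselization S (I.map (algebraMap R S)) H) :
    IsPairHenselization R I H := by
  refine ⟨?_, ?_⟩
  · have := hH.1
    rwa [map_map_algebraMap] at this
  · intro C _ J f hCJ hIJ
    letI : Algebra R C := f.toAlgebra
    have hfalg : algebraMap R C = f := rfl
    have hIC : I.map (algebraMap R C) ≤ J := hIJ
    have hHC : HenselianRing C (I.map (algebraMap R C)) := henselianRing_of_le hIC hCJ
    -- the section modulo `I`
    let q := Ideal.quotientMap (I.map (algebraMap R S)) (algebraMap R S) Ideal.le_comap_map
    let e : (R ⧸ I) ≃+* (S ⧸ I.map (algebraMap R S)) := RingEquiv.ofBijective q hq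
    let p : R ⧸ I →+* C ⧸ I.map (algebraMap R C) :=
      Ideal.quotientMap (I.map (algebraMap R C)) (algebraMap R C) Ideal.le_comap_map
    let σ₀ : S →ₐ[R] C ⧸ I.map (algebraMap R C) :=
      { (p.comp (e.symm : _ →+* _)).comp (Ideal.Quotient.mk (I.map (algebraMap R S))) with
        commutes' := fun r => by
          change p (e.symm (Ideal.Quotient.mk _ (algebraMap R S r))) = _
          have h1 : Ideal.Quotient.mk (I.map (algebraMap R S)) (algebraMap R S r) =
              e (Ideal.Quotient.mk I r) := rfl
          rw [h1, e.symm_apply_apply]
          rfl }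
    obtain ⟨ρ, -, -⟩ := EtaleLift.existsUnique_lift_of_etale_of_henselian C hHC σ₀
    have hρJ : (I.map (algebraMap R S)).map ρ.toRingHom ≤ J := by
      rw [map_algHom_eq]; exact hIC
    obtain ⟨g, hg, hguniq⟩ := hH.2 C J ρ.toRingHom hCJ hρJ
    refine ⟨g, ?_, ?_⟩
    · change g.comp (algebraMap R H) = f
      rw [IsScalarTower.algebraMap_eq R S H, ← RingHom.comp_assoc, hg, ← hfalg]
      exact RingHom.ext fun r => ρ.commutes r
    · intro g' hg'
      change g'.comp (algebraMap R H) = f at hg'
      apply hguniq
      change g'.comp (algebraMap S H) = ρ.toRingHom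
      let ρ' : S →ₐ[R] C :=
        { g'.comp (algebraMap S H) with
          commutes' := fun r => by
            change g' (algebraMap S H (algebraMap R S r)) = algebraMap R C r
            rw [← IsScalarTower.algebraMap_apply R S H, hfalg, ← hg']
            rfl }
      have h1 : ρ' = ρ := by
        apply EtaleLift.algHom_eq_of_unramified (I.map (algebraMap R C)) hHC.jac
        intro x
        obtain ⟨r, hr⟩ := Ideal.Quotient.mk_surjective (e.symm (Ideal.Quotient.mk _ x))
        have h2 : Ideal.Quotient.mk (I.map (algebraMap R S)) (algebraMap R S r) =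
            Ideal.Quotient.mk _ x := by
          have : e (Ideal.Quotient.mk I r) = Ideal.Quotient.mk _ x := by
            rw [hr, e.apply_symm_apply]
          exact this
        have h3 : x - algebraMap R S r ∈ I.map (algebraMap R S) :=
          Ideal.Quotient.eq.mp h2.symm
        have h4 : ρ' x - ρ x = ρ' (x - algebraMap R S r) - ρ (x - algebraMap R S r) := by
          rw [map_sub, map_sub, AlgHom.commutes, AlgHom.commutes]; ring
        rw [h4]
        exact Ideal.sub_mem _ (EtaleLift.map_mem_of_mem ρ' h3) (EtaleLift.map_mem_of_mem ρ h3)
      exact congrArg (fun φ : S →ₐ[R] C => φ.toRingHom) h1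

end PairHens

end Groth.Agent.H3
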