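import Groth.Agent.H3.EtNbhdStep
import Groth.Agent.H3.HensFlatMain
import Groth.Agent.H3.PairHensTrans
import Mathlib.RingTheory.Flat.EquationalCriterion

/-!
# Étale neighbourhoods and the henselization of a pair

Let `B` be a henselization of `(A, I)`.  Every étale neighbourhood `A'` of `(A, I)` has exactly
one `A`-algebra map to `B`, and `B` is a henselization of `(A', IA')`.
-/

set_option autoImplicit false
universe u

namespace Groth.Agent.H3

namespace EtNbhd

open Hens2 TensorProduct Polynomial

variable {A : Type u} [CommRing A] {I : Ideal A}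
variable {B : Type u} [CommRing B] [Algebra A B]

theorem algHom_mem_of_mem {A' : Type u} [CommRing A'] [Algebra A A'] (φ : A' →ₐ[A] B) {x : A'}
    (hx : x ∈ I.map (algebraMap A A')) : φ x ∈ I.map (algebraMap A B) := by
  have h1 : I.map (algebraMap A A') ≤ (I.map (algebraMap A B)).comap φ.toRingHom := by
    rw [Ideal.map_le_iff_le_comap]
    intro a ha
    rw [Ideal.mem_comap, Ideal.mem_comap]
    change φ (algebraMap A A' a) ∈ _
    rw [φ.commutes]
    exact Ideal.mem_map_of_mem _ ha
  exact h1 hx

/-- uniqueness of the map from a neighbourhood to a henselian target -/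
theorem algHom_unique (hB : HenselianRing B (I.map (algebraMap A B)))
    {A' : Type u} [CommRing A'] [Algebra A A'] (hN : IsNbhd I A') (φ ψ : A' →ₐ[A] B) : φ = ψ := by
  have := hN.etale
  apply EtaleLift.algHom_eq_of_unramified (I.map (algebraMap A B)) hB.jac
  intro x
  obtain ⟨a, ha⟩ := hN.surj x
  have h1 : φ x - ψ x = φ (x - algebraMap A A' a) - ψ (x - algebraMap A A' a) := by
    rw [map_sub, map_sub, φ.commutes, ψ.commutes]; ring
  rw [h1]
  exact Ideal.sub_mem _ (algHom_mem_of_mem φ ha) (algHom_mem_of_mem ψ ha)

/-- existence of the map from a neighbourhood to a henselian target -/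
theorem exists_algHom (hB : HenselianRing B (I.map (algebraMap A B)))
    {A' : Type u} [CommRing A'] [Algebra A A'] (hN : IsNbhd I A') : Nonempty (A' →ₐ[A] B) := by
  have := hN.etale
  obtain ⟨ρ, -⟩ := hN.exists_retraction
  let κ : (A ⧸ I) →ₐ[A] B ⧸ I.map (algebraMap A B) :=
    Ideal.quotientMapₐ (I.map (algebraMap A B)) (Algebra.ofId A B) Ideal.le_comap_map
  obtain ⟨φ, -, -⟩ := EtaleLift.existsUnique_lift_of_etale_of_henselian B hB (κ.comp ρ)
  exact ⟨φ⟩

/-- the canonical map from a neighbourhood to the henselization -/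
noncomputable def toHens (hB : HenselianRing B (I.map (algebraMap A B)))
    {A' : Type u} [CommRing A'] [Algebra A A'] (hN : IsNbhd I A') : A' →ₐ[A] B :=
  (exists_algHom hB hN).some

/-- `B` is also a henselization of each of its étale neighbourhoods. -/
theorem isPairHenselization_nbhd (hB : IsPairHenselization A I B)
    {A' : Type u} [CommRing A'] [Algebra A A'] (hN : IsNbhd I A') [Algebra A' B]
    [IsScalarTower A A' B] : IsPairHenselization A' (I.map (algebraMap A A')) B := by
  have := hN.etale
  let H' := HensTower.Lim A' (I.map (algebraMap A A'))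
  have hH' : IsPairHenselization A' (I.map (algebraMap A A')) H' :=
    HensFlatMain.isPairHenselization_Lim A' _
  letI : Algebra A H' := ((algebraMap A' H').comp (algebraMap A A')).toAlgebra
  have : IsScalarTower A A' H' := IsScalarTower.of_algebraMap_eq' rfl
  have hH'A : IsPairHenselization A I H' :=
    PairHens.isPairHenselization_of_etale_quotient_bijective A I A'
      ((isNbhd_iff_bijective A').mp hN) H' hH'
  obtain ⟨e⟩ := HensFlatMain.exists_algEquiv hH'A hB
  have h1 : (e : H' →ₐ[A] B).comp (IsScalarTower.toAlgHom A A' H') =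
      IsScalarTower.toAlgHom A A' B := algHom_unique hB.1 hN _ _
  refine HensIso.isPairHenselization_of_ringEquiv hH' e.toRingEquiv ?_
  ext x
  exact congrArg (fun f : A' →ₐ[A] B => f x) h1

/-- an element of a neighbourhood dying in the henselization dies in a smaller neighbourhood -/
theorem exists_mul_eq_zero (hB : IsPairHenselization A I B)
    {A' : Type u} [CommRing A'] [Algebra A A'] (hN : IsNbhd I A') (φ : A' →ₐ[A] B) (s : A')
    (hs : φ s = 0) : ∃ k : A', k - 1 ∈ I.map (algebraMap A A') ∧ k * s = 0 := by
  letI : Algebra A' B := φ.toRingHom.toAlgebra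
  have hφ : ∀ x, algebraMap A' B x = φ x := fun x => rfl
  have : IsScalarTower A A' B := IsScalarTower.of_algebraMap_eq fun a => (φ.commutes a).symm
  have hB' := isPairHenselization_nbhd hB hN
  have hflat : Module.Flat A' B := HensFlatMain.flat hB'
  have hrel : ∑ _i : Unit, (fun _ => s) _i • (fun _ => (1 : B)) _i = 0 := by
    simp only [Finset.univ_unique, Finset.sum_singleton]
    rw [Algebra.smul_def, mul_one, hφ, hs]
  obtain ⟨k, a, y, h1, h2⟩ := Module.Flat.isTrivialRelation_of_sum_smul_eq_zero hrel
  have hc : ∀ j, ∃ c : A', y j - algebraMap A' B c ∈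
      (I.map (algebraMap A A')).map (algebraMap A' B) := fun j => PairHens.exists_sub_mem hB' (y j)
  choose c hc using hc
  refine ⟨∑ j, a () j * c j, ?_, ?_⟩
  · apply PairHens.mem_of_algebraMap_mem hB'
    have h3 : algebraMap A' B (∑ j, a () j * c j - 1) =
        - ∑ j, algebraMap A' B (a () j) * (y j - algebraMap A' B (c j)) := by
      have h4 := h1 ()
      simp only [Algebra.smul_def] at h4
      rw [map_sub, map_one, h4, map_sum, ← Finset.sum_neg_distrib, ← Finset.sum_sub_distrib]
      refine Finset.sum_congr rfl fun j _ => ?_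
      rw [map_mul]; ring
    rw [h3]
    refine Ideal.neg_mem_iff _ |>.mpr (Ideal.sum_mem _ fun j _ => Ideal.mul_mem_left _ _ (hc j))
  · rw [Finset.sum_mul]
    refine Finset.sum_eq_zero fun j _ => ?_
    have h5 := h2 j
    simp only [Finset.univ_unique, Finset.sum_singleton] at h5
    rw [mul_comm (a () j) (c j), mul_assoc, mul_comm (a () j) s, h5, mul_zero]

end EtNbhd

end Groth.Agent.H3
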