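import Groth.Agent.H3.EtNbhd

/-!
# The one-step étale neighbourhood adjoining a Hensel root
-/

set_option autoImplicit false
universe u

namespace Groth.Agent.H3

namespace EtNbhd

open Polynomial

variable {R : Type u} [CommRing R] {J : Ideal R}

/-- Given Hensel data `(f, a₀)` for the pair `(R, J)` there is an étale neighbourhood of `(R, J)`
in which `f` has a root congruent to `a₀`. -/
theorem exists_step (f : R[X]) (hf : f.Monic) (a₀ b : R) (h₁ : f.eval a₀ ∈ J)
    (h₂ : b * f.derivative.eval a₀ - 1 ∈ J) :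
    ∃ (S : Type u) (_ : CommRing S) (_ : Algebra R S), IsNbhd J S ∧
      ∃ a : S, aeval a f = 0 ∧ a - algebraMap R S a₀ ∈ J.map (algebraMap R S) := by
  -- `f = C (f a₀) + (X - a₀) h`
  obtain ⟨h, hh⟩ : ∃ h : R[X], f = C (f.eval a₀) + (X - C a₀) * h :=
    ⟨f /ₘ (X - C a₀), by
      rw [← modByMonic_X_sub_C_eq_C_eval]
      exact (modByMonic_add_div f (X - C a₀)).symm⟩
  have hder : f.derivative.eval a₀ = h.eval a₀ := by
    have h3 : f.derivative = h + (X - C a₀) * h.derivative := by
      conv_lhs => rw [hh]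
      simp only [derivative_add, derivative_C, derivative_mul, derivative_sub, derivative_X,
        zero_add, sub_zero, one_mul]
    rw [h3]
    simp
  let P : StandardEtalePair R :=
    { f := f
      monic_f := hf
      g := f.derivative * (C b * h)
      cond := ⟨C b * h, 0, 1, by ring⟩ }
  let S := P.Ring
  let x : S := P.X
  have hx0 : aeval x f = 0 := P.hasMap_X.1
  have hxg : IsUnit (aeval x (f.derivative * (C b * h))) := P.hasMap_X.2
  have hxh : IsUnit (aeval x h) := by
    rw [map_mul, map_mul] at hxg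
    exact isUnit_of_mul_isUnit_right (isUnit_of_mul_isUnit_right hxg)
  -- `x ≡ a₀`
  have hxa : x - algebraMap R S a₀ ∈ J.map (algebraMap R S) := by
    have h3 : (x - algebraMap R S a₀) * aeval x h = - algebraMap R S (f.eval a₀) := by
      have h4 := hx0
      rw [hh] at h4
      simp only [map_add, map_mul, map_sub, aeval_C, aeval_X] at h4
      linear_combination h4
    obtain ⟨u, hu⟩ := hxh
    have h4 : x - algebraMap R S a₀ = - algebraMap R S (f.eval a₀) * ↑u⁻¹ := by
      rw [← h3, ← hu, mul_assoc, Units.mul_inv, mul_one]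
    rw [h4]
    exact Ideal.mul_mem_right _ _ (Ideal.neg_mem_iff _ |>.mpr (Ideal.mem_map_of_mem _ h₁))
  -- the retraction
  have hmap : P.HasMap (Ideal.Quotient.mk J a₀) := by
    constructor
    · change aeval (Ideal.Quotient.mk J a₀) f = 0
      rw [← Ideal.Quotient.algebraMap_eq, aeval_algebraMap_apply, Ideal.Quotient.algebraMap_eq]
      exact Ideal.Quotient.eq_zero_iff_mem.mpr h₁
    · change IsUnit (aeval (Ideal.Quotient.mk J a₀) (f.derivative * (C b * h)))
      rw [← Ideal.Quotient.algebraMap_eq, aeval_algebraMap_apply, Ideal.Quotient.algebraMap_eq]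
      have h3 : Ideal.Quotient.mk J (b * f.derivative.eval a₀) = 1 := by
        rw [← map_one (Ideal.Quotient.mk J), Ideal.Quotient.eq]
        exact h₂
      have h4 : (aeval a₀ (f.derivative * (C b * h)) : R) =
          f.derivative.eval a₀ * (b * f.derivative.eval a₀) := by
        simp only [map_mul, aeval_C, coe_aeval_eq_eval, Algebra.algebraMap_self, RingHom.id_apply]
        rw [← hder]
      rw [h4, map_mul, h3, mul_one]
      refine isUnit_iff_exists_inv'.mpr ⟨Ideal.Quotient.mk J b, ?_⟩
      rw [← map_mul, h3]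
  let ρ : S →ₐ[R] R ⧸ J := P.lift _ hmap
  have hρx : ρ x = Ideal.Quotient.mk J a₀ := P.lift_X _ hmap
  -- the two maps to `S / J S`
  let π : S →ₐ[R] S ⧸ J.map (algebraMap R S) := Ideal.Quotient.mkₐ R _
  let ι : (R ⧸ J) →ₐ[R] S ⧸ J.map (algebraMap R S) :=
    Ideal.quotientMapₐ (J.map (algebraMap R S)) (Algebra.ofId R S) Ideal.le_comap_map
  have hι : ∀ r : R, ι (Ideal.Quotient.mk J r) = Ideal.Quotient.mk _ (algebraMap R S r) :=
    fun r => rfl
  have hπι : π = ι.comp ρ := by
    apply P.hom_ext
    rw [AlgHom.comp_apply]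
    change π x = ι (ρ x)
    rw [hρx, hι]
    exact Ideal.Quotient.eq.mpr hxa
  have : Algebra.Etale R S := inferInstanceAs (Algebra.Etale R P.Ring)
  refine ⟨S, inferInstance, inferInstance, IsNbhd.of_retraction ?_ ρ, x, hx0, hxa⟩
  intro y
  obtain ⟨r, hr⟩ := Ideal.Quotient.mk_surjective (ρ y)
  refine ⟨r, ?_⟩
  have h3 : π y = ι (ρ y) := by rw [hπι]; rfl
  rw [← hr, hι] at h3
  exact Ideal.Quotient.eq.mp h3

end EtNbhd

end Groth.Agent.H3
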