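import Groth.Agent.H3.EtaleLiftMain
import Mathlib.RingTheory.Etale.StandardEtale

/-!
# The converse: étale lifting implies henselian
-/

set_option autoImplicit false
universe u

namespace Groth.Agent.H3

namespace EtaleLift

open Polynomial

variable {A : Type u} [CommRing A] {I : Ideal A}

theorem henselianRing_of_etale_lift
    (H : ∀ (A' : Type u) [CommRing A'] [Algebra A A'] [Algebra.Etale A A']
      (σ : A' →ₐ[A] A ⧸ I), ∃ τ : A' →ₐ[A] A, (Ideal.Quotient.mkₐ A I).comp τ = σ) :
    HenselianRing A I := by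
  refine ⟨?_, ?_⟩
  · intro x hx
    rw [Ideal.mem_jacobson_bot]
    intro y
    let s : A := x * y + 1
    have hs : Ideal.Quotient.mk I s = 1 := by
      rw [map_add, map_mul, Ideal.Quotient.eq_zero_iff_mem.mpr hx, zero_mul, zero_add, map_one]
    let σ : Localization.Away s →ₐ[A] A ⧸ I :=
      IsLocalization.liftAlgHom (M := Submonoid.powers s) (f := Ideal.Quotient.mkₐ A I) (by
        rintro ⟨_, n, rfl⟩
        rw [map_pow, Ideal.Quotient.mkₐ_eq_mk, hs, one_pow]
        exact isUnit_one)
    obtain ⟨τ, -⟩ := H (Localization.Away s) σ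
    have h1 : IsUnit (algebraMap A (Localization.Away s) s) :=
      IsLocalization.Away.algebraMap_isUnit s
    have h2 := h1.map τ
    rwa [AlgHom.commutes] at h2
  · intro f hf a₀ hfa hder
    let P : StandardEtalePair A := ⟨f, hf, derivative f, 1, 0, 1, by simp⟩
    have hmap : P.HasMap (Ideal.Quotient.mk I a₀) := by
      constructor
      · change aeval (Ideal.Quotient.mk I a₀) f = 0
        rw [← Ideal.Quotient.algebraMap_eq, aeval_algebraMap_apply,
          Ideal.Quotient.algebraMap_eq, Ideal.Quotient.eq_zero_iff_mem]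
        exact hfa
      · change IsUnit (aeval (Ideal.Quotient.mk I a₀) (derivative f))
        rw [← Ideal.Quotient.algebraMap_eq, aeval_algebraMap_apply,
          Ideal.Quotient.algebraMap_eq]
        exact hder
    obtain ⟨τ, hτ⟩ := H P.Ring (P.lift _ hmap)
    have h1 : P.HasMap (τ P.X) := P.hasMap_X.map τ
    refine ⟨τ P.X, ?_, ?_⟩
    · have := h1.1
      change aeval (τ P.X) f = 0 at this
      rwa [coe_aeval_eq_eval] at this
    · have h2 := congrArg (fun g : P.Ring →ₐ[A] A ⧸ I => g P.X) hτ
      simp only [AlgHom.comp_apply, StandardEtalePair.lift_X, Ideal.Quotient.mkₐ_eq_mk] at h2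
      exact Ideal.Quotient.eq.mp h2

/-- The characterization of henselian pairs by lifting sections of étale algebras. -/
theorem henselianRing_iff_etale_lift :
    HenselianRing A I ↔ ∀ (A' : Type u) [CommRing A'] [Algebra A A'] [Algebra.Etale A A']
      (σ : A' →ₐ[A] A ⧸ I), ∃ τ : A' →ₐ[A] A, (Ideal.Quotient.mkₐ A I).comp τ = σ :=
  ⟨fun h _ _ _ _ σ => exists_lift_of_etale h σ, henselianRing_of_etale_lift⟩

end EtaleLift

end Groth.Agent.H3
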