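import Groth.Agent.H3.PairIdem
import Mathlib.RingTheory.Ideal.Colon
import Mathlib.RingTheory.Nakayama
import Mathlib.RingTheory.Flat.EquationalCriterion

/-!
# Sections of étale algebras over henselian pairs: the algebraic core
-/

set_option autoImplicit false
universe u

namespace Groth.Agent.H3

namespace EtaleLift

variable {A : Type u} [CommRing A] {I : Ideal A} {A' : Type u} [CommRing A'] [Algebra A A']
  {B : Type u} [CommRing B] [Algebra A B] (j : B →ₐ[A] A')

theorem mem_map_iff_mem_smul_top {C : Type u} [CommRing C] [Algebra A C] (x : C) :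
    x ∈ I.map (algebraMap A C) ↔ x ∈ (I • ⊤ : Submodule A C) := by
  rw [Ideal.smul_top_eq_map]
  rfl

theorem map_mem_of_mem {b : B} (hb : b ∈ I.map (algebraMap A B)) :
    j b ∈ I.map (algebraMap A A') := by
  have h2 := Ideal.mem_map_of_mem j.toRingHom hb
  rw [Ideal.map_map] at h2
  have h3 : j.toRingHom.comp (algebraMap A B) = algebraMap A A' :=
    RingHom.ext fun a => j.commutes a
  rw [h3] at h2
  exact h2

/-- (D1) -/
theorem pow_mul_mem (hj : Function.Injective j) (r : B)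
    (hZ : ∀ x : A', ∃ (n : ℕ) (b : B), j b = j r ^ n * x) (κ : B)
    (hκ : j κ ∈ I.map (algebraMap A A')) : ∃ n : ℕ, r ^ n * κ ∈ I.map (algebraMap A B) := by
  have key : ∀ y ∈ (I • ⊤ : Submodule A A'),
      ∃ (n : ℕ) (b : B), b ∈ I.map (algebraMap A B) ∧ j b = j r ^ n * y := by
    intro y hy
    refine Submodule.smul_induction_on hy ?_ ?_
    · intro ι hι x _
      obtain ⟨n, b, hb⟩ := hZ x
      refine ⟨n, ι • b, ?_, ?_⟩
      · rw [Algebra.smul_def]
        exact Ideal.mul_mem_right _ _ (Ideal.mem_map_of_mem _ hι)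
      · rw [map_smul, hb, mul_smul_comm]
    · rintro y z ⟨n, b, hb, hby⟩ ⟨m, c, hc, hcz⟩
      refine ⟨n + m, r ^ m * b + r ^ n * c,
        Ideal.add_mem _ (Ideal.mul_mem_left _ _ hb) (Ideal.mul_mem_left _ _ hc), ?_⟩
      rw [map_add, map_mul, map_mul, map_pow, map_pow, hby, hcz]
      ring
  obtain ⟨n, b, hb, hbκ⟩ := key (j κ) ((mem_map_iff_mem_smul_top _).mp hκ)
  have : b = r ^ n * κ := hj (by rw [hbκ, map_mul, map_pow])
  exact ⟨n, this ▸ hb⟩

/-- (D2) -/
theorem rho_pow_mul_mem (hj : Function.Injective j) {k : ℕ} (r : Fin k → B) (a : Fin k → A)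
    (hZ : ∀ i, ∀ x : A', ∃ (n : ℕ) (b : B), j b = j (r i) ^ n * x) (κ : B)
    (hκ : j κ ∈ I.map (algebraMap A A')) :
    ∃ M : ℕ, (∑ i, a i • r i) ^ M * κ ∈ I.map (algebraMap A B) := by
  let c : Ideal B := (I.map (algebraMap A B)).colon {κ}
  have hr : ∀ i, r i ∈ c.radical := by
    intro i
    obtain ⟨n, hn⟩ := pow_mul_mem j hj (r i) (hZ i) κ hκ
    exact ⟨n, Submodule.mem_colon_singleton.mpr hn⟩
  have hρ : (∑ i, a i • r i) ∈ c.radical := by
    refine Ideal.sum_mem _ fun i _ => ?_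
    rw [Algebra.smul_def]
    exact Ideal.mul_mem_left _ _ (hr i)
  obtain ⟨M, hM⟩ := hρ
  exact ⟨M, Submodule.mem_colon_singleton.mp hM⟩

/-- (D3)-(D6) -/
theorem exists_idem (h : HenselianRing A I) [Module.Finite A B] (hj : Function.Injective j)
    {k : ℕ} (r : Fin k → B) (a : Fin k → A)
    (hZ : ∀ i, ∀ x : A', ∃ (n : ℕ) (b : B), j b = j (r i) ^ n * x)
    (hρ : j (1 - ∑ i, a i • r i) ∈ I.map (algebraMap A A')) :
    ∃ e : B, IsIdempotentElem e ∧ j (1 - e) ∈ I.map (algebraMap A A') ∧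
      e - (∑ i, a i • r i) * e ∈ I.map (algebraMap A B) ∧
      ∀ κ : B, j κ ∈ I.map (algebraMap A A') → e * κ ∈ I.map (algebraMap A B) := by
  have hrho := rho_pow_mul_mem (I := I) j hj r a hZ
  obtain ⟨ρ, hρdef⟩ : ∃ ρ : B, ρ = ∑ i, a i • r i := ⟨_, rfl⟩
  rw [← hρdef] at hρ hrho ⊢
  obtain ⟨M, hM⟩ := hrho (1 - ρ) hρ
  have hcong : ∀ m : ℕ, ρ ^ M - ρ ^ (M + m) ∈ I.map (algebraMap A B) := by
    intro m
    induction m with
    | zero => simp
    | succ m ih =>
      have : ρ ^ M - ρ ^ (M + (m + 1)) = (ρ ^ M - ρ ^ (M + m)) + ρ ^ m * (ρ ^ M * (1 - ρ)) := by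
        ring
      rw [this]
      exact Ideal.add_mem _ ih (Ideal.mul_mem_left _ _ hM)
  have hb : ρ ^ M * ρ ^ M - ρ ^ M ∈ I.map (algebraMap A B) := by
    have : ρ ^ M * ρ ^ M - ρ ^ M = - (ρ ^ M - ρ ^ (M + M)) := by ring
    rw [this]
    exact Ideal.neg_mem_iff _ |>.mpr (hcong M)
  obtain ⟨e, he, heb⟩ := exists_idempotent_lift_of_henselianRing h B (ρ ^ M) hb
  refine ⟨e, he, ?_, ?_, ?_⟩
  · have h1 : (1 : B) - e = (1 - ρ ^ M) - (e - ρ ^ M) := by ring
    obtain ⟨c, hc⟩ := sub_dvd_pow_sub_pow (1 : B) ρ M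
    rw [one_pow] at hc
    rw [h1, hc, map_sub, map_mul]
    exact Ideal.sub_mem _ (Ideal.mul_mem_right _ _ hρ) (map_mem_of_mem j heb)
  · have h1 : e - ρ * e = (e - ρ ^ M) * (1 - ρ) + ρ ^ M * (1 - ρ) := by ring
    rw [h1]
    exact Ideal.add_mem _ (Ideal.mul_mem_right _ _ heb) hM
  · intro κ hκ
    obtain ⟨M', hM'⟩ := hrho κ hκ
    have h1 : e * κ = (e - ρ ^ M) * κ + (ρ ^ M - ρ ^ (M + M')) * κ + ρ ^ M * (ρ ^ M' * κ) := by
      ring
    rw [h1]
    exact Ideal.add_mem _ (Ideal.add_mem _ (Ideal.mul_mem_right _ _ heb)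
      (Ideal.mul_mem_right _ _ (hcong M'))) (Ideal.mul_mem_left _ _ hM')

/-- (D7): Nakayama -/
theorem exists_smul_eq_of_idem [Module.Finite A B] (hjac : I ≤ Ideal.jacobson ⊥) (e : B)
    (he : IsIdempotentElem e)
    (hK : ∀ κ : B, j κ ∈ I.map (algebraMap A A') → e * κ ∈ I.map (algebraMap A B))
    (H1 : ∀ x : A', ∃ t : A, x - algebraMap A A' t ∈ I.map (algebraMap A A')) :
    ∀ b : B, ∃ t : A, e * b = t • e := by
  let N' : Submodule A B := (⊤ : Submodule A B).map (LinearMap.mulLeft A e)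
  let N : Submodule A B := Submodule.span A {e}
  have hfg : N'.FG := (Module.Finite.fg_top).map _
  have hmul : ∀ y ∈ (I • ⊤ : Submodule A B), e * y ∈ I • N' := by
    intro y hy
    refine Submodule.smul_induction_on hy ?_ ?_
    · intro ι hι x _
      rw [mul_smul_comm]
      exact Submodule.smul_mem_smul hι ⟨x, trivial, rfl⟩
    · intro y z hy hz
      rw [mul_add]
      exact add_mem hy hz
  have hle : N' ≤ N ⊔ I • N' := by
    rintro _ ⟨b, -, rfl⟩
    simp only [LinearMap.mulLeft_apply]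
    obtain ⟨t, ht⟩ := H1 (j b)
    have hκ : j (b - algebraMap A B t) ∈ I.map (algebraMap A A') := by
      rw [map_sub, AlgHom.commutes]; exact ht
    have h1 := hK _ hκ
    have h2 : e * b = t • e + e * (e * (b - algebraMap A B t)) := by
      rw [← mul_assoc, he.eq, mul_sub, Algebra.smul_def, mul_comm (algebraMap A B t) e]
      ring
    rw [h2]
    exact Submodule.add_mem_sup (Submodule.smul_mem _ _ (Submodule.subset_span rfl))
      (hmul _ ((mem_map_iff_mem_smul_top _).mp h1))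
  have hN := Submodule.le_of_le_smul_of_le_jacobson_bot hfg hjac hle
  intro b
  have hb : e * b ∈ N := hN ⟨b, trivial, rfl⟩
  obtain ⟨t, ht⟩ := Submodule.mem_span_singleton.mp hb
  exact ⟨t, ht.symm⟩

theorem mul_pow_eq_smul {C : Type u} [CommRing C] [Algebra A C] {e r : C} {t : A}
    (h : e * r = t • e) (n : ℕ) : e * r ^ n = t ^ n • e := by
  induction n with
  | zero => simp
  | succ n ih =>
    rw [pow_succ, ← mul_assoc, ih, smul_mul_assoc, h, smul_smul, pow_succ]

theorem isUnit_of_one_sub_mem (hjac : I ≤ Ideal.jacobson ⊥) {u : A} (hu : 1 - u ∈ I) :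
    IsUnit u := by
  have := Ideal.mem_jacobson_bot.mp (hjac hu) (-1)
  have h2 : (1 - u) * -1 + 1 = u := by ring
  rwa [h2] at this

/-- (D8) -/
theorem exists_smul_eq_of_idem' (hjac : I ≤ Ideal.jacobson ⊥)
    (H2 : ∀ t : A, algebraMap A A' t ∈ I.map (algebraMap A A') → t ∈ I)
    {k : ℕ} (r : Fin k → B) (a : Fin k → A)
    (hZ : ∀ i, ∀ x : A', ∃ (n : ℕ) (b : B), j b = j (r i) ^ n * x)
    (e : B) (he1 : j (1 - e) ∈ I.map (algebraMap A A'))
    (heρ : e - (∑ i, a i • r i) * e ∈ I.map (algebraMap A B))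
    (hB : ∀ b : B, ∃ t : A, e * b = t • e) :
    ∀ x : A', ∃ t : A, j e * x = t • j e := by
  choose t ht using fun i => hB (r i)
  obtain ⟨u, hudef⟩ : ∃ u : A, u = ∑ i, a i * t i := ⟨_, rfl⟩
  have h_eρ : (∑ i, a i • r i) * e = u • e := by
    rw [mul_comm, Finset.mul_sum, hudef, Finset.sum_smul]
    refine Finset.sum_congr rfl fun i _ => ?_
    rw [mul_smul_comm, ht, smul_smul]
  have h1u : 1 - u ∈ I := by
    apply H2
    have h1 : (1 - u) • e ∈ I.map (algebraMap A B) := by
      rw [sub_smul, one_smul, ← h_eρ]; exact heρ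
    have h2 := map_mem_of_mem j h1
    rw [map_smul] at h2
    have h3 : algebraMap A A' (1 - u) = (1 - u) • j e + (1 - u) • j (1 - e) := by
      rw [← smul_add, ← map_add, add_sub_cancel, map_one, Algebra.smul_def, mul_one]
    rw [h3]
    refine Ideal.add_mem _ h2 ?_
    rw [Algebra.smul_def]
    exact Ideal.mul_mem_left _ _ he1
  have hu : IsUnit u := isUnit_of_one_sub_mem hjac h1u
  intro x
  let c : Ideal A := (Submodule.span A {j e}).colon {j e * x}
  have ht' : ∀ i, t i ∈ c.radical := by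
    intro i
    obtain ⟨n, b, hb⟩ := hZ i x
    obtain ⟨t', ht'⟩ := hB b
    refine ⟨n, Submodule.mem_colon_singleton.mpr ?_⟩
    have h1 : j e * j (r i) ^ n = t i ^ n • j e := by
      rw [← map_pow, ← map_mul, mul_pow_eq_smul (ht i) n, map_smul]
    have h2 : t i ^ n • (j e * x) = t' • j e := by
      rw [← smul_mul_assoc, ← h1, mul_assoc, ← hb, ← map_mul, ht', map_smul]
    rw [h2]
    exact Submodule.smul_mem _ _ (Submodule.subset_span rfl)
  have huc : u ∈ c.radical := by
    rw [hudef]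
    exact Ideal.sum_mem _ fun i _ => Ideal.mul_mem_left _ _ (ht' i)
  obtain ⟨N, hN⟩ := huc
  have hc : c = ⊤ := Ideal.eq_top_of_isUnit_mem _ hN (hu.pow N)
  have h1 : (1 : A) ∈ c := hc ▸ Submodule.mem_top
  have h2 := Submodule.mem_colon_singleton.mp h1
  rw [one_smul] at h2
  obtain ⟨t'', ht''⟩ := Submodule.mem_span_singleton.mp h2
  exact ⟨t'', ht''.symm⟩

/-- (D9) -/
theorem exists_algHom_of_idem [Module.Flat A A'] (hjac : I ≤ Ideal.jacobson ⊥)
    (H2 : ∀ t : A, algebraMap A A' t ∈ I.map (algebraMap A A') → t ∈ I)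
    (e' : A') (he' : IsIdempotentElem e') (he1 : 1 - e' ∈ I.map (algebraMap A A'))
    (hE1 : ∀ x : A', ∃ t : A, e' * x = t • e') : Nonempty (A' →ₐ[A] A) := by
  have hann : ∀ c : A, c • e' = 0 → c ∈ I := by
    intro c hc
    apply H2
    have h3 : algebraMap A A' c = c • e' + c • (1 - e') := by
      rw [← smul_add, add_sub_cancel, Algebra.smul_def, mul_one]
    rw [h3, hc, zero_add, Algebra.smul_def]
    exact Ideal.mul_mem_left _ _ he1
  have hE2 : ∀ t : A, t • e' = 0 → t = 0 := by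
    intro t ht
    have hrel : ∑ i : Unit, (fun _ => t) i • (fun _ => e') i = 0 := by simpa using ht
    obtain ⟨k, a, y, hy, hta⟩ := Module.Flat.isTrivialRelation_of_sum_smul_eq_zero hrel
    have hy' : e' = ∑ l, a () l • y l := hy ()
    have hta' : ∀ l, t * a () l = 0 := fun l => by simpa using hta l
    choose s hs using fun l => hE1 (y l)
    have h1 : e' = (∑ l, a () l * s l) • e' := by
      conv_lhs => rw [← he'.eq]
      conv_lhs => enter [2]; rw [hy']
      rw [Finset.mul_sum, Finset.sum_smul]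
      refine Finset.sum_congr rfl fun l _ => ?_
      rw [mul_smul_comm, hs, smul_smul]
    have h2 : (1 - ∑ l, a () l * s l) • e' = 0 := by
      rw [sub_smul, one_smul, ← h1, sub_self]
    have hcu := isUnit_of_one_sub_mem hjac (hann _ h2)
    have h3 : t * ∑ l, a () l * s l = 0 := by
      rw [Finset.mul_sum]
      refine Finset.sum_eq_zero fun l _ => ?_
      rw [← mul_assoc, hta' l, zero_mul]
    exact (hcu.mul_left_eq_zero).mp h3
  have huniq : ∀ t t' : A, t • e' = t' • e' → t = t' := by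
    intro t t' h
    have : (t - t') • e' = 0 := by rw [sub_smul, h, sub_self]
    exact sub_eq_zero.mp (hE2 _ this)
  choose τ hτ using hE1
  refine ⟨{ toFun := τ, map_one' := ?_, map_mul' := ?_, map_zero' := ?_, map_add' := ?_,
            commutes' := ?_ }⟩
  · apply huniq
    rw [← hτ, mul_one, one_smul]
  · intro x y
    apply huniq
    rw [← hτ, ← smul_smul, ← he'.eq]
    have : e' * e' * (x * y) = (e' * x) * (e' * y) := by ring
    rw [this, hτ x, hτ y, smul_mul_smul_comm, he'.eq, smul_smul]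
  · apply huniq
    rw [← hτ, mul_zero, zero_smul]
  · intro x y
    apply huniq
    rw [← hτ, mul_add, hτ x, hτ y, add_smul]
  · intro a
    apply huniq
    rw [← hτ, Algebra.smul_def, mul_comm]
    rfl

end EtaleLift

end Groth.Agent.H3
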