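import Groth.Agent.H3.EtaleLiftZMT
import Mathlib.RingTheory.Kaehler.Basic
import Mathlib.RingTheory.Unramified.Basic
import Mathlib.RingTheory.Ideal.IdempotentFG

/-!
# Lifting sections of étale algebras over henselian pairs
-/

set_option autoImplicit false
universe u

namespace Groth.Agent.H3

namespace EtaleLift

open TensorProduct

variable {A : Type u} [CommRing A] {I : Ideal A}

theorem algHom_quotient_eq_zero_of_mem {C : Type u} [CommRing C] [Algebra A C]
    (ψ : C →ₐ[A] A ⧸ I) {w : C} (hw : w ∈ I.map (algebraMap A C)) : ψ w = 0 := by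
  have h2 := Ideal.mem_map_of_mem ψ.toRingHom hw
  rw [Ideal.map_map] at h2
  have h3 : ψ.toRingHom.comp (algebraMap A C) = Ideal.Quotient.mk I :=
    RingHom.ext fun a => ψ.commutes a
  rw [h3, Ideal.map_quotient_self] at h2
  exact (Ideal.mem_bot).mp h2

variable {A' : Type u} [CommRing A'] [Algebra A A']

/-- the idempotent of `A'/IA'` cutting out a section `σ : A' → A/I` of an unramified algebra -/
theorem exists_split_of_section [Algebra.EssFiniteType A A'] [Algebra.FormallyUnramified A A']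
    (σ : A' →ₐ[A] A ⧸ I) :
    ∃ ε : A', σ ε = 1 ∧ ε * ε - ε ∈ I.map (algebraMap A A') ∧
      ∀ (x : A') (t : A), σ x = Ideal.Quotient.mk I t →
        (x - algebraMap A A' t) * ε ∈ I.map (algebraMap A A') := by
  obtain ⟨e, he, hsp⟩ : ∃ e, IsIdempotentElem e ∧
      KaehlerDifferential.ideal A A' = Ideal.span {e} :=
    (Ideal.isIdempotentElem_iff_of_fg _ (KaehlerDifferential.ideal_fg A A')).mp <|
      (Ideal.cotangent_subsingleton_iff _).mp <| inferInstanceAs <| Subsingleton Ω[A'⁄A]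
  let IA' : Ideal A' := I.map (algebraMap A A')
  let ι : A ⧸ I →ₐ[A] A' ⧸ IA' := Ideal.Quotient.liftₐ I (Algebra.ofId A (A' ⧸ IA')) (by
    intro a ha
    change Ideal.Quotient.mk IA' (algebraMap A A' a) = 0
    rw [Ideal.Quotient.eq_zero_iff_mem]
    exact Ideal.mem_map_of_mem _ ha)
  have hι : ∀ t : A, ι (Ideal.Quotient.mk I t) = Ideal.Quotient.mk IA' (algebraMap A A' t) :=
    fun t => rfl
  let φ : A' ⊗[A] A' →ₐ[A] A' ⧸ IA' :=
    Algebra.TensorProduct.lift (Ideal.Quotient.mkₐ A IA') (ι.comp σ) (fun _ _ => Commute.all _ _)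
  have hφ : ∀ x y : A', φ (x ⊗ₜ y) = Ideal.Quotient.mk IA' x * ι (σ y) := fun x y => by
    simp [φ]
  let σbar : A' ⧸ IA' →ₐ[A] A ⧸ I := Ideal.Quotient.liftₐ IA' σ (fun w hw =>
    algHom_quotient_eq_zero_of_mem σ hw)
  have hσbar : ∀ x : A', σbar (Ideal.Quotient.mk IA' x) = σ x := fun x => rfl
  have hσι : ∀ z : A ⧸ I, σbar (ι z) = z := by
    intro z
    obtain ⟨t, rfl⟩ := Ideal.Quotient.mk_surjective z
    rw [hι, hσbar]
    exact σ.commutes t
  have hcomp : σbar.comp φ = σ.comp (Algebra.TensorProduct.lmul' A) := by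
    apply Algebra.TensorProduct.ext'
    intro x y
    simp only [AlgHom.comp_apply, hφ, map_mul, hσbar, hσι, Algebra.TensorProduct.lmul'_apply_tmul]
  have hφe : σbar (φ e) = 0 := by
    have h1 : e ∈ KaehlerDifferential.ideal A A' := by
      rw [hsp]; exact Ideal.subset_span rfl
    have h2 : (Algebra.TensorProduct.lmul' A : A' ⊗[A] A' →ₐ[A] A') e = 0 := h1
    have h3 := congrArg (fun g : A' ⊗[A] A' →ₐ[A] A ⧸ I => g e) hcomp
    simp only [AlgHom.comp_apply] at h3
    rw [h3, h2, map_zero]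
  obtain ⟨ε, hε⟩ := Ideal.Quotient.mk_surjective (φ (1 - e))
  have hidem : IsIdempotentElem (φ (1 - e)) := he.one_sub.map φ
  refine ⟨ε, ?_, ?_, ?_⟩
  · rw [← hσbar, hε, map_sub, map_sub, map_one, map_one, hφe, sub_zero]
  · rw [← Ideal.Quotient.eq_zero_iff_mem, map_sub, map_mul, hε, hidem.eq, sub_self]
  · intro x t hxt
    rw [← Ideal.Quotient.eq_zero_iff_mem, map_mul, hε, map_sub]
    have h1 : (1 : A') ⊗ₜ[A] x - x ⊗ₜ[A] (1 : A') ∈ Ideal.span {e} := by
      rw [← hsp]; exact KaehlerDifferential.one_smul_sub_smul_one_mem_ideal A x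
    obtain ⟨c, hc⟩ := Ideal.mem_span_singleton'.mp h1
    have h2 : ((1 : A') ⊗ₜ[A] x - x ⊗ₜ[A] (1 : A')) * (1 - e) = 0 := by
      rw [← hc, mul_assoc, mul_sub, mul_one, he.eq, sub_self, mul_zero]
    have h3 := congrArg φ h2
    simp only [map_mul, map_sub, hφ, map_zero, map_one, one_mul, mul_one] at h3
    rw [hxt, hι] at h3
    rw [← neg_eq_zero, ← neg_mul, neg_sub, map_sub, map_one]
    exact h3

/-- **Étale lifting for henselian pairs.** -/
theorem exists_lift_of_etale (h : HenselianRing A I) [Algebra.Etale A A']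
    (σ : A' →ₐ[A] A ⧸ I) : ∃ τ : A' →ₐ[A] A, (Ideal.Quotient.mkₐ A I).comp τ = σ := by
  obtain ⟨ε, hσε, hεε, hsplit⟩ := exists_split_of_section σ
  let A'' := Localization.Away ε
  let ℓ : A' →ₐ[A] A'' := IsScalarTower.toAlgHom A A' A''
  have hℓ : ∀ x, ℓ x = algebraMap A' A'' x := fun x => rfl
  have hℓI : ∀ w ∈ I.map (algebraMap A A'), ℓ w ∈ I.map (algebraMap A A'') :=
    fun w hw => map_mem_of_mem ℓ hw
  have hεu : IsUnit (ℓ ε) := IsLocalization.Away.algebraMap_isUnit ε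
  -- the section on `A''`
  let σ'' : A'' →ₐ[A] A ⧸ I :=
    IsLocalization.liftAlgHom (M := Submonoid.powers ε) (f := σ) (by
      rintro ⟨_, n, rfl⟩
      rw [map_pow, hσε, one_pow]
      exact isUnit_one)
  have hσ'' : ∀ x, σ'' (ℓ x) = σ x := fun x => IsLocalization.lift_eq _ x
  -- `ε ≡ 1`
  have hε1 : ℓ ε - 1 ∈ I.map (algebraMap A A'') := by
    have h1 := hℓI _ hεε
    rw [map_sub, map_mul, ← mul_sub_one] at h1
    obtain ⟨u, hu⟩ := hεu
    have h2 := Ideal.mul_mem_left _ (↑u⁻¹ : A'') h1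
    rw [← mul_assoc, ← hu, Units.inv_mul, one_mul, hu] at h2
    exact h2
  have H1 : ∀ y : A'', ∃ t : A, y - algebraMap A A'' t ∈ I.map (algebraMap A A'') := by
    intro y
    obtain ⟨x, ⟨_, n, rfl⟩, rfl⟩ := IsLocalization.exists_mk'_eq (Submonoid.powers ε) y
    obtain ⟨t, ht⟩ := Ideal.Quotient.mk_surjective (σ x)
    refine ⟨t, ?_⟩
    have h1 := hℓI _ (hsplit x t ht.symm)
    rw [map_mul, map_sub, AlgHom.commutes] at h1
    have h2 : ℓ x - algebraMap A A'' t ∈ I.map (algebraMap A A'') := by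
      obtain ⟨u, hu⟩ := hεu
      have h3 := Ideal.mul_mem_right (↑u⁻¹ : A'') _ h1
      rwa [mul_assoc, ← hu, Units.mul_inv, mul_one] at h3
    have h4 : IsLocalization.mk' A'' x (⟨ε ^ n, n, rfl⟩ : Submonoid.powers ε) * ℓ ε ^ n = ℓ x := by
      rw [hℓ, hℓ, ← map_pow]
      exact IsLocalization.mk'_spec A'' x (⟨ε ^ n, n, rfl⟩ : Submonoid.powers ε)
    obtain ⟨c, hc⟩ := sub_dvd_pow_sub_pow (ℓ ε) 1 n
    rw [one_pow] at hc
    have h5 : IsLocalization.mk' A'' x (⟨ε ^ n, n, rfl⟩ : Submonoid.powers ε) -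
        algebraMap A A'' t = (ℓ x - algebraMap A A'' t) -
        IsLocalization.mk' A'' x (⟨ε ^ n, n, rfl⟩ : Submonoid.powers ε) * ((ℓ ε - 1) * c) := by
      rw [← hc, ← h4]; ring
    rw [h5]
    exact Ideal.sub_mem _ h2 (Ideal.mul_mem_left _ _ (Ideal.mul_mem_right _ _ hε1))
  have H2 : ∀ t : A, algebraMap A A'' t ∈ I.map (algebraMap A A'') → t ∈ I := by
    intro t ht
    have h1 := algHom_quotient_eq_zero_of_mem σ'' ht
    rw [AlgHom.commutes] at h1
    exact Ideal.Quotient.eq_zero_iff_mem.mp h1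
  obtain ⟨τ''⟩ := exists_algHom_of_etale h H1 H2
  refine ⟨τ''.comp ℓ, ?_⟩
  have key : ∀ y : A'', Ideal.Quotient.mk I (τ'' y) = σ'' y := by
    intro y
    obtain ⟨t, ht⟩ := H1 y
    have h1 : y = algebraMap A A'' t + (y - algebraMap A A'' t) := by ring
    have h2 := algHom_quotient_eq_zero_of_mem ((Ideal.Quotient.mkₐ A I).comp τ'') ht
    have h3 := algHom_quotient_eq_zero_of_mem σ'' ht
    rw [AlgHom.comp_apply, Ideal.Quotient.mkₐ_eq_mk] at h2
    rw [h1, map_add, map_add, map_add, h2, h3, AlgHom.commutes, AlgHom.commutes]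
    rfl
  apply AlgHom.ext
  intro x
  rw [AlgHom.comp_apply, AlgHom.comp_apply, Ideal.Quotient.mkₐ_eq_mk, key, hσ'']

end EtaleLift

end Groth.Agent.H3
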