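import Groth.Agent.H3.EtaleLiftCore
import Mathlib.RingTheory.ZariskisMainTheorem
import Mathlib.RingTheory.Unramified.LocalStructure
import Mathlib.RingTheory.Etale.Basic
import Mathlib.RingTheory.Smooth.Flat
import Mathlib.RingTheory.TensorProduct.Finite
import Mathlib.RingTheory.Finiteness.Subalgebra

/-!
# Sections of étale algebras over henselian pairs: the input from Zariski's main theorem
-/

set_option autoImplicit false
universe u

namespace Groth.Agent.H3

namespace EtaleLift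

variable {A : Type u} [CommRing A] {A' : Type u} [CommRing A'] [Algebra A A']

/-- elements `r` such that `A'[1/r]` comes from a finite subalgebra -/
def zmtSet (A : Type u) [CommRing A] (A' : Type u) [CommRing A'] [Algebra A A'] : Set A' :=
  {r | ∃ S' : Subalgebra A A', Module.Finite A S' ∧ r ∈ S' ∧ ∀ x : A', ∃ n : ℕ, r ^ n * x ∈ S'}

theorem span_zmtSet_sup_eq_top [Algebra.FiniteType A A'] [Algebra.QuasiFinite A A']
    (J : Ideal A') : Ideal.span (zmtSet A A') ⊔ J = ⊤ := by
  by_contra h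
  obtain ⟨q, hqmax, hqle⟩ := Ideal.exists_le_maximal _ h
  have := hqmax.isPrime
  obtain ⟨S', hS', r, hrq, hbij⟩ :=
    Algebra.QuasiFiniteAt.exists_fg_and_exists_notMem_and_awayMap_bijective (R := A) q
  have hfin : Module.Finite A S' := ⟨(Submodule.fg_top _).mpr hS'⟩
  have hr : r.1 ∈ zmtSet A A' := by
    refine ⟨S', hfin, r.2, fun x => ?_⟩
    obtain ⟨b, m, hb⟩ := Localization.awayMap_surjective_iff.mp hbij.2 x
    refine ⟨m, ?_⟩
    have : (b : A') = (r : A') ^ m * x := hb
    rw [← this]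
    exact b.2
  exact hrq (hqle (Ideal.mem_sup_left (Ideal.subset_span hr)))

theorem exists_finite_subalgebra_of_finset (s : Finset A') (hs : ∀ r ∈ s, r ∈ zmtSet A A') :
    ∃ B : Subalgebra A A', Module.Finite A B ∧
      ∀ r ∈ s, r ∈ B ∧ ∀ x : A', ∃ n : ℕ, r ^ n * x ∈ B := by
  classical
  induction s using Finset.induction_on with
  | empty => exact ⟨⊥, inferInstance, by simp⟩
  | insert r₀ s _ ih =>
    obtain ⟨B, hB, hBs⟩ := ih fun r hr => hs r (Finset.mem_insert_of_mem hr)
    obtain ⟨S', hS', hrS', hZ⟩ := hs r₀ (Finset.mem_insert_self _ _)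
    refine ⟨B ⊔ S', Subalgebra.finite_sup B S', ?_⟩
    intro r hr
    rcases Finset.mem_insert.mp hr with rfl | hr
    · refine ⟨(le_sup_right : S' ≤ B ⊔ S') hrS', fun x => ?_⟩
      obtain ⟨n, hn⟩ := hZ x
      exact ⟨n, (le_sup_right : S' ≤ B ⊔ S') hn⟩
    · obtain ⟨h1, h2⟩ := hBs r hr
      refine ⟨(le_sup_left : B ≤ B ⊔ S') h1, fun x => ?_⟩
      obtain ⟨n, hn⟩ := h2 x
      exact ⟨n, (le_sup_left : B ≤ B ⊔ S') hn⟩

theorem exists_zmt_cover [Algebra.FiniteType A A'] [Algebra.QuasiFinite A A'] (I : Ideal A)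
    (H1 : ∀ x : A', ∃ t : A, x - algebraMap A A' t ∈ I.map (algebraMap A A')) :
    ∃ (B : Subalgebra A A') (k : ℕ) (r : Fin k → B) (a : Fin k → A), Module.Finite A B ∧
      (∀ i, ∀ x : A', ∃ (n : ℕ) (b : B), B.val b = B.val (r i) ^ n * x) ∧
      B.val (1 - ∑ i, a i • r i) ∈ I.map (algebraMap A A') := by
  classical
  have htop := span_zmtSet_sup_eq_top (A := A) (I.map (algebraMap A A'))
  have h1 : (1 : A') ∈ Ideal.span (zmtSet A A') ⊔ I.map (algebraMap A A') := by
    rw [htop]; exact Submodule.mem_top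
  obtain ⟨y, hy, z, hz, hyz⟩ := Submodule.mem_sup.mp h1
  obtain ⟨k, f, g, hfg⟩ := Submodule.mem_span_set'.mp hy
  choose a ha using fun i => H1 (f i)
  obtain ⟨B, hB, hBs⟩ := exists_finite_subalgebra_of_finset
    (Finset.univ.image fun i => (g i : A')) (by
      intro r hr
      obtain ⟨i, -, rfl⟩ := Finset.mem_image.mp hr
      exact (g i).2)
  have hgB : ∀ i, (g i : A') ∈ B ∧ ∀ x : A', ∃ n : ℕ, (g i : A') ^ n * x ∈ B := fun i =>
    hBs _ (Finset.mem_image_of_mem _ (Finset.mem_univ i))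
  refine ⟨B, k, fun i => ⟨g i, (hgB i).1⟩, a, hB, ?_, ?_⟩
  · intro i x
    obtain ⟨n, hn⟩ := (hgB i).2 x
    exact ⟨n, ⟨_, hn⟩, rfl⟩
  · have h2 : B.val (1 - ∑ i, a i • (⟨g i, (hgB i).1⟩ : B)) =
        z + ∑ i, (f i - algebraMap A A' (a i)) * (g i : A') := by
      have h3 : ∀ i, B.val (a i • (⟨g i, (hgB i).1⟩ : B)) =
          algebraMap A A' (a i) * (g i : A') := fun i => by
        rw [map_smul, Algebra.smul_def]; rfl
      rw [map_sub, map_one, map_sum]
      simp only [h3]
      rw [← hyz, ← hfg]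
      simp only [smul_eq_mul, sub_mul, Finset.sum_sub_distrib]
      ring
    rw [h2]
    exact Ideal.add_mem _ hz (Ideal.sum_mem _ fun i _ => Ideal.mul_mem_right _ _ (ha i))

/-- **Main lemma**: an étale algebra `A'` over a henselian pair `(A, I)` with `A/I = A'/IA'`
admits an `A`-algebra map to `A`. -/
theorem exists_algHom_of_etale {I : Ideal A} (h : HenselianRing A I) [Algebra.Etale A A']
    (H1 : ∀ x : A', ∃ t : A, x - algebraMap A A' t ∈ I.map (algebraMap A A'))
    (H2 : ∀ t : A, algebraMap A A' t ∈ I.map (algebraMap A A') → t ∈ I) :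
    Nonempty (A' →ₐ[A] A) := by
  have hjac : I ≤ Ideal.jacobson ⊥ := h.jac
  obtain ⟨B, k, r, a, hB, hZ, hρ⟩ := exists_zmt_cover I H1
  have hj : Function.Injective B.val := Subtype.val_injective
  obtain ⟨e, he, he1, heρ, hK⟩ := exists_idem B.val h hj r a hZ hρ
  have hBe := exists_smul_eq_of_idem B.val hjac e he hK H1
  have hA'e := exists_smul_eq_of_idem' B.val hjac H2 r a hZ e he1 heρ hBe
  refine exists_algHom_of_idem hjac H2 (B.val e) (he.map B.val) ?_ hA'e
  rw [← map_one B.val, ← map_sub]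
  exact he1

end EtaleLift

end Groth.Agent.H3
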