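import Mathlib.RingTheory.TotallySplit
import Mathlib.RingTheory.Spectrum.Prime.Topology
import Mathlib.RingTheory.Idempotents
import Mathlib.RingTheory.Etale.Basic
import Mathlib.Topology.Connected.Clopen

/-! Over a ring with connected spectrum, a nonzero finite etale algebra maps to a connected finite
etale faithfully flat algebra. -/

set_option autoImplicit false
universe u

namespace Groth.Agent.H3.FEtConn

open PrimeSpectrum TopologicalSpace

/-- idempotents of a ring with connected spectrum are trivial -/
theorem idem_of_connectedSpace {T : Type*} [CommRing T] [ConnectedSpace (PrimeSpectrum T)]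
    (e : T) (he : IsIdempotentElem e) : e = 0 ∨ e = 1 := by
  have hcl : IsClopen ((isIdempotentElemEquivClopens ⟨e, he⟩ : Clopens (PrimeSpectrum T)) :
      Set (PrimeSpectrum T)) := (isIdempotentElemEquivClopens ⟨e, he⟩).isClopen
  rcases _root_.isClopen_iff.mp hcl with h | h
  · left
    have h' : isIdempotentElemEquivClopens ⟨e, he⟩ = (⊥ : Clopens (PrimeSpectrum T)) :=
      TopologicalSpace.Clopens.ext h
    have h2 : (⟨e, he⟩ : {e : T // IsIdempotentElem e}) = ⟨0, .zero⟩ := by
      apply isIdempotentElemEquivClopens.injective
      rw [h', ← isIdempotentElemEquivClopens.map_bot]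
      rfl
    exact congrArg Subtype.val h2
  · right
    have h' : isIdempotentElemEquivClopens ⟨e, he⟩ = (⊤ : Clopens (PrimeSpectrum T)) :=
      TopologicalSpace.Clopens.ext h
    have h2 : (⟨e, he⟩ : {e : T // IsIdempotentElem e}) = ⟨1, .one⟩ := by
      apply isIdempotentElemEquivClopens.injective
      rw [h', ← isIdempotentElemEquivClopens.map_top]
      rfl
    exact congrArg Subtype.val h2

/-- a nontrivial ring with only trivial idempotents has connected spectrum -/
theorem connectedSpace_of_idem {T : Type*} [CommRing T] [Nontrivial T]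
    (h : ∀ e : T, IsIdempotentElem e → e = 0 ∨ e = 1) : ConnectedSpace (PrimeSpectrum T) := by
  rw [connectedSpace_iff_clopen]
  refine ⟨inferInstance, fun s hs => ?_⟩
  let c : Clopens (PrimeSpectrum T) := ⟨s, hs⟩
  obtain ⟨⟨e, he⟩, hec⟩ := isIdempotentElemEquivClopens.surjective c
  rcases h e he with rfl | rfl
  · left
    have : c = ⊥ := by
      rw [← hec, ← isIdempotentElemEquivClopens.map_bot]
      rfl
    exact congrArg (fun c : Clopens (PrimeSpectrum T) => (c : Set (PrimeSpectrum T))) this
  · right
    have : c = ⊤ := by
      rw [← hec, ← isIdempotentElemEquivClopens.map_top]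
      rfl
    exact congrArg (fun c : Clopens (PrimeSpectrum T) => (c : Set (PrimeSpectrum T))) this

end Groth.Agent.H3.FEtConn
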