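import Groth.Agent.H3.FEtConn
import Mathlib.RingTheory.Flat.Rank
import Mathlib.RingTheory.Smooth.Flat
import Mathlib.RingTheory.FinitePresentation
import Mathlib.RingTheory.Finiteness.ModuleFinitePresentation

/-! Connected refinement of finite etale covers of a connected base. -/

set_option autoImplicit false
set_option linter.style.haveILetI false
universe u

namespace Groth.Agent.H3.FEtConn

open PrimeSpectrum TopologicalSpace

/-- constant rank over a connected base -/
theorem exists_rank (R : Type*) [CommRing R] [ConnectedSpace (PrimeSpectrum R)]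
    (M : Type*) [AddCommGroup M] [Module R M] [Module.FinitePresentation R M] [Module.Flat R M] :
    ∃ n : ℕ, ∀ p, Module.rankAtStalk (R := R) M p = n := by
  obtain ⟨p₀⟩ := (inferInstance : Nonempty (PrimeSpectrum R))
  exact ⟨Module.rankAtStalk M p₀, fun p =>
    (Module.isLocallyConstant_rankAtStalk (R := R) (M := M)).apply_eq_of_preconnectedSpace p p₀⟩

section Quot

variable {R : Type u} [CommRing R] {T : Type u} [CommRing T] [Algebra R T]

theorem etale_quot_idem [Algebra.Etale R T] (f : T) (hf : IsIdempotentElem f) :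
    Algebra.Etale R (T ⧸ Ideal.span {f}) := by
  have h1 : Algebra.FormallyEtale T (T ⧸ Ideal.span {f}) := by
    rw [Algebra.FormallyEtale.iff_of_surjective Ideal.Quotient.mk_surjective]
    rw [Ideal.Quotient.algebraMap_eq, Ideal.mk_ker]
    change Ideal.span {f} * Ideal.span {f} = Ideal.span {f}
    rw [Ideal.span_singleton_mul_span_singleton, hf.eq]
  have h2 : Algebra.FinitePresentation T (T ⧸ Ideal.span {f}) :=
    Algebra.FinitePresentation.quotient ⟨{f}, by simp⟩
  have h3 : Algebra.Etale T (T ⧸ Ideal.span {f}) := ⟨h1, h2⟩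
  exact Algebra.Etale.comp R T _

theorem finite_quot [Module.Finite R T] (I : Ideal T) : Module.Finite R (T ⧸ I) :=
  Module.Finite.of_surjective (Ideal.Quotient.mkₐ R I).toLinearMap Ideal.Quotient.mk_surjective

theorem nontrivial_quot_idem (f : T) (hf : IsIdempotentElem f) (hf1 : f ≠ 1) :
    Nontrivial (T ⧸ Ideal.span {f}) := by
  rw [Ideal.Quotient.nontrivial_iff]
  intro h
  rw [Ideal.span_singleton_eq_top] at h
  obtain ⟨u, hu⟩ := h
  apply hf1
  have : f * f = f * 1 := by rw [hf.eq, mul_one]
  rw [← hu] at this ⊢
  exact (IsUnit.mul_right_inj u.isUnit).mp this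

end Quot

/-- Over a connected base, a nonzero finite etale algebra maps to a connected one. -/
theorem exists_connected (R : Type u) [CommRing R] [ConnectedSpace (PrimeSpectrum R)] :
    ∀ (r : ℕ) (T : Type u) [CommRing T] [Algebra R T] [Module.Finite R T] [Algebra.Etale R T]
      [Nontrivial T], (∀ p, Module.rankAtStalk (R := R) T p = r) →
      ∃ (T' : Type u) (_ : CommRing T') (_ : Algebra R T'), Module.Finite R T' ∧
        Algebra.Etale R T' ∧ ConnectedSpace (PrimeSpectrum T') ∧ Nonempty (T →ₐ[R] T') := by
  intro r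
  induction r using Nat.strong_induction_on with
  | _ r ih =>
    intro T _ _ _ _ _ hr
    by_cases hconn : ∀ e : T, IsIdempotentElem e → e = 0 ∨ e = 1
    · exact ⟨T, inferInstance, inferInstance, inferInstance, inferInstance,
        connectedSpace_of_idem hconn, ⟨AlgHom.id R T⟩⟩
    · push Not at hconn
      obtain ⟨e, he, he0, he1⟩ := hconn
      have hf : IsIdempotentElem (1 - e) := he.one_sub
      have hf1 : (1 - e) ≠ 1 := by
        intro h
        apply he0
        have : e = 1 - (1 - e) := by ring
        rw [this, h, sub_self]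
      haveI : Algebra.Etale R (T ⧸ Ideal.span {e}) := etale_quot_idem e he
      haveI : Algebra.Etale R (T ⧸ Ideal.span {1 - e}) := etale_quot_idem (1 - e) hf
      haveI : Module.Finite R (T ⧸ Ideal.span {e}) := finite_quot _
      haveI : Module.Finite R (T ⧸ Ideal.span {1 - e}) := finite_quot _
      haveI : Nontrivial (T ⧸ Ideal.span {e}) := nontrivial_quot_idem e he he1
      haveI : Nontrivial (T ⧸ Ideal.span {1 - e}) := nontrivial_quot_idem (1 - e) hf hf1
      haveI : Module.FinitePresentation R (T ⧸ Ideal.span {e}) :=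
        Module.FinitePresentation.of_finite_of_finitePresentation _ _
      haveI : Module.FinitePresentation R (T ⧸ Ideal.span {1 - e}) :=
        Module.FinitePresentation.of_finite_of_finitePresentation _ _
      let E : T ≃ₐ[R] (T ⧸ Ideal.span {e}) × (T ⧸ Ideal.span {1 - e}) :=
        AlgEquiv.prodQuotientOfIsIdempotentElem R he hf (by ring) (by rw [mul_sub, mul_one, he.eq, sub_self])
      obtain ⟨r₂, hr₂⟩ := exists_rank R (T ⧸ Ideal.span {e})
      obtain ⟨r₁, hr₁⟩ := exists_rank R (T ⧸ Ideal.span {1 - e})
      have hr₂pos : 0 < r₂ := by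
        rcases Nat.eq_zero_or_pos r₂ with h | h
        · exfalso
          have : Module.rankAtStalk (R := R) (T ⧸ Ideal.span {e}) = 0 := by
            ext p
            rw [hr₂ p, h]
            rfl
          rw [Module.rankAtStalk_eq_zero_iff_subsingleton] at this
          exact not_subsingleton _ this
        · exact h
      have hsum : r = r₂ + r₁ := by
        obtain ⟨p₀⟩ := (inferInstance : Nonempty (PrimeSpectrum R))
        have h1 := Module.rankAtStalk_eq_of_equiv (R := R) E.toLinearEquiv
        have h2 := Module.rankAtStalk_prod (R := R) (T ⧸ Ideal.span {e}) (T ⧸ Ideal.span {1 - e})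
        have h3 := congrFun (h1.trans h2) p₀
        rw [hr p₀, Pi.add_apply, hr₂ p₀, hr₁ p₀] at h3
        exact h3
      obtain ⟨T', _, _, h1, h2, h3, ⟨φ⟩⟩ := ih r₁ (by omega) (T ⧸ Ideal.span {1 - e}) hr₁
      exact ⟨T', inferInstance, inferInstance, h1, h2, h3,
        ⟨φ.comp (Ideal.Quotient.mkₐ R _)⟩⟩

end Groth.Agent.H3.FEtConn
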