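import Mathlib

/-!
# A finitely generated subalgebra whose spectrum stays inside a constructible set
(helper3)

If `Spec A ⟶ Spec R` lands in a constructible subset `E` of `Spec R`, then so does
`Spec C ⟶ Spec R` for some finitely generated `R`-subalgebra `C` of `A`.
-/

set_option autoImplicit false

open PrimeSpectrum

namespace Groth.Agent.H3.FGAvoid

variable {R A : Type*} [CommRing R] [CommRing A] [Algebra R A]

/-- the key radical membership for one basic constructible piece of the complement -/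
theorem algebraMap_f_mem_radical (E : Set (PrimeSpectrum R))
    (h : Set.range (PrimeSpectrum.comap (algebraMap R A)) ⊆ E)
    (D : BasicConstructibleSetData R) (hD : D.toSet ⊆ Eᶜ) :
    algebraMap R A D.f ∈ (Ideal.span (Set.range (algebraMap R A ∘ D.g))).radical := by
  rw [Ideal.radical_eq_sInf, Ideal.mem_sInf]
  rintro P ⟨hJP, hP⟩
  by_contra hf
  have hmem : PrimeSpectrum.comap (algebraMap R A) ⟨P, hP⟩ ∈ D.toSet := by
    refine ⟨?_, ?_⟩
    · rw [PrimeSpectrum.mem_zeroLocus]
      rintro _ ⟨i, rfl⟩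
      exact hJP (Ideal.subset_span ⟨i, rfl⟩)
    · rw [PrimeSpectrum.mem_zeroLocus, Set.singleton_subset_iff]
      exact hf
  exact hD hmem (h ⟨_, rfl⟩)

theorem exists_fg_subalgebra_range_comap_subset (E : Set (PrimeSpectrum R))
    (hE : Topology.IsConstructible E)
    (h : Set.range (PrimeSpectrum.comap (algebraMap R A)) ⊆ E) :
    ∃ C : Subalgebra R A, C.FG ∧
      Set.range (PrimeSpectrum.comap (algebraMap R C)) ⊆ E := by
  classical
  obtain ⟨S, hS⟩ := exists_constructibleSetData_iff.mpr hE.compl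
  have hpiece : ∀ D ∈ S, D.toSet ⊆ Eᶜ := by
    intro D hD
    rw [← hS]
    exact Set.subset_biUnion_of_mem (u := fun D => D.toSet) hD
  have key : ∀ D : BasicConstructibleSetData R, D ∈ S → ∃ (n : ℕ) (c : Fin D.n → A),
      ∑ i, c i * algebraMap R A (D.g i) = algebraMap R A D.f ^ n := by
    intro D hD
    obtain ⟨n, hn⟩ := algebraMap_f_mem_radical E h D (hpiece D hD)
    obtain ⟨c, hc⟩ := (Ideal.mem_span_range_iff_exists_fun).mp hn
    exact ⟨n, c, hc⟩
  choose! n c hc using key
  let T : Set A := ⋃ D ∈ S, Set.range (c D)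
  have hTfin : T.Finite :=
    Set.Finite.biUnion S.finite_toSet (fun D _ => Set.finite_range _)
  refine ⟨Algebra.adjoin R T, ⟨hTfin.toFinset, by simp⟩, ?_⟩
  rintro _ ⟨q, rfl⟩
  by_contra hq
  have hq' : PrimeSpectrum.comap (algebraMap R (Algebra.adjoin R T)) q ∈ S.toSet := by
    rw [hS]; exact hq
  obtain ⟨D, hDS, hg, hf⟩ : ∃ D ∈ S,
      PrimeSpectrum.comap (algebraMap R (Algebra.adjoin R T)) q ∈ zeroLocus (Set.range D.g) ∧
      PrimeSpectrum.comap (algebraMap R (Algebra.adjoin R T)) q ∉ zeroLocus {D.f} := by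
    simp only [ConstructibleSetData.toSet, Set.mem_iUnion] at hq'
    obtain ⟨D, hDS, hD⟩ := hq'
    exact ⟨D, hDS, hD.1, hD.2⟩
  have hcmem : ∀ i, c D i ∈ Algebra.adjoin R T := fun i =>
    Algebra.subset_adjoin (Set.mem_biUnion hDS ⟨i, rfl⟩)
  have heq : ∑ i, (⟨c D i, hcmem i⟩ : Algebra.adjoin R T) *
      algebraMap R (Algebra.adjoin R T) (D.g i) =
      algebraMap R (Algebra.adjoin R T) D.f ^ n D := by
    apply Subtype.val_injective
    simpa using hc D hDS
  have hmem : algebraMap R (Algebra.adjoin R T) D.f ^ n D ∈ q.asIdeal := by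
    rw [← heq]
    refine Ideal.sum_mem _ (fun i _ => Ideal.mul_mem_left _ _ ?_)
    rw [PrimeSpectrum.mem_zeroLocus] at hg
    exact hg ⟨i, rfl⟩
  apply hf
  rw [PrimeSpectrum.mem_zeroLocus, Set.singleton_subset_iff]
  exact q.isPrime.mem_of_pow_mem _ hmem

end Groth.Agent.H3.FGAvoid
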