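import Mathlib.RingTheory.AdjoinRoot
import Mathlib.RingTheory.QuasiFinite.Basic
import Mathlib.RingTheory.Nakayama
import Mathlib.RingTheory.Ideal.GoingUp
import Mathlib.RingTheory.Polynomial.Basic
import Mathlib.RingTheory.LocalRing.ResidueField.Ideal
import Mathlib.Tactic.LinearCombination
import Mathlib.Tactic.Ring

set_option autoImplicit false
universe u

namespace Groth.Agent.H3

open IsLocalRing TensorProduct Polynomial

/-- For a field `K` over `R` and `f : R[X]` with nonzero image in `K[X]`, the base change of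
`AdjoinRoot f` to `K` is finite over `K`. -/
theorem finite_tensor_adjoinRoot {R : Type*} [CommRing R] (K : Type*) [Field K] [Algebra R K]
    (f : R[X]) (hf : f.map (algebraMap R K) ≠ 0) :
    Module.Finite K (K ⊗[R] AdjoinRoot f) := by
  classical
  set fK := f.map (algebraMap R K) with hfK
  have hroot : fK.eval₂ (Algebra.ofId K (K ⊗[R] AdjoinRoot f))
      ((1 : K) ⊗ₜ[R] AdjoinRoot.root f) = 0 := by
    rw [hfK, Polynomial.eval₂_map]
    have h1 : (((Algebra.ofId K (K ⊗[R] AdjoinRoot f) : K →ₐ[K] _) : K →+* _).comp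
        (algebraMap R K)) = algebraMap R (K ⊗[R] AdjoinRoot f) := by
      ext r
      simp [Algebra.algebraMap_eq_smul_one]
    rw [h1]
    have h2 : ((1 : K) ⊗ₜ[R] AdjoinRoot.root f : K ⊗[R] AdjoinRoot f) =
        (Algebra.TensorProduct.includeRight : AdjoinRoot f →ₐ[R] K ⊗[R] AdjoinRoot f)
          (AdjoinRoot.root f) := rfl
    rw [h2, ← Polynomial.aeval_def, Polynomial.aeval_algHom_apply, AdjoinRoot.aeval_eq,
      AdjoinRoot.mk_self, map_zero]
  let φ : AdjoinRoot fK →ₐ[K] K ⊗[R] AdjoinRoot f :=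
    AdjoinRoot.liftAlgHom fK (Algebra.ofId K _) ((1 : K) ⊗ₜ[R] AdjoinRoot.root f) hroot
  have hφroot : φ (AdjoinRoot.root fK) = (1 : K) ⊗ₜ[R] AdjoinRoot.root f :=
    AdjoinRoot.liftAlgHom_root _ _ _ _
  have hsurj : Function.Surjective φ := by
    rw [← AlgHom.range_eq_top, eq_top_iff]
    rintro x -
    induction x using TensorProduct.induction_on with
    | zero => exact Subalgebra.zero_mem _
    | add x y hx hy => exact Subalgebra.add_mem _ hx hy
    | tmul a s =>
      obtain ⟨p, rfl⟩ := AdjoinRoot.mk_surjective s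
      have h3 : (a ⊗ₜ[R] AdjoinRoot.mk f p : K ⊗[R] AdjoinRoot f) =
          a • ((1 : K) ⊗ₜ[R] AdjoinRoot.mk f p) := by
        rw [TensorProduct.smul_tmul', smul_eq_mul, mul_one]
      rw [h3]
      apply Subalgebra.smul_mem
      have h4 : ((1 : K) ⊗ₜ[R] AdjoinRoot.mk f p : K ⊗[R] AdjoinRoot f) =
          Polynomial.aeval ((1 : K) ⊗ₜ[R] AdjoinRoot.root f) p := by
        have h2 : ((1 : K) ⊗ₜ[R] AdjoinRoot.root f : K ⊗[R] AdjoinRoot f) =
            (Algebra.TensorProduct.includeRight : AdjoinRoot f →ₐ[R] K ⊗[R] AdjoinRoot f)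
              (AdjoinRoot.root f) := rfl
        rw [h2, Polynomial.aeval_algHom_apply, AdjoinRoot.aeval_eq]
        rfl
      rw [h4, ← hφroot]
      refine ⟨Polynomial.aeval (AdjoinRoot.root fK) (p.map (algebraMap R K)), ?_⟩
      rw [Polynomial.aeval_map_algebraMap]
      exact (Polynomial.aeval_algHom_apply (φ.restrictScalars R) _ _).symm
  have : Module.Finite K (AdjoinRoot fK) := (AdjoinRoot.powerBasis hf).finite
  exact Module.Finite.of_surjective φ.toLinearMap hsurj


/-- `R[X]/(f)` is quasi-finite over a local ring `R` when `f` is nonzero modulo the maximal ideal. -/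
theorem quasiFinite_adjoinRoot {R : Type*} [CommRing R] [IsLocalRing R]
    (f : R[X]) (hf : f.map (residue R) ≠ 0) : Algebra.QuasiFinite R (AdjoinRoot f) := by
  refine ⟨fun P _ => ?_⟩
  apply finite_tensor_adjoinRoot
  intro h0
  apply hf
  ext n
  have hn := congrArg (fun q => Polynomial.coeff q n) h0
  simp only [Polynomial.coeff_map, Polynomial.coeff_zero] at hn ⊢
  rw [Ideal.algebraMap_residueField_eq_zero] at hn
  exact (residue_eq_zero_iff _).mpr (IsLocalRing.le_maximalIdeal Ideal.IsPrime.ne_top' hn)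

/-- For an integral algebra over a local ring, the extension of the maximal ideal lies in the
Jacobson radical. -/
theorem map_maximalIdeal_le_jacobson_of_isIntegral (R : Type*) [CommRing R] [IsLocalRing R]
    (A : Type*) [CommRing A] [Algebra R A] [Algebra.IsIntegral R A] :
    Ideal.map (algebraMap R A) (maximalIdeal R) ≤ Ideal.jacobson ⊥ := by
  rw [Ideal.jacobson]
  refine le_sInf ?_
  rintro Q ⟨-, hQ⟩
  have hQm : Q.comap (algebraMap R A) = maximalIdeal R :=
    eq_maximalIdeal (Ideal.isMaximal_comap_of_isIntegral_of_isMaximal Q)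
  rw [Ideal.map_le_iff_le_comap, hQm]

/-- An idempotent in the Jacobson radical vanishes. -/
theorem eq_zero_of_isIdempotentElem_of_mem_jacobson {A : Type*} [CommRing A] {u : A}
    (hu : IsIdempotentElem u) (hj : u ∈ Ideal.jacobson (⊥ : Ideal A)) : u = 0 := by
  have h1 := (Ideal.mem_jacobson_bot.mp hj) (-1)
  have h0 : (u * -1 + 1) * u = 0 := by
    have := hu.eq
    linear_combination -this
  exact (h1.mul_right_eq_zero).mp h0

/-- Membership of `mk f p` in `m · R[X]/(f)` is divisibility modulo `m`. -/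
theorem mk_mem_map_maximalIdeal_iff {R : Type*} [CommRing R] [IsLocalRing R] (f p : R[X]) :
    AdjoinRoot.mk f p ∈ Ideal.map (algebraMap R (AdjoinRoot f)) (maximalIdeal R) ↔
      f.map (residue R) ∣ p.map (residue R) := by
  have hC : ∀ q : R[X], q ∈ Ideal.map (Polynomial.C : R →+* R[X]) (maximalIdeal R) ↔
      q.map (residue R) = 0 := by
    intro q
    rw [Ideal.mem_map_C_iff, Polynomial.ext_iff]
    simp only [Polynomial.coeff_map, Polynomial.coeff_zero, residue_eq_zero_iff]
  have hmap : Ideal.map (algebraMap R (AdjoinRoot f)) (maximalIdeal R) =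
      Ideal.map (AdjoinRoot.mk f) (Ideal.map (Polynomial.C : R →+* R[X]) (maximalIdeal R)) := by
    rw [Ideal.map_map]
    rfl
  rw [hmap]
  constructor
  · intro h
    rw [Ideal.mem_map_iff_of_surjective _ AdjoinRoot.mk_surjective] at h
    obtain ⟨p', hp', hpp'⟩ := h
    rw [AdjoinRoot.mk_eq_mk] at hpp'
    obtain ⟨v, hv⟩ := hpp'
    have : p = p' - f * v := by linear_combination -hv
    rw [this, Polynomial.map_sub, (hC p').mp hp', zero_sub, Polynomial.map_mul]
    exact (dvd_mul_right _ _).neg_right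
  · rintro ⟨v, hv⟩
    obtain ⟨w, rfl⟩ := Polynomial.map_surjective (residue R) residue_surjective v
    have h1 : p - f * w ∈ Ideal.map (Polynomial.C : R →+* R[X]) (maximalIdeal R) := by
      rw [hC, Polynomial.map_sub, Polynomial.map_mul, hv, sub_self]
    have h2 : AdjoinRoot.mk f p = AdjoinRoot.mk f (p - f * w) := by
      rw [AdjoinRoot.mk_eq_mk]
      exact ⟨w, by ring⟩
    rw [h2]
    exact Ideal.mem_map_of_mem _ h1

end Groth.Agent.H3
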