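import Groth.Agent.S0499
import Mathlib.RingTheory.LocalRing.Basic
import Mathlib.Tactic.LinearCombination
import Mathlib.Tactic.Ring

set_option autoImplicit false
universe u

namespace Groth.Agent.H3

open IsLocalRing

/-- In a finite product of local rings, every element `b` is congruent modulo `b² - b` to an
idempotent. -/
theorem exists_idempotent_pi {ι : Type*} (A : ι → Type*) [∀ i, CommRing (A i)]
    [∀ i, IsLocalRing (A i)] (b : ∀ i, A i) :
    ∃ e : ∀ i, A i, IsIdempotentElem e ∧ ∃ c : ∀ i, A i, e - b = c * (b * b - b) := by
  classical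
  refine ⟨fun i => if IsUnit (b i) then 1 else 0, ?_,
    fun i => if IsUnit (b i) then -Ring.inverse (b i) else Ring.inverse (1 - b i), ?_⟩
  · funext i
    by_cases h : IsUnit (b i) <;> simp [h]
  · funext i
    by_cases h : IsUnit (b i)
    · have h1 := Ring.mul_inverse_cancel _ h
      simp only [Pi.sub_apply, Pi.mul_apply, h, if_true]
      linear_combination (b i - 1) * h1
    · have h' : IsUnit (1 - b i) := (IsLocalRing.isUnit_or_isUnit_one_sub_self (b i)).resolve_left h
      have h1 := Ring.mul_inverse_cancel _ h'
      simp only [Pi.sub_apply, Pi.mul_apply, h, if_false]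
      linear_combination (b i) * h1

/-- In a finite algebra over a henselian local ring, every element `b` is congruent modulo
`b² - b` to an idempotent. -/
theorem exists_idempotent_lift (R : Type u) [CommRing R] [HenselianLocalRing R]
    (B : Type u) [CommRing B] [Algebra R B] [Module.Finite R B] (b : B) :
    ∃ e : B, IsIdempotentElem e ∧ ∃ c : B, e - b = c * (b * b - b) := by
  obtain ⟨ι, _, A, _, hloc, ⟨φ⟩⟩ := Groth.Agent.S0499.result R B
  obtain ⟨e, he, c, hc⟩ := exists_idempotent_pi A (φ b)
  refine ⟨φ.symm e, ?_, φ.symm c, ?_⟩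
  · change φ.symm e * φ.symm e = φ.symm e
    rw [← map_mul, he.eq]
  · apply φ.injective
    simp only [map_sub, map_mul, RingEquiv.apply_symm_apply]
    exact hc

end Groth.Agent.H3
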