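import Groth.Agent.H3.FactorLift
import Groth.Agent.H3.IdemLift
import Groth.Agent.H3.IdemFinite
import Groth.Agent.S0503
import Mathlib.Algebra.Polynomial.Lifts

set_option autoImplicit false
universe u

namespace Groth.Agent.H3

open IsLocalRing Polynomial

theorem factor_lift (R : Type u) [CommRing R] [HenselianLocalRing R]
    (f : R[X]) (g₀ h₀ : (ResidueField R)[X]) (hg : g₀.Monic)
    (hc : IsCoprime g₀ h₀) (hf : f.map (residue R) = g₀ * h₀) :
    ∃ g h : R[X], f = g * h ∧ g.Monic ∧ g.map (residue R) = g₀ ∧ h.map (residue R) = h₀ := by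
  classical
  have hsurj := Polynomial.map_surjective (residue R) residue_surjective
  by_cases hh0 : h₀ = 0
  · obtain ⟨a, b, hab⟩ := hc
    rw [hh0, mul_zero, add_zero] at hab
    have hg1 : g₀ = 1 := hg.eq_one_of_isUnit (IsUnit.of_mul_eq_one _ (by rw [mul_comm]; exact hab))
    exact ⟨1, f, (one_mul f).symm, monic_one, by rw [Polynomial.map_one, hg1],
      by rw [hf, hg1, one_mul]⟩
  have hfne : f.map (residue R) ≠ 0 := by
    rw [hf]; exact mul_ne_zero hg.ne_zero hh0
  obtain ⟨a₀, b₀, hab⟩ := hc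
  obtain ⟨a', ha'⟩ := hsurj a₀
  obtain ⟨b', hb'⟩ := hsurj b₀
  obtain ⟨g', hg'⟩ := hsurj g₀
  obtain ⟨h', hh'⟩ := hsurj h₀
  have hQF : Algebra.QuasiFinite R (AdjoinRoot f) := quasiFinite_adjoinRoot f hfne
  obtain ⟨e₀, he₀, hfin₀, htop⟩ := Groth.Agent.S0503.result R (AdjoinRoot f)
  set mS : Ideal (AdjoinRoot f) := Ideal.map (algebraMap R (AdjoinRoot f)) (maximalIdeal R) with hmS
  -- `1 - e₀ ∈ mS`
  have h1e₀ : 1 - e₀ ∈ mS := by
    have h1 : (1 : AdjoinRoot f ⧸ Ideal.span {e₀}) ∈
        Ideal.map (algebraMap R (AdjoinRoot f ⧸ Ideal.span {e₀})) (maximalIdeal R) := by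
      rw [htop]; trivial
    have hmm : Ideal.map (algebraMap R (AdjoinRoot f ⧸ Ideal.span {e₀})) (maximalIdeal R) =
        Ideal.map (Ideal.Quotient.mk (Ideal.span {e₀})) mS := by
      rw [hmS, Ideal.map_map]; rfl
    rw [hmm, Ideal.mem_map_iff_of_surjective _ Ideal.Quotient.mk_surjective] at h1
    obtain ⟨μ, hμ, hμ1⟩ := h1
    rw [← map_one (Ideal.Quotient.mk _), Ideal.Quotient.eq, Ideal.mem_span_singleton'] at hμ1
    obtain ⟨s, hs⟩ := hμ1
    have h2 : 1 - e₀ = μ * (1 - e₀) := by
      have := he₀.eq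
      linear_combination (1 - e₀) * hs + s * this
    rw [h2]
    exact Ideal.mul_mem_right _ _ hμ
  set βt : AdjoinRoot f := AdjoinRoot.mk f (b' * h') with hβt
  obtain ⟨ε, hε, c, hεc⟩ := exists_idempotent_lift R (AdjoinRoot f ⧸ Ideal.span {1 - e₀})
    (Ideal.Quotient.mk _ βt)
  obtain ⟨εt, rfl⟩ := Ideal.Quotient.mk_surjective ε
  obtain ⟨ct, rfl⟩ := Ideal.Quotient.mk_surjective c
  set e₁ := e₀ * εt with he₁def
  have he₁ : IsIdempotentElem e₁ := by
    have h2 : εt * εt - εt ∈ Ideal.span {1 - e₀} := by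
      rw [← Ideal.Quotient.eq, map_mul]; exact hε.eq
    obtain ⟨s, hs⟩ := Ideal.mem_span_singleton'.mp h2
    have := he₀.eq
    change e₀ * εt * (e₀ * εt) = e₀ * εt
    linear_combination (-e₀) * hs + (εt * εt - s) * this
  have hβ2 : βt * βt - βt ∈ mS := by
    rw [hβt, ← map_mul, ← map_sub, mk_mem_map_maximalIdeal_iff]
    simp only [Polynomial.map_sub, Polynomial.map_mul, hb', hh', hf]
    exact ⟨-(a₀ * b₀), by linear_combination (b₀ * h₀) * hab⟩
  have hstar : e₁ - βt ∈ mS := by
    have h3 : εt - βt - ct * (βt * βt - βt) ∈ Ideal.span {1 - e₀} := by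
      rw [← Ideal.Quotient.eq_zero_iff_mem]
      simp only [map_sub, map_mul]
      rw [sub_eq_zero]; exact hεc
    obtain ⟨s, hs⟩ := Ideal.mem_span_singleton'.mp h3
    have h4 : e₁ - βt = e₀ * ct * (βt * βt - βt) - βt * (1 - e₀) := by
      have := he₀.eq
      rw [he₁def]
      linear_combination (-e₀) * hs - s * this
    rw [h4]
    exact Ideal.sub_mem _ (Ideal.mul_mem_left _ _ hβ2) (Ideal.mul_mem_left _ _ h1e₀)
  have hfin₁ : Module.Finite R (AdjoinRoot f ⧸ Ideal.span {1 - e₁}) := by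
    have hle : Ideal.span {1 - e₀} ≤ Ideal.span {1 - e₁} := by
      rw [Ideal.span_singleton_le_iff_mem, Ideal.mem_span_singleton']
      refine ⟨1 - e₀, ?_⟩
      have := he₀.eq
      rw [he₁def]
      linear_combination εt * this
    exact Module.Finite.of_surjective (Ideal.Quotient.factorₐ R hle).toLinearMap
      (Ideal.Quotient.factor_surjective hle)
  have hfg₁ : (idemSub R e₁).FG := idemSub_fg_of_finite_quotient he₁ hfin₁
  have hsmall : ∀ y ∈ mS, e₁ * y ∈ (maximalIdeal R) • idemSub R e₁ := by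
    intro y hy
    have h5 := Ideal.mul_mem_mul hy (Ideal.mem_span_singleton_self e₁)
    rw [← Ideal.smul_eq_mul] at h5
    have h4 := Ideal.smul_restrictScalars (maximalIdeal R) (Ideal.span {e₁} : Ideal (AdjoinRoot f))
    rw [mul_comm, idemSub, ← h4]
    exact h5
  have hg'e : e₁ * AdjoinRoot.mk f g' ∈ mS := by
    have h5 : βt * AdjoinRoot.mk f g' ∈ mS := by
      rw [hβt, ← map_mul, mk_mem_map_maximalIdeal_iff]
      simp only [Polynomial.map_mul, hb', hh', hg', hf]
      exact ⟨b₀, by ring⟩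
    have h6 : e₁ * AdjoinRoot.mk f g' = (e₁ - βt) * AdjoinRoot.mk f g' + βt * AdjoinRoot.mk f g' := by
      ring
    rw [h6]
    exact Ideal.add_mem _ (Ideal.mul_mem_right _ _ hstar) h5
  -- Nakayama
  set d := g₀.natDegree with hd
  let L : R[X] →ₗ[R] AdjoinRoot f := (LinearMap.mulRight R e₁).comp (AdjoinRoot.mkₐ f).toLinearMap
  have hL : ∀ p, L p = AdjoinRoot.mk f p * e₁ := fun p => rfl
  let N : Submodule R (AdjoinRoot f) := (Polynomial.degreeLT R d).map L
  have hN : idemSub R e₁ ≤ N := by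
    refine Submodule.le_of_le_smul_of_le_jacobson_bot hfg₁ (maximalIdeal_le_jacobson _) ?_
    intro y hy
    obtain ⟨z, rfl⟩ := mem_idemSub.mp hy
    obtain ⟨p, rfl⟩ := AdjoinRoot.mk_surjective z
    obtain ⟨q, hq⟩ := hsurj (p.map (residue R) /ₘ g₀)
    obtain ⟨r, hr, hrdeg⟩ := Polynomial.exists_degree_eq_of_mem_lifts
      ((Polynomial.mem_lifts _).mpr (hsurj (p.map (residue R) %ₘ g₀)))
    have hrd : r ∈ Polynomial.degreeLT R d := by
      rw [Polynomial.mem_degreeLT, hrdeg, hd, ← Polynomial.degree_eq_natDegree hg.ne_zero]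
      exact Polynomial.degree_modByMonic_lt _ hg
    have ht : AdjoinRoot.mk f (p - g' * q - r) ∈ mS := by
      rw [mk_mem_map_maximalIdeal_iff]
      have : (p - g' * q - r).map (residue R) = 0 := by
        rw [Polynomial.map_sub, Polynomial.map_sub, Polynomial.map_mul, hg', hq, hr]
        have := Polynomial.modByMonic_add_div (p.map (residue R)) g₀
        linear_combination -this
      rw [this]
      exact dvd_zero _
    have hx : e₁ * AdjoinRoot.mk f p = L r +
        (e₁ * ((e₁ * AdjoinRoot.mk f g') * AdjoinRoot.mk f q) +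
          e₁ * AdjoinRoot.mk f (p - g' * q - r)) := by
      rw [hL]
      simp only [map_sub, map_mul]
      have := he₁.eq
      linear_combination (-(AdjoinRoot.mk f g' * AdjoinRoot.mk f q)) * this
    rw [hx]
    refine Submodule.add_mem_sup (Submodule.mem_map_of_mem hrd) (Submodule.add_mem _ ?_ ?_)
    · exact hsmall _ (Ideal.mul_mem_right _ _ hg'e)
    · exact hsmall _ ht
  have hXd : L (X ^ d) ∈ N := by
    apply hN
    rw [hL]
    exact mem_idemSub.mpr ⟨_, mul_comm _ _⟩
  obtain ⟨r, hr, hrL⟩ := hXd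
  set g := X ^ d - r with hgdef
  have hgm : g.Monic := Polynomial.monic_X_pow_sub (Polynomial.mem_degreeLT.mp hr)
  have hgdle : g.natDegree ≤ d := by
    refine (Polynomial.natDegree_sub_le _ _).trans (max_le (Polynomial.natDegree_X_pow_le d) ?_)
    exact Polynomial.natDegree_le_of_degree_le (Polynomial.mem_degreeLT.mp hr).le
  have hge : AdjoinRoot.mk f g * e₁ = 0 := by
    rw [← hL, hgdef, map_sub, hrL, sub_self]
  have hgb : g.map (residue R) = g₀ := by
    have h6 : AdjoinRoot.mk f g * βt ∈ mS := by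
      have h7 : AdjoinRoot.mk f g * βt = -(AdjoinRoot.mk f g * (e₁ - βt)) + AdjoinRoot.mk f g * e₁ := by
        ring
      rw [h7, hge, add_zero]
      exact (Ideal.neg_mem_iff _).mpr (Ideal.mul_mem_left _ _ hstar)
    rw [hβt, ← map_mul, mk_mem_map_maximalIdeal_iff, hf] at h6
    simp only [Polynomial.map_mul, hb', hh'] at h6
    have h7 : g₀ ∣ g.map (residue R) * b₀ := by
      have h8 : g₀ * h₀ ∣ (g.map (residue R) * b₀) * h₀ := by
        convert h6 using 1; ring
      exact (mul_dvd_mul_iff_right hh0).mp h8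
    have hcop : IsCoprime g₀ b₀ := ⟨a₀, h₀, by linear_combination hab⟩
    have h8 : g₀ ∣ g.map (residue R) := hcop.dvd_of_dvd_mul_right h7
    exact Polynomial.eq_of_monic_of_dvd_of_natDegree_le hg (hgm.map _) h8
      (Polynomial.natDegree_map_le.trans hgdle)
  -- `1 - e₁ ∈ (g)`
  have h1e₁ : 1 - e₁ ∈ Ideal.span {AdjoinRoot.mk f g} := by
    have hfinC : Module.Finite R (AdjoinRoot f ⧸ Ideal.span {AdjoinRoot.mk f g}) := by
      let ψ : R[X] →ₐ[R] (AdjoinRoot f ⧸ Ideal.span {AdjoinRoot.mk f g}) :=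
        (Ideal.Quotient.mkₐ R _).comp (AdjoinRoot.mkₐ f)
      have hψ : ∀ a ∈ Ideal.span {g}, ψ a = 0 := by
        intro a ha
        obtain ⟨v, rfl⟩ := Ideal.mem_span_singleton'.mp ha
        change Ideal.Quotient.mk _ (AdjoinRoot.mk f (v * g)) = 0
        rw [Ideal.Quotient.eq_zero_iff_mem, map_mul]
        exact Ideal.mul_mem_left _ _ (Ideal.mem_span_singleton_self _)
      have : Module.Finite R (R[X] ⧸ Ideal.span {g}) := hgm.finite_quotient
      refine Module.Finite.of_surjective (Ideal.Quotient.liftₐ (Ideal.span {g}) ψ hψ).toLinearMap ?_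
      intro y
      obtain ⟨y', rfl⟩ := Ideal.Quotient.mk_surjective y
      obtain ⟨p, rfl⟩ := AdjoinRoot.mk_surjective y'
      exact ⟨Ideal.Quotient.mk _ p, rfl⟩
    have hu : IsIdempotentElem (Ideal.Quotient.mk (Ideal.span {AdjoinRoot.mk f g}) (1 - e₁)) :=
      he₁.one_sub.map _
    have humem : Ideal.Quotient.mk (Ideal.span {AdjoinRoot.mk f g}) (1 - e₁) ∈
        Ideal.map (algebraMap R (AdjoinRoot f ⧸ Ideal.span {AdjoinRoot.mk f g}))
          (maximalIdeal R) := by
      have hmm : Ideal.map (algebraMap R (AdjoinRoot f ⧸ Ideal.span {AdjoinRoot.mk f g}))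
          (maximalIdeal R) = Ideal.map (Ideal.Quotient.mk (Ideal.span {AdjoinRoot.mk f g})) mS := by
        rw [hmS, Ideal.map_map]; rfl
      rw [hmm]
      have h9 : AdjoinRoot.mk f (1 - b' * h' - a' * g) ∈ mS := by
        rw [mk_mem_map_maximalIdeal_iff]
        have : (1 - b' * h' - a' * g).map (residue R) = 0 := by
          simp only [Polynomial.map_sub, Polynomial.map_mul, Polynomial.map_one, hb', hh', ha', hgb]
          linear_combination -hab
        rw [this]
        exact dvd_zero _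
      have h10 : Ideal.Quotient.mk (Ideal.span {AdjoinRoot.mk f g}) (1 - e₁) =
          Ideal.Quotient.mk (Ideal.span {AdjoinRoot.mk f g})
            (AdjoinRoot.mk f (1 - b' * h' - a' * g) - (e₁ - βt)) := by
        rw [Ideal.Quotient.eq, Ideal.mem_span_singleton']
        refine ⟨AdjoinRoot.mk f a', ?_⟩
        rw [hβt]
        simp only [map_sub, map_mul, map_one]
        ring
      rw [h10]
      exact Ideal.mem_map_of_mem _ (Ideal.sub_mem _ h9 hstar)
    have hInt : Algebra.IsIntegral R (AdjoinRoot f ⧸ Ideal.span {AdjoinRoot.mk f g}) :=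
      Algebra.IsIntegral.of_finite R _
    have h0 := eq_zero_of_isIdempotentElem_of_mem_jacobson hu
      (map_maximalIdeal_le_jacobson_of_isIntegral R _ humem)
    exact Ideal.Quotient.eq_zero_iff_mem.mp h0
  obtain ⟨Wt, hW⟩ := Ideal.mem_span_singleton'.mp h1e₁
  obtain ⟨W, rfl⟩ := AdjoinRoot.mk_surjective Wt
  have h9 : AdjoinRoot.mk f (g * (1 - g * W)) = 0 := by
    simp only [map_mul, map_sub, map_one]
    linear_combination hge - (AdjoinRoot.mk f g) * hW
  rw [AdjoinRoot.mk_eq_zero] at h9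
  obtain ⟨b, hb⟩ := h9
  have hgf : g ∣ f := by
    rw [← AdjoinRoot.mk_eq_zero]
    have hfinA : Module.Finite R (AdjoinRoot g) := hgm.finite_adjoinRoot
    have hInt : Algebra.IsIntegral R (AdjoinRoot g) := Algebra.IsIntegral.of_finite R _
    have hbu : IsUnit (AdjoinRoot.mk g b) := by
      have h10 : AdjoinRoot.mk g (h' * b - 1) ∈
          Ideal.map (algebraMap R (AdjoinRoot g)) (maximalIdeal R) := by
        rw [mk_mem_map_maximalIdeal_iff, hgb]
        have h11 := congrArg (Polynomial.map (residue R)) hb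
        simp only [Polynomial.map_mul, Polynomial.map_sub, Polynomial.map_one, hgb, hf] at h11
        have h12 : 1 - g₀ * W.map (residue R) = h₀ * b.map (residue R) :=
          mul_left_cancel₀ hg.ne_zero (by rw [h11]; ring)
        simp only [Polynomial.map_sub, Polynomial.map_mul, Polynomial.map_one, hh']
        exact ⟨-W.map (residue R), by linear_combination -h12⟩
      have h13 := Ideal.mem_jacobson_bot.mp
        (map_maximalIdeal_le_jacobson_of_isIntegral R (AdjoinRoot g) h10) 1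
      have h14 : AdjoinRoot.mk g (h' * b - 1) * 1 + 1 = AdjoinRoot.mk g h' * AdjoinRoot.mk g b := by
        simp
      rw [h14] at h13
      exact isUnit_of_mul_isUnit_right h13
    have h14 : AdjoinRoot.mk g f * AdjoinRoot.mk g b = 0 := by
      rw [← map_mul, ← hb, map_mul, AdjoinRoot.mk_self, zero_mul]
    exact (hbu.mul_left_eq_zero).mp h14
  obtain ⟨h, hfh⟩ := hgf
  refine ⟨g, h, hfh, hgm, hgb, ?_⟩
  have h15 := congrArg (Polynomial.map (residue R)) hfh
  rw [hf, Polynomial.map_mul, hgb] at h15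
  exact (mul_left_cancel₀ hg.ne_zero h15).symm

end Groth.Agent.H3
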