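import Mathlib.RingTheory.LocalRing.ResidueField.Basic
import Mathlib.RingTheory.TensorProduct.Basic
import Mathlib.RingTheory.Ideal.Maps
import Mathlib.Algebra.Module.Submodule.Pointwise
import Mathlib.Tactic.LinearCombination
import Mathlib.Tactic.Ring

set_option autoImplicit false
universe u

namespace Groth.Agent.H3

open IsLocalRing TensorProduct

/-- Every element of `κ ⊗ M` is a pure tensor `1 ⊗ s`. -/
theorem exists_one_tmul_eq (R : Type*) [CommRing R] [IsLocalRing R] (M : Type*) [AddCommGroup M]
    [Module R M] (x : ResidueField R ⊗[R] M) : ∃ s : M, x = (1 : ResidueField R) ⊗ₜ[R] s := by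
  induction x using TensorProduct.induction_on with
  | zero => exact ⟨0, by simp⟩
  | tmul k s =>
    obtain ⟨r, rfl⟩ := residue_surjective k
    refine ⟨r • s, ?_⟩
    rw [TensorProduct.tmul_smul, TensorProduct.smul_tmul', Algebra.smul_def, mul_one]
    rfl
  | add x y hx hy =>
    obtain ⟨s, rfl⟩ := hx
    obtain ⟨t, rfl⟩ := hy
    exact ⟨s + t, by rw [TensorProduct.tmul_add]⟩

/-- Elements of `m • M` die in `κ ⊗ M`. -/
theorem one_tmul_eq_zero_of_mem (R : Type*) [CommRing R] [IsLocalRing R] (M : Type*)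
    [AddCommGroup M] [Module R M] {s : M}
    (hs : s ∈ (maximalIdeal R) • (⊤ : Submodule R M)) :
    ((1 : ResidueField R) ⊗ₜ[R] s : ResidueField R ⊗[R] M) = 0 := by
  refine Submodule.smul_induction_on hs (fun μ hμ t _ => ?_) (fun x y hx hy => ?_)
  · rw [TensorProduct.tmul_smul, TensorProduct.smul_tmul', Algebra.smul_def, mul_one]
    have : algebraMap R (ResidueField R) μ = 0 := (residue_eq_zero_iff μ).mpr hμ
    rw [this, TensorProduct.zero_tmul]
  · rw [TensorProduct.tmul_add, hx, hy, add_zero]

/-- In a finite product, `m • ⊤` is computed componentwise. -/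
theorem mem_smul_top_pi {R : Type*} [CommRing R] (m : Ideal R) {ι : Type*} [Fintype ι]
    [DecidableEq ι] (B : ι → Type*) [∀ i, AddCommGroup (B i)] [∀ i, Module R (B i)]
    (y : ∀ i, B i) (hy : ∀ i, y i ∈ m • (⊤ : Submodule R (B i))) :
    y ∈ m • (⊤ : Submodule R (∀ i, B i)) := by
  have h1 : y = ∑ i, LinearMap.single R B i (y i) := by
    funext j
    simp [Finset.sum_apply]
  rw [h1]
  refine Submodule.sum_mem _ (fun i _ => ?_)
  have h2 : (m • (⊤ : Submodule R (B i))).map (LinearMap.single R B i) ≤
      m • (⊤ : Submodule R (∀ i, B i)) := by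
    rw [Submodule.map_smul'']
    exact Submodule.smul_mono le_rfl le_top
  exact h2 (Submodule.mem_map_of_mem (hy i))

end Groth.Agent.H3
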