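import Groth.Agent.H3.FactorLift
import Mathlib.RingTheory.Etale.StandardEtale
import Mathlib.RingTheory.Etale.Pi
import Mathlib.RingTheory.Etale.Field
import Mathlib.FieldTheory.PrimitiveElement
import Mathlib.RingTheory.TensorProduct.Pi
import Mathlib.Algebra.Polynomial.Lifts

set_option autoImplicit false
universe u

namespace Groth.Agent.H3

open IsLocalRing TensorProduct Polynomial

/-- `R[X]/(f)` is etale when `f` is monic and `f'` is invertible modulo `f`. -/
theorem etale_adjoinRoot_of_isUnit_derivative {R : Type*} [CommRing R] (f : R[X]) (hf : f.Monic)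
    (h : IsUnit (AdjoinRoot.mk f (derivative f))) : Algebra.Etale R (AdjoinRoot f) := by
  let P : StandardEtalePair R := ⟨f, hf, derivative f, ⟨1, 0, 1, by ring⟩⟩
  let e₁ : P.Ring ≃ₐ[R] Localization.Away (AdjoinRoot.mk f (derivative f)) := P.equivAwayAdjoinRoot
  let e₂ : AdjoinRoot f ≃ₐ[AdjoinRoot f] Localization.Away (AdjoinRoot.mk f (derivative f)) :=
    IsLocalization.atUnit (AdjoinRoot f) _ (AdjoinRoot.mk f (derivative f)) h
  exact Algebra.Etale.of_equiv (e₁.trans (e₂.restrictScalars R).symm)

/-- A monic lift of a separable polynomial over the residue field gives a finite etale algebra. -/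
theorem etale_adjoinRoot_of_separable {R : Type*} [CommRing R] [IsLocalRing R] (g : R[X])
    (hg : g.Monic) (hsep : (g.map (residue R)).Separable) : Algebra.Etale R (AdjoinRoot g) := by
  apply etale_adjoinRoot_of_isUnit_derivative g hg
  have hfin : Module.Finite R (AdjoinRoot g) := hg.finite_adjoinRoot
  have hInt : Algebra.IsIntegral R (AdjoinRoot g) := Algebra.IsIntegral.of_finite R _
  obtain ⟨a, b, hab⟩ := hsep
  obtain ⟨b', hb'⟩ := Polynomial.map_surjective (residue R) residue_surjective b
  have h10 : AdjoinRoot.mk g (b' * derivative g - 1) ∈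
      Ideal.map (algebraMap R (AdjoinRoot g)) (maximalIdeal R) := by
    rw [mk_mem_map_maximalIdeal_iff]
    simp only [Polynomial.map_sub, Polynomial.map_mul, Polynomial.map_one, hb',
      ← Polynomial.derivative_map]
    exact ⟨-a, by linear_combination hab⟩
  have h13 := Ideal.mem_jacobson_bot.mp
    (map_maximalIdeal_le_jacobson_of_isIntegral R (AdjoinRoot g) h10) 1
  have h14 : AdjoinRoot.mk g (b' * derivative g - 1) * 1 + 1 =
      AdjoinRoot.mk g b' * AdjoinRoot.mk g (derivative g) := by
    simp
  rw [h14] at h13
  exact isUnit_of_mul_isUnit_right h13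

/-- Base change of `R[X]/(g)` to the residue field. -/
noncomputable def tensorAdjoinRootEquiv {R : Type*} [CommRing R] [IsLocalRing R] (g : R[X]) :
    ResidueField R ⊗[R] AdjoinRoot g ≃ₐ[ResidueField R] AdjoinRoot (g.map (residue R)) :=
  (AdjoinRoot.tensorAlgEquiv (R := R) (T := ResidueField R) g
    (g.map (Algebra.TensorProduct.includeRight : R →ₐ[R] ResidueField R ⊗[R] R).toRingHom)
    rfl).trans
  (AdjoinRoot.mapAlgEquiv (Algebra.TensorProduct.rid R (ResidueField R) (ResidueField R))
    _ _ (by
      rw [Polynomial.map_map]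
      have : ((Algebra.TensorProduct.rid R (ResidueField R) (ResidueField R) :
          ResidueField R ⊗[R] R →+* ResidueField R).comp
          (Algebra.TensorProduct.includeRight : R →ₐ[R] ResidueField R ⊗[R] R).toRingHom) =
          residue R := by
        ext r
        simp [Algebra.smul_def]
      rw [this]))

/-- A finite separable extension of the residue field lifts to a finite etale algebra. -/
theorem exists_finite_etale_lift_field (R : Type u) [CommRing R] [IsLocalRing R]
    (L : Type u) [Field L] [Algebra (ResidueField R) L] [Module.Finite (ResidueField R) L]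
    [Algebra.IsSeparable (ResidueField R) L] :
    ∃ (S : Type u) (_ : CommRing S) (_ : Algebra R S), Module.Finite R S ∧ Algebra.Etale R S ∧
      Nonempty (ResidueField R ⊗[R] S ≃ₐ[ResidueField R] L) := by
  let pb := Field.powerBasisOfFiniteOfSeparable (ResidueField R) L
  set gb := minpoly (ResidueField R) pb.gen with hgb
  have hgbm : gb.Monic := minpoly.monic (Algebra.IsIntegral.isIntegral _)
  have hgbs : gb.Separable := Algebra.IsSeparable.isSeparable (ResidueField R) pb.gen
  obtain ⟨g, hg, -, hgm⟩ := lifts_and_natDegree_eq_and_monic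
    ((Polynomial.mem_lifts gb).mpr (Polynomial.map_surjective _ residue_surjective gb)) hgbm
  have e : AdjoinRoot gb ≃ₐ[ResidueField R] L :=
    AdjoinRoot.equiv' gb pb (by rw [AdjoinRoot.aeval_eq, AdjoinRoot.mk_self]) (minpoly.aeval _ _)
  refine ⟨AdjoinRoot g, inferInstance, inferInstance, hgm.finite_adjoinRoot,
    etale_adjoinRoot_of_separable g hgm (by rw [hg]; exact hgbs), ⟨?_⟩⟩
  exact (tensorAdjoinRootEquiv g).trans ((AdjoinRoot.algEquivOfEq (ResidueField R) _ _ hg).trans e)

end Groth.Agent.H3
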