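import Groth.Agent.H71.QCoh.FlatBaseChange
import Groth.Agent.H70.RelFlatBC.Iso

/-!
# Pointwise relative flatness of a pulled back module along a composite base change
(helper3)

If the pullback of `F` to `X ×_S Y` is flat over `Y` at the points over a point of `X`, then the
pullback of `F` to `X ×_S T` is flat over `T` at the points over it, for every `T ⟶ Y ⟶ S`.
-/

set_option autoImplicit false

open CategoryTheory Limits AlgebraicGeometry

namespace Groth.Agent.H3.FlatOverPullbackComp

universe u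

/-- the comparison morphism `X ×_S T ⟶ X ×_S Y` for `T ⟶ Y ⟶ S` -/
noncomputable def cmp {X S Y T : Scheme.{u}} (f : X ⟶ S) (g : Y ⟶ S) (j : T ⟶ Y) :
    pullback f (j ≫ g) ⟶ pullback f g :=
  pullback.lift (pullback.fst f (j ≫ g)) (pullback.snd f (j ≫ g) ≫ j)
    (by rw [pullback.condition, Category.assoc])

theorem cmp_fst {X S Y T : Scheme.{u}} (f : X ⟶ S) (g : Y ⟶ S) (j : T ⟶ Y) :
    cmp f g j ≫ pullback.fst f g = pullback.fst f (j ≫ g) :=
  pullback.lift_fst _ _ _

theorem cmp_snd {X S Y T : Scheme.{u}} (f : X ⟶ S) (g : Y ⟶ S) (j : T ⟶ Y) :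
    cmp f g j ≫ pullback.snd f g = pullback.snd f (j ≫ g) ≫ j :=
  pullback.lift_snd _ _ _

theorem isPullback_cmp {X S Y T : Scheme.{u}} (f : X ⟶ S) (g : Y ⟶ S) (j : T ⟶ Y) :
    IsPullback (cmp f g j) (pullback.snd f (j ≫ g)) (pullback.snd f g) j := by
  refine IsPullback.of_right ?_ (cmp_snd f g j) (IsPullback.of_hasPullback f g)
  rw [cmp_fst]
  exact IsPullback.of_hasPullback f (j ≫ g)

/-- flatness at a point of the pullback to `X ×_S T` from flatness at the points of `X ×_S Y`
with the same image in `X`, for `T ⟶ Y ⟶ S` -/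
theorem isFlatOverAt_pullback_of_comp {X S Y T : Scheme.{u}} (f : X ⟶ S) (g : Y ⟶ S) (j : T ⟶ Y)
    (ψ : T ⟶ S) (hψ : ψ = j ≫ g) (F : X.Modules) [F.IsQuasicoherent] (x'' : ↥(pullback f ψ))
    (h : ∀ x' : ↥(pullback f g), pullback.fst f g x' = pullback.fst f ψ x'' →
      FlatMod.IsFlatOverAt (pullback.snd f g)
        ((Scheme.Modules.pullback (pullback.fst f g)).obj F) x') :
    FlatMod.IsFlatOverAt (pullback.snd f ψ)
      ((Scheme.Modules.pullback (pullback.fst f ψ)).obj F) x'' := by
  subst hψ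
  have hx : pullback.fst f g (cmp f g j x'') = pullback.fst f (j ≫ g) x'' := by
    rw [← Scheme.Hom.comp_apply, cmp_fst]
  have h1 := Groth.Agent.H71.QCoh.isFlatOverAt_baseChange (isPullback_cmp f g j)
    ((Scheme.Modules.pullback (pullback.fst f g)).obj F) x'' (h _ hx)
  let e1 := (Scheme.Modules.pullbackComp (cmp f g j) (pullback.fst f g)).app F
  let e2 := (Scheme.Modules.pullbackCongr (cmp_fst f g j)).app F
  exact Groth.Agent.H70.RelFlatBC.isFlatOverAt_of_iso _ (e1 ≪≫ e2) x'' h1

end Groth.Agent.H3.FlatOverPullbackComp
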