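import Groth.Agent.H3.PairFactorConv
import Mathlib.RingTheory.Polynomial.Basic
import Mathlib.RingTheory.Ideal.GoingUp

/-!
# Idempotent lifting over henselian pairs
-/

set_option autoImplicit false
universe u v

namespace Groth.Agent.H3

open Polynomial

section PolyIdem

variable {A : Type u} [CommRing A] {I : Ideal A}

/-- The key polynomial statement: if `G ≡ X^m (X-1)^m` modulo `I`, there is a polynomial `E`,
idempotent modulo `G`, and congruent to `X` modulo `(X^2 - X, I)`. -/
theorem exists_poly_idem (h : HenselianRing A I) (m : ℕ) (hm : 0 < m) (G : A[X]) (hG : G.Monic)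
    (hGmap : G.map (Ideal.Quotient.mk I) = X ^ m * (X - 1) ^ m) :
    ∃ E Q R : A[X], G ∣ E * E - E ∧ E - X = (X * X - X) * Q + R ∧ ∀ k, R.coeff k ∈ I := by
  have hjac : I ≤ Ideal.jacobson ⊥ := h.jac
  have hcop₀ : IsCoprime (X : (A ⧸ I)[X]) (X - 1) := ⟨1, -1, by ring⟩
  have hcop : IsCoprime ((X : (A ⧸ I)[X]) ^ m) ((X - 1) ^ m) := hcop₀.pow
  have hmon2 : ((X - 1 : (A ⧸ I)[X]) ^ m).Monic := by
    have : (X - 1 : (A ⧸ I)[X]) = X - C 1 := by simp
    rw [this]; exact (monic_X_sub_C 1).pow m
  obtain ⟨g, h', hg, hh', hfac, hgmap, hhmap⟩ := factor_lift_of_henselianRing h G hG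
    (X ^ m) ((X - 1) ^ m) (monic_X_pow m) hmon2 hcop hGmap
  have hcopA : IsCoprime g h' := by
    apply isCoprime_of_map_of_jacobson I hjac hg
    rw [hgmap, hhmap]; exact hcop
  obtain ⟨u, v, huv⟩ := hcopA
  -- `E = u g`
  have hE1 : G ∣ (u * g) * (u * g) - u * g := by
    refine ⟨- (u * v), ?_⟩
    rw [hfac]
    have : v * h' = 1 - u * g := by linear_combination huv
    linear_combination (u * g) * this
  -- modulo `I`
  have hsurj := Polynomial.map_surjective (Ideal.Quotient.mk I) Ideal.Quotient.mk_surjective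
  have hd1 : (X : (A ⧸ I)[X]) ∣ (u * g).map (Ideal.Quotient.mk I) - X := by
    rw [Polynomial.map_mul, hgmap]
    obtain ⟨m', rfl⟩ : ∃ m', m = m' + 1 := ⟨m - 1, by omega⟩
    exact ⟨u.map (Ideal.Quotient.mk I) * X ^ m' - 1, by ring⟩
  have hd2 : (X - 1 : (A ⧸ I)[X]) ∣ (u * g).map (Ideal.Quotient.mk I) - X := by
    have h1 : (u * g).map (Ideal.Quotient.mk I) = 1 - (v * h').map (Ideal.Quotient.mk I) := by
      rw [← Polynomial.map_one (Ideal.Quotient.mk I), ← Polynomial.map_sub]
      congr 1
      linear_combination huv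
    rw [h1, Polynomial.map_mul, hhmap]
    obtain ⟨m', rfl⟩ : ∃ m', m = m' + 1 := ⟨m - 1, by omega⟩
    exact ⟨- (v.map (Ideal.Quotient.mk I) * (X - 1) ^ m') - 1, by ring⟩
  obtain ⟨Q₀, hQ₀⟩ := hcop₀.mul_dvd hd1 hd2
  obtain ⟨Q, rfl⟩ := hsurj Q₀
  refine ⟨u * g, Q, u * g - X - (X * X - X) * Q, hE1, by ring, ?_⟩
  intro k
  rw [← Ideal.Quotient.eq_zero_iff_mem, ← coeff_map]
  have : (u * g - X - (X * X - X) * Q).map (Ideal.Quotient.mk I) = 0 := by
    simp only [Polynomial.map_sub, Polynomial.map_mul, Polynomial.map_X] at hQ₀ ⊢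
    linear_combination hQ₀
  rw [this, coeff_zero]

end PolyIdem

section Finite

variable {A : Type u} [CommRing A] {I : Ideal A}

/-- A polynomial with coefficients in `I` evaluates into `I B`. -/
theorem aeval_mem_smul_top {B : Type v} [Ring B] [Algebra A B] (b : B) (R : A[X])
    (hR : ∀ k, R.coeff k ∈ I) : Polynomial.aeval b R ∈ (I • ⊤ : Submodule A B) := by
  rw [Polynomial.aeval_eq_sum_range]
  refine Submodule.sum_mem _ fun k _ => ?_
  exact Submodule.smul_mem_smul (hR k) trivial

/-- Idempotent lifting for finite algebras over a henselian pair. -/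
theorem exists_idempotent_lift_of_henselianRing (h : HenselianRing A I) (B : Type v) [CommRing B]
    [Algebra A B] [Module.Finite A B] (b : B) (hb : b * b - b ∈ I.map (algebraMap A B)) :
    ∃ e : B, IsIdempotentElem e ∧ e - b ∈ I.map (algebraMap A B) := by
  classical
  rcases subsingleton_or_nontrivial A with hA | hA
  · have : Subsingleton B := (algebraMap A B).codomain_trivial
    exact ⟨0, IsIdempotentElem.zero, by rw [Subsingleton.elim (0 - b) 0]; exact Ideal.zero_mem _⟩
  have hIB : ∀ x : B, x ∈ I.map (algebraMap A B) ↔ x ∈ (I • ⊤ : Submodule A B) := by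
    intro x
    rw [Ideal.smul_top_eq_map]
    rfl
  -- Cayley–Hamilton for multiplication by `b^2 - b`
  let φ : Module.End A B := Algebra.lmul A B (b * b - b)
  have hφ : LinearMap.range φ ≤ (I • ⊤ : Submodule A B) := by
    rintro _ ⟨y, rfl⟩
    rw [← hIB]
    exact Ideal.mul_mem_right _ _ hb
  obtain ⟨P, hPm, -, hPc, hPφ⟩ :=
    LinearMap.exists_monic_and_natDegree_eq_and_coeff_mem_pow_and_aeval_eq_zero A φ I hφ
  have hPb : Polynomial.aeval (b * b - b) P = 0 := by
    have h1 : Polynomial.aeval φ P = Algebra.lmul A B (Polynomial.aeval (b * b - b) P) :=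
      Polynomial.aeval_algHom_apply (Algebra.lmul A B) (b * b - b) P
    have h2 := congrArg (fun g : Module.End A B => g 1) (h1.symm.trans hPφ)
    simpa using h2
  obtain ⟨m, hmdef⟩ : ∃ m, m = P.natDegree := ⟨_, rfl⟩
  have hPmap : P.map (Ideal.Quotient.mk I) = X ^ m := by
    ext k
    rw [coeff_map, coeff_X_pow]
    split_ifs with hk
    · rw [hk, hmdef]
      have : P.coeff P.natDegree = 1 := hPm
      rw [this, map_one]
    · rcases lt_or_gt_of_ne hk with hlt | hgt
      · have := hPc k
        have h1 : I ^ (P.natDegree - k) ≤ I := Ideal.pow_le_self (by omega)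
        exact Ideal.Quotient.eq_zero_iff_mem.mpr (h1 this)
      · rw [Polynomial.coeff_eq_zero_of_natDegree_lt (by omega), map_zero]
  rcases Nat.eq_zero_or_pos m with hm0 | hmpos
  · -- `B` is trivial
    have hP1 : P = 1 := by
      have := Polynomial.eq_C_of_natDegree_eq_zero (hmdef ▸ hm0)
      rw [this]
      have h2 : P.coeff 0 = 1 := by
        have : P.coeff P.natDegree = 1 := hPm
        rwa [← hmdef, hm0] at this
      rw [h2, C_1]
    rw [hP1, map_one] at hPb
    have : Subsingleton B := subsingleton_of_zero_eq_one hPb.symm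
    exact ⟨0, IsIdempotentElem.zero, by rw [Subsingleton.elim (0 - b) 0]; exact Ideal.zero_mem _⟩
  -- the polynomial `G`
  have hqeq : (X * X - X : A[X]) = X ^ 2 - X := by ring
  have hqm : (X * X - X : A[X]).Monic := by
    rw [hqeq]
    exact monic_X_pow_sub (lt_of_le_of_lt degree_X_le (by norm_num))
  have hqd : (X * X - X : A[X]).natDegree ≠ 0 := by
    rw [hqeq, natDegree_sub_eq_left_of_natDegree_lt (by simp), natDegree_X_pow]
    norm_num
  obtain ⟨G, hGdef⟩ : ∃ G : A[X], G = P.comp (X * X - X) := ⟨_, rfl⟩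
  have hGm : G.Monic := by rw [hGdef]; exact hPm.comp hqm hqd
  have hGmap : G.map (Ideal.Quotient.mk I) = X ^ m * (X - 1) ^ m := by
    rw [hGdef, Polynomial.map_comp, hPmap, X_pow_comp, ← mul_pow]
    congr 1
    simp only [Polynomial.map_sub, Polynomial.map_mul, Polynomial.map_X]
    ring
  have hGb : Polynomial.aeval b G = 0 := by
    rw [hGdef, Polynomial.aeval_comp]
    simpa using hPb
  obtain ⟨E, Q, R, hE, hEX, hR⟩ := exists_poly_idem h m hmpos G hGm hGmap
  refine ⟨Polynomial.aeval b E, ?_, ?_⟩
  · obtain ⟨T, hT⟩ := hE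
    have h1 : Polynomial.aeval b (E * E - E) = 0 := by
      rw [hT, map_mul, hGb, zero_mul]
    rw [map_sub, map_mul, sub_eq_zero] at h1
    exact h1
  · have h1 : Polynomial.aeval b E - b = (b * b - b) * Polynomial.aeval b Q +
        Polynomial.aeval b R := by
      have := congrArg (Polynomial.aeval b) hEX
      simpa using this
    rw [h1]
    exact Ideal.add_mem _ (Ideal.mul_mem_right _ _ hb)
      ((hIB _).mpr (aeval_mem_smul_top b R hR))

end Finite

end Groth.Agent.H3

namespace Groth.Agent.H3

section Idem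

variable {A : Type u} [CommRing A] {I : Ideal A}

/-- For an integral extension, the extension of an ideal contained in the Jacobson radical is
contained in the Jacobson radical. -/
theorem map_le_jacobson_of_isIntegral (hjac : I ≤ Ideal.jacobson ⊥) (B : Type v) [CommRing B]
    [Algebra A B] [Algebra.IsIntegral A B] : I.map (algebraMap A B) ≤ Ideal.jacobson ⊥ := by
  rw [Ideal.jacobson]
  apply le_sInf
  rintro n ⟨-, hn⟩
  rw [Ideal.map_le_iff_le_comap]
  have hmax : (n.comap (algebraMap A B)).IsMaximal :=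
    Ideal.isMaximal_comap_of_isIntegral_of_isMaximal n
  refine hjac.trans ?_
  rw [Ideal.jacobson]
  exact sInf_le ⟨bot_le, hmax⟩

/-- Two idempotents congruent modulo the Jacobson radical are equal. -/
theorem idempotent_eq_of_sub_mem_jacobson {B : Type v} [CommRing B] {e e' : B}
    (he : IsIdempotentElem e) (he' : IsIdempotentElem e')
    (h : e - e' ∈ Ideal.jacobson (⊥ : Ideal B)) : e = e' := by
  have h3 : (e - e') * (1 - (e - e') * (e - e')) = 0 := by
    have h1 := he.eq
    have h2 := he'.eq
    linear_combination (3 * e' - e - 1) * h1 + (e' + 1 - 3 * e) * h2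
  have hu : IsUnit (1 - (e - e') * (e - e')) := by
    have := Ideal.mem_jacobson_bot.mp h (-(e - e'))
    have h4 : (e - e') * -(e - e') + 1 = 1 - (e - e') * (e - e') := by ring
    rwa [h4] at this
  have := hu.mul_left_eq_zero.mp h3
  exact sub_eq_zero.mp this

theorem bijOn_idempotents_of_henselianRing (h : HenselianRing A I) (B : Type v) [CommRing B]
    [Algebra A B] [Module.Finite A B] :
    Set.BijOn (Ideal.Quotient.mk (I.map (algebraMap A B)))
      {e : B | IsIdempotentElem e} {e | IsIdempotentElem e} := by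
  refine ⟨fun e he => he.map _, ?_, ?_⟩
  · intro e he e' he' hee'
    have : Algebra.IsIntegral A B := Algebra.IsIntegral.of_finite A B
    apply idempotent_eq_of_sub_mem_jacobson he he'
    apply map_le_jacobson_of_isIntegral h.jac B
    exact Ideal.Quotient.eq.mp hee'
  · intro ē hē
    obtain ⟨b, rfl⟩ := Ideal.Quotient.mk_surjective ē
    have hb : b * b - b ∈ I.map (algebraMap A B) := by
      rw [← Ideal.Quotient.eq, map_mul]; exact hē.eq
    obtain ⟨e, he, heb⟩ := exists_idempotent_lift_of_henselianRing h B b hb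
    exact ⟨e, he, Ideal.Quotient.eq.mpr heb⟩

/-- If idempotents lift bijectively along all finite algebras, the pair is henselian. -/
theorem henselianRing_of_bijOn_idempotents
    (hB : ∀ (B : Type u) [CommRing B] [Algebra A B], Module.Finite A B →
      Set.BijOn (Ideal.Quotient.mk (I.map (algebraMap A B)))
        {e : B | IsIdempotentElem e} {e | IsIdempotentElem e}) : HenselianRing A I := by
  have hjac : I ≤ Ideal.jacobson ⊥ := by
    rw [Ideal.jacobson]
    apply le_sInf
    rintro m ⟨-, hm⟩
    by_contra hIm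
    have htop : I ⊔ m = ⊤ := by
      by_contra hne
      have := hm.eq_of_le hne le_sup_right
      exact hIm (le_sup_left.trans this.ge)
    have hfin : Module.Finite A (A ⧸ m) := inferInstance
    have hmap : I.map (algebraMap A (A ⧸ m)) = ⊤ := by
      have h1 : (I ⊔ m).map (Ideal.Quotient.mk m) = ⊤ := by
        rw [htop]; exact Ideal.map_top _
      rw [Ideal.map_sup, Ideal.map_quotient_self, sup_bot_eq] at h1
      exact h1
    have hinj := (hB (A ⧸ m) hfin).injOn
    have h01 : (0 : A ⧸ m) = 1 := by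
      apply hinj IsIdempotentElem.zero IsIdempotentElem.one
      have : Subsingleton ((A ⧸ m) ⧸ I.map (algebraMap A (A ⧸ m))) := by
        rw [hmap]; exact Ideal.Quotient.subsingleton_iff.mpr rfl
      exact Subsingleton.elim _ _
    have : Nontrivial (A ⧸ m) := Ideal.Quotient.nontrivial_iff.mpr hm.ne_top
    exact zero_ne_one h01
  apply henselianRing_of_factorLifts hjac
  intro f hf g₀ h₀ hg₀ hh₀ hc hfac
  apply factor_lift_of_idem_lift hjac _ f hf g₀ h₀ hg₀ hh₀ hc hfac
  intro W _ _ _ b hb _
  have hsurj := (hB W inferInstance).surjOn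
  have hbidem : IsIdempotentElem (Ideal.Quotient.mk (I.map (algebraMap A W)) b) := by
    change _ * _ = _
    rw [← map_mul, Ideal.Quotient.eq]; exact hb
  obtain ⟨e, he, heb⟩ := hsurj hbidem
  exact ⟨e, he, Ideal.Quotient.eq.mp heb⟩

end Idem

end Groth.Agent.H3
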