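import Groth.Agent.H15.MTLift1
import Groth.Agent.H3.PairIdem

/-!
# Group-like elements of a group algebra and reduction modulo an ideal in the Jacobson radical

A group-like element of `S[M]` is a finitely supported complete family of orthogonal idempotents of
`S`.  Along a surjection `π : S → S'` whose kernel lies in the Jacobson radical, the reduction map on
group-like elements is injective; it is bijective as soon as idempotents lift along `π`.
-/

set_option autoImplicit false
universe u v
open scoped TensorProduct

namespace Groth.Agent.H3.GLLift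
open Groth.Agent.H15.GLD Groth.Agent.H15.MTC

variable {S : Type*} [CommRing S] {S' : Type*} [CommRing S'] {M : Type*} [CommMonoid M]

/-- change of coefficients preserves group-like elements -/
theorem isGroupLikeElem_mapRingHom (π : S →+* S') {x : MonoidAlgebra S M}
    (hx : IsGroupLikeElem S x) : IsGroupLikeElem S' (MonoidAlgebra.mapRingHom M π x) := by
  classical
  apply isGroupLikeElem_of_coeff
  · intro m n
    rw [MonoidAlgebra.coeff_mapRingHom, MonoidAlgebra.coeff_mapRingHom, ← map_mul,
      coeff_mul_coeff hx]
    split_ifs <;> simp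
  · rw [← counit_eq_sum]
    have h := DFunLike.congr_fun (MonoidAlgebra.counitAlgHom_comp_mapRingHom (M := M) π) x
    simp only [RingHom.coe_comp, Function.comp_apply, AlgHom.toRingHom_eq_coe,
      RingHom.coe_coe, Bialgebra.counitAlgHom_apply] at h
    exact h.trans (by rw [hx.counit_eq_one, map_one])

/-- an idempotent in the Jacobson radical vanishes -/
theorem idem_eq_zero_of_map_eq_zero (π : S →+* S') (hjac : RingHom.ker π ≤ Ideal.jacobson ⊥)
    {a : S} (ha : IsIdempotentElem a) (h : π a = 0) : a = 0 := by
  apply Groth.Agent.H3.idempotent_eq_of_sub_mem_jacobson ha IsIdempotentElem.zero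
  apply hjac
  rw [RingHom.mem_ker, sub_zero, h]

/-- reduction is injective on group-like elements -/
theorem groupLike_eq_of_map_eq (π : S →+* S') (hjac : RingHom.ker π ≤ Ideal.jacobson ⊥)
    {x y : MonoidAlgebra S M} (hx : IsGroupLikeElem S x) (hy : IsGroupLikeElem S y)
    (h : MonoidAlgebra.mapRingHom M π x = MonoidAlgebra.mapRingHom M π y) : x = y := by
  apply MonoidAlgebra.coeff_injective
  ext n
  apply Groth.Agent.H3.idempotent_eq_of_sub_mem_jacobson (coeff_idem hx n) (coeff_idem hy n)
  apply hjac
  rw [RingHom.mem_ker, map_sub, ← MonoidAlgebra.coeff_mapRingHom, h,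
    MonoidAlgebra.coeff_mapRingHom, sub_self]

/-- reduction is surjective on group-like elements when idempotents lift -/
theorem exists_groupLike_lift (π : S →+* S') (hjac : RingHom.ker π ≤ Ideal.jacobson ⊥)
    (hidem : ∀ e' : S', IsIdempotentElem e' → ∃ e : S, IsIdempotentElem e ∧ π e = e')
    {x' : MonoidAlgebra S' M} (hx' : IsGroupLikeElem S' x') :
    ∃ x : MonoidAlgebra S M, IsGroupLikeElem S x ∧ MonoidAlgebra.mapRingHom M π x = x' := by
  classical
  set F := x'.coeff.support with hF
  have hex : ∀ n : M, ∃ e : S, IsIdempotentElem e ∧ π e = x'.coeff n ∧ (n ∉ F → e = 0) := by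
    intro n
    by_cases hn : n ∈ F
    · obtain ⟨e, he, hπe⟩ := hidem (x'.coeff n) (coeff_idem hx' n)
      exact ⟨e, he, hπe, fun h => absurd hn h⟩
    · refine ⟨0, IsIdempotentElem.zero, ?_, fun _ => rfl⟩
      rw [map_zero]
      exact (Finsupp.notMem_support_iff.mp hn).symm
  choose e he hπe he0 using hex
  have horth : ∀ m n, m ≠ n → e m * e n = 0 := by
    intro m n hmn
    apply idem_eq_zero_of_map_eq_zero π hjac ((he m).mul (he n))
    rw [map_mul, hπe, hπe, coeff_orth hx' hmn]
  have hmul : ∀ m n, e m * e n = if m = n then e m else 0 := by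
    intro m n
    split_ifs with h
    · subst h; exact (he m).eq
    · exact horth m n h
  have hsum_idem : IsIdempotentElem (∑ n ∈ F, e n) := by
    change (∑ n ∈ F, e n) * (∑ n ∈ F, e n) = ∑ n ∈ F, e n
    rw [Finset.sum_mul]
    apply Finset.sum_congr rfl
    intro m hm
    rw [Finset.mul_sum]
    simp only [hmul]
    rw [Finset.sum_ite_eq, if_pos hm]
  have hsum : ∑ n ∈ F, e n = 1 := by
    have h1 : IsIdempotentElem (1 - ∑ n ∈ F, e n) := hsum_idem.one_sub
    have h2 : π (1 - ∑ n ∈ F, e n) = 0 := by
      rw [map_sub, map_one, map_sum]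
      simp only [hπe]
      have := sum_coeff hx'
      rw [Finsupp.sum] at this
      rw [this, sub_self]
    have := idem_eq_zero_of_map_eq_zero π hjac h1 h2
    exact (sub_eq_zero.mp this).symm
  let c : M →₀ S := Finsupp.onFinset F e (fun n hn => by
    by_contra h
    exact hn (he0 n h))
  refine ⟨MonoidAlgebra.ofCoeff c, ?_, ?_⟩
  · apply isGroupLikeElem_of_coeff
    · intro m n
      exact hmul m n
    · change c.sum (fun _ r => r) = 1
      rw [Finsupp.onFinset_sum _ (fun _ => rfl)]
      exact hsum
  · apply MonoidAlgebra.coeff_injective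
    ext n
    rw [MonoidAlgebra.coeff_mapRingHom]
    exact hπe n

section henselian

variable {R : Type u} [CommRing R] {I : Ideal R}

/-- idempotents lift along the reduction of a finite algebra over a henselian pair -/
theorem exists_idem_lift_of_henselianRing (h : HenselianRing R I) {B : Type v} [CommRing B]
    [Algebra R B] [Module.Finite R B] {B' : Type*} [CommRing B'] (π : B →+* B')
    (hπ : Function.Surjective π) (hker : RingHom.ker π = I.map (algebraMap R B))
    (e' : B') (he' : IsIdempotentElem e') : ∃ e : B, IsIdempotentElem e ∧ π e = e' := by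
  obtain ⟨b, rfl⟩ := hπ e'
  have hb : b * b - b ∈ I.map (algebraMap R B) := by
    rw [← hker, RingHom.mem_ker, map_sub, map_mul, he'.eq, sub_self]
  obtain ⟨e, he, heb⟩ := Groth.Agent.H3.exists_idempotent_lift_of_henselianRing h B b hb
  refine ⟨e, he, ?_⟩
  rw [← hker, RingHom.mem_ker, map_sub, sub_eq_zero] at heb
  exact heb

/-- the kernel of the reduction of an integral algebra lies in the Jacobson radical -/
theorem ker_le_jacobson_of_isIntegral (hjac : I ≤ Ideal.jacobson ⊥) {B : Type v} [CommRing B]
    [Algebra R B] [Algebra.IsIntegral R B] {B' : Type*} [CommRing B'] (π : B →+* B')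
    (hker : RingHom.ker π ≤ I.map (algebraMap R B)) : RingHom.ker π ≤ Ideal.jacobson ⊥ :=
  hker.trans (Groth.Agent.H3.map_le_jacobson_of_isIntegral hjac B)

end henselian

end Groth.Agent.H3.GLLift
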