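import Groth.Agent.S0524
import Groth.Agent.H3.HenselBasic
import Mathlib.Algebra.Polynomial.Taylor
import Mathlib.Algebra.Polynomial.Identities

set_option autoImplicit false
universe u

namespace Groth.Agent.H3

open Polynomial

/-- Uniqueness of roots congruent to `1` of polynomials in Gabber's form. -/
theorem gabber_unique {A : Type*} [CommRing A] {I : Ideal A} (hjac : I ≤ Ideal.jacobson ⊥)
    (n : ℕ) (p : A[X]) (hpI : ∀ i, p.coeff i ∈ I) {α β : A} (hαI : α - 1 ∈ I)
    (hα : (X ^ n * (X - 1) + p).IsRoot α) (hβI : β - 1 ∈ I)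
    (hβ : (X ^ n * (X - 1) + p).IsRoot β) : β = α := by
  set F : A[X] := X ^ n * (X - 1) + p with hF
  have hp'1 : p.derivative.eval 1 ∈ I := by
    rw [eval_eq_sum_range]
    refine I.sum_mem (fun i _ => I.mul_mem_right _ ?_)
    rw [coeff_derivative]
    exact I.mul_mem_right _ (hpI _)
  have hF'1 : F.derivative.eval 1 = 1 + p.derivative.eval 1 := by
    simp [hF, derivative_mul]
  obtain ⟨c, hc⟩ := exists_mul_sq_add_linear_part_eq_eval_add F α (β - α)
  rw [add_sub_cancel, hα.eq_zero, hβ.eq_zero] at hc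
  obtain ⟨z, hz⟩ := F.derivative.evalSubFactor α 1
  have hFα : IsUnit (F.derivative.eval α + c * (β - α)) := by
    have h3 : F.derivative.eval α + c * (β - α) =
        1 + (p.derivative.eval 1 + z * (α - 1) + c * ((β - 1) - (α - 1))) := by
      rw [← hz, hF'1]; ring
    rw [h3]
    exact isUnit_add_of_mem_jacobson isUnit_one (hjac (I.add_mem (I.add_mem hp'1
      (I.mul_mem_left _ hαI)) (I.mul_mem_left _ (I.sub_mem hβI hαI))))
  have h4 : (F.derivative.eval α + c * (β - α)) * (β - α) = 0 := by linear_combination hc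
  exact sub_eq_zero.mp (hFα.mul_right_eq_zero.mp h4)

/-- Gabber's criterion, existence form. -/
theorem henselianRing_of_gabber {A : Type u} [CommRing A] {I : Ideal A}
    (hjac : I ≤ Ideal.jacobson ⊥)
    (h : ∀ (n : ℕ), 0 < n → ∀ p : A[X], p.natDegree ≤ n → (∀ i, p.coeff i ∈ I) →
      ∃ α : A, α - 1 ∈ I ∧ (X ^ n * (X - 1) + p).IsRoot α) : HenselianRing A I := by
  refine (Groth.Agent.S0524.result A I).mpr ⟨hjac, fun n hn p hp hpI => ?_⟩
  obtain ⟨α, hαI, hα⟩ := h n hn p hp hpI
  exact ⟨α, ⟨hαI, hα⟩, fun β hβ => gabber_unique hjac n p hpI hαI hα hβ.1 hβ.2⟩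

/-- Henselian pairs pass to arbitrary quotients. -/
theorem henselianRing_quotient_general {A : Type u} [CommRing A] {I : Ideal A} (K : Ideal A)
    (h : HenselianRing A I) : HenselianRing (A ⧸ K) (I.map (Ideal.Quotient.mk K)) := by
  classical
  apply henselianRing_of_gabber (map_mk_le_jacobson h.jac)
  intro n hn p hp hpI
  have hc : ∀ i, ∃ c ∈ I, Ideal.Quotient.mk K c = p.coeff i := fun i =>
    (Ideal.mem_map_iff_of_surjective _ Ideal.Quotient.mk_surjective).mp (hpI i)
  choose c hcI hcp using hc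
  let P : A[X] := ∑ i ∈ Finset.range (n + 1), monomial i (c i)
  have hPcoeff : ∀ i, P.coeff i = if i ∈ Finset.range (n + 1) then c i else 0 := by
    intro i
    simp only [P, finsetSum_coeff, coeff_monomial]
    rw [Finset.sum_ite_eq' (Finset.range (n + 1)) i (fun j => c j)]
  have hPI : ∀ i, P.coeff i ∈ I := by
    intro i
    rw [hPcoeff]
    split_ifs
    · exact hcI i
    · exact I.zero_mem
  have hPdeg : P.natDegree ≤ n :=
    natDegree_sum_le_of_forall_le _ _ (fun i hi =>
      (natDegree_monomial_le _).trans (Nat.lt_succ_iff.mp (Finset.mem_range.mp hi)))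
  have hPmap : P.map (Ideal.Quotient.mk K) = p := by
    ext i
    rw [coeff_map, hPcoeff]
    split_ifs with hi
    · exact hcp i
    · rw [Finset.mem_range, not_lt] at hi
      rw [map_zero]
      exact (coeff_eq_zero_of_natDegree_lt (lt_of_le_of_lt hp hi)).symm
  obtain ⟨α, ⟨hαI, hα⟩, -⟩ := ((Groth.Agent.S0524.result A I).mp h).2 n hn P hPdeg hPI
  refine ⟨Ideal.Quotient.mk K α, ?_, ?_⟩
  · rw [← map_one (Ideal.Quotient.mk K), ← map_sub]
    exact Ideal.mem_map_of_mem _ hαI
  · have h1 : (X ^ n * (X - 1) + p : (A ⧸ K)[X]) =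
        (X ^ n * (X - 1) + P : A[X]).map (Ideal.Quotient.mk K) := by
      simp [hPmap]
    rw [IsRoot.def, h1, eval_map, eval₂_hom, hα.eq_zero, map_zero]

/-- The sum of two ideals at which a ring is henselian is again such an ideal. -/
theorem henselianRing_sup {A : Type u} [CommRing A] {I J : Ideal A} (hI : HenselianRing A I)
    (hJ : HenselianRing A J) : HenselianRing A (I ⊔ J) := by
  apply henselianRing_of_quotient le_sup_left hI
  have h1 := henselianRing_quotient_general I hJ
  have h2 : (I ⊔ J).map (Ideal.Quotient.mk I) = J.map (Ideal.Quotient.mk I) := by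
    rw [Ideal.map_sup, Ideal.map_quotient_self, bot_sup_eq]
  rw [h2]
  exact h1

end Groth.Agent.H3
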