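import Groth.Agent.H3.PairIdem
import Mathlib.RingTheory.AdjoinRoot

/-!
# Gabber's criterion via idempotents of `A[T]/(p)` with `p ≡ (T^2 - T)^m`
-/

set_option autoImplicit false
universe u v

namespace Groth.Agent.H3

open Polynomial

section PolyId

variable {A : Type u} [CommRing A]

/-- the polynomial `1 - (1 - X^m)^m` -/
noncomputable def idemPoly (A : Type u) [CommRing A] (m : ℕ) : A[X] := 1 - (1 - X ^ m) ^ m

theorem X_pow_dvd_idemPoly (m : ℕ) : (X : A[X]) ^ m ∣ idemPoly A m := by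
  have h := sub_dvd_pow_sub_pow (1 : A[X]) (1 - X ^ m) m
  rw [one_pow, sub_sub_cancel] at h
  exact h

theorem one_sub_X_pow_dvd_one_sub_idemPoly (m : ℕ) : (1 - X : A[X]) ^ m ∣ 1 - idemPoly A m := by
  have h := sub_dvd_pow_sub_pow (1 : A[X]) X m
  rw [one_pow] at h
  rw [idemPoly, sub_sub_cancel]
  exact pow_dvd_pow_of_dvd h m

theorem sq_sub_pow_dvd_idemPoly (m : ℕ) :
    ((X : A[X]) ^ 2 - X) ^ m ∣ idemPoly A m * idemPoly A m - idemPoly A m := by
  have h1 := mul_dvd_mul (X_pow_dvd_idemPoly (A := A) m) (one_sub_X_pow_dvd_one_sub_idemPoly (A := A) m)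
  have h2 : ((X : A[X]) ^ 2 - X) ^ m = (-1) ^ m * (X ^ m * (1 - X) ^ m) := by
    rw [← mul_pow, ← mul_pow]; congr 1; ring
  have h3 : idemPoly A m * idemPoly A m - idemPoly A m =
      - (idemPoly A m * (1 - idemPoly A m)) := by ring
  rw [h2, h3, dvd_neg]
  exact (IsUnit.mul_left_dvd ((isUnit_one.neg).pow m)).mpr h1

theorem sq_sub_dvd_idemPoly_sub_X (m : ℕ) (hm : 0 < m) :
    ((X : A[X]) ^ 2 - X) ∣ idemPoly A m - X := by
  have h1 : (X : A[X]) ∣ idemPoly A m - X :=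
    dvd_sub ((dvd_pow_self X hm.ne').trans (X_pow_dvd_idemPoly m)) dvd_rfl
  have h2 : (1 - X : A[X]) ∣ idemPoly A m - X := by
    have : idemPoly A m - X = (1 - X) - (1 - idemPoly A m) := by ring
    rw [this]
    exact dvd_sub dvd_rfl ((dvd_pow_self _ hm.ne').trans (one_sub_X_pow_dvd_one_sub_idemPoly m))
  have hcop : IsCoprime (X : A[X]) (1 - X) := ⟨1, 1, by ring⟩
  have h3 := hcop.mul_dvd h1 h2
  have h4 : (X : A[X]) ^ 2 - X = - (X * (1 - X)) := by ring
  rw [h4, neg_dvd]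
  exact h3

end PolyId

section Main

variable {A : Type u} [CommRing A] {I : Ideal A}

theorem adjoinRoot_mk_mem_map (G D : A[X]) (hD : ∀ k, D.coeff k ∈ I) :
    AdjoinRoot.mk G D ∈ I.map (algebraMap A (AdjoinRoot G)) := by
  have h1 : D ∈ I.map (C : A →+* A[X]) := Ideal.mem_map_C_iff.mpr hD
  have h2 := Ideal.mem_map_of_mem (AdjoinRoot.mk G) h1
  rw [Ideal.map_map] at h2
  exact h2

/-- Idempotent lifting for all finite algebras follows from idempotent lifting for the algebras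
`A[T]/(p)` with `p ≡ (T^2 - T)^m`. -/
theorem idem_lift_of_adjoinRoot
    (h : ∀ (m : ℕ) (p : Polynomial A), p.Monic →
      Polynomial.map (Ideal.Quotient.mk I) p =
        Polynomial.map (Ideal.Quotient.mk I) ((Polynomial.X ^ 2 - Polynomial.X) ^ m) →
      Set.SurjOn (Ideal.Quotient.mk (Ideal.map (algebraMap A (AdjoinRoot p)) I))
        {e : AdjoinRoot p | IsIdempotentElem e} {e | IsIdempotentElem e})
    (W : Type u) [CommRing W] [Algebra A W] [Module.Finite A W] (b : W)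
    (hb : b * b - b ∈ I.map (algebraMap A W)) :
    ∃ e : W, IsIdempotentElem e ∧ e - b ∈ I.map (algebraMap A W) := by
  classical
  rcases subsingleton_or_nontrivial A with hA | hA
  · have : Subsingleton W := (algebraMap A W).codomain_trivial
    exact ⟨0, IsIdempotentElem.zero, by rw [Subsingleton.elim (0 - b) 0]; exact Ideal.zero_mem _⟩
  have hIB : ∀ x : W, x ∈ I.map (algebraMap A W) ↔ x ∈ (I • ⊤ : Submodule A W) := by
    intro x
    rw [Ideal.smul_top_eq_map]
    rfl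
  let φ : Module.End A W := Algebra.lmul A W (b * b - b)
  have hφ : LinearMap.range φ ≤ (I • ⊤ : Submodule A W) := by
    rintro _ ⟨y, rfl⟩
    rw [← hIB]
    exact Ideal.mul_mem_right _ _ hb
  obtain ⟨P₀, hP₀m, -, hP₀c, hP₀φ⟩ :=
    LinearMap.exists_monic_and_natDegree_eq_and_coeff_mem_pow_and_aeval_eq_zero A φ I hφ
  have hP₀b : Polynomial.aeval (b * b - b) P₀ = 0 := by
    have h1 : Polynomial.aeval φ P₀ = Algebra.lmul A W (Polynomial.aeval (b * b - b) P₀) :=
      Polynomial.aeval_algHom_apply (Algebra.lmul A W) (b * b - b) P₀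
    have h2 := congrArg (fun g : Module.End A W => g 1) (h1.symm.trans hP₀φ)
    simpa using h2
  obtain ⟨m₀, hm₀⟩ : ∃ m, m = P₀.natDegree := ⟨_, rfl⟩
  have hP₀map : P₀.map (Ideal.Quotient.mk I) = X ^ m₀ := by
    ext k
    rw [coeff_map, coeff_X_pow]
    split_ifs with hk
    · rw [hk, hm₀]
      have : P₀.coeff P₀.natDegree = 1 := hP₀m
      rw [this, map_one]
    · rcases lt_or_gt_of_ne hk with hlt | hgt
      · have := hP₀c k
        have h1 : I ^ (P₀.natDegree - k) ≤ I := Ideal.pow_le_self (by omega)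
        exact Ideal.Quotient.eq_zero_iff_mem.mpr (h1 this)
      · rw [Polynomial.coeff_eq_zero_of_natDegree_lt (by omega), map_zero]
  obtain ⟨P, hPdef⟩ : ∃ P : A[X], P = X * P₀ := ⟨_, rfl⟩
  have hPm : P.Monic := by rw [hPdef]; exact monic_X.mul hP₀m
  have hPmap : P.map (Ideal.Quotient.mk I) = X ^ (m₀ + 1) := by
    rw [hPdef, Polynomial.map_mul, hP₀map, Polynomial.map_X, pow_succ, mul_comm]
  have hPb : Polynomial.aeval (b * b - b) P = 0 := by
    rw [hPdef, map_mul, hP₀b, mul_zero]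
  obtain ⟨q, hqdef⟩ : ∃ q : A[X], q = X ^ 2 - X := ⟨_, rfl⟩
  have hqm : q.Monic := by
    rw [hqdef]
    exact monic_X_pow_sub (lt_of_le_of_lt degree_X_le (by norm_num))
  have hqd : q.natDegree ≠ 0 := by
    rw [hqdef, natDegree_sub_eq_left_of_natDegree_lt (by simp), natDegree_X_pow]
    norm_num
  have hqb : Polynomial.aeval b q = b * b - b := by
    rw [hqdef]; simp [sq]
  obtain ⟨G, hGdef⟩ : ∃ G : A[X], G = P.comp q := ⟨_, rfl⟩
  have hGm : G.Monic := by rw [hGdef]; exact hPm.comp hqm hqd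
  have hGmap : G.map (Ideal.Quotient.mk I) =
      Polynomial.map (Ideal.Quotient.mk I) (q ^ (m₀ + 1)) := by
    rw [hGdef, Polynomial.map_comp, hPmap, X_pow_comp, Polynomial.map_pow]
  have hGb : Polynomial.aeval b G = 0 := by
    rw [hGdef, Polynomial.aeval_comp, hqb]
    exact hPb
  -- the approximate idempotent `ε` in `A[T]/(G)`
  obtain ⟨f, hfdef⟩ : ∃ f : A[X], f = idemPoly A (m₀ + 1) := ⟨_, rfl⟩
  obtain ⟨c₁, hc₁⟩ : q ^ (m₀ + 1) ∣ f * f - f := by
    rw [hfdef, hqdef]; exact sq_sub_pow_dvd_idemPoly (m₀ + 1)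
  obtain ⟨c₂, hc₂⟩ : q ∣ f - X := by
    rw [hfdef, hqdef]; exact sq_sub_dvd_idemPoly_sub_X (m₀ + 1) (Nat.succ_pos _)
  have hqG : AdjoinRoot.mk G (q ^ (m₀ + 1)) ∈ I.map (algebraMap A (AdjoinRoot G)) := by
    have h1 : AdjoinRoot.mk G (q ^ (m₀ + 1)) = AdjoinRoot.mk G (q ^ (m₀ + 1) - G) := by
      rw [map_sub, AdjoinRoot.mk_self, sub_zero]
    rw [h1]
    apply adjoinRoot_mk_mem_map
    intro k
    have h2 := congrArg (fun r : (A ⧸ I)[X] => r.coeff k) hGmap
    simp only [coeff_map] at h2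
    rw [coeff_sub, ← Ideal.Quotient.eq, h2]
  have hε : IsIdempotentElem (Ideal.Quotient.mk (I.map (algebraMap A (AdjoinRoot G)))
      (AdjoinRoot.mk G f)) := by
    change _ * _ = _
    rw [← map_mul, ← map_mul, Ideal.Quotient.eq, ← map_sub, hc₁, map_mul]
    exact Ideal.mul_mem_right _ _ hqG
  obtain ⟨e', he', he'ε⟩ := h (m₀ + 1) G hGm (by rw [hGmap, hqdef]) hε
  rw [Ideal.Quotient.eq] at he'ε
  -- the map to `W`
  have hGb' : G.eval₂ (Algebra.ofId A W) b = 0 := by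
    rw [← hGb]; rfl
  let ψ : AdjoinRoot G →ₐ[A] W := AdjoinRoot.liftAlgHom G (Algebra.ofId A W) b hGb'
  have hψ : ∀ r : A[X], ψ (AdjoinRoot.mk G r) = Polynomial.aeval b r := fun r => rfl
  refine ⟨ψ e', he'.map ψ, ?_⟩
  have h1 : ψ e' - b = ψ (e' - AdjoinRoot.mk G f) + (b * b - b) * Polynomial.aeval b c₂ := by
    rw [map_sub, hψ, ← hqb, ← map_mul, ← hc₂, map_sub, aeval_X]
    ring
  rw [h1]
  refine Ideal.add_mem _ ?_ (Ideal.mul_mem_right _ _ hb)
  have h2 := Ideal.mem_map_of_mem ψ.toRingHom he'ε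
  rw [Ideal.map_map] at h2
  have h3 : ψ.toRingHom.comp (algebraMap A (AdjoinRoot G)) = algebraMap A W :=
    RingHom.ext fun a => ψ.commutes a
  rw [h3] at h2
  exact h2

/-- Gabber's criterion in terms of the algebras `A[T]/(p)`, `p ≡ (T^2 - T)^m`. -/
theorem henselianRing_of_idem_lift_adjoinRoot (hI : I ≤ Ideal.jacobson ⊥)
    (h : ∀ (m : ℕ) (p : Polynomial A), p.Monic →
      Polynomial.map (Ideal.Quotient.mk I) p =
        Polynomial.map (Ideal.Quotient.mk I) ((Polynomial.X ^ 2 - Polynomial.X) ^ m) →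
      Set.SurjOn (Ideal.Quotient.mk (Ideal.map (algebraMap A (AdjoinRoot p)) I))
        {e : AdjoinRoot p | IsIdempotentElem e} {e | IsIdempotentElem e}) :
    HenselianRing A I := by
  apply henselianRing_of_factorLifts hI
  intro f hf g₀ h₀ hg₀ hh₀ hc hfac
  apply factor_lift_of_idem_lift hI _ f hf g₀ h₀ hg₀ hh₀ hc hfac
  intro W _ _ _ b hb _
  exact idem_lift_of_adjoinRoot h W b hb

end Main

end Groth.Agent.H3
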