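import Groth.Agent.H3.HenselBasic
import Mathlib.LinearAlgebra.Matrix.Charpoly.LinearMap
import Mathlib.LinearAlgebra.Matrix.Charpoly.Basic
import Mathlib.RingTheory.Nakayama
import Mathlib.RingTheory.Henselian
import Mathlib.Tactic.LinearCombination
import Mathlib.Tactic.Ring

/-!
# Gabber's rank one trick

Let `(A, I)` be a henselian pair and `U` a finite `A`-algebra.  If `b ∈ U` is idempotent modulo
`IU` and `b U ⊆ A b + IU` (the idempotent cuts out a piece of "rank one" modulo `I`), then `b` is
congruent modulo `IU` to an idempotent of `U`.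
-/

set_option autoImplicit false
universe u v

namespace Groth.Agent.H3

open Polynomial

section

variable {A : Type u} [CommRing A] {I : Ideal A}

/-- A monic polynomial congruent to `(X - 1) X^n` has a root congruent to `1`, in a henselian
pair. -/
theorem exists_root_of_map_eq (h : HenselianRing A I) (P : A[X]) (hP : P.Monic) (n : ℕ)
    (hmap : P.map (Ideal.Quotient.mk I) = (X - C 1) * X ^ n) :
    ∃ α : A, P.IsRoot α ∧ α - 1 ∈ I := by
  apply h.is_henselian P hP 1
  · rw [← Ideal.Quotient.eq_zero_iff_mem, ← Polynomial.eval₂_at_apply, ← Polynomial.eval_map, hmap]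
    simp
  · have : Ideal.Quotient.mk I ((derivative P).eval 1) = 1 := by
      rw [← Polynomial.eval₂_at_apply, ← Polynomial.eval_map, ← Polynomial.derivative_map, hmap]
      simp
    rw [this]
    exact isUnit_one

end

theorem exists_idempotent_of_rank_one {A : Type u} [CommRing A] {I : Ideal A}
    (h : HenselianRing A I) (U : Type v) [CommRing U] [Algebra A U] [Module.Finite A U] (b : U)
    (hb : b * b - b ∈ I.map (algebraMap A U))
    (hrank : ∀ u : U, ∃ c : A, b * u - c • b ∈ I.map (algebraMap A U)) :
    ∃ e : U, IsIdempotentElem e ∧ e - b ∈ I.map (algebraMap A U) := by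
  classical
  have hjac : I ≤ Ideal.jacobson ⊥ := h.jac
  have hIU : ∀ x : U, x ∈ I.map (algebraMap A U) ↔ x ∈ (I • ⊤ : Submodule A U) := by
    intro x
    rw [Ideal.smul_top_eq_map]
    rfl
  obtain ⟨n, s, hs⟩ := Module.Finite.exists_fin (R := A) (M := U)
  -- the adapted generators
  let v : Fin (n + 1) → U := Fin.cons b (fun j => (1 - b) * s j)
  have hv0 : v 0 = b := rfl
  have hvs : ∀ j : Fin n, v j.succ = (1 - b) * s j := fun j => rfl
  have hv : Submodule.span A (Set.range v) = ⊤ := by
    apply top_le_iff.mp
    apply Submodule.le_of_le_smul_of_le_jacobson_bot Module.Finite.fg_top hjac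
    intro u _
    have hu : u = b * u + (1 - b) * u := by ring
    rw [hu]
    apply Submodule.add_mem
    · obtain ⟨c, hc⟩ := hrank u
      have : b * u = c • v 0 + (b * u - c • b) := by rw [hv0]; ring
      rw [this]
      exact Submodule.add_mem_sup
        (Submodule.smul_mem _ _ (Submodule.subset_span (Set.mem_range_self 0))) ((hIU _).mp hc)
    · apply Submodule.mem_sup_left
      have hus : u ∈ Submodule.span A (Set.range s) := by rw [hs]; trivial
      obtain ⟨a, rfl⟩ := (Submodule.mem_span_range_iff_exists_fun A).mp hus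
      rw [Finset.mul_sum]
      refine Submodule.sum_mem _ fun j _ => ?_
      rw [mul_smul_comm, ← hvs]
      exact Submodule.smul_mem _ _ (Submodule.subset_span (Set.mem_range_self _))
  -- the coefficients
  have hcoef : ∀ j : Fin (n + 1), ∃ c : Fin (n + 1) → A, (∀ k, c k ∈ I) ∧
      ∑ k, c k • v k = b * v j - (if j = 0 then v 0 else 0) := by
    intro j
    have hmem : b * v j - (if j = 0 then v 0 else 0) ∈ (I • ⊤ : Submodule A U) := by
      rw [← hIU]
      refine Fin.cases ?_ (fun i => ?_) j
      · rw [if_pos rfl, hv0]; exact hb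
      · rw [if_neg (Fin.succ_ne_zero i), sub_zero, hvs]
        have : b * ((1 - b) * s i) = -((b * b - b) * s i) := by ring
        rw [this]
        exact (Ideal.neg_mem_iff _).mpr (Ideal.mul_mem_right _ _ hb)
    rw [← hv, Submodule.mem_ideal_smul_span_iff_exists_sum] at hmem
    obtain ⟨a, ha, hsum⟩ := hmem
    refine ⟨fun k => a k, ha, ?_⟩
    rw [← hsum, Finsupp.sum_fintype]
    intro i; exact zero_smul _ _
  choose c hcI hcsum using hcoef
  let Mat : Matrix (Fin (n + 1)) (Fin (n + 1)) A :=
    fun k j => (if k = 0 ∧ j = 0 then 1 else 0) + c j k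
  let f : Module.End A U := Algebra.lmul A U b
  have hrep : Mat.Represents v f := by
    rw [Matrix.represents_iff']
    intro j
    change ∑ k, ((if k = 0 ∧ j = 0 then 1 else 0) + c j k) • v k = b * v j
    simp only [add_smul, Finset.sum_add_distrib, hcsum j]
    have : ∑ k : Fin (n + 1), (if k = 0 ∧ j = 0 then (1 : A) else 0) • v k =
        if j = 0 then v 0 else 0 := by
      by_cases hj : j = 0
      · simp [hj]
      · simp [hj]
    rw [this]
    ring
  set P : A[X] := Mat.charpoly with hPdef
  have hPmonic : P.Monic := Mat.charpoly_monic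
  have hPf : Polynomial.aeval f P = 0 := by
    let Arep : Matrix.isRepresentation A v := ⟨Mat, f, hrep⟩
    have h1 : Matrix.isRepresentation.toEnd A v hv Arep = f :=
      Matrix.isRepresentation.eq_toEnd_of_represents A v hv Arep hrep
    rw [← h1, Polynomial.aeval_algHom_apply,
      ← map_zero (Matrix.isRepresentation.toEnd A v hv)]
    congr 1
    ext1
    rw [Polynomial.aeval_subalgebra_coe, Subalgebra.coe_zero]
    exact Matrix.aeval_self_charpoly Mat
  have hPb : Polynomial.aeval b P = 0 := by
    have h1 : Polynomial.aeval f P = Algebra.lmul A U (Polynomial.aeval b P) :=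
      Polynomial.aeval_algHom_apply (Algebra.lmul A U) b P
    have h2 := congrArg (fun g : Module.End A U => g 1) (h1.symm.trans hPf)
    simpa using h2
  -- reduction of `P`
  have hPmap : P.map (Ideal.Quotient.mk I) = (X - C 1) * X ^ n := by
    rw [hPdef, ← Matrix.charpoly_map]
    have hdiag : Mat.map (Ideal.Quotient.mk I) =
        Matrix.diagonal (fun k : Fin (n + 1) => if k = 0 then (1 : A ⧸ I) else 0) := by
      ext k j
      have hc0 : Ideal.Quotient.mk I (c j k) = 0 := Ideal.Quotient.eq_zero_iff_mem.mpr (hcI j k)
      simp only [Matrix.map_apply, Mat, map_add, hc0, add_zero, Matrix.diagonal_apply]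
      by_cases hk : k = 0
      · by_cases hj : j = 0
        · simp [hk, hj]
        · have hne : ¬ ((0 : Fin (n + 1)) = j) := fun h0 => hj h0.symm
          simp [hk, hj, hne]
      · by_cases hkj : k = j
        · have hj : ¬ (j = 0) := fun h0 => hk (hkj.trans h0)
          simp [hk, hkj, hj]
        · simp [hk, hkj]
    rw [hdiag, Matrix.charpoly_diagonal, Fin.prod_univ_succ]
    simp
  obtain ⟨α, hα, hα1⟩ := exists_root_of_map_eq h P hPmonic n hPmap
  -- factor out the root
  obtain ⟨Q, hQ⟩ : ∃ Q : A[X], P = (X - C α) * Q := by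
    exact ⟨P /ₘ (X - C α), (Polynomial.mul_divByMonic_eq_iff_isRoot.mpr hα).symm⟩
  have hαmk : Ideal.Quotient.mk I α = 1 := by
    rw [← map_one (Ideal.Quotient.mk I), Ideal.Quotient.eq]; exact hα1
  have hQmap : Q.map (Ideal.Quotient.mk I) = X ^ n := by
    have h1 : (X - C 1) * Q.map (Ideal.Quotient.mk I) = (X - C 1) * X ^ n := by
      rw [← hPmap, hQ, Polynomial.map_mul, Polynomial.map_sub, Polynomial.map_X, Polynomial.map_C,
        hαmk]
    exact (Polynomial.monic_X_sub_C (1 : A ⧸ I)).isRegular.left h1
  -- `Q(α)` is a unit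
  have hQα : IsUnit (Q.eval α) := by
    apply isUnit_of_isUnit_mk hjac
    rw [← Polynomial.eval₂_at_apply, ← Polynomial.eval_map, hQmap, hαmk]
    simp
  obtain ⟨w, hw⟩ := hQα.exists_left_inv
  -- `Q = Q(α) + (X - α) Q'`
  obtain ⟨Q', hQ'⟩ : ∃ Q' : A[X], Q = C (Q.eval α) + (X - C α) * Q' := by
    refine ⟨Q /ₘ (X - C α), ?_⟩
    have := Polynomial.modByMonic_add_div Q (X - C α)
    rw [Polynomial.modByMonic_X_sub_C_eq_C_eval] at this
    exact this.symm
  set y : U := Polynomial.aeval b Q with hy
  have hkill : (b - algebraMap A U α) * y = 0 := by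
    rw [hy, ← hPb, hQ, map_mul, map_sub, Polynomial.aeval_X, Polynomial.aeval_C]
  have hyy : y * y = algebraMap A U (Q.eval α) * y := by
    have h1 : y = algebraMap A U (Q.eval α) + (b - algebraMap A U α) * Polynomial.aeval b Q' := by
      rw [hy]
      conv_lhs => rw [hQ']
      rw [map_add, map_mul, map_sub, Polynomial.aeval_X, Polynomial.aeval_C, Polynomial.aeval_C]
    calc y * y = (algebraMap A U (Q.eval α) +
          (b - algebraMap A U α) * Polynomial.aeval b Q') * y := by rw [← h1]
      _ = algebraMap A U (Q.eval α) * y +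
          Polynomial.aeval b Q' * ((b - algebraMap A U α) * y) := by ring
      _ = algebraMap A U (Q.eval α) * y := by rw [hkill, mul_zero, add_zero]
  refine ⟨algebraMap A U w * y, ?_, ?_⟩
  · change algebraMap A U w * y * (algebraMap A U w * y) = algebraMap A U w * y
    have hwq : algebraMap A U w * algebraMap A U (Q.eval α) = 1 := by
      rw [← map_mul, hw, map_one]
    calc algebraMap A U w * y * (algebraMap A U w * y)
        = algebraMap A U w * algebraMap A U w * (y * y) := by ring
      _ = algebraMap A U w * (algebraMap A U w * algebraMap A U (Q.eval α)) * y := by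
          rw [hyy]; ring
      _ = algebraMap A U w * y := by rw [hwq, mul_one]
  · -- congruence modulo `IU`
    set IU := I.map (algebraMap A U) with hIUdef
    rw [← Ideal.Quotient.eq]
    have hbb : Ideal.Quotient.mk IU b * Ideal.Quotient.mk IU b = Ideal.Quotient.mk IU b := by
      rw [← map_mul, Ideal.Quotient.eq]; exact hb
    have hpow : ∀ m : ℕ, 0 < m → (Ideal.Quotient.mk IU b) ^ m = Ideal.Quotient.mk IU b := by
      intro m hm
      induction m with
      | zero => omega
      | succ m ih =>
        rcases Nat.eq_zero_or_pos m with rfl | hm'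
        · simp
        · rw [pow_succ, ih hm', hbb]
    -- the image of `A` in `U/IU` factors through `A/I`
    have hfac : ∀ a : A, a ∈ I → Ideal.Quotient.mk IU (algebraMap A U a) = 0 := by
      intro a ha
      exact Ideal.Quotient.eq_zero_iff_mem.mpr (Ideal.mem_map_of_mem _ ha)
    have hcong : ∀ a a' : A, a - a' ∈ I →
        Ideal.Quotient.mk IU (algebraMap A U a) = Ideal.Quotient.mk IU (algebraMap A U a') := by
      intro a a' haa
      rw [← sub_eq_zero, ← map_sub, ← map_sub]
      exact hfac _ haa
    -- compute `y` modulo `IU`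
    have hymk : Ideal.Quotient.mk IU y = (Ideal.Quotient.mk IU b) ^ n := by
      rw [hy]
      have h1 : Ideal.Quotient.mk IU (Polynomial.aeval b Q) =
          Polynomial.eval₂ ((Ideal.Quotient.mk IU).comp (algebraMap A U))
            (Ideal.Quotient.mk IU b) Q := by
        rw [Polynomial.aeval_def, Polynomial.hom_eval₂]
      rw [h1]
      -- the ring hom factors through `A/I`
      let ψ : A ⧸ I →+* U ⧸ IU := Ideal.Quotient.lift I
        ((Ideal.Quotient.mk IU).comp (algebraMap A U)) (fun a ha => hfac a ha)
      have hψ : (Ideal.Quotient.mk IU).comp (algebraMap A U) = ψ.comp (Ideal.Quotient.mk I) := by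
        ext a; rfl
      rw [hψ, ← Polynomial.eval₂_map, hQmap]
      simp
    have hwmk : Ideal.Quotient.mk IU (algebraMap A U w) = 1 := by
      have h1 : w - 1 ∈ I := by
        rw [← Ideal.Quotient.eq, map_one]
        have h2 : Ideal.Quotient.mk I w * Ideal.Quotient.mk I (Q.eval α) = 1 := by
          rw [← map_mul, hw, map_one]
        have h3 : Ideal.Quotient.mk I (Q.eval α) = 1 := by
          rw [← Polynomial.eval₂_at_apply, ← Polynomial.eval_map, hQmap, hαmk]
          simp
        rw [h3, mul_one] at h2
        exact h2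
      rw [hcong w 1 h1, map_one, map_one]
    rw [map_mul, hwmk, one_mul, hymk]
    rcases Nat.eq_zero_or_pos n with hn | hn
    · -- `n = 0`: then `U` is spanned by `b` modulo ..., and `b ≡ 1`
      subst hn
      rw [pow_zero]
      -- `1 = c • b + i`, so `b = b * 1 ≡ c b^2 ≡ c b ≡ 1`
      have hs1 : (1 : U) ∈ Submodule.span A (Set.range s) := by rw [hs]; trivial
      have : Submodule.span A (Set.range s) = ⊥ := by
        have : Set.range s = ∅ := Set.range_eq_empty s
        rw [this, Submodule.span_empty]
      rw [this, Submodule.mem_bot] at hs1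
      have : Subsingleton U := subsingleton_of_zero_eq_one hs1.symm
      exact Subsingleton.elim _ _
    · exact hpow n hn

end Groth.Agent.H3
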