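import Mathlib
import Groth.Agent.H3.GenConnMain
import Groth.Prelude.Def_MoreMor

/-!
# Counting geometric irreducible components near the generic point (given the irreducible case)

`exists_open_nGeomIrredComp_eq`: let `f : X ⟶ Y` be of finite type with `Y` irreducible. Assume that
geometric irreducibility spreads out from the generic fibre (`CoreHyp`, the statement of S0419) and
that all irreducible components of the generic fibre of `f` are geometrically irreducible
(`CompGeomIrr f`). Then over an open neighbourhood of the generic point the number of irreducible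
components of the geometric fibres is the number of irreducible components of the generic fibre.
-/

set_option autoImplicit false

universe u

open AlgebraicGeometry CategoryTheory Limits TopologicalSpace

namespace Groth.Agent.H3.GenConn

/-- A finite cover of a space by irreducible closed sets without inclusions is the set of
irreducible components. -/
theorem irreducibleComponents_eq_range {G : Type*} [TopologicalSpace G] {ι : Type*} [Finite ι]
    (S : ι → Set G) (hirr : ∀ i, IsIrreducible (S i)) (hcl : ∀ i, IsClosed (S i))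
    (hcov : ⋃ i, S i = Set.univ) (hinc : ∀ i j, S i ⊆ S j → i = j) :
    irreducibleComponents G = Set.range S := by
  classical
  haveI := Fintype.ofFinite ι
  have key : ∀ T : Set G, IsIrreducible T → ∃ i, T ⊆ S i := by
    intro T hT
    obtain ⟨z, hz, hTz⟩ := isIrreducible_iff_sUnion_isClosed.mp hT (Finset.univ.image S)
      (by
        intro z hz
        obtain ⟨i, -, rfl⟩ := Finset.mem_image.mp hz
        exact hcl i)
      (by
        intro x _
        have hx : x ∈ ⋃ i, S i := hcov ▸ Set.mem_univ x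
        obtain ⟨i, hi⟩ := Set.mem_iUnion.mp hx
        exact Set.mem_sUnion.mpr ⟨S i, by simp, hi⟩)
    obtain ⟨i, -, rfl⟩ := Finset.mem_image.mp hz
    exact ⟨i, hTz⟩
  ext T
  constructor
  · intro hT
    obtain ⟨i, hi⟩ := key T hT.1
    exact ⟨i, (hT.2 (hirr i) hi).antisymm hi⟩
  · rintro ⟨i, rfl⟩
    refine ⟨hirr i, fun T hT hiT => ?_⟩
    obtain ⟨j, hj⟩ := key T hT
    have hij := hinc i j (hiT.trans hj)
    subst hij
    exact hj

theorem encard_irreducibleComponents_eq {G : Type*} [TopologicalSpace G] {ι : Type*} [Finite ι]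
    (S : ι → Set G) (hirr : ∀ i, IsIrreducible (S i)) (hcl : ∀ i, IsClosed (S i))
    (hcov : ⋃ i, S i = Set.univ) (hinc : ∀ i j, S i ⊆ S j → i = j) :
    (irreducibleComponents G).encard = ENat.card ι := by
  rw [irreducibleComponents_eq_range S hirr hcl hcov hinc]
  have hinj : Function.Injective S := fun i j hij => hinc i j hij.le
  rw [← Set.image_univ, hinj.encard_image, Set.encard_univ]

/-- Counting the irreducible components of a base change to a field of a scheme over a one-point
base covered by finitely many closed geometrically irreducible pieces without inclusions. -/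
theorem encard_irreducibleComponents_pullback_of_cover {W S : Scheme.{u}} (q : W ⟶ S)
    [Subsingleton S] {ι : Type*} [Finite ι] (C : ι → Scheme.{u}) (c : ∀ i, C i ⟶ W)
    (hirr : ∀ i, GeometricallyIrreducible (c i ≫ q))
    (hclosed : ∀ i, IsClosed (Set.range (c i)))
    (hcov : ⋃ i, Set.range (c i) = Set.univ)
    (hinc : ∀ i j, Set.range (c i) ⊆ Set.range (c j) → i = j)
    {K : Type u} [Field K] (y : Spec (.of K) ⟶ S) :
    (irreducibleComponents ↥(pullback q y)).encard = ENat.card ι := by
  haveI : Surjective y := by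
    refine ⟨fun s => ?_⟩
    obtain ⟨t⟩ : Nonempty ↥(Spec (.of K)) := inferInstance
    exact ⟨t, Subsingleton.elim _ _⟩
  have hπ : Function.Surjective (pullback.fst q y) := (pullback.fst q y).surjective
  let m : ∀ i, pullback (c i ≫ q) y ⟶ pullback q y := fun i =>
    pullback.map (c i ≫ q) y q y (c i) (𝟙 _) (𝟙 _) (by simp) (by simp)
  have hm : ∀ i, Set.range (m i) = (pullback.fst q y) ⁻¹' Set.range (c i) := by
    intro i
    rw [Scheme.Pullback.range_map]
    simp
  have hirr' : ∀ i, IsIrreducible (Set.range (m i)) := by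
    intro i
    haveI := hirr i
    haveI : IrreducibleSpace ↥(pullback (c i ≫ q) y) :=
      GeometricallyIrreducible.geometrically_irreducibleSpace _ _ _ (.of_hasPullback _ y)
    rw [← Set.image_univ]
    exact (IrreducibleSpace.isIrreducible_univ _).image _ (m i).continuous.continuousOn
  refine encard_irreducibleComponents_eq (fun i => Set.range (m i)) hirr' ?_ ?_ ?_
  · intro i
    rw [hm]
    exact (hclosed i).preimage (pullback.fst q y).continuous
  · simp only [hm]
    rw [← Set.preimage_iUnion, hcov, Set.preimage_univ]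
  · intro i j hij
    apply hinc
    rw [hm, hm] at hij
    intro w hw
    obtain ⟨z, rfl⟩ := hπ w
    exact hij hw

variable {X Y : Scheme.{u}} (f : X ⟶ Y) [IrreducibleSpace ↑Y]

theorem exists_open_nGeomIrredComp_eq [LocallyOfFiniteType f] [QuasiCompact f]
    (core : CoreHyp.{u}) (hcomp : CompGeomIrr f) :
    ∃ V : Y.Opens, genericPoint ↑Y ∈ V ∧ ∀ y ∈ V, MoreMor.nGeomIrredComp f y =
      (irreducibleComponents ↑(f.fiber (genericPoint ↑Y))).encard := by
  have hfin := finite_irreducibleComponents_fiber f (genericPoint ↑Y)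
  haveI : Finite ↥(irreducibleComponents ↑(f.fiber (genericPoint ↑Y))) := hfin.to_subtype
  have hclosed : ∀ Z : ↥(irreducibleComponents ↑(f.fiber (genericPoint ↑Y))), IsClosed Z.1 :=
    fun Z => isClosed_of_mem_irreducibleComponents Z.1 Z.2
  -- the core on the closures of the components
  have hC : ∀ Z : ↥(irreducibleComponents ↑(f.fiber (genericPoint ↑Y))), ∃ V : Y.Opens,
      genericPoint ↑Y ∈ V ∧ ∀ y ∈ V, GeometricallyIrreducible
        ((closι f (genericPoint ↑Y) Z.1 ≫ f).fiberToSpecResidueField y) := fun Z =>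
    core_pointwise core (closι f (genericPoint ↑Y) Z.1 ≫ f)
      (geomIrr_clos_fiber f (genericPoint ↑Y) (hclosed Z) (hcomp Z.1 Z.2))
  choose VC hVCη hVC using hC
  -- the closures cover over an open
  obtain ⟨V₁, hV₁ne, hV₁⟩ := Groth.Agent.H20.GenFibre.exists_open_preimage_subset_closure_fiber f
  have hV₁η : genericPoint ↑Y ∈ V₁ := genericPoint_mem_of_nonempty V₁.isOpen hV₁ne
  -- no inclusions between the fibres of the closures
  have hE : ∀ p : {p : ↥(irreducibleComponents ↑(f.fiber (genericPoint ↑Y))) ×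
        ↥(irreducibleComponents ↑(f.fiber (genericPoint ↑Y))) // p.1 ≠ p.2},
      ∃ V : Y.Opens, genericPoint ↑Y ∈ V ∧ ∀ y ∈ V, ∃ x : X,
        x ∈ closure (f.fiberι (genericPoint ↑Y) '' p.1.1.1) ∧
        x ∉ closure (f.fiberι (genericPoint ↑Y) '' p.1.2.1) ∧ f x = y := by
    rintro ⟨⟨Z, Z'⟩, hne⟩
    have hnot : ¬ Z.1 ⊆ Z'.1 := fun hsub =>
      hne (Subtype.ext (hsub.antisymm (Z.2.2 Z'.2.1 hsub)))
    obtain ⟨z, hzZ, hzZ'⟩ := Set.not_subset.mp hnot
    let O : X.Opens := ⟨(closure (f.fiberι (genericPoint ↑Y) '' Z'.1))ᶜ, isClosed_closure.isOpen_compl⟩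
    let U : (Scheme.IdealSheafData.vanishingIdeal (clos f (genericPoint ↑Y) Z.1)).subscheme.Opens :=
      (closι f (genericPoint ↑Y) Z.1) ⁻¹ᵁ O
    let e := U.ι ≫ closι f (genericPoint ↑Y) Z.1 ≫ f
    have hfz : f (f.fiberι (genericPoint ↑Y) z) = genericPoint ↑Y := by
      have : f.fiberι (genericPoint ↑Y) z ∈ Set.range (f.fiberι (genericPoint ↑Y)) := ⟨z, rfl⟩
      rw [f.range_fiberι] at this
      exact this
    have hη : genericPoint ↑Y ∈ Set.range e := by
      have hx₀ : f.fiberι (genericPoint ↑Y) z ∈ Set.range (closι f (genericPoint ↑Y) Z.1) := by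
        rw [range_closι]
        exact subset_closure ⟨z, hzZ, rfl⟩
      obtain ⟨t, ht⟩ := hx₀
      have htU : t ∈ U := by
        show closι f (genericPoint ↑Y) Z.1 t ∈ (closure (f.fiberι (genericPoint ↑Y) '' Z'.1))ᶜ
        rw [ht]
        intro hcon
        obtain ⟨z', hz', hzz'⟩ := mem_image_of_mem_closure f (genericPoint ↑Y) (hclosed Z') hcon hfz
        have := (f.fiberι (genericPoint ↑Y)).isEmbedding.injective hzz'
        exact hzZ' (this ▸ hz')
      refine ⟨⟨t, htU⟩, ?_⟩
      show f (closι f (genericPoint ↑Y) Z.1 t) = _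
      rw [ht]
      exact hfz
    obtain ⟨V, hVne, hV⟩ := Groth.Agent.H20.GenFibre.exists_open_subset_range e hη
    refine ⟨V, genericPoint_mem_of_nonempty V.isOpen hVne, fun y hy => ?_⟩
    obtain ⟨u, rfl⟩ := hV hy
    refine ⟨closι f (genericPoint ↑Y) Z.1 u.1, ?_, ?_, rfl⟩
    · rw [← range_closι]; exact ⟨u.1, rfl⟩
    · exact u.2
  choose VE hVEη hVE using hE
  -- the open set
  let W : Set ↑Y := ((V₁ : Set ↑Y) ∩ ⋂ Z, (VC Z : Set ↑Y)) ∩ ⋂ p, (VE p : Set ↑Y)
  have hWo : IsOpen W :=
    (V₁.isOpen.inter (isOpen_iInter_of_finite fun Z => (VC Z).isOpen)).inter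
      (isOpen_iInter_of_finite fun p => (VE p).isOpen)
  refine ⟨⟨W, hWo⟩, ⟨⟨hV₁η, Set.mem_iInter.mpr hVCη⟩, Set.mem_iInter.mpr hVEη⟩, fun y hy => ?_⟩
  obtain ⟨⟨hy₁, hyC⟩, hyE⟩ := hy
  rw [Set.mem_iInter] at hyC hyE
  haveI : Subsingleton ↥(Spec (Y.residueField y)) :=
    inferInstanceAs (Subsingleton (PrimeSpectrum (Y.residueField y)))
  refine encard_irreducibleComponents_pullback_of_cover (f.fiberToSpecResidueField y)
    (fun Z : ↥(irreducibleComponents ↑(f.fiber (genericPoint ↑Y))) =>
      (closι f (genericPoint ↑Y) Z.1 ≫ f).fiber y)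
    (fun Z => fiberMap f (closι f (genericPoint ↑Y) Z.1) y) ?_ ?_ ?_ ?_ _
  · intro Z
    rw [fiberMap_toSpec]
    exact hVC Z y (hyC Z)
  · intro Z
    rw [range_fiberMap, range_closι]
    exact isClosed_closure.preimage (f.fiberι y).continuous
  · rw [Set.eq_univ_iff_forall]
    intro w
    have hw : f (f.fiberι y w) ∈ V₁ := by
      have : f.fiberι y w ∈ Set.range (f.fiberι y) := ⟨w, rfl⟩
      rw [f.range_fiberι] at this
      rw [show f (f.fiberι y w) = y from this]
      exact hy₁
    have h1 := hV₁ _ hw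
    rw [closure_fiber_eq] at h1
    simp only [Set.mem_iUnion, exists_prop] at h1
    obtain ⟨Z, hZ, hwZ⟩ := h1
    refine Set.mem_iUnion.mpr ⟨⟨Z, hZ⟩, ?_⟩
    rw [range_fiberMap, Set.mem_preimage, range_closι]
    exact hwZ
  · intro Z Z' hsub
    by_contra hne
    obtain ⟨x, hxa, hxb, hfx⟩ := hVE ⟨(Z, Z'), hne⟩ y (hyE _)
    have hxr : x ∈ Set.range (f.fiberι y) := by
      rw [f.range_fiberι]; exact hfx
    obtain ⟨w, rfl⟩ := hxr
    have hw : w ∈ Set.range (fiberMap f (closι f (genericPoint ↑Y) Z.1) y) := by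
      rw [range_fiberMap, Set.mem_preimage, range_closι]; exact hxa
    have hw' := hsub hw
    rw [range_fiberMap, Set.mem_preimage, range_closι] at hw'
    exact hxb hw'

end Groth.Agent.H3.GenConn
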