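import Mathlib
import Groth.Agent.H3.GenIrrCount

/-!
# Counting geometric connected components near the generic point (given the irreducible case)

`exists_open_nGeomConnComp_eq`: let `f : X ⟶ Y` be of finite type with `Y` irreducible. Assume that
geometric irreducibility spreads out from the generic fibre (`CoreHyp`, the statement of S0419) and
that all irreducible components of the generic fibre of `f` are geometrically irreducible
(`CompGeomIrr f`). Then over an open neighbourhood of the generic point the number of connected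
components of the geometric fibres is the number of connected components of the intersection graph
of the irreducible components of the generic fibre.
-/

set_option autoImplicit false

universe u

open AlgebraicGeometry CategoryTheory Limits TopologicalSpace

namespace Groth.Agent.H3.GenConn

/-- The connected components of a space covered by finitely many closed connected sets are in
bijection with the connected components of the intersection graph of the cover. -/
theorem card_connectedComponents_eq {G : Type*} [TopologicalSpace G] {ι : Type*} [Finite ι]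
    (S : ι → Set G) (hconn : ∀ i, IsConnected (S i)) (hcl : ∀ i, IsClosed (S i))
    (hcov : ⋃ i, S i = Set.univ) :
    ENat.card (_root_.ConnectedComponents G) =
      ENat.card (Quot (fun i j : ι => (S i ∩ S j).Nonempty)) := by
  classical
  set R : ι → ι → Prop := fun i j => (S i ∩ S j).Nonempty with hR
  choose x hx using fun i => (hconn i).nonempty
  -- points of the same member lie in the same component
  have hsame : ∀ i (a : G), a ∈ S i → (ConnectedComponents.mk a : ConnectedComponents G) =
      ConnectedComponents.mk (x i) := by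
    intro i a ha
    rw [ConnectedComponents.coe_eq_coe']
    exact (hconn i).isPreconnected.subset_connectedComponent (hx i) ha
  let φ : Quot R → ConnectedComponents G := Quot.lift (fun i => ConnectedComponents.mk (x i)) (by
    rintro i j ⟨a, hai, haj⟩
    show (ConnectedComponents.mk (x i) : ConnectedComponents G) = ConnectedComponents.mk (x j)
    rw [← hsame i a hai, ← hsame j a haj])
  have hsurj : Function.Surjective φ := by
    intro c
    obtain ⟨a, rfl⟩ := ConnectedComponents.surjective_coe c
    have ha : a ∈ ⋃ i, S i := hcov ▸ Set.mem_univ a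
    obtain ⟨i, hi⟩ := Set.mem_iUnion.mp ha
    exact ⟨Quot.mk R i, (hsame i a hi).symm⟩
  have hinj : Function.Injective φ := by
    intro p q hpq
    induction p using Quot.ind with | _ i => ?_
    induction q using Quot.ind with | _ j => ?_
    have hij : (ConnectedComponents.mk (x i) : ConnectedComponents G) =
        ConnectedComponents.mk (x j) := hpq
    let A : Set G := ⋃ k ∈ {k | Quot.mk R k = Quot.mk R i}, S k
    let B : Set G := ⋃ k ∈ {k | Quot.mk R k ≠ Quot.mk R i}, S k
    have hA : IsClosed A := (Set.toFinite _).isClosed_biUnion fun k _ => hcl k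
    have hB : IsClosed B := (Set.toFinite _).isClosed_biUnion fun k _ => hcl k
    have hAB : A = Bᶜ := by
      ext a
      constructor
      · intro haA haB
        simp only [A, B, Set.mem_iUnion, Set.mem_setOf_eq, exists_prop] at haA haB
        obtain ⟨k, hk, hak⟩ := haA
        obtain ⟨l, hl, hal⟩ := haB
        exact hl ((Quot.sound (show R k l from ⟨a, hak, hal⟩)).symm.trans hk)
      · intro haB
        have ha : a ∈ ⋃ k, S k := hcov ▸ Set.mem_univ a
        obtain ⟨k, hak⟩ := Set.mem_iUnion.mp ha
        by_cases hk : Quot.mk R k = Quot.mk R i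
        · exact Set.mem_biUnion (show k ∈ {k | Quot.mk R k = Quot.mk R i} from hk) hak
        · exact absurd (Set.mem_biUnion (show k ∈ {k | Quot.mk R k ≠ Quot.mk R i} from hk) hak) haB
    have hclopen : IsClopen A := ⟨hA, hAB ▸ hB.isOpen_compl⟩
    have hxiA : x i ∈ A := Set.mem_biUnion (show i ∈ {k | Quot.mk R k = Quot.mk R i} from rfl) (hx i)
    have hsub := hclopen.connectedComponent_subset hxiA
    have hxj : x j ∈ connectedComponent (x i) := by
      rw [ConnectedComponents.coe_eq_coe'.mp hij.symm |> connectedComponent_eq]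
      exact mem_connectedComponent
    have hxjA := hsub hxj
    simp only [A, Set.mem_iUnion, Set.mem_setOf_eq, exists_prop] at hxjA
    obtain ⟨k, hk, hxjk⟩ := hxjA
    exact (hk.symm.trans (Quot.sound (show R k j from ⟨x j, hxjk, hx j⟩)))
  exact ENat.card_congr (Equiv.ofBijective φ ⟨hinj, hsurj⟩).symm

/-- Counting the connected components of a base change to a field of a scheme over a one-point
base covered by finitely many closed geometrically irreducible pieces. -/
theorem card_connectedComponents_pullback_of_cover {W S : Scheme.{u}} (q : W ⟶ S)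
    [Subsingleton S] {ι : Type*} [Finite ι] (C : ι → Scheme.{u}) (c : ∀ i, C i ⟶ W)
    (hirr : ∀ i, GeometricallyIrreducible (c i ≫ q))
    (hclosed : ∀ i, IsClosed (Set.range (c i)))
    (hcov : ⋃ i, Set.range (c i) = Set.univ)
    {K : Type u} [Field K] (y : Spec (.of K) ⟶ S) :
    ENat.card (_root_.ConnectedComponents ↥(pullback q y)) =
      ENat.card (Quot (fun i j : ι => (Set.range (c i) ∩ Set.range (c j)).Nonempty)) := by
  haveI : Surjective y := by
    refine ⟨fun s => ?_⟩
    obtain ⟨t⟩ : Nonempty ↥(Spec (.of K)) := inferInstance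
    exact ⟨t, Subsingleton.elim _ _⟩
  have hπ : Function.Surjective (pullback.fst q y) := (pullback.fst q y).surjective
  let m : ∀ i, pullback (c i ≫ q) y ⟶ pullback q y := fun i =>
    pullback.map (c i ≫ q) y q y (c i) (𝟙 _) (𝟙 _) (by simp) (by simp)
  have hm : ∀ i, Set.range (m i) = (pullback.fst q y) ⁻¹' Set.range (c i) := by
    intro i
    rw [Scheme.Pullback.range_map]
    simp
  have hirr' : ∀ i, IsIrreducible (Set.range (m i)) := by
    intro i
    haveI := hirr i
    haveI : IrreducibleSpace ↥(pullback (c i ≫ q) y) :=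
      GeometricallyIrreducible.geometrically_irreducibleSpace _ _ _ (.of_hasPullback _ y)
    rw [← Set.image_univ]
    exact (IrreducibleSpace.isIrreducible_univ _).image _ (m i).continuous.continuousOn
  rw [card_connectedComponents_eq (fun i => Set.range (m i)) (fun i => (hirr' i).isConnected)
    (fun i => by rw [hm]; exact (hclosed i).preimage (pullback.fst q y).continuous)
    (by simp only [hm]; rw [← Set.preimage_iUnion, hcov, Set.preimage_univ])]
  refine ENat.card_congr (Quot.congrRight fun i j => ?_)
  rw [hm, hm]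
  constructor
  · rintro ⟨w, hwi, hwj⟩
    exact ⟨_, hwi, hwj⟩
  · rintro ⟨w, hwi, hwj⟩
    obtain ⟨z, rfl⟩ := hπ w
    exact ⟨z, hwi, hwj⟩

variable {X Y : Scheme.{u}} (f : X ⟶ Y) [IrreducibleSpace ↑Y]

/-- For two closed subsets of the generic fibre, the fibres of their closures over points near the
generic point meet exactly when the two subsets meet. -/
theorem exists_open_inter_iff [LocallyOfFiniteType f] [QuasiCompact f]
    {Z Z' : Set ↑(f.fiber (genericPoint ↑Y))} (hZ : IsClosed Z) (hZ' : IsClosed Z') :
    ∃ V : Y.Opens, genericPoint ↑Y ∈ V ∧ ∀ y ∈ V,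
      (∃ x : X, x ∈ closure (f.fiberι (genericPoint ↑Y) '' Z) ∧
        x ∈ closure (f.fiberι (genericPoint ↑Y) '' Z') ∧ f x = y) ↔ (Z ∩ Z').Nonempty := by
  by_cases hne : (Z ∩ Z').Nonempty
  · obtain ⟨z, hzZ, hzZ'⟩ := hne
    let Tp : Closeds ↑X := clos f (genericPoint ↑Y) Z ⊓ clos f (genericPoint ↑Y) Z'
    let e := (Scheme.IdealSheafData.vanishingIdeal Tp).subschemeι ≫ f
    have hrange : Set.range (Scheme.IdealSheafData.vanishingIdeal Tp).subschemeι =
        closure (f.fiberι (genericPoint ↑Y) '' Z) ∩
          closure (f.fiberι (genericPoint ↑Y) '' Z') := by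
      rw [Scheme.IdealSheafData.range_subschemeι,
        Scheme.IdealSheafData.coe_support_vanishingIdeal]
      rfl
    have hη : genericPoint ↑Y ∈ Set.range e := by
      have hx₀ : f.fiberι (genericPoint ↑Y) z ∈
          Set.range (Scheme.IdealSheafData.vanishingIdeal Tp).subschemeι := by
        rw [hrange]
        exact ⟨subset_closure ⟨z, hzZ, rfl⟩, subset_closure ⟨z, hzZ', rfl⟩⟩
      obtain ⟨t, ht⟩ := hx₀
      refine ⟨t, ?_⟩
      show f ((Scheme.IdealSheafData.vanishingIdeal Tp).subschemeι t) = _
      rw [ht]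
      have : f.fiberι (genericPoint ↑Y) z ∈ Set.range (f.fiberι (genericPoint ↑Y)) := ⟨z, rfl⟩
      rw [f.range_fiberι] at this
      exact this
    obtain ⟨V, hVne, hV⟩ := Groth.Agent.H20.GenFibre.exists_open_subset_range e hη
    refine ⟨V, genericPoint_mem_of_nonempty V.isOpen hVne, fun y hy => ⟨fun _ => ⟨z, hzZ, hzZ'⟩,
      fun _ => ?_⟩⟩
    obtain ⟨t, rfl⟩ := hV hy
    have ht : (Scheme.IdealSheafData.vanishingIdeal Tp).subschemeι t ∈
        Set.range (Scheme.IdealSheafData.vanishingIdeal Tp).subschemeι := ⟨t, rfl⟩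
    rw [hrange] at ht
    exact ⟨_, ht.1, ht.2, rfl⟩
  · obtain ⟨V, hVne, hV⟩ := Groth.Agent.H20.GenFibre.exists_open_preimage_disjoint f
      (closure (f.fiberι (genericPoint ↑Y) '' Z) ∩ closure (f.fiberι (genericPoint ↑Y) '' Z'))
      (isClosed_closure.inter isClosed_closure) (by
        rintro x ⟨hx, hx'⟩ hfx
        obtain ⟨z, hz, hzx⟩ := mem_image_of_mem_closure f (genericPoint ↑Y) hZ hx hfx
        obtain ⟨z', hz', hzx'⟩ := mem_image_of_mem_closure f (genericPoint ↑Y) hZ' hx' hfx
        have := (f.fiberι (genericPoint ↑Y)).isEmbedding.injective (hzx.trans hzx'.symm)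
        exact hne ⟨z, hz, this ▸ hz'⟩)
    refine ⟨V, genericPoint_mem_of_nonempty V.isOpen hVne, fun y hy => ⟨?_, fun h => absurd h hne⟩⟩
    rintro ⟨x, hx, hx', rfl⟩
    exact absurd hy (hV x ⟨hx, hx'⟩)

theorem exists_open_nGeomConnComp_eq [LocallyOfFiniteType f] [QuasiCompact f]
    (core : CoreHyp.{u}) (hcomp : CompGeomIrr f) :
    ∃ V : Y.Opens, genericPoint ↑Y ∈ V ∧ ∀ y ∈ V, MoreMor.nGeomConnComp f y =
      ENat.card (Quot (fun Z Z' : ↥(irreducibleComponents ↑(f.fiber (genericPoint ↑Y))) =>
        (Z.1 ∩ Z'.1).Nonempty)) := by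
  have hfin := finite_irreducibleComponents_fiber f (genericPoint ↑Y)
  haveI : Finite ↥(irreducibleComponents ↑(f.fiber (genericPoint ↑Y))) := hfin.to_subtype
  have hclosed : ∀ Z : ↥(irreducibleComponents ↑(f.fiber (genericPoint ↑Y))), IsClosed Z.1 :=
    fun Z => isClosed_of_mem_irreducibleComponents Z.1 Z.2
  have hC : ∀ Z : ↥(irreducibleComponents ↑(f.fiber (genericPoint ↑Y))), ∃ V : Y.Opens,
      genericPoint ↑Y ∈ V ∧ ∀ y ∈ V, GeometricallyIrreducible
        ((closι f (genericPoint ↑Y) Z.1 ≫ f).fiberToSpecResidueField y) := fun Z =>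
    core_pointwise core (closι f (genericPoint ↑Y) Z.1 ≫ f)
      (geomIrr_clos_fiber f (genericPoint ↑Y) (hclosed Z) (hcomp Z.1 Z.2))
  choose VC hVCη hVC using hC
  obtain ⟨V₁, hV₁ne, hV₁⟩ := Groth.Agent.H20.GenFibre.exists_open_preimage_subset_closure_fiber f
  have hV₁η : genericPoint ↑Y ∈ V₁ := genericPoint_mem_of_nonempty V₁.isOpen hV₁ne
  have hE := fun p : ↥(irreducibleComponents ↑(f.fiber (genericPoint ↑Y))) ×
      ↥(irreducibleComponents ↑(f.fiber (genericPoint ↑Y))) =>
    exists_open_inter_iff f (hclosed p.1) (hclosed p.2)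
  choose VE hVEη hVE using hE
  let W : Set ↑Y := ((V₁ : Set ↑Y) ∩ ⋂ Z, (VC Z : Set ↑Y)) ∩ ⋂ p, (VE p : Set ↑Y)
  have hWo : IsOpen W :=
    (V₁.isOpen.inter (isOpen_iInter_of_finite fun Z => (VC Z).isOpen)).inter
      (isOpen_iInter_of_finite fun p => (VE p).isOpen)
  refine ⟨⟨W, hWo⟩, ⟨⟨hV₁η, Set.mem_iInter.mpr hVCη⟩, Set.mem_iInter.mpr hVEη⟩, fun y hy => ?_⟩
  obtain ⟨⟨hy₁, hyC⟩, hyE⟩ := hy
  rw [Set.mem_iInter] at hyC hyE
  haveI : Subsingleton ↥(Spec (Y.residueField y)) :=
    inferInstanceAs (Subsingleton (PrimeSpectrum (Y.residueField y)))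
  refine (card_connectedComponents_pullback_of_cover (f.fiberToSpecResidueField y)
    (fun Z : ↥(irreducibleComponents ↑(f.fiber (genericPoint ↑Y))) =>
      (closι f (genericPoint ↑Y) Z.1 ≫ f).fiber y)
    (fun Z => fiberMap f (closι f (genericPoint ↑Y) Z.1) y) ?_ ?_ ?_
    (K := SeparableClosure (Y.residueField y))
    (Spec.map (CommRingCat.ofHom
      (algebraMap (Y.residueField y) (SeparableClosure (Y.residueField y)))))).trans ?_
  · intro Z
    rw [fiberMap_toSpec]
    exact hVC Z y (hyC Z)
  · intro Z
    rw [range_fiberMap, range_closι]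
    exact isClosed_closure.preimage (f.fiberι y).continuous
  · rw [Set.eq_univ_iff_forall]
    intro w
    have hw : f (f.fiberι y w) ∈ V₁ := by
      have : f.fiberι y w ∈ Set.range (f.fiberι y) := ⟨w, rfl⟩
      rw [f.range_fiberι] at this
      rw [show f (f.fiberι y w) = y from this]
      exact hy₁
    have h1 := hV₁ _ hw
    rw [closure_fiber_eq] at h1
    simp only [Set.mem_iUnion, exists_prop] at h1
    obtain ⟨Z, hZ, hwZ⟩ := h1
    refine Set.mem_iUnion.mpr ⟨⟨Z, hZ⟩, ?_⟩
    rw [range_fiberMap, Set.mem_preimage, range_closι]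
    exact hwZ
  · refine ENat.card_congr (Quot.congrRight fun Z Z' => ?_)
    rw [← hVE (Z, Z') y (hyE _), range_fiberMap, range_fiberMap, range_closι, range_closι]
    constructor
    · rintro ⟨w, hw, hw'⟩
      refine ⟨f.fiberι y w, hw, hw', ?_⟩
      have : f.fiberι y w ∈ Set.range (f.fiberι y) := ⟨w, rfl⟩
      rw [f.range_fiberι] at this
      exact this
    · rintro ⟨x, hx, hx', hfx⟩
      have hxr : x ∈ Set.range (f.fiberι y) := by
        rw [f.range_fiberι]; exact hfx
      obtain ⟨w, rfl⟩ := hxr
      exact ⟨w, hx, hx'⟩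

end Groth.Agent.H3.GenConn
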