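import Mathlib
import Groth.Agent.H3.GenConnCount
import Groth.Agent.H3.GenConnS0420
import Groth.Agent.S1334
import Groth.Agent.S1335

/-!
# S1336 and S1337 from S0419 and S1357

* `nGeomIrredComp_generic_of`, `nGeomConnComp_generic_of`: over an irreducible base, the number of
  geometric irreducible (connected) components of the fibres of a morphism of finite type is
  constant on an open neighbourhood of the generic point, assuming the statements of S0419
  (`CoreHyp`) and S1357 (`CoverHyp`).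
* `const_near_point_of_closure`: passage from the generic statement to the statement at an arbitrary
  point `y` (constancy on a neighbourhood of `y` in its closure) for any fibrewise invariant
  compatible with base change.
* `s1336_of`, `s1337_of`: the statements of S1336 and S1337.
-/

set_option autoImplicit false

universe u

open AlgebraicGeometry CategoryTheory Limits TopologicalSpace

namespace Groth.Agent.H3.GenConn

/-- Generic constancy of a base-change compatible fibrewise invariant, given a finite étale cover as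
in `CoverHyp` and the computation of the invariant near the generic point upstairs. -/
theorem generic_const_of_cover {α : Type*}
    (N : ∀ {X Y : Scheme.{u}} (_ : X ⟶ Y), Y → α)
    (hbc : ∀ {X Y X' Y' : Scheme.{u}} (f : X ⟶ Y) (f' : X' ⟶ Y') (g' : X' ⟶ X) (g : Y' ⟶ Y),
      IsPullback g' f' f g → ∀ y' : Y', N f' y' = N f (g y'))
    (cover : CoverHyp.{u})
    (hup : ∀ {X Y : Scheme.{u}} (f : X ⟶ Y) [IrreducibleSpace ↑Y] [LocallyOfFiniteType f]
      [QuasiCompact f], CompGeomIrr f → ∃ V : Y.Opens, genericPoint ↑Y ∈ V ∧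
        ∀ y ∈ V, N f y = N f (genericPoint ↑Y))
    {X Y : Scheme.{u}} (f : X ⟶ Y) [IrreducibleSpace ↑Y] [LocallyOfFiniteType f] [QuasiCompact f] :
    ∃ V : Y.Opens, genericPoint ↑Y ∈ V ∧ ∀ y ∈ V, N f y = N f (genericPoint ↑Y) := by
  obtain ⟨V, Y', g, hY', hVne, -, hsurj, -, het, hZ⟩ := cover f
  let gV : Y' ⟶ Y := g ≫ V.ι
  let f' : pullback f gV ⟶ Y' := pullback.snd f gV
  have hE := hbc f f' (pullback.fst f gV) gV (IsPullback.of_hasPullback f gV)
  have hrange : Set.range gV = (V : Set ↑Y) := by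
    show Set.range (g ≫ V.ι) = _
    rw [Scheme.Hom.comp_base, TopCat.coe_comp, Set.range_comp,
      Set.range_eq_univ.mpr g.surjective, Set.image_univ]
    exact Scheme.Opens.range_ι V
  have hηη : gV (genericPoint ↑Y') = genericPoint ↑Y := by
    apply map_genericPoint_of_dense
    rw [hrange]
    exact V.isOpen.dense hVne
  obtain ⟨V', hη'V', hV'⟩ := hup f' hZ
  have hopen : IsOpenMap gV := by
    haveI : UniversallyOpen g := inferInstance
    exact (V.ι.isOpenEmbedding.isOpenMap).comp g.isOpenMap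
  refine ⟨⟨gV '' (V' : Set ↑Y'), hopen _ V'.isOpen⟩, ⟨genericPoint ↑Y', hη'V', hηη⟩, ?_⟩
  rintro _ ⟨y', hy', rfl⟩
  rw [← hE y', hV' y' hy', hE, hηη]

theorem nGeomIrredComp_generic_of (core : CoreHyp.{u}) (cover : CoverHyp.{u})
    {X Y : Scheme.{u}} (f : X ⟶ Y) [IrreducibleSpace ↑Y] [LocallyOfFiniteType f] [QuasiCompact f] :
    ∃ V : Y.Opens, genericPoint ↑Y ∈ V ∧
      ∀ y ∈ V, MoreMor.nGeomIrredComp f y = MoreMor.nGeomIrredComp f (genericPoint ↑Y) := by
  refine generic_const_of_cover (fun f y => MoreMor.nGeomIrredComp f y)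
    (fun f f' g' g hc y' => Groth.Agent.S1334.result f f' g' g hc y') cover ?_ f
  intro X Y f _ _ _ hcomp
  obtain ⟨V, hη, hV⟩ := exists_open_nGeomIrredComp_eq f core hcomp
  exact ⟨V, hη, fun y hy => (hV y hy).trans (hV _ hη).symm⟩

theorem nGeomConnComp_generic_of (core : CoreHyp.{u}) (cover : CoverHyp.{u})
    {X Y : Scheme.{u}} (f : X ⟶ Y) [IrreducibleSpace ↑Y] [LocallyOfFiniteType f] [QuasiCompact f] :
    ∃ V : Y.Opens, genericPoint ↑Y ∈ V ∧
      ∀ y ∈ V, MoreMor.nGeomConnComp f y = MoreMor.nGeomConnComp f (genericPoint ↑Y) := by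
  refine generic_const_of_cover (fun f y => MoreMor.nGeomConnComp f y)
    (fun f f' g' g hc y' => Groth.Agent.S1335.result f f' g' g hc y') cover ?_ f
  intro X Y f _ _ _ hcomp
  obtain ⟨V, hη, hV⟩ := exists_open_nGeomConnComp_eq f core hcomp
  exact ⟨V, hη, fun y hy => (hV y hy).trans (hV _ hη).symm⟩

/-- From generic constancy to constancy near a point of its closure. -/
theorem const_near_point_of_closure {α : Type*}
    (N : ∀ {X Y : Scheme.{u}} (_ : X ⟶ Y), Y → α)
    (hbc : ∀ {X Y X' Y' : Scheme.{u}} (f : X ⟶ Y) (f' : X' ⟶ Y') (g' : X' ⟶ X) (g : Y' ⟶ Y),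
      IsPullback g' f' f g → ∀ y' : Y', N f' y' = N f (g y'))
    (hgen : ∀ {X Y : Scheme.{u}} (f : X ⟶ Y) [IrreducibleSpace ↑Y] [LocallyOfFiniteType f]
      [QuasiCompact f], ∃ V : Y.Opens, genericPoint ↑Y ∈ V ∧
        ∀ y ∈ V, N f y = N f (genericPoint ↑Y))
    {X Y : Scheme.{u}} (f : X ⟶ Y) [LocallyOfFiniteType f] [QuasiCompact f] (y : Y) :
    ∃ V : Set ↑Y, V ⊆ closure {y} ∧ y ∈ V ∧
      IsOpen (Subtype.val ⁻¹' V : Set ↑(closure ({y} : Set ↑Y))) ∧
      ∀ y' ∈ V, N f y' = N f y := by
  let Zc : Closeds ↑Y := ⟨closure {y}, isClosed_closure⟩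
  let I := Scheme.IdealSheafData.vanishingIdeal Zc
  let i : I.subscheme ⟶ Y := I.subschemeι
  have hrange : Set.range i = closure {y} := by
    rw [Scheme.IdealSheafData.range_subschemeι, Scheme.IdealSheafData.coe_support_vanishingIdeal]
    rfl
  haveI : IrreducibleSpace ↥(Set.range i) :=
    Subtype.irreducibleSpace (hrange ▸ isIrreducible_singleton.closure)
  haveI : IrreducibleSpace ↑I.subscheme :=
    i.isEmbedding.toHomeomorph.irreducibleSpace_iff.mpr inferInstance
  have hiη : i (genericPoint ↑I.subscheme) = y := by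
    have h1 : IsGenericPoint (i (genericPoint ↑I.subscheme)) (closure ({y} : Set ↑Y)) := by
      rw [IsGenericPoint]
      apply subset_antisymm
      · apply closure_minimal _ isClosed_closure
        rw [Set.singleton_subset_iff, ← hrange]
        exact ⟨_, rfl⟩
      · rw [← hrange]
        rintro _ ⟨z, rfl⟩
        have h2 : z ∈ closure ({genericPoint ↑I.subscheme} : Set ↑I.subscheme) := by
          rw [(genericPoint_spec ↑I.subscheme).def]; exact Set.mem_univ _
        have h3 := image_closure_subset_closure_image i.continuous (Set.mem_image_of_mem i h2)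
        rwa [Set.image_singleton] at h3
    exact h1.eq isGenericPoint_closure
  let fZ : pullback f i ⟶ I.subscheme := pullback.snd f i
  obtain ⟨V, hηV, hV⟩ := hgen fZ
  have hE := hbc f fZ (pullback.fst f i) i (IsPullback.of_hasPullback f i)
  obtain ⟨O, hO, hOV⟩ := i.isEmbedding.isInducing.isOpen_iff.mp V.isOpen
  refine ⟨i '' (V : Set ↑I.subscheme), ?_, ⟨_, hηV, hiη⟩, ?_, ?_⟩
  · rintro _ ⟨z, -, rfl⟩
    rw [← hrange]
    exact ⟨z, rfl⟩
  · have : (Subtype.val ⁻¹' (i '' (V : Set ↑I.subscheme)) : Set ↑(closure ({y} : Set ↑Y))) =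
        Subtype.val ⁻¹' O := by
      ext ⟨a, ha⟩
      simp only [Set.mem_preimage]
      rw [← hOV, Set.image_preimage_eq_inter_range, hrange]
      exact ⟨fun h => h.1, fun h => ⟨h, ha⟩⟩
    rw [this]
    exact hO.preimage continuous_subtype_val
  · rintro _ ⟨z, hz, rfl⟩
    rw [← hE z, hV z hz, hE, hiη]

theorem s1336_of (core : CoreHyp.{u}) (cover : CoverHyp.{u})
    {X Y : Scheme.{u}} (f : X ⟶ Y) [LocallyOfFiniteType f] [QuasiCompact f] (y : Y) :
    ∃ V : Set ↑Y, V ⊆ closure {y} ∧ y ∈ V ∧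
      IsOpen (Subtype.val ⁻¹' V : Set ↑(closure ({y} : Set ↑Y))) ∧
      ∀ y' ∈ V, MoreMor.nGeomIrredComp f y' = MoreMor.nGeomIrredComp f y :=
  const_near_point_of_closure (fun f y => MoreMor.nGeomIrredComp f y)
    (fun f f' g' g hc y' => Groth.Agent.S1334.result f f' g' g hc y')
    (fun f => nGeomIrredComp_generic_of core cover f) f y

theorem s1337_of (core : CoreHyp.{u}) (cover : CoverHyp.{u})
    {X Y : Scheme.{u}} (f : X ⟶ Y) [LocallyOfFiniteType f] [QuasiCompact f] (y : Y) :
    ∃ V : Set ↑Y, V ⊆ closure {y} ∧ y ∈ V ∧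
      IsOpen (Subtype.val ⁻¹' V : Set ↑(closure ({y} : Set ↑Y))) ∧
      ∀ y' ∈ V, MoreMor.nGeomConnComp f y' = MoreMor.nGeomConnComp f y :=
  const_near_point_of_closure (fun f y => MoreMor.nGeomConnComp f y)
    (fun f f' g' g hc y' => Groth.Agent.S1335.result f f' g' g hc y')
    (fun f => nGeomConnComp_generic_of core cover f) f y

end Groth.Agent.H3.GenConn
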