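import Mathlib
import Groth.Agent.H3.GenCountAssembly
import Groth.Agent.S5880

/-!
# Level sets of base-change compatible fibrewise invariants are locally constructible

For a fibrewise invariant `N f y` (a function of a morphism `f : X ⟶ Y` and a point `y` of `Y`)
which is compatible with base change and generically constant over irreducible bases for morphisms
of finite type, every level set `{y | N f y = n}` is locally constructible when `f` is of finite
presentation (through S5880). Applied to the numbers of geometric irreducible / connected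
components this gives the statements of S1338 and S1339, assuming the statements of S0419
(`CoreHyp`) and S1357 (`CoverHyp`).
-/

set_option autoImplicit false

universe u

open AlgebraicGeometry CategoryTheory Limits TopologicalSpace Topology

namespace Groth.Agent.H3.GenConn

section level

variable {α : Type*} (N : ∀ {X Y : Scheme.{u}} (_ : X ⟶ Y), Y → α)
  (hbc : ∀ {X Y X' Y' : Scheme.{u}} (f : X ⟶ Y) (f' : X' ⟶ Y') (g' : X' ⟶ X) (g : Y' ⟶ Y),
    IsPullback g' f' f g → ∀ y' : Y', N f' y' = N f (g y'))
  (hgen : ∀ {X Y : Scheme.{u}} (f : X ⟶ Y) [IrreducibleSpace ↑Y] [LocallyOfFiniteType f]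
    [QuasiCompact f], ∃ V : Y.Opens, genericPoint ↑Y ∈ V ∧
      ∀ y ∈ V, N f y = N f (genericPoint ↑Y))

include hbc in
theorem locusMor_level_eq (n : α) {X Y S : Scheme.{u}} (f : X ⟶ Y) (g : Y ⟶ S) :
    ConsProp.locusMor (fun X Y T (f : X ⟶ Y) (g : Y ⟶ T) => ∀ t : T, N (f ≫ g) t = n) f g =
      {s | N (f ≫ g) s = n} := by
  ext s
  have hfm : MoreMor.fiberMap f g s ≫ g.fiberToSpecResidueField s =
      (f ≫ g).fiberToSpecResidueField s := pullback.lift_snd _ _ _
  have hpb : IsPullback ((f ≫ g).fiberι s) ((f ≫ g).fiberToSpecResidueField s) (f ≫ g)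
      (S.fromSpecResidueField s) := IsPullback.of_hasPullback _ _
  have key : ∀ t : ↥(Spec (S.residueField s)),
      N (MoreMor.fiberMap f g s ≫ g.fiberToSpecResidueField s) t = N (f ≫ g) s := by
    intro t
    rw [hfm, hbc _ _ _ _ hpb t]
    congr 1
    exact Scheme.fromSpecResidueField_apply s t
  show (∀ t : ↥(Spec (S.residueField s)),
    N (MoreMor.fiberMap f g s ≫ g.fiberToSpecResidueField s) t = n) ↔ N (f ≫ g) s = n
  constructor
  · intro H
    obtain ⟨t⟩ : Nonempty ↥(Spec (S.residueField s)) := inferInstance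
    rw [← key t]
    exact H t
  · intro H t
    rw [key t]
    exact H

include hbc hgen in
theorem isConsMor_level (n : α) :
    ConsProp.IsConsMor (fun X Y T (f : X ⟶ Y) (g : Y ⟶ T) => ∀ t : T, N (f ≫ g) t = n) := by
  refine ⟨?_, ?_⟩
  · intro X X' Y Y' T T' f g f' g' eX eY h _ _ _ _ _ _ _ _ hY hX
    have hc : IsPullback eX (f' ≫ g') (f ≫ g) h := hX.paste_vert hY
    constructor
    · intro H t'
      rw [hbc _ _ _ _ hc t']
      exact H _
    · intro H t
      obtain ⟨t'⟩ : Nonempty ↑T' := inferInstance
      have : h t' = t := Subsingleton.elim _ _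
      rw [← this, ← hbc _ _ _ _ hc t']
      exact H t'
  · intro X Y S f g _ _ _ _ _ _
    rw [locusMor_level_eq N hbc n f g]
    obtain ⟨V, hηV, hV⟩ := hgen (f ≫ g)
    by_cases hn : N (f ≫ g) (genericPoint ↑S) = n
    · left
      refine ⟨genericPoint ↑S, mem_interior.mpr ⟨V, ?_, V.isOpen, hηV⟩⟩
      intro y hy
      exact (hV y hy).trans hn
    · right
      refine ⟨genericPoint ↑S, mem_interior.mpr ⟨V, ?_, V.isOpen, hηV⟩⟩
      intro y hy hy'
      exact hn ((hV y hy).symm.trans hy')

include hbc hgen in
theorem isLocallyConstructible_level (n : α) {X Y : Scheme.{u}} (f : X ⟶ Y)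
    [LocallyOfFinitePresentation f] [QuasiCompact f] [QuasiSeparated f] :
    IsLocallyConstructible {y : ↑Y | N f y = n} := by
  haveI : LocallyOfFinitePresentation (f ≫ 𝟙 Y) := by rw [Category.comp_id]; infer_instance
  haveI : QuasiCompact (f ≫ 𝟙 Y) := by rw [Category.comp_id]; infer_instance
  haveI : QuasiSeparated (f ≫ 𝟙 Y) := by rw [Category.comp_id]; infer_instance
  have h := Groth.Agent.S5880.result (isConsMor_level N hbc hgen n) f (𝟙 Y)
  rw [locusMor_level_eq N hbc n f (𝟙 Y)] at h
  simpa using h

end level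

theorem s1338_of (core : CoreHyp.{u}) (cover : CoverHyp.{u})
    {X Y : Scheme.{u}} (f : X ⟶ Y) [LocallyOfFinitePresentation f] [QuasiCompact f]
    [QuasiSeparated f] (n : ℕ∞) :
    IsLocallyConstructible {y : ↑Y | MoreMor.nGeomIrredComp f y = n} :=
  isLocallyConstructible_level (fun f y => MoreMor.nGeomIrredComp f y)
    (fun f f' g' g hc y' => Groth.Agent.S1334.result f f' g' g hc y')
    (fun f => nGeomIrredComp_generic_of core cover f) n f

theorem s1339_of (core : CoreHyp.{u}) (cover : CoverHyp.{u})
    {X Y : Scheme.{u}} (f : X ⟶ Y) [LocallyOfFinitePresentation f] [QuasiCompact f]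
    [QuasiSeparated f] (n : ℕ∞) :
    IsLocallyConstructible {y : ↑Y | MoreMor.nGeomConnComp f y = n} :=
  isLocallyConstructible_level (fun f y => MoreMor.nGeomConnComp f y)
    (fun f f' g' g hc y' => Groth.Agent.S1335.result f f' g' g hc y')
    (fun f => nGeomConnComp_generic_of core cover f) n f

end Groth.Agent.H3.GenConn
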