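import Mathlib
import Groth.Agent.S1334
import Groth.Agent.S1335

/-!
# A fibre is geometrically irreducible (connected) iff its geometric count is one

`nGeomIrredComp_eq_one_iff`, `nGeomConnComp_eq_one_iff`: the fibre of `f` over `y` is geometrically
irreducible (resp. geometrically connected) exactly when its base change to a separable closure of
the residue field has exactly one irreducible (resp. connected) component. The nontrivial direction
uses the independence of the count from the separably closed field (S1334, S1335).
-/

set_option autoImplicit false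

universe u

open AlgebraicGeometry CategoryTheory Limits TopologicalSpace

namespace Groth.Agent.H3.GeomCountOne

theorem irreducibleSpace_of_encard_eq_one {G : Type*} [TopologicalSpace G]
    (h : (irreducibleComponents G).encard = 1) : IrreducibleSpace G := by
  obtain ⟨Z, hZ⟩ := Set.encard_eq_one.mp h
  have hZmem : Z ∈ irreducibleComponents G := hZ ▸ Set.mem_singleton Z
  have hU : Z = Set.univ := by
    have := sUnion_irreducibleComponents (X := G)
    rwa [hZ, Set.sUnion_singleton] at this
  rw [irreducibleSpace_def]
  show IsIrreducible (Set.univ : Set G)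
  rw [← hU]
  exact hZmem.1

theorem connectedSpace_of_card_eq_one {G : Type*} [TopologicalSpace G]
    (h : ENat.card (_root_.ConnectedComponents G) = 1) : ConnectedSpace G := by
  obtain ⟨hu⟩ := ENat.card_eq_one_iff_unique.mp h
  haveI : Nonempty G := ConnectedComponents.nonempty_iff_nonempty.mp ⟨hu.default⟩
  obtain ⟨x⟩ : Nonempty G := inferInstance
  have hx : connectedComponent x = Set.univ := by
    rw [Set.eq_univ_iff_forall]
    intro y
    have : (ConnectedComponents.mk y : _root_.ConnectedComponents G) = ConnectedComponents.mk x :=
      (hu.uniq _).trans (hu.uniq _).symm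
    rw [ConnectedComponents.coe_eq_coe] at this
    rw [← this]
    exact mem_connectedComponent
  haveI : PreconnectedSpace G := ⟨hx ▸ isPreconnected_connectedComponent⟩
  exact { toNonempty := inferInstance }

/-- The geometric fibre of a morphism to a one-point scheme surjects onto the source. -/
theorem exists_surjective_geomFiber {W T : Scheme.{u}} (p : W ⟶ T) [Subsingleton T] (t : T) :
    ∃ φ : MoreMor.geomFiber p t ⟶ W, Function.Surjective φ := by
  refine ⟨pullback.fst _ _ ≫ p.fiberι t, ?_⟩
  rw [Scheme.Hom.comp_base, TopCat.coe_comp]
  refine Function.Surjective.comp ?_ ?_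
  · intro w
    have : w ∈ Set.range (p.fiberι t) := by
      rw [p.range_fiberι]
      exact Subsingleton.elim _ _
    exact this
  · haveI : Surjective (Spec.map (CommRingCat.ofHom (algebraMap (T.residueField t)
        (SeparableClosure (T.residueField t))))) := by
      refine ⟨fun s => ?_⟩
      obtain ⟨a⟩ : Nonempty ↥(Spec (CommRingCat.of (SeparableClosure (T.residueField t)))) :=
        inferInstance
      haveI : Subsingleton ↥(Spec (T.residueField t)) :=
        inferInstanceAs (Subsingleton (PrimeSpectrum (T.residueField t)))
      exact ⟨a, Subsingleton.elim _ _⟩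
    exact (pullback.fst (p.fiberToSpecResidueField t) _).surjective

theorem nGeomIrredComp_eq_one_iff {X Y : Scheme.{u}} (f : X ⟶ Y) (y : Y) :
    MoreMor.nGeomIrredComp f y = 1 ↔ GeometricallyIrreducible (f.fiberToSpecResidueField y) := by
  constructor
  · intro h
    refine ⟨geometrically_iff_of_isClosedUnderIsomorphisms.mpr fun K _ z => ?_⟩
    let q := f.fiberToSpecResidueField y
    let p : pullback q z ⟶ Spec (.of K) := pullback.snd q z
    obtain ⟨t⟩ : Nonempty ↥(Spec (.of K)) := inferInstance
    have h1 : MoreMor.nGeomIrredComp p t = MoreMor.nGeomIrredComp q (z t) :=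
      Groth.Agent.S1334.result q p (pullback.fst q z) z (IsPullback.of_hasPullback q z) t
    have h2 : MoreMor.nGeomIrredComp q (z t) =
        MoreMor.nGeomIrredComp f ((Y.fromSpecResidueField y) (z t)) :=
      Groth.Agent.S1334.result f q (f.fiberι y) (Y.fromSpecResidueField y)
        (IsPullback.of_hasPullback _ _) (z t)
    have h3 : (Y.fromSpecResidueField y) (z t) = y := Scheme.fromSpecResidueField_apply y _
    rw [h3, h] at h2
    rw [h2] at h1
    haveI : IrreducibleSpace ↥(MoreMor.geomFiber p t) := irreducibleSpace_of_encard_eq_one h1
    haveI : Subsingleton ↥(Spec (.of K)) := inferInstanceAs (Subsingleton (PrimeSpectrum K))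
    obtain ⟨φ, hφ⟩ := exists_surjective_geomFiber p t
    exact hφ.irreducibleSpace φ.continuous
  · intro h
    haveI : IrreducibleSpace ↥(MoreMor.geomFiber f y) :=
      GeometricallyIrreducible.geometrically_irreducibleSpace _ _ _ (.of_hasPullback _ _)
    show (irreducibleComponents ↥(MoreMor.geomFiber f y)).encard = 1
    rw [irreducibleComponents_eq_singleton, Set.encard_singleton]

theorem nGeomConnComp_eq_one_iff {X Y : Scheme.{u}} (f : X ⟶ Y) (y : Y) :
    MoreMor.nGeomConnComp f y = 1 ↔ GeometricallyConnected (f.fiberToSpecResidueField y) := by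
  constructor
  · intro h
    refine ⟨geometrically_iff_of_isClosedUnderIsomorphisms.mpr fun K _ z => ?_⟩
    let q := f.fiberToSpecResidueField y
    let p : pullback q z ⟶ Spec (.of K) := pullback.snd q z
    obtain ⟨t⟩ : Nonempty ↥(Spec (.of K)) := inferInstance
    have h1 : MoreMor.nGeomConnComp p t = MoreMor.nGeomConnComp q (z t) :=
      Groth.Agent.S1335.result q p (pullback.fst q z) z (IsPullback.of_hasPullback q z) t
    have h2 : MoreMor.nGeomConnComp q (z t) =
        MoreMor.nGeomConnComp f ((Y.fromSpecResidueField y) (z t)) :=
      Groth.Agent.S1335.result f q (f.fiberι y) (Y.fromSpecResidueField y)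
        (IsPullback.of_hasPullback _ _) (z t)
    have h3 : (Y.fromSpecResidueField y) (z t) = y := Scheme.fromSpecResidueField_apply y _
    rw [h3, h] at h2
    rw [h2] at h1
    haveI : ConnectedSpace ↥(MoreMor.geomFiber p t) := connectedSpace_of_card_eq_one h1
    haveI : Subsingleton ↥(Spec (.of K)) := inferInstanceAs (Subsingleton (PrimeSpectrum K))
    obtain ⟨φ, hφ⟩ := exists_surjective_geomFiber p t
    have huniv : _root_.IsConnected (Set.univ : Set ↥(pullback q z)) := by
      rw [← hφ.range_eq, ← Set.image_univ]
      exact isConnected_univ.image _ φ.continuous.continuousOn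
    exact connectedSpace_iff_univ.mpr huniv
  · intro h
    haveI : ConnectedSpace ↥(MoreMor.geomFiber f y) :=
      GeometricallyConnected.geometrically_connectedSpace _ _ _ (.of_hasPullback _ _)
    show ENat.card (_root_.ConnectedComponents ↥(MoreMor.geomFiber f y)) = 1
    rw [ENat.card_eq_one_iff_unique]
    obtain ⟨c⟩ : Nonempty (_root_.ConnectedComponents ↥(MoreMor.geomFiber f y)) := inferInstance
    exact ⟨⟨⟨c⟩, fun a => Subsingleton.elim _ _⟩⟩

end Groth.Agent.H3.GeomCountOne
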