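import Groth.Agent.H3.FGAvoid
import Groth.Agent.H17.QFLocus
import Groth.Agent.H49.RelGCIModelScheme

/-!
# Noetherian approximation preserving a fibrewise property with constructible locus
(helper3; variant of `NoethApproxFibre` where local constructibility of the fibre locus is only
required for quasi-separated morphisms, as is the case for geometric irreducibility and geometric
connectedness of the fibres)

Let `Q` be a property of morphisms which can be tested on fibres, whose fibre locus commutes with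
base change and is locally constructible for quasi-compact morphisms locally of finite
presentation. Then every finitely presented morphism of affine schemes with `Q` is the base
change of a morphism of finite type with `Q` over a base of finite type over `ℤ`.
-/

set_option autoImplicit false
universe u

open CategoryTheory CategoryTheory.Limits AlgebraicGeometry TensorProduct

namespace Groth.Agent.H3.NoethApproxFibreQS

/-- the fibre locus of a property of morphisms -/
def locus (Q : MorphismProperty Scheme.{u}) {X S : Scheme.{u}} (f : X ⟶ S) : Set S :=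
  {y | Q (f.fiberToSpecResidueField y)}

/-- the hypotheses on the property -/
structure Hyp (Q : MorphismProperty Scheme.{u}) : Prop where
  fib : ∀ {X S : Scheme.{u}} (f : X ⟶ S), Q f ↔ ∀ y, Q (f.fiberToSpecResidueField y)
  bc : ∀ {X Y X' Y' : Scheme.{u}} (f : X ⟶ Y) (g : Y' ⟶ Y) (f' : X' ⟶ Y') (g' : X' ⟶ X),
    IsPullback g' f' f g → locus Q f' = g ⁻¹' locus Q f
  cons : ∀ {X Y : Scheme.{u}} (f : X ⟶ Y) [QuasiCompact f] [QuasiSeparated f]
    [LocallyOfFinitePresentation f], Topology.IsLocallyConstructible (locus Q f)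

variable {Q : MorphismProperty Scheme.{u}}

theorem range_subset_locus (H : Hyp Q) {X Y X' Y' : Scheme.{u}} (f : X ⟶ Y) (g : Y' ⟶ Y)
    (f' : X' ⟶ Y') (g' : X' ⟶ X) (hc : IsPullback g' f' f g) (hf' : Q f') :
    Set.range g ⊆ locus Q f := by
  rintro _ ⟨y', rfl⟩
  have h1 : y' ∈ locus Q f' := (H.fib f').mp hf' y'
  rw [H.bc f g f' g' hc] at h1
  exact h1

theorem of_range_subset_locus (H : Hyp Q) {X Y X' Y' : Scheme.{u}} (f : X ⟶ Y) (g : Y' ⟶ Y)
    (f' : X' ⟶ Y') (g' : X' ⟶ X) (hc : IsPullback g' f' f g)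
    (h : Set.range g ⊆ locus Q f) : Q f' := by
  rw [H.fib f']
  intro y'
  have : y' ∈ locus Q f' := by
    rw [H.bc f g f' g' hc]
    exact h ⟨y', rfl⟩
  exact this

/-- `Q` is stable under base change -/
theorem of_isPullback (H : Hyp Q) {X Y X' Y' : Scheme.{u}} (f : X ⟶ Y) (g : Y' ⟶ Y)
    (f' : X' ⟶ Y') (g' : X' ⟶ X) (hc : IsPullback g' f' f g) (hf : Q f) : Q f' :=
  of_range_subset_locus H f g f' g' hc (fun _ _ => (H.fib f).mp hf _)

open Groth.Agent.H49.RelGCIModelScheme in
/-- ring-level form -/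
theorem exists_model (H : Hyp Q) (A B : Type u) [CommRing A] [CommRing B] [Algebra A B]
    [Algebra.FinitePresentation A B]
    (hQ : Q (Spec.map (CommRingCat.ofHom (algebraMap A B)))) :
    ∃ (A₀ : Type u) (_ : CommRing A₀) (_ : Algebra A₀ A) (B₀ : Type u) (_ : CommRing B₀)
      (_ : Algebra A₀ B₀), Algebra.FiniteType ℤ A₀ ∧ Algebra.FinitePresentation A₀ B₀ ∧
        Q (Spec.map (CommRingCat.ofHom (algebraMap A₀ B₀))) ∧ Nonempty (A ⊗[A₀] B₀ ≃ₐ[A] B) := by
  obtain ⟨A₁, B₁, _, _, hfg, hfp, ⟨e₁⟩⟩ := Groth.Agent.H17.exists_noetherian_model A B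
  have hft₁ : Algebra.FiniteType ℤ A₁ := (Subalgebra.fg_iff_finiteType A₁).mp hfg
  -- the first model
  let f₁ : Spec (.of B₁) ⟶ Spec (.of A₁) := Spec.map (CommRingCat.ofHom (algebraMap A₁ B₁))
  haveI : LocallyOfFinitePresentation f₁ := by
    rw [HasRingHomProperty.Spec_iff (P := @LocallyOfFinitePresentation)]
    exact RingHom.finitePresentation_algebraMap.mpr hfp
  have hpo₁ := isPushout_of_algEquiv e₁.symm
  have hpb₁ := (isPullback_SpecMap_of_isPushout _ _ _ _ hpo₁).flip
  have hrange := range_subset_locus H _ _ _ _ hpb₁ hQ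
  have hcons : Topology.IsConstructible (locus Q f₁) := (H.cons f₁).isConstructible
  -- the finitely generated subalgebra
  have hrange' : Set.range (PrimeSpectrum.comap (algebraMap A₁ A)) ⊆ locus Q f₁ := by
    rintro _ ⟨p, rfl⟩
    exact hrange ⟨p, rfl⟩
  obtain ⟨C, hCfg, hC⟩ :=
    Groth.Agent.H3.FGAvoid.exists_fg_subalgebra_range_comap_subset (locus Q f₁) hcons hrange'
  have hftC : Algebra.FiniteType ℤ C := by
    have h1 : Algebra.FiniteType A₁ C := (Subalgebra.fg_iff_finiteType C).mp hCfg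
    exact Algebra.FiniteType.trans hft₁ h1
  have hpoC := CommRingCat.isPushout_tensorProduct A₁ C B₁
  have hpbC := (isPullback_SpecMap_of_isPushout _ _ _ _ hpoC).flip
  refine ⟨C, inferInstance, inferInstance, C ⊗[A₁] B₁, inferInstance, inferInstance, hftC,
    inferInstance, ?_, ⟨?_⟩⟩
  · refine of_range_subset_locus H f₁ _ _ _ hpbC ?_
    rintro _ ⟨q, rfl⟩
    exact hC ⟨q, rfl⟩
  · exact (Algebra.TensorProduct.cancelBaseChange A₁ C A A B₁).trans e₁.symm

open Groth.Agent.H49.RelGCIModelScheme in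
theorem main (H : Hyp Q) {X S : Scheme.{u}} (f : X ⟶ S) [IsAffine X] [IsAffine S]
    [LocallyOfFinitePresentation f] (hf : Q f) :
    ∃ (X₀ S₀ : Scheme.{u}) (f₀ : X₀ ⟶ S₀) (g : S ⟶ S₀) (g' : X ⟶ X₀), IsAffine X₀ ∧ IsAffine S₀ ∧
      IsPullback g' f f₀ g ∧
      Algebra.FiniteType ℤ Γ(S₀, ⊤) ∧ LocallyOfFiniteType f₀ ∧ Q f₀ := by
  have hφ : f.appTop.hom.FinitePresentation :=
    (HasRingHomProperty.iff_of_isAffine (P := @LocallyOfFinitePresentation)).mp inferInstance
  algebraize [f.appTop.hom]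
  have hsq : IsPullback X.isoSpec.hom f
      (Spec.map (CommRingCat.ofHom (algebraMap Γ(S, ⊤) Γ(X, ⊤)))) S.isoSpec.hom :=
    IsPullback.of_horiz_isIso ⟨Scheme.isoSpec_hom_naturality f⟩
  have hsq' : IsPullback X.isoSpec.inv
      (Spec.map (CommRingCat.ofHom (algebraMap Γ(S, ⊤) Γ(X, ⊤)))) f S.isoSpec.inv :=
    IsPullback.of_horiz_isIso ⟨by
      rw [Iso.inv_comp_eq, ← Category.assoc, Iso.eq_comp_inv]
      exact (Scheme.isoSpec_hom_naturality f).symm⟩
  have hQ := of_isPullback H _ _ _ _ hsq' hf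
  obtain ⟨A₀, _, _, B₀, _, _, hft, hfp, hQ₀, ⟨e⟩⟩ := exists_model H Γ(S, ⊤) Γ(X, ⊤) hQ
  have hpo := isPushout_of_algEquiv e
  have hpb := (isPullback_SpecMap_of_isPushout _ _ _ _ hpo).flip
  have hpb' := hsq.paste_horiz hpb
  refine ⟨Spec (.of B₀), Spec (.of A₀), Spec.map (CommRingCat.ofHom (algebraMap A₀ B₀)), _, _,
    inferInstance, inferInstance, hpb', ?_, ?_, hQ₀⟩
  · exact Algebra.FiniteType.equiv hft
      ((Scheme.ΓSpecIso (.of A₀)).symm.commRingCatIsoToRingEquiv.toIntAlgEquiv)
  · rw [HasRingHomProperty.Spec_iff (P := @LocallyOfFiniteType)]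
    exact RingHom.finiteType_algebraMap.mpr inferInstance

end Groth.Agent.H3.NoethApproxFibreQS
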