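import Mathlib
import Groth.Agent.H3.GenConsCount
import Groth.Agent.H3.GeomCountOne
import Groth.Agent.H3.NoethApproxFibreQS
import Groth.Agent.S9764
import Groth.Agent.S9765

/-!
# S1462 and S1463 from S0419 and S1357

Noetherian approximation of finitely presented morphisms of affine schemes keeping geometrically
irreducible (resp. geometrically connected) fibres, assuming the statements of S0419 (`CoreHyp`)
and S1357 (`CoverHyp`). Also the local constructibility of the loci of geometrically irreducible /
geometrically connected fibres.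
-/

set_option autoImplicit false

universe u

open AlgebraicGeometry CategoryTheory Limits TopologicalSpace Topology

namespace Groth.Agent.H3.GenConn

theorem isLocallyConstructible_geomIrr_locus (core : CoreHyp.{u}) (cover : CoverHyp.{u})
    {X Y : Scheme.{u}} (f : X ⟶ Y) [LocallyOfFinitePresentation f] [QuasiCompact f]
    [QuasiSeparated f] :
    IsLocallyConstructible {y : ↑Y | GeometricallyIrreducible (f.fiberToSpecResidueField y)} := by
  have h := s1338_of core cover f 1
  have heq : {y : ↑Y | MoreMor.nGeomIrredComp f y = 1} =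
      {y : ↑Y | GeometricallyIrreducible (f.fiberToSpecResidueField y)} := by
    ext y
    exact Groth.Agent.H3.GeomCountOne.nGeomIrredComp_eq_one_iff f y
  rwa [heq] at h

theorem isLocallyConstructible_geomConn_locus (core : CoreHyp.{u}) (cover : CoverHyp.{u})
    {X Y : Scheme.{u}} (f : X ⟶ Y) [LocallyOfFinitePresentation f] [QuasiCompact f]
    [QuasiSeparated f] :
    IsLocallyConstructible {y : ↑Y | GeometricallyConnected (f.fiberToSpecResidueField y)} := by
  have h := s1339_of core cover f 1
  have heq : {y : ↑Y | MoreMor.nGeomConnComp f y = 1} =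
      {y : ↑Y | GeometricallyConnected (f.fiberToSpecResidueField y)} := by
    ext y
    exact Groth.Agent.H3.GeomCountOne.nGeomConnComp_eq_one_iff f y
  rwa [heq] at h

theorem hyp_geomIrr (core : CoreHyp.{u}) (cover : CoverHyp.{u}) :
    Groth.Agent.H3.NoethApproxFibreQS.Hyp.{u} @GeometricallyIrreducible := by
  refine ⟨?_, ?_, ?_⟩
  · intro X S f
    exact GeometricallyIrreducible.iff_geometricallyIrreducible_fiber f
  · intro X Y X' Y' f g f' g' hc
    exact Groth.Agent.S9764.result f g f' g' hc
  · intro X Y f _ _ _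
    exact isLocallyConstructible_geomIrr_locus core cover f

theorem hyp_geomConn (core : CoreHyp.{u}) (cover : CoverHyp.{u}) :
    Groth.Agent.H3.NoethApproxFibreQS.Hyp.{u} @GeometricallyConnected := by
  refine ⟨?_, ?_, ?_⟩
  · intro X S f
    exact GeometricallyConnected.iff_geometricallyConnected_fiber f
  · intro X Y X' Y' f g f' g' hc
    exact Groth.Agent.S9765.result f g f' g' hc
  · intro X Y f _ _ _
    exact isLocallyConstructible_geomConn_locus core cover f

theorem s1462_of (core : CoreHyp.{u}) (cover : CoverHyp.{u})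
    {X S : Scheme.{u}} (f : X ⟶ S) [IsAffine X] [IsAffine S] [LocallyOfFinitePresentation f]
    [GeometricallyIrreducible f] :
    ∃ (X₀ S₀ : Scheme.{u}) (f₀ : X₀ ⟶ S₀) (g : S ⟶ S₀) (g' : X ⟶ X₀), IsAffine X₀ ∧ IsAffine S₀ ∧
      IsPullback g' f f₀ g ∧
      Algebra.FiniteType ℤ Γ(S₀, ⊤) ∧ LocallyOfFiniteType f₀ ∧ GeometricallyIrreducible f₀ :=
  Groth.Agent.H3.NoethApproxFibreQS.main (hyp_geomIrr core cover) f inferInstance

theorem s1463_of (core : CoreHyp.{u}) (cover : CoverHyp.{u})
    {X S : Scheme.{u}} (f : X ⟶ S) [IsAffine X] [IsAffine S] [LocallyOfFinitePresentation f]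
    [GeometricallyConnected f] :
    ∃ (X₀ S₀ : Scheme.{u}) (f₀ : X₀ ⟶ S₀) (g : S ⟶ S₀) (g' : X ⟶ X₀), IsAffine X₀ ∧ IsAffine S₀ ∧
      IsPullback g' f f₀ g ∧
      Algebra.FiniteType ℤ Γ(S₀, ⊤) ∧ LocallyOfFiniteType f₀ ∧ GeometricallyConnected f₀ :=
  Groth.Agent.H3.NoethApproxFibreQS.main (hyp_geomConn core cover) f inferInstance

end Groth.Agent.H3.GenConn
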