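import Mathlib
import Groth.Agent.H3.GenConnS0420

/-!
# Geometric irreducibility spreads out from the generic fibre: reduction to the affine case

`core_of_affCore`: the statement of S0419 (`CoreHyp`) follows from its special case where both the
source and the target are affine (`AffCoreHyp`).

The gluing: cover the preimage of an affine open neighbourhood of the generic point by finitely many
affine opens; those meeting the generic fibre have geometrically irreducible generic fibre (open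
subschemes of a geometrically irreducible scheme over a field) and pairwise meet in the generic
fibre, hence pairwise meet in all fibres near the generic point; the others miss all fibres near the
generic point. A space covered by pairwise meeting irreducible open subsets is irreducible.
-/

set_option autoImplicit false
set_option linter.style.haveILetI false

universe u

open AlgebraicGeometry CategoryTheory Limits TopologicalSpace

namespace Groth.Agent.H3.GenConn

/-- The affine case of the statement of S0419, in pointwise form. -/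
def AffCoreHyp : Prop :=
  ∀ {X Y : Scheme.{u}} (f : X ⟶ Y) [IsAffine X] [IsAffine Y] [IrreducibleSpace ↑Y]
    [LocallyOfFiniteType f],
    GeometricallyIrreducible (f.fiberToSpecResidueField (genericPoint ↑Y)) →
    ∃ V : Y.Opens, genericPoint ↑Y ∈ V ∧
      ∀ y ∈ V, GeometricallyIrreducible (f.fiberToSpecResidueField y)

/-- A space covered by pairwise meeting irreducible open subsets is irreducible. -/
theorem irreducibleSpace_of_open_cover {T : Type*} [TopologicalSpace T] {ι : Type*} [Nonempty ι]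
    (W : ι → Set T) (hopen : ∀ i, IsOpen (W i)) (hirr : ∀ i, IsIrreducible (W i))
    (hcov : ⋃ i, W i = Set.univ) (hmeet : ∀ i j, (W i ∩ W j).Nonempty) :
    IrreducibleSpace T := by
  rw [irreducibleSpace_def]
  refine ⟨?_, ?_⟩
  · obtain ⟨i⟩ : Nonempty ι := inferInstance
    obtain ⟨t, -⟩ := (hirr i).nonempty
    exact ⟨t, Set.mem_univ t⟩
  · rintro A B hA hB ⟨a, -, haA⟩ ⟨b, -, hbB⟩
    have ha : a ∈ ⋃ i, W i := by rw [hcov]; exact Set.mem_univ a
    have hb : b ∈ ⋃ i, W i := by rw [hcov]; exact Set.mem_univ b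
    obtain ⟨i, hai⟩ := Set.mem_iUnion.mp ha
    obtain ⟨j, hbj⟩ := Set.mem_iUnion.mp hb
    obtain ⟨c, hci, hcA, hcj⟩ :=
      (hirr i).isPreirreducible A (W j) hA (hopen j) ⟨a, hai, haA⟩ (hmeet i j)
    obtain ⟨d, -, hdA, hdB⟩ :=
      (hirr j).isPreirreducible A B hA hB ⟨c, hcj, hcA⟩ ⟨b, hbj, hbB⟩
    exact ⟨d, Set.mem_univ d, hdA, hdB⟩

/-- A scheme over a one-point base covered by pairwise meeting geometrically irreducible open
subschemes is geometrically irreducible. -/
theorem geomIrred_of_open_cover {W S : Scheme.{u}} (q : W ⟶ S) [Subsingleton S]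
    {ι : Type*} [Nonempty ι] (C : ι → Scheme.{u}) (c : ∀ i, C i ⟶ W)
    (hopen : ∀ i, IsOpen (Set.range (c i)))
    (hirr : ∀ i, GeometricallyIrreducible (c i ≫ q))
    (hcov : ⋃ i, Set.range (c i) = Set.univ)
    (hmeet : ∀ i j, (Set.range (c i) ∩ Set.range (c j)).Nonempty) :
    GeometricallyIrreducible q := by
  refine ⟨geometrically_iff_of_isClosedUnderIsomorphisms.mpr fun K _ y => ?_⟩
  haveI : Surjective y := by
    refine ⟨fun s => ?_⟩
    obtain ⟨t⟩ : Nonempty ↥(Spec (.of K)) := inferInstance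
    exact ⟨t, Subsingleton.elim _ _⟩
  have hπ : Function.Surjective (pullback.fst q y) := (pullback.fst q y).surjective
  let m : ∀ i, pullback (c i ≫ q) y ⟶ pullback q y := fun i =>
    pullback.map (c i ≫ q) y q y (c i) (𝟙 _) (𝟙 _) (by simp) (by simp)
  have hm : ∀ i, Set.range (m i) = (pullback.fst q y) ⁻¹' Set.range (c i) := by
    intro i
    rw [Scheme.Pullback.range_map]
    simp
  have hirr' : ∀ i, IsIrreducible (Set.range (m i)) := by
    intro i
    haveI := hirr i
    haveI : IrreducibleSpace ↥(pullback (c i ≫ q) y) :=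
      GeometricallyIrreducible.geometrically_irreducibleSpace _ _ _ (.of_hasPullback _ y)
    rw [← Set.image_univ]
    exact (IrreducibleSpace.isIrreducible_univ _).image _ (m i).continuous.continuousOn
  refine irreducibleSpace_of_open_cover (fun i => Set.range (m i)) ?_ hirr' ?_ ?_
  · intro i
    rw [hm]
    exact (hopen i).preimage (pullback.fst q y).continuous
  · simp only [hm]
    rw [← Set.preimage_iUnion, hcov, Set.preimage_univ]
  · intro i j
    obtain ⟨w, hwi, hwj⟩ := hmeet i j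
    obtain ⟨z, rfl⟩ := hπ w
    exact ⟨z, by rw [hm]; exact hwi, by rw [hm]; exact hwj⟩

set_option backward.isDefEq.respectTransparency false in
/-- An open subscheme of a geometrically irreducible fibre which meets the fibre is geometrically
irreducible. -/
theorem geomIrr_fiber_of_isOpenImmersion {X Y T : Scheme.{u}} (f : X ⟶ Y) [IrreducibleSpace ↑Y]
    (i : T ⟶ X) [IsOpenImmersion i] (y : Y)
    (h : GeometricallyIrreducible (f.fiberToSpecResidueField y)) (hne : ∃ t : T, f (i t) = y) :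
    GeometricallyIrreducible ((i ≫ f).fiberToSpecResidueField y) := by
  haveI : IsOpenImmersion (fiberMap f i y) := by
    unfold fiberMap
    infer_instance
  haveI : Subsingleton ↥(Spec (Y.residueField y)) :=
    inferInstanceAs (Subsingleton (PrimeSpectrum (Y.residueField y)))
  haveI : Surjective (fiberMap f i y ≫ f.fiberToSpecResidueField y) := by
    rw [fiberMap_toSpec]
    obtain ⟨t, ht⟩ := hne
    have htr : t ∈ Set.range ((i ≫ f).fiberι y) := by
      rw [(i ≫ f).range_fiberι]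
      exact ht
    obtain ⟨w, -⟩ := htr
    exact ⟨fun s => ⟨w, Subsingleton.elim _ _⟩⟩
  rw [← fiberMap_toSpec]
  infer_instance

/-- The affine core hypothesis applied to an affine open piece of the source lying over an affine
open neighbourhood of the generic point. -/
theorem affCore_piece (aff : AffCoreHyp.{u}) {X Y : Scheme.{u}} (f : X ⟶ Y) [IrreducibleSpace ↑Y]
    [LocallyOfFiniteType f] {V₀ : Y.Opens} (hV₀ : IsAffineOpen V₀) (hη : genericPoint ↑Y ∈ V₀)
    {U : X.Opens} (hU : IsAffineOpen U) (hUV : U ≤ f ⁻¹ᵁ V₀)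
    (h : GeometricallyIrreducible ((U.ι ≫ f).fiberToSpecResidueField (genericPoint ↑Y))) :
    ∃ V : Y.Opens, genericPoint ↑Y ∈ V ∧
      ∀ y ∈ V, GeometricallyIrreducible ((U.ι ≫ f).fiberToSpecResidueField y) := by
  haveI : IsAffine ↑U := hU
  haveI : IsAffine ↑V₀ := hV₀
  haveI : Nonempty ↑(V₀ : Scheme.{u}) := ⟨⟨genericPoint ↑Y, hη⟩⟩
  haveI : IrreducibleSpace ↑(V₀ : Scheme.{u}) := V₀.ι.isOpenEmbedding.irreducibleSpace
  let g : (U : Scheme.{u}) ⟶ (V₀ : Scheme.{u}) := f.resLE V₀ U hUV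
  have hg : g ≫ V₀.ι = U.ι ≫ f := Scheme.Hom.resLE_comp_ι f hUV
  have hpb : IsPullback (𝟙 (U : Scheme.{u})) g (U.ι ≫ f) V₀.ι :=
    IsPullback.of_horiz_isIso_mono ⟨by rw [Category.id_comp, hg]⟩
  have hE := Groth.Agent.S9764.result (U.ι ≫ f) V₀.ι g (𝟙 _) hpb
  have hηη : V₀.ι (genericPoint ↑(V₀ : Scheme.{u})) = genericPoint ↑Y := by
    apply map_genericPoint_of_dense
    rw [Scheme.Opens.range_ι]
    exact V₀.isOpen.dense ⟨_, hη⟩
  have hgen : GeometricallyIrreducible (g.fiberToSpecResidueField (genericPoint ↑(V₀ : Scheme.{u}))) := by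
    have : genericPoint ↑(V₀ : Scheme.{u}) ∈ {y' : ↑(V₀ : Scheme.{u}) |
        GeometricallyIrreducible (g.fiberToSpecResidueField y')} := by
      rw [hE, Set.mem_preimage, hηη]
      exact h
    exact this
  obtain ⟨V', hV'η, hV'⟩ := aff g hgen
  refine ⟨V₀.ι ''ᵁ V', ⟨genericPoint ↑(V₀ : Scheme.{u}), hV'η, hηη⟩, ?_⟩
  rintro _ ⟨y', hy', rfl⟩
  have : y' ∈ {y' : ↑(V₀ : Scheme.{u}) | GeometricallyIrreducible (g.fiberToSpecResidueField y')} := hV' y' hy'
  rw [hE] at this
  exact this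

/-- Two open subsets of the source meeting in the generic fibre meet in all fibres near the generic
point. -/
theorem exists_open_inter_fiber_nonempty {X Y : Scheme.{u}} (f : X ⟶ Y) [IrreducibleSpace ↑Y]
    [LocallyOfFiniteType f] (U U' : X.Opens)
    (h : ∃ x, x ∈ U ∧ x ∈ U' ∧ f x = genericPoint ↑Y) :
    ∃ V : Y.Opens, genericPoint ↑Y ∈ V ∧ ∀ y ∈ V, ∃ x, x ∈ U ∧ x ∈ U' ∧ f x = y := by
  obtain ⟨x, hxU, hxU', hfx⟩ := h
  have hη : genericPoint ↑Y ∈ Set.range ((U ⊓ U').ι ≫ f) :=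
    ⟨⟨x, hxU, hxU'⟩, hfx⟩
  obtain ⟨V, hVne, hV⟩ := Groth.Agent.H20.GenFibre.exists_open_subset_range ((U ⊓ U').ι ≫ f) hη
  refine ⟨V, genericPoint_mem_of_nonempty V.isOpen hVne, fun y hy => ?_⟩
  obtain ⟨t, rfl⟩ := hV hy
  exact ⟨t.1, t.2.1, t.2.2, rfl⟩

/-- Pointwise form of the statement of S0419, assuming its affine case. -/
theorem core_pointwise_of_affCore (aff : AffCoreHyp.{u}) {X Y : Scheme.{u}} (f : X ⟶ Y)
    [IrreducibleSpace ↑Y] [LocallyOfFiniteType f] [QuasiCompact f]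
    (h : GeometricallyIrreducible (f.fiberToSpecResidueField (genericPoint ↑Y))) :
    ∃ V : Y.Opens, genericPoint ↑Y ∈ V ∧
      ∀ y ∈ V, GeometricallyIrreducible (f.fiberToSpecResidueField y) := by
  classical
  -- an affine open neighbourhood of the generic point
  obtain ⟨_, ⟨V₀, hV₀, rfl⟩, hηV, -⟩ :=
    Y.isBasis_affineOpens.exists_subset_of_mem_open (Set.mem_univ (genericPoint ↑Y)) isOpen_univ
  have hV₀ : IsAffineOpen V₀ := hV₀
  have hηV : genericPoint ↑Y ∈ V₀ := hηV
  have hc : IsCompact ((f ⁻¹ᵁ V₀ : X.Opens) : Set X) :=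
    QuasiCompact.isCompact_preimage _ V₀.isOpen hV₀.isCompact
  obtain ⟨s, hs, hcov⟩ := isCompact_iff_finite_and_eq_biUnion_affineOpens.mp hc
  have hle : ∀ U ∈ s, ((U : X.affineOpens) : X.Opens) ≤ f ⁻¹ᵁ V₀ := fun U hU => by
    rw [hcov]
    exact le_iSup₂ (f := fun (i : X.affineOpens) (_ : i ∈ s) => (i : X.Opens)) U hU
  have hmem : ∀ x : X, f x ∈ V₀ → ∃ U ∈ s, x ∈ (U : X.Opens) := by
    intro x hx
    have hx' : x ∈ (f ⁻¹ᵁ V₀ : X.Opens) := hx
    rw [hcov] at hx'
    simpa using hx'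
  -- the generic fibre is irreducible
  haveI : Subsingleton ↥(Spec (Y.residueField (genericPoint ↑Y))) :=
    inferInstanceAs (Subsingleton (PrimeSpectrum (Y.residueField (genericPoint ↑Y))))
  haveI : IrreducibleSpace ↑(f.fiber (genericPoint ↑Y)) :=
    GeometricallyIrreducible.irreducibleSpace_of_subsingleton
      (f.fiberToSpecResidueField (genericPoint ↑Y))
  have hfib : ∀ (y : Y) (w : ↑(f.fiber y)), f (f.fiberι y w) = y := by
    intro y w
    have : f.fiberι y w ∈ Set.range (f.fiberι y) := ⟨w, rfl⟩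
    rw [f.range_fiberι] at this
    exact this
  -- the pieces meeting the generic fibre
  let s' : Set X.affineOpens := {U | U ∈ s ∧ ∃ x, x ∈ (U : X.Opens) ∧ f x = genericPoint ↑Y}
  have hs' : s'.Finite := hs.subset (fun U hU => hU.1)
  haveI : Finite ↥s' := hs'.to_subtype
  have hB : ∀ U : ↥s', ∃ V : Y.Opens, genericPoint ↑Y ∈ V ∧ ∀ y ∈ V,
      GeometricallyIrreducible (((U.1 : X.Opens).ι ≫ f).fiberToSpecResidueField y) := by
    intro U
    obtain ⟨hUs, x, hxU, hfx⟩ := U.2
    refine affCore_piece aff f hV₀ hηV U.1.2 (hle U.1 hUs) ?_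
    exact geomIrr_fiber_of_isOpenImmersion f (U.1 : X.Opens).ι (genericPoint ↑Y) h
      ⟨⟨x, hxU⟩, hfx⟩
  choose VB hVBη hVB using hB
  -- pairwise intersections
  have hC : ∀ p : ↥s' × ↥s', ∃ V : Y.Opens, genericPoint ↑Y ∈ V ∧ ∀ y ∈ V,
      ∃ x, x ∈ (p.1.1 : X.Opens) ∧ x ∈ (p.2.1 : X.Opens) ∧ f x = y := by
    rintro ⟨U, U'⟩
    apply exists_open_inter_fiber_nonempty
    obtain ⟨-, x, hxU, hfx⟩ := U.2
    obtain ⟨-, x', hx'U', hfx'⟩ := U'.2
    have hx : x ∈ Set.range (f.fiberι (genericPoint ↑Y)) := by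
      rw [f.range_fiberι]; exact hfx
    have hx' : x' ∈ Set.range (f.fiberι (genericPoint ↑Y)) := by
      rw [f.range_fiberι]; exact hfx'
    obtain ⟨w, rfl⟩ := hx
    obtain ⟨w', rfl⟩ := hx'
    obtain ⟨z, hzU, hzU'⟩ := nonempty_preirreducible_inter
      (s := (f.fiberι (genericPoint ↑Y)) ⁻¹' ((U.1 : X.Opens) : Set X))
      (t := (f.fiberι (genericPoint ↑Y)) ⁻¹' ((U'.1 : X.Opens) : Set X))
      ((U.1 : X.Opens).isOpen.preimage (f.fiberι (genericPoint ↑Y)).continuous)
      ((U'.1 : X.Opens).isOpen.preimage (f.fiberι (genericPoint ↑Y)).continuous)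
      ⟨w, hxU⟩ ⟨w', hx'U'⟩
    exact ⟨f.fiberι (genericPoint ↑Y) z, hzU, hzU', hfib _ z⟩
  choose VC hVCη hVC using hC
  -- the complement of the pieces meeting the generic fibre
  let Z : Set X := (⋃ U : ↥s', ((U.1 : X.Opens) : Set X))ᶜ
  have hZ : IsClosed Z := (isOpen_iUnion fun U : ↥s' => (U.1 : X.Opens).isOpen).isClosed_compl
  have hZη : ∀ x ∈ Z, f x ≠ genericPoint ↑Y := by
    intro x hxZ hfx
    apply hxZ
    obtain ⟨U, hUs, hxU⟩ := hmem x (by rw [hfx]; exact hηV)
    exact Set.mem_iUnion.mpr ⟨⟨U, hUs, x, hxU, hfx⟩, hxU⟩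
  obtain ⟨V₁, hV₁ne, hV₁⟩ := Groth.Agent.H20.GenFibre.exists_open_preimage_disjoint f Z hZ hZη
  have hV₁η : genericPoint ↑Y ∈ V₁ := genericPoint_mem_of_nonempty V₁.isOpen hV₁ne
  -- the open set
  let W : Set ↑Y := ((V₁ : Set ↑Y) ∩ ⋂ U, (VB U : Set ↑Y)) ∩ ⋂ p, (VC p : Set ↑Y)
  have hWo : IsOpen W :=
    (V₁.isOpen.inter (isOpen_iInter_of_finite fun U => (VB U).isOpen)).inter
      (isOpen_iInter_of_finite fun p => (VC p).isOpen)
  refine ⟨⟨W, hWo⟩, ⟨⟨hV₁η, Set.mem_iInter.mpr hVBη⟩, Set.mem_iInter.mpr hVCη⟩, fun y hy => ?_⟩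
  obtain ⟨⟨hy₁, hyB⟩, hyC⟩ := hy
  rw [Set.mem_iInter] at hyB hyC
  haveI : Nonempty ↥s' := by
    obtain ⟨w⟩ : Nonempty ↑(f.fiber (genericPoint ↑Y)) := inferInstance
    have hfw := hfib _ w
    obtain ⟨U, hUs, hxU⟩ := hmem (f.fiberι (genericPoint ↑Y) w) (by rw [hfw]; exact hηV)
    exact ⟨⟨U, hUs, _, hxU, hfw⟩⟩
  haveI : Subsingleton ↥(Spec (Y.residueField y)) :=
    inferInstanceAs (Subsingleton (PrimeSpectrum (Y.residueField y)))
  refine geomIrred_of_open_cover (f.fiberToSpecResidueField y)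
    (fun U : ↥s' => ((U.1 : X.Opens).ι ≫ f).fiber y)
    (fun U => fiberMap f (U.1 : X.Opens).ι y) ?_ ?_ ?_ ?_
  · intro U
    rw [range_fiberMap, Scheme.Opens.range_ι]
    exact (U.1 : X.Opens).isOpen.preimage (f.fiberι y).continuous
  · intro U
    rw [fiberMap_toSpec]
    exact hVB U y (hyB U)
  · rw [Set.eq_univ_iff_forall]
    intro w
    have hfw := hfib y w
    have hnZ : f.fiberι y w ∉ Z := fun hZ' => hV₁ _ hZ' (by rw [hfw]; exact hy₁)
    have hin : f.fiberι y w ∈ ⋃ U : ↥s', ((U.1 : X.Opens) : Set X) := Set.notMem_compl_iff.mp hnZ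
    obtain ⟨U, hU⟩ := Set.mem_iUnion.mp hin
    refine Set.mem_iUnion.mpr ⟨U, ?_⟩
    rw [range_fiberMap, Scheme.Opens.range_ι]
    exact hU
  · intro U U'
    obtain ⟨x, hxU, hxU', hfx⟩ := hVC (U, U') y (hyC _)
    have hxr : x ∈ Set.range (f.fiberι y) := by
      rw [f.range_fiberι]; exact hfx
    obtain ⟨w, rfl⟩ := hxr
    refine ⟨w, ?_, ?_⟩
    · rw [range_fiberMap, Scheme.Opens.range_ι]; exact hxU
    · rw [range_fiberMap, Scheme.Opens.range_ι]; exact hxU'

/-- **The statement of S0419 follows from its affine case.** -/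
theorem core_of_affCore (aff : AffCoreHyp.{u}) : CoreHyp.{u} := by
  intro X Y f _ _ _ h
  obtain ⟨V, hη, hV⟩ := core_pointwise_of_affCore aff f h
  refine ⟨V, ⟨_, hη⟩, ?_⟩
  rw [GeometricallyIrreducible.iff_geometricallyIrreducible_fiber]
  intro s
  have hE := Groth.Agent.S9764.result f V.ι (f ∣_ V) (f ⁻¹ᵁ V).ι
    (isPullback_morphismRestrict f V).flip
  have hs : s ∈ {y' : ↑(V : Scheme.{u}) |
      GeometricallyIrreducible ((f ∣_ V).fiberToSpecResidueField y')} := by
    rw [hE]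
    exact hV s.1 s.2
  exact hs

end Groth.Agent.H3.GenConn
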