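import Mathlib.RingTheory.Kaehler.TensorProduct
import Mathlib.RingTheory.TensorProduct.Quotient
import Mathlib.RingTheory.Unramified.Locus
import Mathlib.RingTheory.Nakayama

/-!
# Unramifiedness modulo an ideal spreads to a principal open neighbourhood of the closed fibre
-/

set_option autoImplicit false
universe u

namespace Groth.Agent.H3

namespace KaehlerQuot

open TensorProduct

variable {A : Type u} [CommRing A]

theorem isPushout_quotient (K : Ideal A) (S : Type u) [CommRing S] [Algebra A S] :
    Algebra.IsPushout A (A ⧸ K) S (S ⧸ K.map (algebraMap A S)) := by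
  rw [Algebra.isPushout_iff]
  refine IsBaseChange.of_equiv
    (Algebra.TensorProduct.quotIdealMapEquivQuotTensor S K).symm.toLinearEquiv fun x => ?_
  rw [AlgEquiv.toLinearEquiv_apply, AlgEquiv.symm_apply_eq]
  rfl

/-- the module of differentials of an algebra unramified modulo `K` is killed by an element
congruent to `1` modulo `K` -/
theorem exists_smul_kaehler_eq_zero (K : Ideal A) (S : Type u) [CommRing S] [Algebra A S]
    [Algebra.FiniteType A S]
    [Algebra.FormallyUnramified (A ⧸ K) (S ⧸ K.map (algebraMap A S))] :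
    ∃ j : S, j - 1 ∈ K.map (algebraMap A S) ∧ ∀ x : Ω[S⁄A], j • x = 0 := by
  have hP := isPushout_quotient K S
  let e := KaehlerDifferential.tensorKaehlerEquiv A (A ⧸ K) S (S ⧸ K.map (algebraMap A S))
  have h1 : Subsingleton ((S ⧸ K.map (algebraMap A S)) ⊗[S] Ω[S⁄A]) :=
    e.toEquiv.subsingleton
  have h2 : Subsingleton (Ω[S⁄A] ⧸ (K.map (algebraMap A S)) • (⊤ : Submodule S Ω[S⁄A])) :=
    (TensorProduct.quotTensorEquivQuotSMul Ω[S⁄A] (K.map (algebraMap A S))).symm.toEquiv.subsingleton
  rw [Submodule.Quotient.subsingleton_iff] at h2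
  have hfg : (⊤ : Submodule S Ω[S⁄A]).FG := Module.finite_def.mp inferInstance
  obtain ⟨j, hj, hj'⟩ := Submodule.exists_sub_one_mem_and_smul_eq_zero_of_fg_of_le_smul
    (K.map (algebraMap A S)) (⊤ : Submodule S Ω[S⁄A]) hfg (by rw [h2])
  exact ⟨j, hj, fun x => hj' x trivial⟩

/-- an algebra unramified modulo `K` is unramified on a principal open neighbourhood of `V(KS)` -/
theorem exists_formallyUnramified_away (K : Ideal A) (S : Type u) [CommRing S] [Algebra A S]
    [Algebra.FiniteType A S]
    [Algebra.FormallyUnramified (A ⧸ K) (S ⧸ K.map (algebraMap A S))] :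
    ∃ j : S, j - 1 ∈ K.map (algebraMap A S) ∧
      (PrimeSpectrum.basicOpen j : Set (PrimeSpectrum S)) ⊆ Algebra.unramifiedLocus A S := by
  obtain ⟨j, hj, hj'⟩ := exists_smul_kaehler_eq_zero K S
  refine ⟨j, hj, ?_⟩
  intro p hp
  rw [Algebra.unramifiedLocus_eq_compl_support, Set.mem_compl_iff, Module.notMem_support_iff']
  intro m
  exact ⟨j, hp, hj' m⟩

end KaehlerQuot

end Groth.Agent.H3
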