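import Groth.Agent.H3.HFlatModel
import Groth.Agent.H3.KaehlerQuot
import Mathlib.RingTheory.Etale.Locus

/-!
# From flatness of a relative henselization and étaleness of its reduction to an étale model
-/

set_option autoImplicit false
universe u

namespace Groth.Agent.H3

namespace HFlatEtale

open Hens2 TensorProduct

variable {A : Type u} [CommRing A] (I : Ideal A)
variable {R : Type u} [CommRing R] [Algebra A R]
variable {B : Type u} [CommRing B] [Algebra R B] [Algebra A B] [IsScalarTower A R B]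

/-- an étale étale-neighbourhood of `(R, IR)` -/
theorem exists_etale_nbhd (hB : IsPairHenselization R (I.map (algebraMap A R)) B)
    [Algebra.FinitePresentation A R] [Module.Flat A B] {n : ℕ} (hn : n ≠ 0)
    [Algebra.FormallyEtale (A ⧸ I ^ n) (B ⧸ (I ^ n).map (algebraMap A B))] :
    ∃ j : R, j - 1 ∈ I.map (algebraMap A R) ∧ Algebra.Etale A (Localization.Away j) := by
  have hsm : Algebra.FormallySmooth (A ⧸ I ^ n) (B ⧸ (I ^ n).map (algebraMap A B)) :=
    inferInstance
  obtain ⟨j₁, hj₁, h1⟩ := HFlatSmooth.exists_smooth_nbhd I hB hn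
  rw [← Algebra.basicOpen_subset_smoothLocus_iff_smooth] at h1
  have hur : Algebra.FormallyUnramified (A ⧸ I ^ n) (R ⧸ (I ^ n).map (algebraMap A R)) :=
    Algebra.FormallyUnramified.of_equiv (HensQuot.quotEquiv I hB hn).symm
  obtain ⟨j₂, hj₂, h2⟩ := KaehlerQuot.exists_formallyUnramified_away (I ^ n) R
  have hj₂' : j₂ - 1 ∈ I.map (algebraMap A R) :=
    Ideal.map_mono (Ideal.pow_le_self hn) hj₂
  refine ⟨j₁ * j₂, ?_, ?_⟩
  · have : j₁ * j₂ - 1 = j₁ * (j₂ - 1) + (j₁ - 1) := by ring
    rw [this]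
    exact Ideal.add_mem _ (Ideal.mul_mem_left _ _ hj₂') hj₁
  · rw [← Algebra.basicOpen_subset_etaleLocus_iff_etale,
      Algebra.etaleLocus_eq_unramfiedLocus_inter_smoothLocus]
    intro p hp
    rw [PrimeSpectrum.basicOpen_mul] at hp
    exact ⟨h2 hp.2, h1 hp.1⟩

end HFlatEtale

end Groth.Agent.H3
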