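import Groth.Agent.H3.HensFlatMain
import Groth.Agent.H10.FlatDescent
import Mathlib.RingTheory.Flat.FaithfullyFlat.Basic
import Mathlib.RingTheory.Flat.Stability
import Mathlib.RingTheory.LocalRing.ResidueField.Ideal

/-!
# Flatness of `R` at the primes of `V(IR)` from flatness of the henselization of `(R, IR)`
-/

set_option autoImplicit false
universe u

namespace Groth.Agent.H3

namespace HFlatLocal

open Hens2 TensorProduct IsLocalRing

/-- a flat algebra over a local ring with a ring map to a nontrivial ring killing the maximal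
ideal is faithfully flat -/
theorem faithfullyFlat_of_flat_of_map {R T k : Type*} [CommRing R] [IsLocalRing R] [CommRing T]
    [Algebra R T] [Module.Flat R T] [CommRing k] [Nontrivial k] (φ : T →+* k)
    (hφ : ∀ x ∈ maximalIdeal R, φ (algebraMap R T x) = 0) : Module.FaithfullyFlat R T := by
  refine ⟨fun m hm htop => ?_⟩
  have hm' : m = maximalIdeal R := IsLocalRing.eq_maximalIdeal hm
  have h1 : (1 : T) ∈ m • (⊤ : Submodule R T) := by rw [htop]; trivial
  have h2 : ∀ t ∈ m • (⊤ : Submodule R T), φ t = 0 := by
    intro t ht
    refine Submodule.smul_induction_on ht ?_ ?_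
    · intro r hr t _
      rw [Algebra.smul_def, map_mul, hφ r (hm' ▸ hr), zero_mul]
    · intro x y hx hy
      rw [map_add, hx, hy, add_zero]
  have h3 := h2 1 h1
  rw [map_one] at h3
  exact one_ne_zero h3

variable {A : Type u} [CommRing A] (I : Ideal A)
variable {R : Type u} [CommRing R] [Algebra A R]
variable {B : Type u} [CommRing B] [Algebra R B] [Algebra A B] [IsScalarTower A R B]

theorem flat_localization (hB : IsPairHenselization R (I.map (algebraMap A R)) B)
    [Module.Flat A B] (q : Ideal R) [q.IsPrime] (hq : I.map (algebraMap A R) ≤ q) :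
    Module.Flat A (Localization.AtPrime q) := by
  let Rq := Localization.AtPrime q
  let κ := ResidueField Rq
  have hflatR : Module.Flat R B := HensFlatMain.flat hB
  let T := Rq ⊗[R] B
  -- the retraction `B → R / IR`
  obtain ⟨g₀, hg₀, -⟩ := hB.2 (R ⧸ I.map (algebraMap A R)) ⊥ (Ideal.Quotient.mk _)
    (PairHens.henselianRing_bot _) (by rw [Ideal.map_quotient_self])
  let l : (R ⧸ I.map (algebraMap A R)) →+* κ :=
    Ideal.Quotient.lift _ (algebraMap R κ) (by
      intro a ha
      rw [IsScalarTower.algebraMap_apply R Rq κ]
      change residue Rq (algebraMap R Rq a) = 0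
      rw [residue_eq_zero_iff]
      exact (IsLocalization.AtPrime.to_map_mem_maximal_iff Rq q a).mpr (hq ha))
  let g : B →ₐ[R] κ :=
    { toRingHom := l.comp g₀
      commutes' := by
        intro r
        have h1 : g₀ (algebraMap R B r) = Ideal.Quotient.mk _ r :=
          congrArg (fun f : R →+* _ => f r) hg₀
        change l (g₀ (algebraMap R B r)) = _
        rw [h1]
        rfl }
  let φ : T →ₐ[Rq] κ :=
    Algebra.TensorProduct.lift (Algebra.ofId Rq κ) g (fun _ _ => Commute.all _ _)
  have hff : Module.FaithfullyFlat Rq T := by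
    apply faithfullyFlat_of_flat_of_map φ.toRingHom
    intro x hx
    change φ (algebraMap Rq T x) = 0
    rw [φ.commutes]
    exact (residue_eq_zero_iff x).mpr hx
  -- flatness over `A`
  have hflatB : Module.Flat B (B ⊗[R] Rq) := inferInstance
  have hflatA' : Module.Flat A (B ⊗[R] Rq) := Module.Flat.trans A B (B ⊗[R] Rq)
  have hflatA : Module.Flat A T := by
    refine Module.Flat.of_linearEquiv
      (((TensorProduct.comm R B Rq).restrictScalars A).symm : T ≃ₗ[A] B ⊗[R] Rq)
  exact Groth.Agent.H10.flat_of_flat_of_faithfullyFlat A Rq T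

end HFlatLocal

end Groth.Agent.H3
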