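import Groth.Agent.H3.HFlatSmooth

/-!
# Passing to a principal open neighbourhood of `V(J)` inside a henselization
-/

set_option autoImplicit false
universe u

namespace Groth.Agent.H3

namespace HFlatModel

open Hens2 TensorProduct

variable {R : Type u} [CommRing R] {J : Ideal R}
variable {B : Type u} [CommRing B] [Algebra R B]

/-- an element congruent to `1` modulo `J` becomes a unit in the henselization -/
theorem isUnit_algebraMap (hB : IsPairHenselization R J B) (j : R) (hj : j - 1 ∈ J) :
    IsUnit (algebraMap R B j) := by
  have h1 : algebraMap R B j - 1 ∈ J.map (algebraMap R B) := by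
    have := Ideal.mem_map_of_mem (algebraMap R B) hj
    rwa [map_sub, map_one] at this
  have h2 : algebraMap R B j - 1 ∈ Ideal.jacobson ⊥ := hB.1.jac h1
  have h3 := (Ideal.mem_jacobson_bot.mp h2) 1
  rw [mul_one, sub_add_cancel] at h3
  exact h3

/-- the henselization of `(R, J)` is the henselization of `(R_j, J R_j)` for `j ≡ 1 mod J` -/
theorem exists_algebra_away (hB : IsPairHenselization R J B) (j : R) (hj : j - 1 ∈ J) :
    ∃ (_ : Algebra (Localization.Away j) B), IsScalarTower R (Localization.Away j) B ∧
      IsPairHenselization (Localization.Away j) (J.map (algebraMap R (Localization.Away j))) B := by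
  have hu : IsUnit ((Algebra.ofId R B) j) := isUnit_algebraMap hB j hj
  let ψ : Localization.Away j →ₐ[R] B := IsLocalization.Away.liftAlgHom j hu
  let _ : Algebra (Localization.Away j) B := ψ.toRingHom.toAlgebra
  have hT : IsScalarTower R (Localization.Away j) B :=
    IsScalarTower.of_algebraMap_eq fun a => (ψ.commutes a).symm
  refine ⟨inferInstance, hT, ?_⟩
  have hN : EtNbhd.IsNbhd J (Localization.Away j) :=
    (EtNbhd.IsNbhd.self (I := J)).away j (by simpa using hj)
  exact EtNbhd.isPairHenselization_nbhd hB hN

end HFlatModel

end Groth.Agent.H3
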