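import Groth.Agent.H3.HensFlatMain
import Mathlib.RingTheory.Ideal.Over

/-!
# Quotients of a relative henselization by powers of the base ideal

For `A → R → B` with `B` a henselization of `(R, IR)`, the map
`R / I^n R → B / I^n B` is an isomorphism of `A / I^n`-algebras.
-/

set_option autoImplicit false
universe u

namespace Groth.Agent.H3

namespace HensQuot

open Hens2

variable {A : Type u} [CommRing A] (I : Ideal A)
variable {R : Type u} [CommRing R] [Algebra A R]
variable {B : Type u} [CommRing B] [Algebra R B] [Algebra A B] [IsScalarTower A R B]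

omit [Algebra A B] [IsScalarTower A R B] in
theorem map_pow_eq (n : ℕ) :
    ((I.map (algebraMap A R)) ^ n) = (I ^ n).map (algebraMap A R) := (Ideal.map_pow _ _ _).symm

theorem map_map_eq (K : Ideal A) :
    (K.map (algebraMap A R)).map (algebraMap R B) = K.map (algebraMap A B) := by
  rw [Ideal.map_map, ← IsScalarTower.algebraMap_eq]

/-- The comparison map `R / K R → B / K B`. -/
noncomputable def quotMap (K : Ideal A) :
    (R ⧸ K.map (algebraMap A R)) →ₐ[A ⧸ K] (B ⧸ K.map (algebraMap A B)) where
  __ := Ideal.quotientMap (K.map (algebraMap A B)) (algebraMap R B) (by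
      rw [← Ideal.map_le_iff_le_comap, map_map_eq])
  commutes' x := by
    obtain ⟨a, rfl⟩ := Ideal.Quotient.mk_surjective x
    change Ideal.quotientMap _ _ _ (Ideal.Quotient.mk _ (algebraMap A R a)) =
      Ideal.Quotient.mk _ (algebraMap A B a)
    rw [Ideal.quotientMap_mk, ← IsScalarTower.algebraMap_apply]

theorem quotMap_mk (K : Ideal A) (x : R) :
    quotMap (B := B) K (Ideal.Quotient.mk _ x) = Ideal.Quotient.mk _ (algebraMap R B x) := rfl

theorem quotMap_pow_bijective (hB : IsPairHenselization R (I.map (algebraMap A R)) B) {n : ℕ}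
    (hn : n ≠ 0) : Function.Bijective (quotMap (R := R) (B := B) (I ^ n)) := by
  have hB' := HensFlatMain.isPairHenselization_pow hB hn
  rw [map_pow_eq] at hB'
  constructor
  · rw [injective_iff_map_eq_zero]
    intro x hx
    obtain ⟨a, rfl⟩ := Ideal.Quotient.mk_surjective x
    rw [quotMap_mk, Ideal.Quotient.eq_zero_iff_mem, ← map_map_eq (R := R)] at hx
    exact Ideal.Quotient.eq_zero_iff_mem.mpr (PairHens.mem_of_algebraMap_mem hB' hx)
  · intro y
    obtain ⟨b, rfl⟩ := Ideal.Quotient.mk_surjective y
    obtain ⟨a, ha⟩ := PairHens.exists_sub_mem hB' b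
    refine ⟨Ideal.Quotient.mk _ a, ?_⟩
    rw [quotMap_mk]
    rw [map_map_eq] at ha
    exact (Ideal.Quotient.eq.mpr ha).symm

/-- `R / I^n R ≃ B / I^n B` as `A / I^n`-algebras. -/
noncomputable def quotEquiv (hB : IsPairHenselization R (I.map (algebraMap A R)) B) {n : ℕ}
    (hn : n ≠ 0) :
    (R ⧸ (I ^ n).map (algebraMap A R)) ≃ₐ[A ⧸ I ^ n] (B ⧸ (I ^ n).map (algebraMap A B)) :=
  AlgEquiv.ofBijective (quotMap (I ^ n)) (quotMap_pow_bijective I hB hn)

end HensQuot

end Groth.Agent.H3
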