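import Groth.Agent.H3.HFlatLocal
import Groth.Agent.H3.SmoothAtFlat
import Groth.Agent.H3.HensQuot
import Groth.Agent.H3.EtNbhdHens
import Mathlib.RingTheory.Smooth.Locus
import Mathlib.RingTheory.TensorProduct.Quotient

/-!
# From flatness of a relative henselization and smoothness of its reduction to a smooth model
-/

set_option autoImplicit false
universe u

namespace Groth.Agent.H3

namespace HFlatSmooth

open Hens2 TensorProduct

variable {A : Type u} [CommRing A]

/-- the fibre at a prime containing `K` of an algebra that is smooth modulo `K` is smooth -/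
theorem formallySmooth_fiber (K : Ideal A) (p : Ideal A) [p.IsPrime] (hKp : K ≤ p)
    (R : Type u) [CommRing R] [Algebra A R]
    [Algebra.FormallySmooth (A ⧸ K) (R ⧸ K.map (algebraMap A R))] :
    Algebra.FormallySmooth p.ResidueField (p.Fiber R) := by
  let κ := p.ResidueField
  letI : Algebra (A ⧸ K) κ := (Ideal.Quotient.lift K (algebraMap A κ) (by
    intro a ha
    exact (Ideal.algebraMap_residueField_eq_zero).mpr (hKp ha))).toAlgebra
  have : IsScalarTower A (A ⧸ K) κ := IsScalarTower.of_algebraMap_eq' rfl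
  let e₁ : (R ⧸ K.map (algebraMap A R)) ≃ₐ[A ⧸ K] (A ⧸ K) ⊗[A] R :=
    Algebra.TensorProduct.quotIdealMapEquivQuotTensor R K
  let e₂ : κ ⊗[A ⧸ K] (R ⧸ K.map (algebraMap A R)) ≃ₐ[κ] κ ⊗[A ⧸ K] ((A ⧸ K) ⊗[A] R) :=
    Algebra.TensorProduct.congr AlgEquiv.refl e₁
  let e₃ : κ ⊗[A ⧸ K] ((A ⧸ K) ⊗[A] R) ≃ₐ[κ] κ ⊗[A] R :=
    Algebra.TensorProduct.cancelBaseChange A (A ⧸ K) κ κ R
  have h1 : Algebra.FormallySmooth κ (κ ⊗[A ⧸ K] (R ⧸ K.map (algebraMap A R))) := inferInstance
  exact Algebra.FormallySmooth.of_equiv (e₂.trans e₃)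

variable (I : Ideal A)
variable {R : Type u} [CommRing R] [Algebra A R]
variable {B : Type u} [CommRing B] [Algebra R B] [Algebra A B] [IsScalarTower A R B]

/-- `R` is smooth over `A` at the primes of `V(IR)` -/
theorem isSmoothAt (hB : IsPairHenselization R (I.map (algebraMap A R)) B)
    [Algebra.FinitePresentation A R] [Module.Flat A B] {n : ℕ} (hn : n ≠ 0)
    [Algebra.FormallySmooth (A ⧸ I ^ n) (B ⧸ (I ^ n).map (algebraMap A B))]
    (q : Ideal R) [q.IsPrime] (hq : I.map (algebraMap A R) ≤ q) : Algebra.IsSmoothAt A q := by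
  have hfl : Module.Flat A (Localization.AtPrime q) := HFlatLocal.flat_localization I hB q hq
  have hfs : Algebra.FormallySmooth (A ⧸ I ^ n) (R ⧸ (I ^ n).map (algebraMap A R)) :=
    Algebra.FormallySmooth.of_equiv (HensQuot.quotEquiv I hB hn).symm
  have hIp : I ^ n ≤ q.under A := by
    refine (Ideal.pow_le_self hn).trans ?_
    intro a ha
    exact hq (Ideal.mem_map_of_mem _ ha)
  have := formallySmooth_fiber (I ^ n) (q.under A) hIp R
  exact SmoothAtFlat.isSmoothAt_of_flat_of_formallySmooth_fiber (q.under A) q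

/-- a smooth étale neighbourhood of `(R, IR)` -/
theorem exists_smooth_nbhd (hB : IsPairHenselization R (I.map (algebraMap A R)) B)
    [Algebra.FinitePresentation A R] [Module.Flat A B] {n : ℕ} (hn : n ≠ 0)
    [Algebra.FormallySmooth (A ⧸ I ^ n) (B ⧸ (I ^ n).map (algebraMap A B))] :
    ∃ j : R, j - 1 ∈ I.map (algebraMap A R) ∧ Algebra.Smooth A (Localization.Away j) := by
  have hU : IsOpen (Algebra.smoothLocus A R) := Algebra.isOpen_smoothLocus
  obtain ⟨j, hj, hjU⟩ := AwayQuot.exists_basicOpen_subset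
    (I.map (algebraMap A R)) (Algebra.smoothLocus A R) hU (by
      intro p hp
      exact isSmoothAt I hB hn p.asIdeal hp)
  rw [Algebra.basicOpen_subset_smoothLocus_iff_smooth] at hjU
  exact ⟨j, hj, hjU⟩

end HFlatSmooth

end Groth.Agent.H3
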