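import Mathlib.RingTheory.Smooth.Basic
import Mathlib.RingTheory.Unramified.Basic
import Mathlib.RingTheory.Etale.Basic
import Mathlib.RingTheory.Ideal.Over

/-!
# Infinitesimal lifting against algebras killed by an ideal

For an ideal `K` of `A` and an `A`-algebra `B`, the lifting properties of `B` against surjections
with nilpotent kernel of `A`-algebras killed by `K` are equivalent to formal smoothness /
unramifiedness of `B / K B` over `A / K`.
-/

set_option autoImplicit false
universe u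

namespace Groth.Agent.H3

namespace HFormal

variable {A : Type u} [CommRing A] (K : Ideal A) (B : Type u) [CommRing B] [Algebra A B]

/-- existence of lifts against `A`-algebras killed by `K` -/
def LiftProp : Prop :=
  ∀ (E C : Type u) [CommRing E] [CommRing C] [Algebra A E] [Algebra A C],
    K.map (algebraMap A E) = ⊥ → K.map (algebraMap A C) = ⊥ →
    ∀ (p : E →ₐ[A] C), Function.Surjective p → (∃ M : ℕ, 1 ≤ M ∧ RingHom.ker p ^ M = ⊥) →
    ∀ u : B →ₐ[A] C, ∃ v : B →ₐ[A] E, p.comp v = u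

/-- uniqueness of lifts against `A`-algebras killed by `K` -/
def UniqueProp : Prop :=
  ∀ (E C : Type u) [CommRing E] [CommRing C] [Algebra A E] [Algebra A C],
    K.map (algebraMap A E) = ⊥ → K.map (algebraMap A C) = ⊥ →
    ∀ (p : E →ₐ[A] C), Function.Surjective p → (∃ M : ℕ, 1 ≤ M ∧ RingHom.ker p ^ M = ⊥) →
    ∀ v₁ v₂ : B →ₐ[A] E, p.comp v₁ = p.comp v₂ → v₁ = v₂

variable {K B}

theorem algebraMap_eq_zero_of_map_eq_bot {E : Type u} [CommRing E] [Algebra A E]
    (hE : K.map (algebraMap A E) = ⊥) {a : A} (ha : a ∈ K) : algebraMap A E a = 0 := by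
  have : algebraMap A E a ∈ K.map (algebraMap A E) := Ideal.mem_map_of_mem _ ha
  rwa [hE, Ideal.mem_bot] at this

/-- the `A/K`-algebra structure on an `A`-algebra killed by `K` -/
noncomputable def quotAlgebra {E : Type u} [CommRing E] [Algebra A E]
    (hE : K.map (algebraMap A E) = ⊥) : Algebra (A ⧸ K) E :=
  (Ideal.Quotient.lift K (algebraMap A E)
    (fun _ ha => algebraMap_eq_zero_of_map_eq_bot hE ha)).toAlgebra

theorem quotAlgebra_tower {E : Type u} [CommRing E] [Algebra A E]
    (hE : K.map (algebraMap A E) = ⊥) :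
    letI := quotAlgebra hE
    IsScalarTower A (A ⧸ K) E :=
  letI := quotAlgebra hE
  IsScalarTower.of_algebraMap_eq' rfl

theorem algHom_eq_zero_of_mem {E : Type u} [CommRing E] [Algebra A E]
    (hE : K.map (algebraMap A E) = ⊥) (v : B →ₐ[A] E) {b : B}
    (hb : b ∈ K.map (algebraMap A B)) : v b = 0 := by
  have h1 : K.map (algebraMap A B) ≤ RingHom.ker v.toRingHom := by
    rw [Ideal.map_le_iff_le_comap]
    intro a ha
    rw [Ideal.mem_comap, RingHom.mem_ker]
    change v (algebraMap A B a) = 0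
    rw [v.commutes]
    exact algebraMap_eq_zero_of_map_eq_bot hE ha
  exact h1 hb

/-- an `A`-algebra map from `B` to an algebra killed by `K`, as an `A/K`-algebra map on `B/KB` -/
noncomputable def descend {E : Type u} [CommRing E] [Algebra A E] [Algebra (A ⧸ K) E]
    [IsScalarTower A (A ⧸ K) E] (hE : K.map (algebraMap A E) = ⊥) (v : B →ₐ[A] E) :
    (B ⧸ K.map (algebraMap A B)) →ₐ[A ⧸ K] E :=
  AlgHom.extendScalarsOfSurjective (R := A) (S := A ⧸ K) Ideal.Quotient.mk_surjective
    (Ideal.Quotient.liftₐ (K.map (algebraMap A B)) v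
      (fun _ hb => algHom_eq_zero_of_mem hE v hb))

theorem descend_mk {E : Type u} [CommRing E] [Algebra A E] [Algebra (A ⧸ K) E]
    [IsScalarTower A (A ⧸ K) E] (hE : K.map (algebraMap A E) = ⊥) (v : B →ₐ[A] E) (b : B) :
    descend hE v (Ideal.Quotient.mk _ b) = v b := rfl

/-- the inverse of `descend` -/
noncomputable def ascend {E : Type u} [CommRing E] [Algebra A E] [Algebra (A ⧸ K) E]
    [IsScalarTower A (A ⧸ K) E] (w : (B ⧸ K.map (algebraMap A B)) →ₐ[A ⧸ K] E) : B →ₐ[A] E :=
  (w.restrictScalars A).comp (Ideal.Quotient.mkₐ A (K.map (algebraMap A B)))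

theorem ascend_apply {E : Type u} [CommRing E] [Algebra A E] [Algebra (A ⧸ K) E]
    [IsScalarTower A (A ⧸ K) E] (w : (B ⧸ K.map (algebraMap A B)) →ₐ[A ⧸ K] E) (b : B) :
    ascend w b = w (Ideal.Quotient.mk _ b) := rfl

theorem map_eq_bot_of_tower {E : Type u} [CommRing E] [Algebra A E] [Algebra (A ⧸ K) E]
    [IsScalarTower A (A ⧸ K) E] : K.map (algebraMap A E) = ⊥ := by
  rw [eq_bot_iff, Ideal.map_le_iff_le_comap]
  intro a ha
  rw [Ideal.mem_comap, Ideal.mem_bot, IsScalarTower.algebraMap_apply A (A ⧸ K) E,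
    Ideal.Quotient.algebraMap_eq, Ideal.Quotient.eq_zero_iff_mem.mpr ha, map_zero]

theorem ker_mkₐ {C' : Type u} [CommRing C'] [Algebra A C'] (J : Ideal C') :
    RingHom.ker (Ideal.Quotient.mkₐ A J) = J := by
  ext x
  exact Ideal.Quotient.eq_zero_iff_mem

theorem liftProp_of_formallySmooth
    [Algebra.FormallySmooth (A ⧸ K) (B ⧸ K.map (algebraMap A B))] : LiftProp K B := by
  intro E C _ _ _ _ hE hC p hp hnil u
  letI := quotAlgebra hE
  letI := quotAlgebra hC
  have := quotAlgebra_tower hE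
  have := quotAlgebra_tower hC
  let p' : E →ₐ[A ⧸ K] C :=
    AlgHom.extendScalarsOfSurjective (R := A) (S := A ⧸ K) Ideal.Quotient.mk_surjective p
  have hp' : Function.Surjective p' := hp
  have hnil' : IsNilpotent (RingHom.ker (p' : E →+* C)) := by
    obtain ⟨M, -, hM⟩ := hnil
    exact ⟨M, hM⟩
  let v' := Algebra.FormallySmooth.liftOfSurjective (descend hC u) p' hp' hnil'
  refine ⟨ascend v', ?_⟩
  ext b
  rw [AlgHom.comp_apply, ascend_apply]
  have := Algebra.FormallySmooth.liftOfSurjective_apply (descend hC u) p' hp' hnil'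
    (Ideal.Quotient.mk _ b)
  rw [descend_mk] at this
  exact this

theorem uniqueProp_of_formallyUnramified
    [Algebra.FormallyUnramified (A ⧸ K) (B ⧸ K.map (algebraMap A B))] : UniqueProp K B := by
  intro E C _ _ _ _ hE hC p hp hnil v₁ v₂ h
  letI := quotAlgebra hE
  letI := quotAlgebra hC
  have := quotAlgebra_tower hE
  have := quotAlgebra_tower hC
  let p' : E →ₐ[A ⧸ K] C :=
    AlgHom.extendScalarsOfSurjective (R := A) (S := A ⧸ K) Ideal.Quotient.mk_surjective p
  have hnil' : IsNilpotent (RingHom.ker (p' : E →+* C)) := by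
    obtain ⟨M, -, hM⟩ := hnil
    exact ⟨M, hM⟩
  have h1 : descend hE v₁ = descend hE v₂ := by
    apply Algebra.FormallyUnramified.lift_unique' p' hnil'
    refine AlgHom.ext fun x => ?_
    obtain ⟨b, rfl⟩ := Ideal.Quotient.mk_surjective x
    exact congrArg (fun f : B →ₐ[A] C => f b) h
  ext b
  have := congrArg (fun f => f (Ideal.Quotient.mk _ b)) h1
  simpa only [descend_mk] using this

theorem formallySmooth_of_liftProp (h : LiftProp K B) :
    Algebra.FormallySmooth (A ⧸ K) (B ⧸ K.map (algebraMap A B)) := by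
  rw [Algebra.FormallySmooth.iff_comp_surjective]
  intro C' _ _ J hJ g
  letI : Algebra A C' := ((algebraMap (A ⧸ K) C').comp (algebraMap A (A ⧸ K))).toAlgebra
  have : IsScalarTower A (A ⧸ K) C' := IsScalarTower.of_algebraMap_eq' rfl
  have hC' : K.map (algebraMap A C') = ⊥ := map_eq_bot_of_tower
  have hCJ : K.map (algebraMap A (C' ⧸ J)) = ⊥ := map_eq_bot_of_tower
  obtain ⟨v, hv⟩ := h C' (C' ⧸ J) hC' hCJ (Ideal.Quotient.mkₐ A J)
    (Ideal.Quotient.mkₐ_surjective A J) ⟨2, by norm_num, by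
      rw [ker_mkₐ]; exact hJ⟩ (ascend g)
  refine ⟨descend hC' v, ?_⟩
  refine AlgHom.ext fun x => ?_
  obtain ⟨b, rfl⟩ := Ideal.Quotient.mk_surjective x
  have := congrArg (fun f : B →ₐ[A] C' ⧸ J => f b) hv
  exact this

theorem formallyUnramified_of_uniqueProp (h : UniqueProp K B) :
    Algebra.FormallyUnramified (A ⧸ K) (B ⧸ K.map (algebraMap A B)) := by
  rw [Algebra.FormallyUnramified.iff_comp_injective]
  intro C' _ _ J hJ f₁ f₂ hf
  letI : Algebra A C' := ((algebraMap (A ⧸ K) C').comp (algebraMap A (A ⧸ K))).toAlgebra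
  have : IsScalarTower A (A ⧸ K) C' := IsScalarTower.of_algebraMap_eq' rfl
  have hC' : K.map (algebraMap A C') = ⊥ := map_eq_bot_of_tower
  have hCJ : K.map (algebraMap A (C' ⧸ J)) = ⊥ := map_eq_bot_of_tower
  have h1 : ascend f₁ = ascend f₂ := by
    apply h C' (C' ⧸ J) hC' hCJ (Ideal.Quotient.mkₐ A J)
      (Ideal.Quotient.mkₐ_surjective A J) ⟨2, by norm_num, by
        rw [ker_mkₐ]; exact hJ⟩
    ext b
    exact congrArg (fun f => f (Ideal.Quotient.mk _ b)) hf
  refine AlgHom.ext fun x => ?_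
  obtain ⟨b, rfl⟩ := Ideal.Quotient.mk_surjective x
  exact congrArg (fun f : B →ₐ[A] C' => f b) h1

end HFormal

end Groth.Agent.H3
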