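import Groth.Agent.H3.AdicMapBij
import Groth.Agent.H3.HensFlatMain

/-!
# The henselization of a pair has the same adic completion
-/

set_option autoImplicit false
universe u

namespace Groth.Agent.H3

namespace HensCompletion

open Hens2

variable {A : Type u} [CommRing A] {I : Ideal A}
variable {B : Type u} [CommRing B] [Algebra A B]

theorem mem_pow_of_algebraMap_mem (hB : IsPairHenselization A I B) (n : ℕ) {a : A}
    (ha : algebraMap A B a ∈ (I ^ n).map (algebraMap A B)) : a ∈ I ^ n := by
  have h := (HensFlatMain.quotientMap_pow_bijective hB n).1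
  have h1 : Ideal.quotientMap ((I ^ n).map (algebraMap A B)) (algebraMap A B) Ideal.le_comap_map
      (Ideal.Quotient.mk (I ^ n) a) = 0 := by
    rw [Ideal.quotientMap_mk, Ideal.Quotient.eq_zero_iff_mem]
    exact ha
  have h2 := h (h1.trans (map_zero _).symm)
  exact Ideal.Quotient.eq_zero_iff_mem.mp h2

theorem exists_sub_mem_pow (hB : IsPairHenselization A I B) (n : ℕ) (b : B) :
    ∃ a : A, b - algebraMap A B a ∈ (I ^ n).map (algebraMap A B) := by
  obtain ⟨q, hq⟩ := (HensFlatMain.quotientMap_pow_bijective hB n).2 (Ideal.Quotient.mk _ b)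
  obtain ⟨a, rfl⟩ := Ideal.Quotient.mk_surjective q
  refine ⟨a, ?_⟩
  rw [Ideal.quotientMap_mk] at hq
  rw [← Ideal.Quotient.eq_zero_iff_mem, map_sub, hq, sub_self]

theorem map_bijective (hB : IsPairHenselization A I B) :
    Function.Bijective (AdicCompletion.map I (Algebra.linearMap A B) :
      AdicCompletion I A → AdicCompletion I B) := by
  refine AdicMapBij.map_bijective I _ ?_ ?_
  · intro n a ha
    rw [Ideal.smul_top_eq_map] at ha
    have h1 : a ∈ I ^ n := mem_pow_of_algebraMap_mem hB n ha
    rw [smul_eq_mul, Ideal.mul_top]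
    exact h1
  · intro n b
    obtain ⟨a, ha⟩ := exists_sub_mem_pow hB n b
    refine ⟨a, ?_⟩
    rw [Ideal.smul_top_eq_map]
    exact ha

end HensCompletion

end Groth.Agent.H3
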