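import Groth.Agent.H3.HensFlatMain
import Groth.Agent.H3.PairHens

/-!
# Exactness can be tested on henselizations of the local rings at primes containing `I`
-/

set_option autoImplicit false
universe u

open TensorProduct IsLocalRing

namespace Groth.Agent.H3

namespace HensExactLocal

open Hens2

theorem exists_smul_mem_range (A : Type u) [CommRing A] (I : Ideal A) (m : Ideal A) [hm : m.IsMaximal]
    (hIm : I ≤ m)
    (H : Type u) [CommRing H] [Algebra (Localization.AtPrime m) H] [Algebra A H]
    [IsScalarTower A (Localization.AtPrime m) H]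
    (hH : IsPairHenselization (Localization.AtPrime m)
      (I.map (algebraMap A (Localization.AtPrime m))) H)
    {M' M M'' : Type u} [AddCommGroup M'] [Module A M'] [AddCommGroup M] [Module A M]
    [AddCommGroup M''] [Module A M''] (f : M' →ₗ[A] M) (g : M →ₗ[A] M'')
    (hex : Function.Exact (f.baseChange H) (g.baseChange H)) (x : M) (hx : g x = 0) :
    ∃ a : A, a ∉ m ∧ a • x ∈ LinearMap.range f := by
  classical
  by_contra hcon0
  have hcon : ∀ a : A, a ∉ m → a • x ∉ LinearMap.range f := fun a ham hax => hcon0 ⟨a, ham, hax⟩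
  let 𝔞 : Ideal A := Submodule.comap (LinearMap.toSpanSingleton A M x) (LinearMap.range f)
  have h𝔞 : ∀ a : A, a ∈ 𝔞 ↔ a • x ∈ LinearMap.range f := by
    intro a
    change LinearMap.toSpanSingleton A M x a ∈ LinearMap.range f ↔ _
    rw [LinearMap.toSpanSingleton_apply]
  have h𝔞m : 𝔞 ≤ m := by
    intro a ha
    by_contra ham
    exact hcon a ham ((h𝔞 a).mp ha)
  haveI : Module.Flat (Localization.AtPrime m) H := HensFlatMain.flat hH
  haveI : Module.Flat A H := Module.Flat.trans A (Localization.AtPrime m) H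
  -- the residue field point
  have hle : (I.map (algebraMap A (Localization.AtPrime m))).map
      (residue (Localization.AtPrime m)) ≤ ⊥ := by
    rw [Ideal.map_map, Ideal.map_le_iff_le_comap]
    intro a ha
    rw [Ideal.mem_comap, Ideal.mem_bot, RingHom.comp_apply, residue_eq_zero_iff,
      IsLocalization.AtPrime.to_map_mem_maximal_iff (Localization.AtPrime m) m]
    exact hIm ha
  obtain ⟨g₀, hg₀, -⟩ := hH.2 (ResidueField (Localization.AtPrime m)) ⊥
    (residue (Localization.AtPrime m)) (PairHens.henselianRing_bot _) hle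
  have hg₀A : ∀ a : A, g₀ (algebraMap A H a) =
      algebraMap A (ResidueField (Localization.AtPrime m)) a := by
    intro a
    rw [IsScalarTower.algebraMap_apply A (Localization.AtPrime m) H,
      IsScalarTower.algebraMap_apply A (Localization.AtPrime m)
        (ResidueField (Localization.AtPrime m)), ResidueField.algebraMap_eq]
    exact congrArg (fun φ : Localization.AtPrime m →+* _ => φ (algebraMap A _ a)) hg₀
  let g₀' : H →ₐ[A] ResidueField (Localization.AtPrime m) := ⟨g₀, hg₀A⟩
  have hker : ∀ a ∈ 𝔞, (Algebra.ofId A (ResidueField (Localization.AtPrime m))) a = 0 := by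
    intro a ha
    rw [Algebra.ofId_apply, IsScalarTower.algebraMap_apply A (Localization.AtPrime m)
        (ResidueField (Localization.AtPrime m)), ResidueField.algebraMap_eq, residue_eq_zero_iff,
      IsLocalization.AtPrime.to_map_mem_maximal_iff (Localization.AtPrime m) m]
    exact h𝔞m ha
  let ψ : H ⊗[A] (A ⧸ 𝔞) →ₐ[A] ResidueField (Localization.AtPrime m) :=
    Algebra.TensorProduct.lift g₀' (Ideal.Quotient.liftₐ 𝔞 (Algebra.ofId A _) hker)
      (fun _ _ => Commute.all _ _)
  -- the injective map `A/𝔞 → M / range f`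
  let φ : (A ⧸ 𝔞) →ₗ[A] (M ⧸ LinearMap.range f) :=
    Submodule.liftQ 𝔞 (LinearMap.toSpanSingleton A _ ((LinearMap.range f).mkQ x)) (by
      intro a ha
      rw [LinearMap.mem_ker, LinearMap.toSpanSingleton_apply, ← map_smul,
        Submodule.mkQ_apply, Submodule.Quotient.mk_eq_zero]
      exact (h𝔞 a).mp ha)
  have hφinj : Function.Injective φ := by
    rw [← LinearMap.ker_eq_bot]
    apply Submodule.ker_liftQ_eq_bot
    intro a ha
    rw [LinearMap.mem_ker, LinearMap.toSpanSingleton_apply, ← map_smul,
      Submodule.mkQ_apply, Submodule.Quotient.mk_eq_zero] at ha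
    exact (h𝔞 a).mpr ha
  have hinj := Module.Flat.lTensor_preserves_injective_linearMap (M := H) φ hφinj
  -- `1 ⊗ x` comes from `H ⊗ M'`
  have h1 : (g.baseChange H) ((1 : H) ⊗ₜ[A] x) = 0 := by
    rw [LinearMap.baseChange_tmul, hx, TensorProduct.tmul_zero]
  obtain ⟨y, hy⟩ := (hex _).mp h1
  have h2 : ((LinearMap.range f).mkQ.baseChange H) ((1 : H) ⊗ₜ[A] x) = 0 := by
    rw [← hy, ← LinearMap.comp_apply, ← LinearMap.baseChange_comp, LinearMap.range_mkQ_comp,
      LinearMap.baseChange_zero, LinearMap.zero_apply]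
  have h3 : (φ.lTensor H) ((1 : H) ⊗ₜ[A] (Ideal.Quotient.mk 𝔞 1)) = 0 := by
    rw [LinearMap.lTensor_tmul]
    have : φ (Ideal.Quotient.mk 𝔞 1) = (LinearMap.range f).mkQ x := by
      change (Submodule.liftQ 𝔞 _ _) (Submodule.Quotient.mk 1) = _
      rw [Submodule.liftQ_apply, LinearMap.toSpanSingleton_apply, one_smul]
    rw [this]
    rw [LinearMap.baseChange_tmul] at h2
    exact h2
  have h4 : (1 : H) ⊗ₜ[A] (Ideal.Quotient.mk 𝔞 1) = 0 := by
    apply hinj
    rw [h3, map_zero]
  have h5 : ψ ((1 : H) ⊗ₜ[A] (Ideal.Quotient.mk 𝔞 1)) = 1 := by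
    rw [map_one]
    exact map_one ψ
  rw [h4, map_zero] at h5
  exact zero_ne_one h5

end HensExactLocal

end Groth.Agent.H3
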