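import Groth.Agent.H3.HensLim

/-!
# The universal property of the colimit of the tower
-/

set_option autoImplicit false
universe u

namespace Groth.Agent.H3

namespace HensTower

variable (A : Type u) [CommRing A] (I : Ideal A)

section

variable {C : Type*} [CommRing C] (J : Ideal C) (φ : A →+* C)

theorem map_II_le {n : ℕ} (hIJ : I.map φ ≤ J) (ψ : G A I n →+* C)
    (hψ : ψ.comp (algebraMap A (G A I n)) = φ) : (II A I n).map ψ ≤ J := by
  rw [II, Ideal.map_map, hψ]
  exact hIJ

/-- the compatible family of maps out of the tower -/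
noncomputable def family (hCJ : HenselianRing C J) (hIJ : I.map φ ≤ J) :
    ∀ n : ℕ, {ψ : G A I n →+* C // ψ.comp (algebraMap A (G A I n)) = φ}
  | 0 => ⟨φ, rfl⟩
  | n + 1 =>
    let ψn := family hCJ hIJ n
    ⟨(existsUnique_lift_succ A I n J ψn.1 hCJ (map_II_le A I J φ hIJ ψn.1 ψn.2)).choose, by
      have h := (existsUnique_lift_succ A I n J ψn.1 hCJ
        (map_II_le A I J φ hIJ ψn.1 ψn.2)).choose_spec.1
      rw [← nextHom_comp_algebraMap, ← RingHom.comp_assoc, h]
      exact ψn.2⟩

theorem family_succ_comp (hCJ : HenselianRing C J) (hIJ : I.map φ ≤ J) (n : ℕ) :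
    (family A I J φ hCJ hIJ (n + 1)).1.comp (nextHom A I n) = (family A I J φ hCJ hIJ n).1 :=
  (existsUnique_lift_succ A I n J (family A I J φ hCJ hIJ n).1 hCJ
    (map_II_le A I J φ hIJ _ (family A I J φ hCJ hIJ n).2)).choose_spec.1

theorem family_succ_unique (hCJ : HenselianRing C J) (hIJ : I.map φ ≤ J) (n : ℕ)
    (ψ : G A I (n + 1) →+* C) (hψ : ψ.comp (nextHom A I n) = (family A I J φ hCJ hIJ n).1) :
    ψ = (family A I J φ hCJ hIJ (n + 1)).1 :=
  (existsUnique_lift_succ A I n J (family A I J φ hCJ hIJ n).1 hCJ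
    (map_II_le A I J φ hIJ _ (family A I J φ hCJ hIJ n).2)).choose_spec.2 ψ hψ

theorem family_trans (hCJ : HenselianRing C J) (hIJ : I.map φ ≤ J) (m n : ℕ) (h : m ≤ n) :
    (family A I J φ hCJ hIJ n).1.comp (trans A I m n h) = (family A I J φ hCJ hIJ m).1 := by
  induction n, h using Nat.le_induction with
  | base => rw [trans_self, RingHom.comp_id]
  | succ k hk ih =>
    rw [trans_succ A I m k hk, ← RingHom.comp_assoc, family_succ_comp, ih]

theorem existsUnique_lift (hCJ : HenselianRing C J) (hIJ : I.map φ ≤ J) :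
    ∃! ψ : Lim A I →+* C, ψ.comp (algebraMap A (Lim A I)) = φ := by
  let Ψ : Lim A I →+* C :=
    Ring.DirectLimit.lift (G A I) (fun i j h => trans A I i j h) C
      (fun n => (family A I J φ hCJ hIJ n).1)
      (fun i j hij x => congrArg (fun g : G A I i →+* C => g x)
        (family_trans A I J φ hCJ hIJ i j hij))
  have hΨof : ∀ n x, Ψ (of A I n x) = (family A I J φ hCJ hIJ n).1 x := fun n x =>
    Ring.DirectLimit.lift_of _ _ _ _ _
  refine ⟨Ψ, ?_, ?_⟩
  · apply RingHom.ext
    intro a
    change Ψ (of A I 0 (algebraMap A (G A I 0) a)) = φ a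
    rw [hΨof]
    rfl
  · intro ψ hψ
    have key : ∀ n, ψ.comp (of A I n) = (family A I J φ hCJ hIJ n).1 := by
      intro n
      induction n with
      | zero =>
        apply RingHom.ext
        intro a
        have := congrArg (fun g : A →+* C => g a) hψ
        exact this
      | succ n ih =>
        apply family_succ_unique
        rw [← ih]
        apply RingHom.ext
        intro x
        change ψ (of A I (n + 1) (nextHom A I n x)) = ψ (of A I n x)
        rw [of_nextHom]
    apply Ring.DirectLimit.hom_ext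
    intro n
    apply RingHom.ext
    intro x
    change ψ (of A I n x) = Ψ (of A I n x)
    rw [hΨof, ← key]
    rfl

end

end HensTower

end Groth.Agent.H3
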