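import Groth.Agent.H3.MonicQuotFlat
import Groth.Agent.H3.HensLimUniv
import Mathlib.RingTheory.Flat.Localization

/-!
# The henselization of a pair is flat
-/

set_option autoImplicit false
universe u

namespace Groth.Agent.H3

namespace HensStep

variable (A : Type u) [CommRing A] (I : Ideal A)

theorem flat_Q : Module.Flat A (Q A I) :=
  MonicQuot.flat_range (σ := Data A I) (A := A) (F := fun s => s.1.1) (fun s => s.2.1)

theorem flat_E : Module.Flat A (E A I) := by
  have h1 : Module.Flat A (Q A I) := flat_Q A I
  have h2 : Module.Flat (Q A I) (E A I) := IsLocalization.flat (E A I) (oneAdd (JJ A I))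
  exact Module.Flat.trans A (Q A I) (E A I)

end HensStep

namespace HensTower

variable (A : Type u) [CommRing A] (I : Ideal A)

theorem flat_G (n : ℕ) : Module.Flat A (G A I n) := by
  induction n with
  | zero => exact inferInstanceAs (Module.Flat A A)
  | succ n ih =>
    have h1 : Module.Flat (stage A I n).R
        (HensStep.E (stage A I n).R (I.map (algebraMap A (stage A I n).R))) :=
      HensStep.flat_E _ _
    have h0 : Module.Flat A (stage A I n).R := ih
    let _ : Algebra A (HensStep.E (stage A I n).R (I.map (algebraMap A (stage A I n).R))) :=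
      (stage A I (n + 1)).alg
    have : IsScalarTower A (stage A I n).R
        (HensStep.E (stage A I n).R (I.map (algebraMap A (stage A I n).R))) :=
      IsScalarTower.of_algebraMap_eq' rfl
    exact Module.Flat.trans A (stage A I n).R
      (HensStep.E (stage A I n).R (I.map (algebraMap A (stage A I n).R)))

theorem of_smul (n : ℕ) (a : A) (y : G A I n) : of A I n (a • y) = a • of A I n y := by
  rw [Algebra.smul_def, Algebra.smul_def, map_mul, ← of_comp_algebraMap A I n]
  rfl

theorem trans_smul (m n : ℕ) (h : m ≤ n) (a : A) (y : G A I m) :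
    trans A I m n h (a • y) = a • trans A I m n h y := by
  rw [Algebra.smul_def, Algebra.smul_def, map_mul, ← trans_comp_algebraMap A I m n h]
  rfl

/-- The henselization of a pair constructed as the colimit of the tower is flat. -/
theorem flat_Lim : Module.Flat A (Lim A I) := by
  apply Module.Flat.of_forall_isTrivialRelation
  intro l f x hx
  have hlev : ∃ n, ∀ i, ∃ y : G A I n, of A I n y = x i := by
    choose m y hy using fun i => exists_of A I (x i)
    refine ⟨Finset.univ.sup m, fun i =>
      ⟨trans A I (m i) _ (Finset.le_sup (Finset.mem_univ i)) (y i), ?_⟩⟩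
    rw [of_trans, hy]
  obtain ⟨n, hn⟩ := hlev
  choose y hy using hn
  have h0 : of A I n (∑ i, f i • y i) = 0 := by
    rw [map_sum, ← hx]
    refine Finset.sum_congr rfl fun i _ => ?_
    rw [of_smul, hy]
  obtain ⟨k, hk, hzero⟩ := of_eq_zero A I h0
  have hrel : ∑ i, f i • trans A I n k hk (y i) = 0 := by
    rw [← hzero, map_sum]
    refine Finset.sum_congr rfl fun i _ => ?_
    rw [trans_smul]
  have hflat := flat_G A I k
  obtain ⟨r, a, z, hz, ha⟩ := Module.Flat.isTrivialRelation_of_sum_smul_eq_zero hrel
  refine ⟨r, a, fun j => of A I k (z j), ?_, ha⟩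
  intro i
  have h3 : trans A I n k hk (y i) = ∑ j, a i j • z j := hz i
  rw [← hy i, ← of_trans A I n k hk, h3, map_sum]
  refine Finset.sum_congr rfl fun j _ => ?_
  rw [of_smul]

end HensTower

end Groth.Agent.H3
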