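import Groth.Agent.H3.HensIntegralLocal
import Mathlib.LinearAlgebra.TensorProduct.Finiteness

/-!
# Directed unions of quasi-finite algebras over a henselian local ring
-/

set_option autoImplicit false
universe u

open TensorProduct IsLocalRing

namespace Groth.Agent.H3

namespace HensIndQFLocal

/-- every finite subset lies in a quasi-finite subalgebra of finite type -/
def IndQF (R S : Type u) [CommRing R] [CommRing S] [Algebra R S] : Prop :=
  ∀ s : Finset S, ∃ S₀ : Subalgebra R S, (↑s : Set S) ⊆ ↑S₀ ∧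
    Algebra.FiniteType R ↥S₀ ∧ Algebra.QuasiFinite R ↥S₀

theorem IndQF.baseChange {R S : Type u} [CommRing R] [CommRing S] [Algebra R S] (h : IndQF R S)
    (R' : Type u) [CommRing R'] [Algebra R R'] : IndQF R' (R' ⊗[R] S) := by
  classical
  intro t
  choose F hF using fun x : R' ⊗[R] S => TensorProduct.exists_finset x
  obtain ⟨S₀, hsub, hft, hqf⟩ := h (t.biUnion fun x => (F x).image Prod.snd)
  haveI := hft
  haveI := hqf
  let f : R' ⊗[R] S₀ →ₐ[R'] R' ⊗[R] S :=
    Algebra.TensorProduct.map (AlgHom.id R' R') S₀.val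
  refine ⟨f.range, ?_, ?_, ?_⟩
  · intro x hx
    rw [SetLike.mem_coe, hF x]
    refine Subalgebra.sum_mem _ fun i hi => ?_
    have hi2 : i.2 ∈ S₀ := by
      apply hsub
      rw [Finset.mem_coe, Finset.mem_biUnion]
      exact ⟨x, hx, Finset.mem_image_of_mem _ hi⟩
    refine ⟨i.1 ⊗ₜ ⟨i.2, hi2⟩, ?_⟩
    change Algebra.TensorProduct.map (AlgHom.id R' R') S₀.val (i.1 ⊗ₜ ⟨i.2, hi2⟩) = _
    rw [Algebra.TensorProduct.map_tmul]
    rfl
  · exact Algebra.FiniteType.of_surjective f.rangeRestrict f.rangeRestrict_surjective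
  · exact Algebra.QuasiFinite.of_surjective_algHom f.rangeRestrict f.rangeRestrict_surjective

theorem algebraMap_localization_surjective (Rh : Type u) [CommRing Rh] [HenselianLocalRing Rh]
    (C : Type u) [CommRing C] [Algebra Rh C] (hC : IndQF Rh C)
    (Q : Ideal C) [Q.IsPrime] [Q.LiesOver (maximalIdeal Rh)] :
    Function.Surjective (algebraMap C (Localization.AtPrime Q)) := by
  classical
  have key : ∀ s : C, s ∉ Q → ∃ u : C, algebraMap C (Localization.AtPrime Q) s *
      algebraMap C (Localization.AtPrime Q) u = 1 := by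
    intro s hs
    obtain ⟨C₀, hsub, hft, hqf⟩ := hC {s}
    haveI := hft
    haveI := hqf
    let Q₀ : Ideal C₀ := Q.comap C₀.val.toRingHom
    haveI : Q₀.IsPrime := Ideal.comap_isPrime _ Q
    haveI : Q₀.LiesOver (maximalIdeal Rh) := by
      refine ⟨?_⟩
      have h1 := Ideal.over_def Q (maximalIdeal Rh)
      rw [h1]
      ext r
      rfl
    have hsC₀ : s ∈ C₀ := hsub (by simp)
    let s₀ : C₀ := ⟨s, hsC₀⟩
    have hs₀ : s₀ ∉ Q₀ := hs
    obtain ⟨u, e, heQ, hue⟩ := HensIntegralLocal.exists_mul_sub_one Rh C₀ Q₀ s₀ hs₀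
    refine ⟨(u : C), ?_⟩
    have h2 : (e : C) * (s * (u : C) - 1) = 0 := by
      have := congrArg (fun x : C₀ => (x : C)) hue
      exact this
    have h3 : algebraMap C (Localization.AtPrime Q) (s * (u : C) - 1) = 0 := by
      rw [IsLocalization.map_eq_zero_iff Q.primeCompl]
      exact ⟨⟨(e : C), heQ⟩, h2⟩
    rw [map_sub, map_mul, map_one, sub_eq_zero] at h3
    exact h3
  intro x
  obtain ⟨c, ⟨s, hs⟩, rfl⟩ := IsLocalization.exists_mk'_eq Q.primeCompl x
  obtain ⟨u, hu⟩ := key s hs
  refine ⟨c * u, ?_⟩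
  rw [IsLocalization.eq_mk'_iff_mul_eq, map_mul, mul_assoc, mul_comm (algebraMap C _ u), hu,
    mul_one]

theorem isIntegral_localization (Rh : Type u) [CommRing Rh] [HenselianLocalRing Rh]
    (C : Type u) [CommRing C] [Algebra Rh C] (hC : IndQF Rh C)
    (Q : Ideal C) [Q.IsPrime] [Q.LiesOver (maximalIdeal Rh)] :
    Algebra.IsIntegral Rh (Localization.AtPrime Q) := by
  classical
  refine ⟨fun x => ?_⟩
  obtain ⟨c, rfl⟩ := algebraMap_localization_surjective Rh C hC Q x
  obtain ⟨C₀, hsub, hft, hqf⟩ := hC {c}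
  haveI := hft
  haveI := hqf
  let Q₀ : Ideal C₀ := Q.comap C₀.val.toRingHom
  haveI : Q₀.IsPrime := Ideal.comap_isPrime _ Q
  haveI : Q₀.LiesOver (maximalIdeal Rh) := by
    refine ⟨?_⟩
    have h1 := Ideal.over_def Q (maximalIdeal Rh)
    rw [h1]
    ext r
    rfl
  have hcC₀ : c ∈ C₀ := hsub (by simp)
  haveI := HensQFFinite.finite_localization Rh C₀ Q₀
  let lr : Localization.AtPrime Q₀ →+* Localization.AtPrime Q :=
    Localization.localRingHom Q₀ Q C₀.val.toRingHom rfl
  have h1 : algebraMap C (Localization.AtPrime Q) c =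
      lr (algebraMap C₀ (Localization.AtPrime Q₀) ⟨c, hcC₀⟩) := by
    rw [Localization.localRingHom_to_map]
    rfl
  rw [h1]
  have h2 : IsIntegral Rh (algebraMap C₀ (Localization.AtPrime Q₀) ⟨c, hcC₀⟩) :=
    Algebra.IsIntegral.isIntegral _
  refine h2.map_of_comp_eq (RingHom.id Rh) lr ?_
  ext r
  change algebraMap Rh (Localization.AtPrime Q) r = lr (algebraMap Rh (Localization.AtPrime Q₀) r)
  rw [IsScalarTower.algebraMap_apply Rh C₀ (Localization.AtPrime Q₀),
    Localization.localRingHom_to_map,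
    IsScalarTower.algebraMap_apply Rh C (Localization.AtPrime Q)]
  rfl

theorem henselianLocalRing_localization (Rh : Type u) [CommRing Rh] [HenselianLocalRing Rh]
    (C : Type u) [CommRing C] [Algebra Rh C] (hC : IndQF Rh C)
    (Q : Ideal C) [Q.IsPrime] [Q.LiesOver (maximalIdeal Rh)] :
    HenselianLocalRing (Localization.AtPrime Q) := by
  haveI := isIntegral_localization Rh C hC Q
  exact HensIntegralLocal.henselianLocalRing_of_isIntegral Rh (Localization.AtPrime Q)

end HensIndQFLocal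

end Groth.Agent.H3
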