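import Groth.Agent.H3.HensRadical
import Groth.Agent.H3.PairIdemIntegral
import Groth.Agent.H3.PairHens
import Mathlib.RingTheory.IntegralClosure.Algebra.Basic
import Mathlib.RingTheory.TensorProduct.Maps

/-!
# Henselization of pairs commutes with integral base change
-/

set_option autoImplicit false
universe u

namespace Groth.Agent.H3

namespace HensIntegralBC

open TensorProduct Hens2

variable {A B Ah Bh : Type u} [CommRing A] [CommRing B] [CommRing Ah] [CommRing Bh] [Algebra A B]
  (I : Ideal A) (J : Ideal B) [Algebra A Ah]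

/-- the right inclusion as a ring hom -/
noncomputable abbrev incR (A B Ah : Type u) [CommRing A] [CommRing B] [CommRing Ah] [Algebra A B]
    [Algebra A Ah] : B →+* Ah ⊗[A] B :=
  (Algebra.TensorProduct.includeRight : B →ₐ[A] Ah ⊗[A] B).toRingHom

theorem incR_comp_algebraMap :
    (incR A B Ah).comp (algebraMap A B) = algebraMap A (Ah ⊗[A] B) := by
  ext a
  exact (Algebra.TensorProduct.includeRight : B →ₐ[A] Ah ⊗[A] B).commutes a

theorem map_le_map_incR (hIJ : I.map (algebraMap A B) ≤ J) :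
    I.map (algebraMap A (Ah ⊗[A] B)) ≤ J.map (incR A B Ah) := by
  rw [← incR_comp_algebraMap, ← Ideal.map_map]
  exact Ideal.map_mono hIJ

theorem henselianRing_tensor (hrad : J.radical = (I.map (algebraMap A B)).radical)
    [Algebra.IsIntegral A B] (hA : HenselianRing Ah (I.map (algebraMap A Ah))) :
    HenselianRing (Ah ⊗[A] B) (J.map (incR A B Ah)) := by
  have h1 : HenselianRing (Ah ⊗[A] B)
      ((I.map (algebraMap A Ah)).map (algebraMap Ah (Ah ⊗[A] B))) :=
    henselianRing_of_isIntegral hA (Ah ⊗[A] B)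
  refine henselianRing_of_le_radical h1 ?_
  rw [Ideal.map_le_iff_le_comap]
  intro x hx
  have hx' : x ∈ (I.map (algebraMap A B)).radical := by
    rw [← hrad]; exact Ideal.le_radical hx
  obtain ⟨n, hn⟩ := hx'
  rw [Ideal.mem_comap]
  refine ⟨n, ?_⟩
  rw [← map_pow, Ideal.map_map, ← IsScalarTower.algebraMap_eq, ← incR_comp_algebraMap,
    ← Ideal.map_map]
  exact Ideal.mem_map_of_mem _ hn

/-- Henselization of pairs commutes with integral base change. -/
theorem productMap_bijective (hIJ : I.map (algebraMap A B) ≤ J)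
    (hrad : J.radical = (I.map (algebraMap A B)).radical)
    [Algebra.IsIntegral A B] (hA : IsPairHenselization A I Ah)
    [Algebra B Bh] [Algebra A Bh] [IsScalarTower A B Bh] (hB : IsPairHenselization B J Bh)
    (φ : Ah →ₐ[A] Bh) :
    Function.Bijective (Algebra.TensorProduct.productMap φ (IsScalarTower.toAlgHom A B Bh)) := by
  have hT : HenselianRing (Ah ⊗[A] B) (J.map (incR A B Ah)) := henselianRing_tensor I J hrad hA.1
  set P := Algebra.TensorProduct.productMap φ (IsScalarTower.toAlgHom A B Bh) with hP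
  obtain ⟨ψ, hψ, -⟩ := hB.2 (Ah ⊗[A] B) (J.map (incR A B Ah)) (incR A B Ah) hT le_rfl
  have hψ' : ∀ b : B, ψ (algebraMap B Bh b) = (1 : Ah) ⊗ₜ[A] b := fun b =>
    congrArg (fun g : B →+* Ah ⊗[A] B => g b) hψ
  -- `P ∘ ψ = id`
  obtain ⟨i₂, -, hi₂⟩ := hB.2 Bh (J.map (algebraMap B Bh)) (algebraMap B Bh) hB.1 le_rfl
  have e1 : P.toRingHom.comp ψ = RingHom.id Bh := by
    rw [hi₂ (P.toRingHom.comp ψ) (by
      change (P.toRingHom.comp ψ).comp (algebraMap B Bh) = algebraMap B Bh
      rw [RingHom.comp_assoc, hψ]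
      ext b
      change P ((1 : Ah) ⊗ₜ[A] b) = algebraMap B Bh b
      rw [hP, Algebra.TensorProduct.productMap_apply_tmul, map_one, one_mul]
      rfl),
      hi₂ (RingHom.id Bh) (by
      change (RingHom.id Bh).comp (algebraMap B Bh) = algebraMap B Bh
      rw [RingHom.id_comp])]
  -- `ψ ∘ φ = includeLeft`
  obtain ⟨i₁, -, hi₁⟩ := hA.2 (Ah ⊗[A] B) (J.map (incR A B Ah)) (algebraMap A (Ah ⊗[A] B)) hT
    (map_le_map_incR I J hIJ)
  have e2 : ψ.comp φ.toRingHom = algebraMap Ah (Ah ⊗[A] B) := by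
    rw [hi₁ (ψ.comp φ.toRingHom) (by
      change (ψ.comp φ.toRingHom).comp (algebraMap A Ah) = algebraMap A (Ah ⊗[A] B)
      ext a
      change ψ (φ (algebraMap A Ah a)) = algebraMap A (Ah ⊗[A] B) a
      rw [φ.commutes, IsScalarTower.algebraMap_apply A B Bh, hψ',
        Algebra.TensorProduct.algebraMap_apply, Algebra.TensorProduct.tmul_one_eq_one_tmul]),
      hi₁ (algebraMap Ah (Ah ⊗[A] B)) (by
      change (algebraMap Ah (Ah ⊗[A] B)).comp (algebraMap A Ah) = algebraMap A (Ah ⊗[A] B)
      rw [← IsScalarTower.algebraMap_eq])]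
  have e3 : ∀ t : Ah ⊗[A] B, ψ (P t) = t := by
    intro t
    induction t using TensorProduct.induction_on with
    | zero => rw [map_zero, map_zero]
    | tmul a b =>
      rw [hP, Algebra.TensorProduct.productMap_apply_tmul, map_mul]
      have h1 : ψ (φ a) = a ⊗ₜ[A] (1 : B) :=
        congrArg (fun g : Ah →+* Ah ⊗[A] B => g a) e2
      have h2 : ψ ((IsScalarTower.toAlgHom A B Bh) b) = (1 : Ah) ⊗ₜ[A] b := hψ' b
      rw [h1, h2, Algebra.TensorProduct.tmul_mul_tmul, mul_one, one_mul]
    | add x y hx hy => rw [map_add, map_add, hx, hy]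
  refine ⟨?_, ?_⟩
  · intro x y hxy
    rw [← e3 x, ← e3 y, hxy]
  · intro y
    refine ⟨ψ y, ?_⟩
    exact congrArg (fun g : Bh →+* Bh => g y) e1

end HensIntegralBC

end Groth.Agent.H3
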