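import Groth.Agent.H3.HensTower
import Groth.Agent.H3.UnivFactor

/-!
# The colimit of the tower is henselian
-/

set_option autoImplicit false
universe u

namespace Groth.Agent.H3

namespace HensTower

open Polynomial

variable (A : Type u) [CommRing A] (I : Ideal A)

theorem trans_mem_II {m n : ℕ} (h : m ≤ n) {w : G A I m} (hw : w ∈ II A I m) :
    trans A I m n h w ∈ II A I n := by
  rw [← map_trans_II A I m n h]
  exact Ideal.mem_map_of_mem _ hw

theorem of_mem_IL {n : ℕ} {w : G A I n} (hw : w ∈ II A I n) : of A I n w ∈ IL A I := by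
  rw [← map_of_II A I n]
  exact Ideal.mem_map_of_mem _ hw

/-- descent of membership in the ideal -/
theorem exists_of_mem_IL {z : Lim A I} (hz : z ∈ IL A I) :
    ∃ n, ∃ w ∈ II A I n, of A I n w = z := by
  rw [IL, Ideal.map] at hz
  refine Submodule.span_induction ?_ ?_ ?_ ?_ hz
  · rintro _ ⟨a, ha, rfl⟩
    refine ⟨0, algebraMap A (G A I 0) a, Ideal.mem_map_of_mem _ ha, ?_⟩
    rfl
  · exact ⟨0, 0, Ideal.zero_mem _, map_zero _⟩
  · rintro x y _ _ ⟨n, w, hw, rfl⟩ ⟨m, v, hv, rfl⟩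
    refine ⟨max n m, trans A I n _ (le_max_left n m) w + trans A I m _ (le_max_right n m) v,
      Ideal.add_mem _ (trans_mem_II A I _ hw) (trans_mem_II A I _ hv), ?_⟩
    rw [map_add, of_trans, of_trans]
  · rintro c x _ ⟨n, w, hw, rfl⟩
    obtain ⟨m, d, rfl⟩ := exists_of A I c
    refine ⟨max n m, trans A I m _ (le_max_right n m) d * trans A I n _ (le_max_left n m) w,
      Ideal.mul_mem_left _ _ (trans_mem_II A I _ hw), ?_⟩
    rw [map_mul, of_trans, of_trans, smul_eq_mul]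

theorem exists_trans_mem_of_of_mem {n : ℕ} {w : G A I n} (h : of A I n w ∈ IL A I) :
    ∃ k, ∃ hk : n ≤ k, trans A I n k hk w ∈ II A I k := by
  obtain ⟨m, z, hz, hzw⟩ := exists_of_mem_IL A I h
  have h0 : of A I (max n m) (trans A I n _ (le_max_left n m) w -
      trans A I m _ (le_max_right n m) z) = 0 := by
    rw [map_sub, of_trans, of_trans, hzw, sub_self]
  obtain ⟨k, hk, hk0⟩ := of_eq_zero A I h0
  refine ⟨k, (le_max_left n m).trans hk, ?_⟩
  rw [map_sub, sub_eq_zero, ← RingHom.comp_apply, ← RingHom.comp_apply, trans_trans,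
    trans_trans] at hk0
  rw [hk0]
  exact trans_mem_II A I _ hz

theorem IL_le_jacobson : IL A I ≤ Ideal.jacobson ⊥ := by
  intro z hz
  rw [Ideal.mem_jacobson_bot]
  intro y
  obtain ⟨n, w, hw, rfl⟩ := exists_of_mem_IL A I hz
  obtain ⟨m, v, rfl⟩ := exists_of A I y
  let k := max n m + 1
  have hnk : n ≤ k := (le_max_left n m).trans (Nat.le_succ _)
  have hmk : m ≤ k := (le_max_right n m).trans (Nat.le_succ _)
  have h1 : trans A I n k hnk w ∈ Ideal.jacobson (⊥ : Ideal (G A I k)) :=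
    II_le_jacobson_succ A I (max n m) (trans_mem_II A I hnk hw)
  have h2 := Ideal.mem_jacobson_bot.mp h1 (trans A I m k hmk v)
  have h3 := h2.map (of A I k)
  rwa [map_add, map_mul, of_trans, of_trans, map_one] at h3

theorem of_comp_trans (m n : ℕ) (h : m ≤ n) : (of A I n).comp (trans A I m n h) = of A I m :=
  RingHom.ext fun x => of_trans A I m n h x

theorem exists_level (f : (Lim A I)[X]) (hf : f.Monic) (a₀ : Lim A I)
    (h₁ : f.eval a₀ ∈ IL A I)
    (h₂ : IsUnit (Ideal.Quotient.mk (IL A I) (f.derivative.eval a₀))) :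
    ∃ (n : ℕ) (p : (G A I n)[X]) (a : G A I n), p.Monic ∧ p.map (of A I n) = f ∧
      of A I n a = a₀ ∧ p.eval a ∈ II A I n ∧
      IsUnit (Ideal.Quotient.mk (II A I n) (p.derivative.eval a)) := by
  obtain ⟨n₁, p₁, hp₁⟩ := Ring.DirectLimit.Polynomial.exists_of (G := G A I)
    (f' := fun i j h => trans A I i j h) f
  change p₁.map (of A I n₁) = f at hp₁
  obtain ⟨d, hd⟩ : ∃ d, f.natDegree = d := ⟨_, rfl⟩
  obtain ⟨n₂, a₂, ha₂⟩ := exists_of A I a₀
  obtain ⟨v', hv'⟩ := isUnit_iff_exists_inv.mp h₂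
  obtain ⟨v, rfl⟩ := Ideal.Quotient.mk_surjective v'
  rw [← map_mul, ← map_one (Ideal.Quotient.mk (IL A I)), Ideal.Quotient.eq] at hv'
  obtain ⟨n₃, v₃, hv₃⟩ := exists_of A I v
  obtain ⟨N, hN⟩ : ∃ N, N = max n₁ (max n₂ n₃) := ⟨_, rfl⟩
  have h1N : n₁ ≤ N := hN ▸ le_max_left _ _
  have h2N : n₂ ≤ N := hN ▸ (le_max_left _ _).trans (le_max_right _ _)
  have h3N : n₃ ≤ N := hN ▸ (le_max_right _ _).trans (le_max_right _ _)
  obtain ⟨p, hpdef⟩ : ∃ p : (G A I N)[X],
      p = monicOfCoeffs (fun k : Fin d => (p₁.map (trans A I n₁ N h1N)).coeff k) := ⟨_, rfl⟩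
  have hpm : p.Monic := hpdef ▸ monicOfCoeffs_monic _
  have hpmap : p.map (of A I N) = f := by
    rw [hpdef, monicOfCoeffs_map]
    conv_rhs => rw [eq_monicOfCoeffs hf hd]
    congr 1
    funext k
    rw [Polynomial.coeff_map, of_trans, ← hp₁, Polynomial.coeff_map]
  obtain ⟨a, hadef⟩ : ∃ a, a = trans A I n₂ N h2N a₂ := ⟨_, rfl⟩
  obtain ⟨w, hwdef⟩ : ∃ w, w = trans A I n₃ N h3N v₃ := ⟨_, rfl⟩
  have ha : of A I N a = a₀ := by rw [hadef, of_trans, ha₂]
  have hw : of A I N w = v := by rw [hwdef, of_trans, hv₃]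
  have heval : of A I N (p.eval a) = f.eval a₀ := by
    rw [← hpmap, ← ha, Polynomial.eval_map, Polynomial.eval₂_at_apply]
  have hder : of A I N (p.derivative.eval a) = f.derivative.eval a₀ := by
    rw [← hpmap, ← ha, Polynomial.derivative_map, Polynomial.eval_map,
      Polynomial.eval₂_at_apply]
  obtain ⟨k₁, hk₁, hm₁⟩ := exists_trans_mem_of_of_mem A I (w := p.eval a)
    (by rw [heval]; exact h₁)
  obtain ⟨k₂, hk₂, hm₂⟩ := exists_trans_mem_of_of_mem A I (w := p.derivative.eval a * w - 1)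
    (by rw [map_sub, map_mul, hder, hw, map_one]; exact hv')
  obtain ⟨K, hK⟩ : ∃ K, K = max k₁ k₂ := ⟨_, rfl⟩
  have hk₁K : k₁ ≤ K := hK ▸ le_max_left _ _
  have hk₂K : k₂ ≤ K := hK ▸ le_max_right _ _
  have hNK : N ≤ K := hk₁.trans hk₁K
  obtain ⟨τ, hτ⟩ : ∃ τ, τ = trans A I N K hNK := ⟨_, rfl⟩
  have hτ1 : τ = (trans A I k₁ K hk₁K).comp (trans A I N k₁ hk₁) := by
    rw [hτ, trans_trans]
  have hτ2 : τ = (trans A I k₂ K hk₂K).comp (trans A I N k₂ hk₂) := by
    rw [hτ, trans_trans]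
  refine ⟨K, p.map τ, τ a, hpm.map τ, ?_, ?_, ?_, ?_⟩
  · rw [Polynomial.map_map, hτ, of_comp_trans, hpmap]
  · rw [hτ, of_trans, ha]
  · rw [Polynomial.eval_map, Polynomial.eval₂_at_apply, hτ1, RingHom.comp_apply]
    exact trans_mem_II A I _ hm₁
  · rw [Polynomial.derivative_map, Polynomial.eval_map, Polynomial.eval₂_at_apply]
    refine isUnit_iff_exists_inv.mpr ⟨Ideal.Quotient.mk _ (τ w), ?_⟩
    rw [← map_mul, ← map_one (Ideal.Quotient.mk (II A I K)), Ideal.Quotient.eq]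
    have h3 : τ (p.derivative.eval a) * τ w - 1 = τ (p.derivative.eval a * w - 1) := by
      rw [map_sub, map_mul, map_one]
    rw [h3, hτ2, RingHom.comp_apply]
    exact trans_mem_II A I _ hm₂

theorem henselianRing_Lim : HenselianRing (Lim A I) (IL A I) where
  jac := IL_le_jacobson A I
  is_henselian f hf a₀ h₁ h₂ := by
    obtain ⟨n, p, a, hp, hpf, ha, hpa, hu⟩ := exists_level A I f hf a₀ h₁ h₂
    obtain ⟨y, hy, hya⟩ := exists_root_succ A I n p hp a hpa hu
    refine ⟨of A I (n + 1) y, ?_, ?_⟩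
    · have h1 : f = (p.map (nextHom A I n)).map (of A I (n + 1)) := by
        rw [Polynomial.map_map, ← hpf]
        congr 1
        exact RingHom.ext fun x => (of_nextHom A I n x).symm
      rw [IsRoot, h1, Polynomial.eval_map, Polynomial.eval₂_at_apply, hy.eq_zero, map_zero]
    · rw [← ha, ← of_nextHom A I n a, ← map_sub]
      exact of_mem_IL A I hya

end HensTower

end Groth.Agent.H3
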