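import Groth.Agent.H3.NormalColim
import Groth.Agent.H3.EtNbhdImage
import Groth.Agent.H3.HensLocal
import Groth.Agent.H20.EtaleNormal

/-!
# The henselization of a normal local domain is a normal domain
-/

set_option autoImplicit false
universe u

namespace Groth.Agent.H3

namespace HensNormal

open Hens2 IsLocalRing

variable {R : Type u} [CommRing R] [IsLocalRing R]
variable {S : Type u} [CommRing S] [IsLocalRing S] [Algebra R S] [IsLocalHom (algebraMap R S)]

/-- every finite subset of the henselization lies in the image of an injective map from the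
local ring of an étale neighbourhood -/
theorem exists_local_nbhd (hS : IsPairHenselization R (maximalIdeal R) S) (s : Finset S) :
    ∃ (A' : Type u) (_ : CommRing A') (_ : Algebra R A') (_ : Algebra.Etale R A') (Q : Ideal A')
      (_ : Q.IsPrime) (_ : Q.LiesOver (maximalIdeal R)) (ψ : Localization.AtPrime Q →+* S),
      Function.Injective ψ ∧ (s : Set S) ⊆ Set.range ψ := by
  obtain ⟨A', _, _, hN, φ, hφ⟩ := EtNbhd.inImage_finset hS s
  have := hN.etale
  let Q : Ideal A' := (maximalIdeal S).comap φ.toRingHom
  have hQ : Q.IsPrime := Ideal.comap_isPrime _ _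
  have hQo : Q.LiesOver (maximalIdeal R) := by
    constructor
    ext r
    rw [Ideal.under_def, Ideal.mem_comap, Ideal.mem_comap]
    change r ∈ maximalIdeal R ↔ φ (algebraMap R A' r) ∈ maximalIdeal S
    rw [φ.commutes, ← Ideal.mem_comap, IsLocalRing.maximalIdeal_comap]
  have hunit : ∀ y : Q.primeCompl, IsUnit (φ.toRingHom y) := by
    intro y
    by_contra hy
    exact y.2 ((IsLocalRing.mem_maximalIdeal _).mpr hy)
  let ψ : Localization.AtPrime Q →+* S := IsLocalization.lift hunit
  refine ⟨A', inferInstance, inferInstance, inferInstance, Q, hQ, hQo, ψ, ?_, ?_⟩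
  · rw [injective_iff_map_eq_zero]
    intro x hx
    obtain ⟨y, t, rfl⟩ := IsLocalization.exists_mk'_eq Q.primeCompl x
    rw [IsLocalization.lift_mk'_spec, mul_zero] at hx
    obtain ⟨k, hk, hk0⟩ := EtNbhd.exists_mul_eq_zero hS hN φ y hx
    have hkQ : k ∉ Q := by
      intro hkQ
      have h1 : φ k ∈ maximalIdeal S := hkQ
      have h2 : φ (k - 1) ∈ maximalIdeal S := by
        rw [HensLocal.maximalIdeal_eq hS]
        exact EtNbhd.algHom_mem_of_mem φ hk
      have h3 : (1 : S) ∈ maximalIdeal S := by
        have := Ideal.sub_mem _ h1 h2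
        rwa [map_sub, map_one, sub_sub_cancel] at this
      exact (IsLocalRing.mem_maximalIdeal _).mp h3 isUnit_one
    rw [IsLocalization.mk'_eq_zero_iff]
    exact ⟨⟨k, hkQ⟩, hk0⟩
  · intro x hx
    obtain ⟨x', rfl⟩ := hφ hx
    exact ⟨algebraMap A' _ x', IsLocalization.lift_eq hunit x'⟩

theorem isDomain_and_isIntegrallyClosed (hS : IsPairHenselization R (maximalIdeal R) S)
    [IsDomain R] [IsIntegrallyClosed R] : IsDomain S ∧ IsIntegrallyClosed S := by
  have hic : IsIntegrallyClosed (Localization.AtPrime (maximalIdeal R)) :=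
    isIntegrallyClosed_of_isLocalization _ (maximalIdeal R).primeCompl
      (Ideal.primeCompl_le_nonZeroDivisors _)
  have key : ∀ s : Finset S, ∃ (L : Type u) (_ : CommRing L) (_ : IsDomain L)
      (_ : IsIntegrallyClosed L) (ψ : L →+* S),
      Function.Injective ψ ∧ (s : Set S) ⊆ Set.range ψ := by
    intro s
    obtain ⟨A', _, _, _, Q, _, _, ψ, hψ, hs⟩ := exists_local_nbhd hS s
    obtain ⟨h1, h2⟩ := Groth.Agent.H20.isDomain_and_isIntegrallyClosed_localization_of_etale
      (R := R) (S := A') (maximalIdeal R) Q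
    exact ⟨Localization.AtPrime Q, inferInstance, h1, h2, ψ, hψ, hs⟩
  have hdom : IsDomain S := NormalColim.isDomain_of_forall_finset fun s => by
    obtain ⟨L, _, hL, _, ψ, h⟩ := key s
    exact ⟨L, _, hL, ψ, h⟩
  exact ⟨hdom, NormalColim.isIntegrallyClosed_of_forall_finset key⟩

end HensNormal

end Groth.Agent.H3
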