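import Groth.Agent.H3.HenselEtale
import Mathlib.RingTheory.Etale.StandardEtale
import Mathlib.RingTheory.Etale.Locus

set_option autoImplicit false
universe u

namespace Groth.Agent.H3

open IsLocalRing

/-- Over a henselian local ring `S`, points of an etale algebra with values in the residue field
of `S` lift uniquely to `S`-valued points. -/
theorem existsUnique_lift_of_etale (R : Type u) [CommRing R]
    (S : Type u) [CommRing S] [HenselianLocalRing S] [Algebra R S]
    (A : Type u) [CommRing A] [Algebra R A] [Algebra.Etale R A]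
    (σ₀ : A →ₐ[R] ResidueField S) :
    ∃! f : A →ₐ[R] S, (IsScalarTower.toAlgHom R S (ResidueField S)).comp f = σ₀ := by
  have hq : (RingHom.ker σ₀.toRingHom).IsPrime := RingHom.ker_isPrime _
  obtain ⟨g, hgq, hstd⟩ := Algebra.IsEtaleAt.exists_isStandardEtale (R := R)
    (RingHom.ker σ₀.toRingHom)
  obtain ⟨P⟩ := hstd.nonempty_standardEtalePresentation
  have hσ₀g : IsUnit (σ₀ g) := by
    rw [isUnit_iff_ne_zero]
    intro h
    exact hgq ((RingHom.mem_ker).mpr h)
  let σ : Localization.Away g →ₐ[R] ResidueField S := IsLocalization.Away.liftAlgHom g hσ₀g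
  have hσ : ∀ a, σ (algebraMap A _ a) = σ₀ a := fun a => IsLocalization.Away.lift_eq g hσ₀g a
  obtain ⟨φ, hφ, hφuniq⟩ := existsUnique_lift_of_standardEtalePresentation (S := S) P σ
  have hφres : ∀ a : A, IsLocalRing.residue S (φ (algebraMap A _ a)) = σ₀ a := by
    intro a
    have := congr($hφ (algebraMap A _ a))
    rw [hσ] at this
    exact this
  refine ⟨φ.comp (IsScalarTower.toAlgHom R A _), ?_, ?_⟩
  · ext a
    exact hφres a
  · intro ψ hψ
    have hψres : ∀ a : A, IsLocalRing.residue S (ψ a) = σ₀ a := fun a => congr($hψ a)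
    have hψg : IsUnit (ψ g) := by
      rw [← notMem_maximalIdeal]
      intro h
      have : σ₀ g = 0 := by
        rw [← hψres]
        exact (residue_eq_zero_iff _).mpr h
      exact hσ₀g.ne_zero this
    let ψ' : Localization.Away g →ₐ[R] S := IsLocalization.Away.liftAlgHom g hψg
    have hψ' : ∀ a, ψ' (algebraMap A _ a) = ψ a := fun a => IsLocalization.Away.lift_eq g hψg a
    have hψ'σ : (IsScalarTower.toAlgHom R S (ResidueField S)).comp ψ' = σ := by
      apply AlgHom.coe_ringHom_injective
      apply IsLocalization.ringHom_ext (Submonoid.powers g)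
      ext a
      simp only [RingHom.comp_apply, RingHom.coe_coe, AlgHom.comp_apply,
        hψ', hσ, ← hψres]
      rfl
    have := hφuniq ψ' hψ'σ
    ext a
    rw [← hψ', this]
    rfl

end Groth.Agent.H3
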