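import Groth.Agent.H3.StrictHensUnion
import Groth.Agent.H3.UnionEtaleProps
import Groth.Agent.H3.HensIso
import Groth.Agent.H3.HensLocal
import Groth.Agent.H3.HensFlatMain
import Groth.Agent.H3.HenselEtale2
import Mathlib.RingTheory.LocalRing.ResidueField.Ideal

/-!
# The henselization of `R_p` as a colimit over étale pairs `(S, q)` with trivial residue extension
-/

set_option autoImplicit false
universe u

open IsLocalRing

namespace Groth.Agent.H3

namespace HensPairs

section Residue

variable {R : Type u} [CommRing R] {S : Type u} [CommRing S] [Algebra R S]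
  (p : Ideal R) [p.IsPrime] (q : Ideal S) [q.IsPrime] (hq : p = q.comap (algebraMap R S))

include hq in
theorem notMem_of_notMem {b : R} (hb : b ∉ p) : algebraMap R S b ∉ q := by
  intro h
  apply hb
  rw [hq]
  exact h

/-- From surjectivity of `κ(p) → κ(q)`: every element of `S` is, modulo `q`, a fraction from
`R`. -/
theorem exists_mul_sub_mem
    (hsurj : Function.Surjective (Ideal.ResidueField.map p q (algebraMap R S) hq)) (x : S) :
    ∃ a b : R, b ∉ p ∧ algebraMap R S b * x - algebraMap R S a ∈ q := by
  obtain ⟨y, hy⟩ := hsurj (algebraMap S q.ResidueField x)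
  obtain ⟨a', b', hb', rfl⟩ := IsFractionRing.div_surjective (A := R ⧸ p) y
  obtain ⟨a, rfl⟩ := Ideal.Quotient.mk_surjective a'
  obtain ⟨b, rfl⟩ := Ideal.Quotient.mk_surjective b'
  have hbp : b ∉ p := by
    intro hb
    have h0 : Ideal.Quotient.mk p b = 0 := Ideal.Quotient.eq_zero_iff_mem.mpr hb
    rw [h0] at hb'
    exact zero_notMem_nonZeroDivisors hb'
  refine ⟨a, b, hbp, ?_⟩
  rw [Ideal.algebraMap_quotient_residueField_mk, Ideal.algebraMap_quotient_residueField_mk,
    map_div₀, Ideal.ResidueField.map_algebraMap, Ideal.ResidueField.map_algebraMap] at hy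
  have hb0 : algebraMap S q.ResidueField (algebraMap R S b) ≠ 0 := by
    rw [Ne, Ideal.algebraMap_residueField_eq_zero]
    exact notMem_of_notMem p q hq hbp
  rw [← Ideal.algebraMap_residueField_eq_zero, map_sub, map_mul, ← hy,
    mul_div_cancel₀ _ hb0, sub_self]

/-- a criterion for `κ(p) → κ(q)` to be bijective -/
theorem residueField_map_bijective (T : Type u) [CommRing T] [IsLocalRing T] (f : S →+* T)
    (hf : (maximalIdeal T).comap f = q)
    (hT : ∀ t : T, ∃ a b : R, b ∉ p ∧
      f (algebraMap R S b) * t - f (algebraMap R S a) ∈ maximalIdeal T) :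
    Function.Bijective (Ideal.ResidueField.map p q (algebraMap R S) hq) := by
  refine ⟨RingHom.injective _, fun z => ?_⟩
  obtain ⟨s', t', ht', rfl⟩ := IsFractionRing.div_surjective (A := S ⧸ q) z
  obtain ⟨s, rfl⟩ := Ideal.Quotient.mk_surjective s'
  obtain ⟨t, rfl⟩ := Ideal.Quotient.mk_surjective t'
  have htq : t ∉ q := by
    intro ht
    have h0 : Ideal.Quotient.mk q t = 0 := Ideal.Quotient.eq_zero_iff_mem.mpr ht
    rw [h0] at ht'
    exact zero_notMem_nonZeroDivisors ht'
  have hftu : IsUnit (f t) := by
    rw [← IsLocalRing.notMem_maximalIdeal]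
    intro h
    apply htq
    rw [← hf]
    exact h
  obtain ⟨u, hu⟩ := hftu.exists_left_inv
  obtain ⟨a, b, hbp, hab⟩ := hT (f s * u)
  have h1 : f (algebraMap R S b * s - algebraMap R S a * t) ∈ maximalIdeal T := by
    have : f (algebraMap R S b * s - algebraMap R S a * t) =
        (f (algebraMap R S b) * (f s * u) - f (algebraMap R S a)) * f t := by
      rw [map_sub, map_mul, map_mul]
      linear_combination (-(f (algebraMap R S b) * f s)) * hu
    rw [this]
    exact Ideal.mul_mem_right _ _ hab
  have h2 : algebraMap R S b * s - algebraMap R S a * t ∈ q := by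
    rw [← hf]; exact h1
  rw [← Ideal.algebraMap_residueField_eq_zero, map_sub, map_mul, map_mul, sub_eq_zero] at h2
  have hb0 : algebraMap S q.ResidueField (algebraMap R S b) ≠ 0 := by
    rw [Ne, Ideal.algebraMap_residueField_eq_zero]
    exact notMem_of_notMem p q hq hbp
  have ht0 : algebraMap S q.ResidueField t ≠ 0 := by
    rw [Ne, Ideal.algebraMap_residueField_eq_zero]
    exact htq
  refine ⟨algebraMap R p.ResidueField a / algebraMap R p.ResidueField b, ?_⟩
  rw [map_div₀, Ideal.ResidueField.map_algebraMap, Ideal.ResidueField.map_algebraMap,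
    Ideal.algebraMap_quotient_residueField_mk, Ideal.algebraMap_quotient_residueField_mk,
    div_eq_div_iff hb0 ht0]
  linear_combination -h2

end Residue

section Main

variable (R : Type u) [CommRing R] (p : Ideal R) [p.IsPrime] (Rh : Type u) [CommRing Rh]
  [IsLocalRing Rh] [Algebra (Localization.AtPrime p) Rh]
  [IsLocalHom (algebraMap (Localization.AtPrime p) Rh)]
  [hRh : Hensel.IsHenselization (Localization.AtPrime p) Rh] [Algebra R Rh]
  [IsScalarTower R (Localization.AtPrime p) Rh]

omit hRh in
theorem comap_maximalIdeal : (maximalIdeal Rh).comap (algebraMap R Rh) = p := by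
  have h1 : (maximalIdeal Rh).comap (algebraMap (Localization.AtPrime p) Rh) =
      maximalIdeal (Localization.AtPrime p) :=
    ((local_hom_TFAE (algebraMap (Localization.AtPrime p) Rh)).out 0 4).mp ‹_›
  rw [IsScalarTower.algebraMap_eq R (Localization.AtPrime p) Rh, ← Ideal.comap_comap, h1]
  exact IsLocalization.AtPrime.comap_maximalIdeal (Localization.AtPrime p) p

omit hRh in
theorem isUnit_algebraMap {b : R} (hb : b ∉ p) : IsUnit (algebraMap R Rh b) := by
  rw [IsScalarTower.algebraMap_apply R (Localization.AtPrime p) Rh]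
  exact (IsLocalization.map_units (Localization.AtPrime p) (⟨b, hb⟩ : p.primeCompl)).map _

include hRh in
theorem exists_mul_sub_mem_maximalIdeal (t : Rh) : ∃ a b : R, b ∉ p ∧
    algebraMap R Rh b * t - algebraMap R Rh a ∈ maximalIdeal Rh := by
  have hP := HensIso.isPairHenselization_of_isHenselization hRh
  obtain ⟨c, hc⟩ := PairHens.exists_sub_mem hP t
  rw [← HensLocal.maximalIdeal_eq hP] at hc
  obtain ⟨a, ⟨b, hb⟩, rfl⟩ := IsLocalization.exists_mk'_eq p.primeCompl c
  refine ⟨a, b, hb, ?_⟩
  have h1 : algebraMap R Rh b * t - algebraMap R Rh a =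
      algebraMap R Rh b * (t - algebraMap (Localization.AtPrime p) Rh
        (IsLocalization.mk' (Localization.AtPrime p) a (⟨b, hb⟩ : p.primeCompl))) := by
    have h2 : algebraMap R Rh a = algebraMap (Localization.AtPrime p) Rh
        (IsLocalization.mk' (Localization.AtPrime p) a (⟨b, hb⟩ : p.primeCompl)) *
          algebraMap R Rh b := by
      rw [IsScalarTower.algebraMap_apply R (Localization.AtPrime p) Rh b, ← map_mul,
        IsLocalization.mk'_spec, ← IsScalarTower.algebraMap_apply]
    rw [h2]; ring
  rw [h1]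
  exact Ideal.mul_mem_left _ _ hc

include hRh in
theorem flat : Module.Flat R Rh := by
  have hP := HensIso.isPairHenselization_of_isHenselization hRh
  haveI : Module.Flat (Localization.AtPrime p) Rh := HensFlatMain.flat hP
  haveI : Module.Flat R (Localization.AtPrime p) :=
    IsLocalization.flat (Localization.AtPrime p) p.primeCompl
  exact Module.Flat.trans R (Localization.AtPrime p) Rh

include hRh in
/-- every element of `R^h` lies in the image of an étale `R`-algebra -/
theorem isUnion : UnionEtale.IsUnion R Rh := by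
  haveI : HenselianLocalRing Rh := hRh.henselian
  let E := UnionEtale.imageAlg R Rh
  haveI hEloc : IsLocalRing E := StrictHensUnion.isLocalRing R Rh
  haveI hE : HenselianLocalRing E := StrictHensUnion.henselianLocalRing R Rh
  let j : E →+* Rh := E.val.toRingHom
  have hu : ∀ y : p.primeCompl, IsUnit (algebraMap R E y) := by
    intro y
    rw [StrictHensUnion.isUnit_iff]
    exact isUnit_algebraMap R p Rh y.2
  let ρ : Localization.AtPrime p →+* E := IsLocalization.lift (M := p.primeCompl) hu
  have hjρ : j.comp ρ = algebraMap (Localization.AtPrime p) Rh := by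
    apply IsLocalization.ringHom_ext p.primeCompl
    ext r
    change j (ρ (algebraMap R _ r)) = algebraMap _ Rh (algebraMap R _ r)
    rw [IsLocalization.lift_eq, ← IsScalarTower.algebraMap_apply]
    rfl
  haveI : IsLocalHom (j.comp ρ) := by rw [hjρ]; infer_instance
  haveI hρ : IsLocalHom ρ := isLocalHom_of_comp ρ j
  obtain ⟨g, hg, -⟩ := hRh.universal E ρ hρ
  obtain ⟨g', -, hg'⟩ := hRh.universal Rh (algebraMap (Localization.AtPrime p) Rh) inferInstance
  have h1 : j.comp g = g' := hg' _ (by
    change (j.comp g).comp _ = _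
    rw [RingHom.comp_assoc, hg, hjρ])
  have h2 : RingHom.id Rh = g' := hg' _ (RingHom.id_comp _)
  intro x
  have h3 : x = j (g x) := congrArg (fun θ : Rh →+* Rh => θ x) (h2.trans h1.symm)
  rw [h3]
  exact (g x).2

variable (S : Type u) [CommRing S] [Algebra R S]

include hRh in
/-- the residue field criterion for maps to `R^h` -/
theorem bijective_of_comap (q : Ideal S) [q.IsPrime] (hq : p = q.comap (algebraMap R S))
    (f : S →ₐ[R] Rh) (hf : (maximalIdeal Rh).comap f.toRingHom = q) :
    Function.Bijective (Ideal.ResidueField.map p q (algebraMap R S) hq) := by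
  refine residueField_map_bijective p q hq Rh f.toRingHom hf fun t => ?_
  obtain ⟨a, b, hb, hab⟩ := exists_mul_sub_mem_maximalIdeal R p Rh t
  refine ⟨a, b, hb, ?_⟩
  change f (algebraMap R S b) * t - f (algebraMap R S a) ∈ _
  rw [f.commutes, f.commutes]
  exact hab

omit hRh in
theorem eq_comap_of_algHom (f : S →ₐ[R] Rh) :
    p = ((maximalIdeal Rh).comap f.toRingHom).comap (algebraMap R S) := by
  rw [Ideal.comap_comap]
  have : f.toRingHom.comp (algebraMap R S) = algebraMap R Rh := f.comp_algebraMap
  rw [this, comap_maximalIdeal R p Rh]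

include hRh in
/-- part (a): existence and uniqueness of the map -/
theorem existsUnique_algHom [Algebra.Etale R S] (q : Ideal S) [q.IsPrime]
    (hq : p = q.comap (algebraMap R S))
    (hbij : Function.Bijective (Ideal.ResidueField.map p q (algebraMap R S) hq)) :
    ∃! f : S →ₐ[R] Rh, (maximalIdeal Rh).comap f.toRingHom = q := by
  haveI : HenselianLocalRing Rh := hRh.henselian
  let ι : p.ResidueField →+* ResidueField Rh :=
    ResidueField.map (algebraMap (Localization.AtPrime p) Rh)
  let e : p.ResidueField ≃+* q.ResidueField := RingEquiv.ofBijective _ hbij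
  have he : ∀ y, e y = Ideal.ResidueField.map p q (algebraMap R S) hq y := fun y => rfl
  let σr : S →+* ResidueField Rh :=
    ι.comp ((e.symm : q.ResidueField →+* p.ResidueField).comp (algebraMap S q.ResidueField))
  have hιR : ∀ r : R, ι (algebraMap R p.ResidueField r) = algebraMap R (ResidueField Rh) r := by
    intro r
    rw [IsScalarTower.algebraMap_apply R (Localization.AtPrime p) p.ResidueField,
      IsLocalRing.ResidueField.algebraMap_eq, ResidueField.map_residue,
      ← IsScalarTower.algebraMap_apply, IsScalarTower.algebraMap_apply R Rh (ResidueField Rh)]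
    rfl
  let σ₀ : S →ₐ[R] ResidueField Rh :=
    { σr with
      commutes' := fun r => by
        change ι (e.symm (algebraMap S q.ResidueField (algebraMap R S r))) = _
        rw [← Ideal.ResidueField.map_algebraMap p q (algebraMap R S) hq, ← he,
          RingEquiv.symm_apply_apply, hιR] }
  have hσ₀ : ∀ x : S, σ₀ x = 0 ↔ x ∈ q := by
    intro x
    change ι (e.symm (algebraMap S q.ResidueField x)) = 0 ↔ _
    rw [map_eq_zero_iff _ ι.injective, map_eq_zero_iff _ e.symm.injective,
      Ideal.algebraMap_residueField_eq_zero]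
  obtain ⟨f, hf, hfu⟩ := Groth.Agent.H3.existsUnique_lift_of_etale R Rh S σ₀
  have hres : ∀ (f' : S →ₐ[R] Rh) (x : S),
      ((IsScalarTower.toAlgHom R Rh (ResidueField Rh)).comp f') x = residue Rh (f' x) :=
    fun _ _ => rfl
  refine ⟨f, ?_, ?_⟩
  · ext x
    rw [Ideal.mem_comap, ← hσ₀, ← hf, hres, residue_eq_zero_iff]
    rfl
  · intro f₂ hf₂
    apply hfu
    ext x
    -- both residues are the same fraction
    obtain ⟨a, b, hb, hab⟩ := exists_mul_sub_mem p q hq hbij.2 x
    have hbu : residue Rh (algebraMap R Rh b) ≠ 0 := by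
      rw [Ne, residue_eq_zero_iff]
      exact IsLocalRing.notMem_maximalIdeal.mpr (isUnit_algebraMap R p Rh hb)
    have key : ∀ f' : S →ₐ[R] Rh, (maximalIdeal Rh).comap f'.toRingHom = q →
        residue Rh (algebraMap R Rh b) * residue Rh (f' x) = residue Rh (algebraMap R Rh a) := by
      intro f' hf'
      have h1 : f' (algebraMap R S b * x - algebraMap R S a) ∈ maximalIdeal Rh := by
        have : algebraMap R S b * x - algebraMap R S a ∈
            (maximalIdeal Rh).comap f'.toRingHom := by rw [hf']; exact hab
        exact this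
      rw [map_sub, map_mul, f'.commutes, f'.commutes, ← residue_eq_zero_iff, map_sub,
        map_mul, sub_eq_zero] at h1
      exact h1
    have hfq : (maximalIdeal Rh).comap f.toRingHom = q := by
      ext y
      rw [Ideal.mem_comap, ← hσ₀, ← hf, hres, residue_eq_zero_iff]
      rfl
    rw [hres, ← hf, hres]
    exact mul_left_cancel₀ hbu ((key f₂ hf₂).trans (key f hfq).symm)

include hRh in
/-- part (b) -/
theorem exists_pair (x : Rh) : ∃ (S : Type u) (_ : CommRing S) (_ : Algebra R S)
    (_ : Algebra.Etale R S) (q : Ideal S) (_ : q.IsPrime) (hq : p = q.comap (algebraMap R S)),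
    Function.Bijective (Ideal.ResidueField.map p q (algebraMap R S) hq) ∧
      ∃ (f : S →ₐ[R] Rh) (s : S), (maximalIdeal Rh).comap f.toRingHom = q ∧ f s = x := by
  obtain ⟨S, _, _, hEt, f, hf⟩ := isUnion R p Rh x
  obtain ⟨s, hs⟩ := hf (Set.mem_singleton x)
  refine ⟨S, inferInstance, inferInstance, hEt, (maximalIdeal Rh).comap f.toRingHom,
    inferInstance, eq_comap_of_algHom R p Rh S f, ?_, f, s, rfl, hs⟩
  exact bijective_of_comap R p Rh S _ _ f rfl

include hRh in
/-- part (c) -/
theorem exists_kill [Algebra.Etale R S] (f : S →ₐ[R] Rh) (s : S) (hs : f s = 0) :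
    ∃ (S' : Type u) (_ : CommRing S') (_ : Algebra R S') (_ : Algebra.Etale R S')
      (q' : Ideal S') (_ : q'.IsPrime) (hq' : p = q'.comap (algebraMap R S')),
      Function.Bijective (Ideal.ResidueField.map p q' (algebraMap R S') hq') ∧
        ∃ φ : S →ₐ[R] S', q'.comap φ.toRingHom = (maximalIdeal Rh).comap f.toRingHom ∧
          φ s = 0 := by
  haveI := flat R p Rh
  obtain ⟨k, hk, hks⟩ := UnionEtale.exists_mul_eq_zero_of_local f s hs
  obtain ⟨hEt, φ', hφ'⟩ := UnionEtale.exists_away f k hk
  refine ⟨Localization.Away k, inferInstance, inferInstance, hEt,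
    (maximalIdeal Rh).comap φ'.toRingHom, inferInstance,
    eq_comap_of_algHom R p Rh _ φ', bijective_of_comap R p Rh _ _ _ φ' rfl,
    IsScalarTower.toAlgHom R S (Localization.Away k), ?_, ?_⟩
  · ext y
    rw [Ideal.mem_comap, Ideal.mem_comap, Ideal.mem_comap]
    change φ' (algebraMap S _ y) ∈ _ ↔ f y ∈ _
    rw [hφ']
  · change algebraMap S (Localization.Away k) s = 0
    have h3 : algebraMap S (Localization.Away k) k * algebraMap S (Localization.Away k) s = 0 := by
      rw [← map_mul, hks, map_zero]
    exact (IsLocalization.Away.algebraMap_isUnit k).mul_right_eq_zero.mp h3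

end Main

end HensPairs

end Groth.Agent.H3
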