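import Groth.Agent.H3.HensQuot
import Mathlib.RingTheory.FiniteStability
import Mathlib.RingTheory.TensorProduct.Quotient

/-!
# Finite presentation of the quotients `B / I^n B` of a relative henselization
-/

set_option autoImplicit false
universe u

namespace Groth.Agent.H3

namespace HensQuot

open Hens2

variable {A : Type u} [CommRing A] (I : Ideal A)
variable {R : Type u} [CommRing R] [Algebra A R]
variable {B : Type u} [CommRing B] [Algebra R B] [Algebra A B] [IsScalarTower A R B]

theorem finitePresentation_quot [Algebra.FinitePresentation A R]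
    (hB : IsPairHenselization R (I.map (algebraMap A R)) B) {n : ℕ} (hn : n ≠ 0) :
    Algebra.FinitePresentation (A ⧸ I ^ n) (B ⧸ (I ^ n).map (algebraMap A B)) := by
  have h1 : Algebra.FinitePresentation (A ⧸ I ^ n) (R ⧸ (I ^ n).map (algebraMap A R)) :=
    .equiv (Algebra.TensorProduct.quotIdealMapEquivQuotTensor R (I ^ n)).symm
  exact .equiv (quotEquiv I hB hn)

end HensQuot

end Groth.Agent.H3
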