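import Groth.Agent.H3.EtNbhdImage
import Groth.Agent.H3.HFlatModel
import Groth.Agent.H47.SmoothReduced

/-!
# The henselization of a reduced pair is reduced
-/

set_option autoImplicit false
universe u

namespace Groth.Agent.H3

namespace HensReduced

open Hens2

variable {A : Type u} [CommRing A] {I : Ideal A}
variable {B : Type u} [CommRing B] [Algebra A B]

theorem isReduced (hB : IsPairHenselization A I B) [IsReduced A] : IsReduced B := by
  refine ⟨fun x hx => ?_⟩
  obtain ⟨n, hn⟩ := hx
  obtain ⟨A', _, _, hN, φ, hφ⟩ := EtNbhd.inImage_finset hB {x}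
  obtain ⟨x', rfl⟩ : ∃ x', φ x' = x := hφ (by simp)
  have := hN.etale
  have h0 : φ (x' ^ n) = 0 := by rw [map_pow, hn]
  obtain ⟨k, hk, hk0⟩ := EtNbhd.exists_mul_eq_zero hB hN φ (x' ^ n) h0
  have het : Algebra.Etale A' (Localization.Away k) := Algebra.Etale.of_isLocalizationAway k
  have het' : Algebra.Etale A (Localization.Away k) := Algebra.Etale.comp A A' _
  have hred : IsReduced (Localization.Away k) := Groth.Agent.H47.isReduced_of_etale A _
  have h1 : (algebraMap A' (Localization.Away k) x') ^ n = 0 := by
    have hu : IsUnit (algebraMap A' (Localization.Away k) k) :=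
      IsLocalization.Away.algebraMap_isUnit k
    have := congrArg (algebraMap A' (Localization.Away k)) hk0
    rw [map_mul, map_zero, map_pow] at this
    exact (hu.mul_right_eq_zero).mp this
  have h2 : algebraMap A' (Localization.Away k) x' = 0 :=
    (IsNilpotent.eq_zero ⟨n, h1⟩)
  rw [IsLocalization.map_eq_zero_iff (Submonoid.powers k)] at h2
  obtain ⟨⟨_, m, rfl⟩, hm⟩ := h2
  -- `φ k` is a unit
  letI : Algebra A' B := φ.toRingHom.toAlgebra
  have hT : IsScalarTower A A' B := IsScalarTower.of_algebraMap_eq fun a => (φ.commutes a).symm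
  have hB' := EtNbhd.isPairHenselization_nbhd hB hN
  have hu : IsUnit (φ k) := HFlatModel.isUnit_algebraMap hB' k hk
  have h3 : φ k ^ m * φ x' = 0 := by
    rw [← map_pow, ← map_mul]
    change φ (k ^ m * x') = 0
    rw [hm, map_zero]
  exact ((hu.pow m).mul_right_eq_zero).mp h3

end HensReduced

end Groth.Agent.H3
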