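import Groth.Agent.H3.HensStepBasic
import Mathlib.RingTheory.MvPolynomial.Basic
import Mathlib.RingTheory.Polynomial.Tower
import Mathlib.RingTheory.Localization.Away.Basic

/-!
# One step of the construction of the henselization of a pair
-/

set_option autoImplicit false
universe u

namespace Groth.Agent.H3

namespace HensStep

open Polynomial

variable (A : Type u) [CommRing A] (I : Ideal A)

/-- Hensel data over `(A, I)` -/
def Data : Type u :=
  {s : A[X] × A // s.1.Monic ∧ s.1.eval s.2 ∈ I ∧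
    IsUnit (Ideal.Quotient.mk I (s.1.derivative.eval s.2))}

/-- the relations `f_s(X_s)` -/
noncomputable def rel (s : Data A I) : MvPolynomial (Data A I) A :=
  Polynomial.aeval (MvPolynomial.X s) s.1.1

/-- `A[X_s]/(f_s(X_s))` -/
def Q : Type u := MvPolynomial (Data A I) A ⧸ Ideal.span (Set.range (rel A I))

noncomputable instance : CommRing (Q A I) :=
  inferInstanceAs (CommRing (MvPolynomial (Data A I) A ⧸ Ideal.span (Set.range (rel A I))))

noncomputable instance : Algebra A (Q A I) :=
  inferInstanceAs (Algebra A (MvPolynomial (Data A I) A ⧸ Ideal.span (Set.range (rel A I))))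

/-- the quotient map -/
noncomputable def mkQ : MvPolynomial (Data A I) A →ₐ[A] Q A I :=
  Ideal.Quotient.mkₐ A (Ideal.span (Set.range (rel A I)))

theorem mkQ_surjective : Function.Surjective (mkQ A I) := Ideal.Quotient.mk_surjective

/-- the root `x_s` -/
noncomputable def x (s : Data A I) : Q A I := mkQ A I (MvPolynomial.X s)

theorem aeval_x (s : Data A I) : Polynomial.aeval (x A I s) s.1.1 = 0 := by
  have h1 : Polynomial.aeval (x A I s) s.1.1 = mkQ A I (rel A I s) := by
    rw [rel, x, ← Polynomial.aeval_algHom_apply]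
  rw [h1]
  exact Ideal.Quotient.eq_zero_iff_mem.mpr (Ideal.subset_span ⟨s, rfl⟩)

/-- the ideal generated by `I` and the `x_s - a₀_s` -/
noncomputable def JJ : Ideal (Q A I) :=
  I.map (algebraMap A (Q A I)) ⊔
    Ideal.span (Set.range fun s : Data A I => x A I s - algebraMap A (Q A I) s.1.2)

/-- the step -/
def E : Type u := Localization (oneAdd (JJ A I))

noncomputable instance : CommRing (E A I) :=
  inferInstanceAs (CommRing (Localization (oneAdd (JJ A I))))

noncomputable instance : Algebra (Q A I) (E A I) :=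
  inferInstanceAs (Algebra (Q A I) (Localization (oneAdd (JJ A I))))

instance : IsLocalization (oneAdd (JJ A I)) (E A I) :=
  inferInstanceAs (IsLocalization (oneAdd (JJ A I)) (Localization (oneAdd (JJ A I))))

noncomputable instance : Algebra A (E A I) :=
  inferInstanceAs (Algebra A (Localization (oneAdd (JJ A I))))

instance : IsScalarTower A (Q A I) (E A I) :=
  inferInstanceAs (IsScalarTower A (Q A I) (Localization (oneAdd (JJ A I))))

theorem map_JJ_le_jacobson : (JJ A I).map (algebraMap (Q A I) (E A I)) ≤ Ideal.jacobson ⊥ :=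
  map_le_jacobson_of_isLocalization (JJ A I) (E A I)

theorem map_le_map_JJ :
    I.map (algebraMap A (E A I)) ≤ (JJ A I).map (algebraMap (Q A I) (E A I)) := by
  rw [IsScalarTower.algebraMap_eq A (Q A I) (E A I), ← Ideal.map_map]
  exact Ideal.map_mono le_sup_left

theorem map_le_jacobson : I.map (algebraMap A (E A I)) ≤ Ideal.jacobson ⊥ :=
  (map_le_map_JJ A I).trans (map_JJ_le_jacobson A I)

theorem isUnit_of_sub_one_mem_jacobson {C : Type*} [CommRing C] {u : C}
    (hu : u - 1 ∈ Ideal.jacobson (⊥ : Ideal C)) : IsUnit u := by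
  have := Ideal.mem_jacobson_bot.mp hu 1
  have h2 : (u - 1) * 1 + 1 = u := by ring
  rwa [h2] at this

/-- the adjoined root in `E` -/
noncomputable def root (s : Data A I) : E A I := algebraMap (Q A I) (E A I) (x A I s)

theorem root_isRoot (s : Data A I) : (s.1.1.map (algebraMap A (E A I))).IsRoot (root A I s) := by
  rw [IsRoot, Polynomial.eval_map_algebraMap]
  have h1 : Polynomial.aeval (root A I s) s.1.1 =
      algebraMap (Q A I) (E A I) (Polynomial.aeval (x A I s) s.1.1) :=
    Polynomial.aeval_algebraMap_apply (E A I) (x A I s) s.1.1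
  rw [h1, aeval_x, map_zero]

/-- the adjoined root is congruent to the approximate root modulo `I` -/
theorem root_sub_mem (s : Data A I) :
    root A I s - algebraMap A (E A I) s.1.2 ∈ I.map (algebraMap A (E A I)) := by
  obtain ⟨⟨f, a₀⟩, hf, h₁, h₂⟩ := s
  let s : Data A I := ⟨(f, a₀), hf, h₁, h₂⟩
  change root A I s - algebraMap A (E A I) a₀ ∈ _
  let φ := algebraMap A (E A I)
  have hy : (f.map φ).IsRoot (root A I s) := root_isRoot A I s
  obtain ⟨δ, hδ⟩ : ∃ δ, δ = root A I s - φ a₀ := ⟨_, rfl⟩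
  have hδJ : δ ∈ (JJ A I).map (algebraMap (Q A I) (E A I)) := by
    have h1 : δ = algebraMap (Q A I) (E A I) (x A I s - algebraMap A (Q A I) a₀) := by
      rw [hδ, map_sub, ← IsScalarTower.algebraMap_apply]
      rfl
    rw [h1]
    apply Ideal.mem_map_of_mem
    exact Ideal.mem_sup_right (Ideal.subset_span ⟨s, rfl⟩)
  obtain ⟨c, hc⟩ := exists_mul_sq_add_linear_part_eq_eval_add (f.map φ) (φ a₀) δ
  have hya : φ a₀ + δ = root A I s := by rw [hδ]; ring
  rw [hya, hy.eq_zero, Polynomial.derivative_map, Polynomial.eval_map, Polynomial.eval_map,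
    Polynomial.eval₂_at_apply, Polynomial.eval₂_at_apply] at hc
  obtain ⟨b', hb'⟩ := isUnit_iff_exists_inv.mp h₂
  obtain ⟨b, rfl⟩ := Ideal.Quotient.mk_surjective b'
  rw [← map_mul, ← map_one (Ideal.Quotient.mk I), Ideal.Quotient.eq] at hb'
  obtain ⟨u, hudef⟩ : ∃ u, u = φ (f.derivative.eval a₀) + c * δ := ⟨_, rfl⟩
  have hu : IsUnit u := by
    have h1 : φ b * u - 1 ∈ (JJ A I).map (algebraMap (Q A I) (E A I)) := by
      have h2 : φ b * u - 1 = φ (f.derivative.eval a₀ * b - 1) + φ b * c * δ := by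
        rw [hudef, map_sub, map_mul, map_one]; ring
      rw [h2]
      exact Ideal.add_mem _ (map_le_map_JJ A I (Ideal.mem_map_of_mem _ hb'))
        (Ideal.mul_mem_left _ _ hδJ)
    have h3 := isUnit_of_sub_one_mem_jacobson (map_JJ_le_jacobson A I h1)
    exact isUnit_of_mul_isUnit_right h3
  obtain ⟨v, hv⟩ := hu
  have h4 : δ = - (φ (f.eval a₀) * ↑v⁻¹) := by
    have h5 : δ * (v : E A I) = - φ (f.eval a₀) := by
      rw [hv, hudef]; linear_combination hc
    calc δ = δ * (v : E A I) * ↑v⁻¹ := by rw [mul_assoc, Units.mul_inv, mul_one]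
      _ = _ := by rw [h5]; ring
  rw [← hδ, h4]
  exact Ideal.neg_mem_iff _ |>.mpr (Ideal.mul_mem_right _ _ (Ideal.mem_map_of_mem _ h₁))

theorem exists_root (f : A[X]) (hf : f.Monic) (a₀ : A) (h₁ : f.eval a₀ ∈ I)
    (h₂ : IsUnit (Ideal.Quotient.mk I (f.derivative.eval a₀))) :
    ∃ y : E A I, (f.map (algebraMap A (E A I))).IsRoot y ∧
      y - algebraMap A (E A I) a₀ ∈ I.map (algebraMap A (E A I)) :=
  ⟨root A I ⟨(f, a₀), hf, h₁, h₂⟩, root_isRoot A I _, root_sub_mem A I _⟩

section Universal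

variable {A I}
variable {C : Type*} [CommRing C] (J : Ideal C) (φ : A →+* C)

theorem existsUnique_lift (hCJ : HenselianRing C J) (hIJ : I.map φ ≤ J) :
    ∃! ψ : E A I →+* C, ψ.comp (algebraMap A (E A I)) = φ := by
  have hroot : ∀ s : Data A I, ∃ c : C, (s.1.1.map φ).IsRoot c ∧ c - φ s.1.2 ∈ J := by
    intro s
    obtain ⟨hm, h1, h2⟩ := s.2
    refine hCJ.is_henselian (s.1.1.map φ) (hm.map φ) (φ s.1.2) ?_ ?_
    · rw [Polynomial.eval_map, Polynomial.eval₂_at_apply]
      exact hIJ (Ideal.mem_map_of_mem φ h1)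
    · rw [Polynomial.derivative_map, Polynomial.eval_map, Polynomial.eval₂_at_apply]
      have := h2.map (Ideal.quotientMap J φ (Ideal.map_le_iff_le_comap.mp hIJ))
      rwa [Ideal.quotientMap_mk] at this
  choose c hc using hroot
  let ψ₀ : MvPolynomial (Data A I) A →+* C := MvPolynomial.eval₂Hom φ c
  have hψ₀rel : ∀ s, ψ₀ (rel A I s) = 0 := by
    intro s
    rw [rel, Polynomial.aeval_def, Polynomial.hom_eval₂]
    have h1 : ψ₀.comp (algebraMap A (MvPolynomial (Data A I) A)) = φ := by
      apply RingHom.ext; intro a; simp [ψ₀]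
    have h2 : ψ₀ (MvPolynomial.X s) = c s := by simp [ψ₀]
    rw [h1, h2, ← Polynomial.eval_map]
    exact (hc s).1
  let ψ₁ : Q A I →+* C := Ideal.Quotient.lift (Ideal.span (Set.range (rel A I))) ψ₀ (by
    intro z hz
    have : Ideal.span (Set.range (rel A I)) ≤ RingHom.ker ψ₀ := by
      rw [Ideal.span_le]
      rintro _ ⟨s, rfl⟩
      exact hψ₀rel s
    exact this hz)
  have hψ₁mk : ∀ p, ψ₁ (mkQ A I p) = ψ₀ p := fun p => rfl
  have hψ₁alg : ∀ a : A, ψ₁ (algebraMap A (Q A I) a) = φ a := by
    intro a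
    have : algebraMap A (Q A I) a = mkQ A I (MvPolynomial.C a) := rfl
    rw [this, hψ₁mk]; simp [ψ₀]
  have hψ₁x : ∀ s, ψ₁ (x A I s) = c s := by
    intro s
    rw [x, hψ₁mk]; simp [ψ₀]
  have hψ₁J : JJ A I ≤ J.comap ψ₁ := by
    rw [JJ]
    refine sup_le ?_ ?_
    · rw [Ideal.map_le_iff_le_comap]
      intro a ha
      rw [Ideal.mem_comap, Ideal.mem_comap, hψ₁alg]
      exact hIJ (Ideal.mem_map_of_mem φ ha)
    · rw [Ideal.span_le]
      rintro _ ⟨s, rfl⟩
      change ψ₁ _ ∈ J
      rw [map_sub, hψ₁x, hψ₁alg]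
      exact (hc s).2
  have hunits : ∀ m : oneAdd (JJ A I), IsUnit (ψ₁ m) := by
    intro m
    apply isUnit_of_sub_one_mem_jacobson
    apply hCJ.jac
    have h1 : ψ₁ (m : Q A I) - 1 = ψ₁ ((m : Q A I) - 1) := by rw [map_sub, map_one]
    rw [h1]
    exact hψ₁J (mem_oneAdd.mp m.2)
  let ψ : E A I →+* C := IsLocalization.lift hunits
  have hψQ : ∀ q : Q A I, ψ (algebraMap (Q A I) (E A I) q) = ψ₁ q := fun q =>
    IsLocalization.lift_eq hunits q
  refine ⟨ψ, ?_, ?_⟩
  · apply RingHom.ext
    intro a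
    rw [RingHom.comp_apply, IsScalarTower.algebraMap_apply A (Q A I) (E A I), hψQ, hψ₁alg]
  · intro ψ' hψ'
    have hψ'A : ∀ a, ψ' (algebraMap A (E A I) a) = φ a := fun a =>
      congrArg (fun g : A →+* C => g a) hψ'
    apply IsLocalization.ringHom_ext (oneAdd (JJ A I))
    apply Ideal.Quotient.ringHom_ext
    apply MvPolynomial.ringHom_ext
    · intro a
      change ψ' (algebraMap (Q A I) (E A I) (algebraMap A (Q A I) a)) =
        ψ (algebraMap (Q A I) (E A I) (algebraMap A (Q A I) a))
      rw [← IsScalarTower.algebraMap_apply, hψ'A,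
        IsScalarTower.algebraMap_apply A (Q A I) (E A I), hψQ, hψ₁alg]
    · intro s
      change ψ' (root A I s) = ψ (algebraMap (Q A I) (E A I) (x A I s))
      rw [hψQ, hψ₁x]
      refine root_unique hCJ.jac (s.1.1.map φ) (φ s.1.2) _ _ ?_ (hc s).1 ?_ (hc s).2 ?_
      · have h1 : s.1.1.map φ = (s.1.1.map (algebraMap A (E A I))).map ψ' := by
          rw [Polynomial.map_map, hψ']
        rw [IsRoot, h1, Polynomial.eval_map, Polynomial.eval₂_hom, (root_isRoot A I s).eq_zero,
          map_zero]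
      · have h1 := Ideal.mem_map_of_mem ψ' (root_sub_mem A I s)
        rw [Ideal.map_map, hψ', map_sub, hψ'A] at h1
        exact hIJ h1
      · obtain ⟨hm, h1, h2⟩ := s.2
        have := h2.map (Ideal.quotientMap J φ (Ideal.map_le_iff_le_comap.mp hIJ))
        rw [Ideal.quotientMap_mk] at this
        rw [Polynomial.derivative_map, Polynomial.eval_map, Polynomial.eval₂_at_apply]
        exact this

end Universal

end HensStep

end Groth.Agent.H3
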