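import Groth.Agent.H3.HenselBasic
import Mathlib.RingTheory.Localization.Ideal
import Mathlib.Algebra.Polynomial.Taylor
import Mathlib.Algebra.Polynomial.Div

/-!
# Preliminaries for the construction of the henselization of a pair
-/

set_option autoImplicit false
universe u

namespace Groth.Agent.H3

namespace HensStep

open Polynomial

section RootUnique

variable {C : Type*} [CommRing C] {J : Ideal C}

theorem eval_sub_eval_mem (p : C[X]) {a b : C} (h : a - b ∈ J) : p.eval a - p.eval b ∈ J := by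
  obtain ⟨c, hc⟩ := Polynomial.sub_dvd_eval_sub a b p
  rw [hc]
  exact Ideal.mul_mem_right _ _ h

/-- Uniqueness of Hensel roots. -/
theorem root_unique (hJ : J ≤ Ideal.jacobson ⊥) (f : C[X]) (a₀ a b : C) (ha : f.IsRoot a)
    (hb : f.IsRoot b) (haJ : a - a₀ ∈ J) (hbJ : b - a₀ ∈ J)
    (hu : IsUnit (Ideal.Quotient.mk J (f.derivative.eval a₀))) : a = b := by
  obtain ⟨c, hc⟩ := exists_mul_sq_add_linear_part_eq_eval_add f a (b - a)
  rw [add_sub_cancel, ha.eq_zero, hb.eq_zero, add_zero] at hc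
  have hbaJ : b - a ∈ J := by
    have : b - a = (b - a₀) - (a - a₀) := by ring
    rw [this]; exact Ideal.sub_mem _ hbJ haJ
  have hu' : IsUnit (f.derivative.eval a) := by
    apply isUnit_of_isUnit_mk hJ (I := J)
    have h1 : Ideal.Quotient.mk J (f.derivative.eval a) =
        Ideal.Quotient.mk J (f.derivative.eval a₀) :=
      Ideal.Quotient.eq.mpr (eval_sub_eval_mem _ haJ)
    rw [h1]; exact hu
  have hu'' : IsUnit (f.derivative.eval a + c * (b - a)) :=
    isUnit_add_of_mem_jacobson hu' (hJ (Ideal.mul_mem_left _ _ hbaJ))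
  have h2 : (f.derivative.eval a + c * (b - a)) * (b - a) = 0 := by
    linear_combination hc
  have h3 := (hu''.mul_right_eq_zero).mp h2
  exact (sub_eq_zero.mp h3).symm

end RootUnique

section OneAdd

variable {Q : Type*} [CommRing Q]

/-- the multiplicative set `1 + 𝔍` -/
def oneAdd (𝔍 : Ideal Q) : Submonoid Q where
  carrier := {m | m - 1 ∈ 𝔍}
  one_mem' := by simp
  mul_mem' := by
    intro a b ha hb
    have : a * b - 1 = (a - 1) * b + (b - 1) := by ring
    change a * b - 1 ∈ 𝔍
    rw [this]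
    exact Ideal.add_mem _ (Ideal.mul_mem_right _ _ ha) hb

theorem mem_oneAdd {𝔍 : Ideal Q} {m : Q} : m ∈ oneAdd 𝔍 ↔ m - 1 ∈ 𝔍 := Iff.rfl

/-- after localizing at `1 + 𝔍`, the ideal `𝔍` lands in the Jacobson radical -/
theorem map_le_jacobson_of_isLocalization (𝔍 : Ideal Q) (E : Type*) [CommRing E] [Algebra Q E]
    [IsLocalization (oneAdd 𝔍) E] : 𝔍.map (algebraMap Q E) ≤ Ideal.jacobson ⊥ := by
  intro z hz
  rw [Ideal.mem_jacobson_bot]
  intro y
  obtain ⟨⟨⟨j, hj⟩, m⟩, hzm⟩ := (IsLocalization.mem_map_algebraMap_iff (oneAdd 𝔍) E).mp hz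
  obtain ⟨q, m', rfl⟩ := IsLocalization.exists_mk'_eq (oneAdd 𝔍) y
  simp only at hzm
  have hmm' : j * q + m * m' ∈ oneAdd 𝔍 := by
    rw [mem_oneAdd]
    have : j * q + m * m' - 1 = j * q + (m * m' - 1) := by ring
    rw [this]
    exact Ideal.add_mem _ (Ideal.mul_mem_right _ _ hj) (mem_oneAdd.mp (m * m').2)
  have h1 : (z * IsLocalization.mk' E q m' + 1) * algebraMap Q E (m * m') =
      algebraMap Q E (j * q + m * m') := by
    have h2 : IsLocalization.mk' E q m' * algebraMap Q E m' = algebraMap Q E q :=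
      IsLocalization.mk'_spec E q m'
    rw [map_add, map_mul, map_mul, ← hzm, ← h2]
    ring
  have hu1 : IsUnit (algebraMap Q E (j * q + m * m')) :=
    IsLocalization.map_units E ⟨_, hmm'⟩
  rw [← h1] at hu1
  exact isUnit_of_mul_isUnit_left hu1

end OneAdd

end HensStep

end Groth.Agent.H3
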