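import Groth.Agent.H3.HensStep
import Mathlib.Algebra.Colimit.Ring

/-!
# The tower defining the henselization of a pair
-/

set_option autoImplicit false
universe u

namespace Groth.Agent.H3

namespace HensTower

open Polynomial

variable (A : Type u) [CommRing A] (I : Ideal A)

/-- a stage of the tower: an `A`-algebra -/
structure Stage : Type (u + 1) where
  R : Type u
  [ring : CommRing R]
  [alg : Algebra A R]

attribute [instance] Stage.ring Stage.alg

variable {A}

/-- the next stage -/
noncomputable def Stage.next (X : Stage A) : Stage A where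
  R := HensStep.E X.R (I.map (algebraMap A X.R))
  ring := inferInstance
  alg := ((algebraMap X.R (HensStep.E X.R (I.map (algebraMap A X.R)))).comp
    (algebraMap A X.R)).toAlgebra

variable (A)

/-- the tower -/
noncomputable def stage : ℕ → Stage A
  | 0 => ⟨A⟩
  | n + 1 => (stage n).next I

/-- the rings of the tower -/
def G (n : ℕ) : Type u := (stage A I n).R

noncomputable instance (n : ℕ) : CommRing (G A I n) := (stage A I n).ring

noncomputable instance (n : ℕ) : Algebra A (G A I n) := (stage A I n).alg

/-- the ideal at stage `n` -/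
noncomputable def II (n : ℕ) : Ideal (G A I n) := I.map (algebraMap A (G A I n))

/-- the transition map to the next stage -/
noncomputable def nextHom (n : ℕ) : G A I n →+* G A I (n + 1) :=
  algebraMap (stage A I n).R (HensStep.E (stage A I n).R (I.map (algebraMap A (stage A I n).R)))

theorem nextHom_comp_algebraMap (n : ℕ) :
    (nextHom A I n).comp (algebraMap A (G A I n)) = algebraMap A (G A I (n + 1)) := rfl

theorem map_nextHom_II (n : ℕ) : (II A I n).map (nextHom A I n) = II A I (n + 1) := by
  rw [II, Ideal.map_map, nextHom_comp_algebraMap]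
  rfl

theorem II_le_jacobson_succ (n : ℕ) : II A I (n + 1) ≤ Ideal.jacobson ⊥ := by
  rw [← map_nextHom_II]
  exact HensStep.map_le_jacobson (stage A I n).R (I.map (algebraMap A (stage A I n).R))

theorem exists_root_succ (n : ℕ) (f : (G A I n)[X]) (hf : f.Monic) (a₀ : G A I n)
    (h₁ : f.eval a₀ ∈ II A I n)
    (h₂ : IsUnit (Ideal.Quotient.mk (II A I n) (f.derivative.eval a₀))) :
    ∃ y : G A I (n + 1), (f.map (nextHom A I n)).IsRoot y ∧
      y - nextHom A I n a₀ ∈ II A I (n + 1) := by
  rw [← map_nextHom_II]
  exact HensStep.exists_root (stage A I n).R (I.map (algebraMap A (stage A I n).R)) f hf a₀ h₁ h₂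

theorem existsUnique_lift_succ (n : ℕ) {C : Type*} [CommRing C] (J : Ideal C)
    (φ : G A I n →+* C) (hCJ : HenselianRing C J) (hIJ : (II A I n).map φ ≤ J) :
    ∃! ψ : G A I (n + 1) →+* C, ψ.comp (nextHom A I n) = φ :=
  HensStep.existsUnique_lift (A := (stage A I n).R)
    (I := I.map (algebraMap A (stage A I n).R)) J φ hCJ hIJ

/-- the transition maps -/
noncomputable def trans (m n : ℕ) (h : m ≤ n) : G A I m →+* G A I n :=
  Nat.leRecOn (C := fun k => G A I m →+* G A I k) h
    (fun {k} g => (nextHom A I k).comp g) (RingHom.id _)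

theorem trans_self (m : ℕ) (h : m ≤ m) : trans A I m m h = RingHom.id _ :=
  Nat.leRecOn_self _

theorem trans_succ (m n : ℕ) (h : m ≤ n) (h' : m ≤ n + 1) :
    trans A I m (n + 1) h' = (nextHom A I n).comp (trans A I m n h) :=
  Nat.leRecOn_succ h _

theorem trans_trans (m n k : ℕ) (hmn : m ≤ n) (hnk : n ≤ k) :
    (trans A I n k hnk).comp (trans A I m n hmn) = trans A I m k (hmn.trans hnk) := by
  induction k, hnk using Nat.le_induction with
  | base => rw [trans_self, RingHom.id_comp]
  | succ k hnk ih =>
    rw [trans_succ A I n k hnk, trans_succ A I m k (hmn.trans hnk), RingHom.comp_assoc, ih]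

theorem trans_comp_algebraMap (m n : ℕ) (h : m ≤ n) :
    (trans A I m n h).comp (algebraMap A (G A I m)) = algebraMap A (G A I n) := by
  induction n, h using Nat.le_induction with
  | base => rw [trans_self, RingHom.id_comp]
  | succ k hnk ih =>
    rw [trans_succ A I m k hnk, RingHom.comp_assoc, ih, nextHom_comp_algebraMap]

theorem map_trans_II (m n : ℕ) (h : m ≤ n) : (II A I m).map (trans A I m n h) = II A I n := by
  rw [II, Ideal.map_map, trans_comp_algebraMap]
  rfl

instance : DirectedSystem (G A I) fun i j h => trans A I i j h where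
  map_self i x := by rw [trans_self]; rfl
  map_map c b a hab hbc x := by
    rw [← trans_trans A I a b c hab hbc]; rfl

/-- the colimit of the tower -/
def Lim : Type u := Ring.DirectLimit (G A I) fun i j h => trans A I i j h

noncomputable instance : CommRing (Lim A I) :=
  inferInstanceAs (CommRing (Ring.DirectLimit (G A I) fun i j h => trans A I i j h))

/-- the canonical maps to the colimit -/
noncomputable def of (n : ℕ) : G A I n →+* Lim A I :=
  Ring.DirectLimit.of (G A I) (fun i j h => trans A I i j h) n

theorem of_trans (m n : ℕ) (h : m ≤ n) (x : G A I m) : of A I n (trans A I m n h x) = of A I m x :=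
  Ring.DirectLimit.of_f h x

theorem of_nextHom (n : ℕ) (x : G A I n) : of A I (n + 1) (nextHom A I n x) = of A I n x := by
  have h1 := of_trans A I n (n + 1) (Nat.le_succ n) x
  rw [trans_succ A I n n le_rfl, trans_self] at h1
  exact h1

theorem exists_of (z : Lim A I) : ∃ n x, of A I n x = z :=
  Ring.DirectLimit.exists_of z

theorem of_eq_zero {n : ℕ} {x : G A I n} (h : of A I n x = 0) :
    ∃ k, ∃ hk : n ≤ k, trans A I n k hk x = 0 :=
  Ring.DirectLimit.of.zero_exact h

noncomputable instance : Algebra A (Lim A I) :=
  ((of A I 0).comp (algebraMap A (G A I 0))).toAlgebra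

theorem of_comp_algebraMap (n : ℕ) :
    (of A I n).comp (algebraMap A (G A I n)) = algebraMap A (Lim A I) := by
  apply RingHom.ext
  intro a
  change of A I n (algebraMap A (G A I n) a) = of A I 0 (algebraMap A (G A I 0) a)
  rw [← of_trans A I 0 n (Nat.zero_le n), ← RingHom.comp_apply (trans A I 0 n _),
    trans_comp_algebraMap]

/-- the ideal of the colimit -/
noncomputable def IL : Ideal (Lim A I) := I.map (algebraMap A (Lim A I))

theorem map_of_II (n : ℕ) : (II A I n).map (of A I n) = IL A I := by
  rw [II, Ideal.map_map, of_comp_algebraMap]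
  rfl

end HensTower

end Groth.Agent.H3
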