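import Groth.Agent.H3.EtaleLiftConv
import Groth.Agent.H3.IdemFinite

/-!
# A local ring whose finite type algebras split off a finite part is henselian
-/

set_option autoImplicit false
universe u

namespace Groth.Agent.H3

open Polynomial IsLocalRing

theorem henselianLocalRing_of_finiteType_split (R : Type u) [CommRing R] [IsLocalRing R]
    (h : ∀ (S : Type u) [CommRing S] [Algebra R S] [Algebra.FiniteType R S],
      ∃ e : S, IsIdempotentElem e ∧ Module.Finite R (S ⧸ Ideal.span ({1 - e} : Set S)) ∧
        ∀ (q : Ideal (S ⧸ Ideal.span ({e} : Set S))) [q.IsPrime],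
          q.LiesOver (IsLocalRing.maximalIdeal R) → ¬ Algebra.QuasiFiniteAt R q) :
    HenselianLocalRing R := by
  constructor
  intro f hf a₀ h₁ h₂
  -- `f = (X - a₀) g + f(a₀)`
  obtain ⟨g, hg⟩ : ∃ g : R[X], f = (X - C a₀) * g + C (f.eval a₀) := by
    refine ⟨f /ₘ (X - C a₀), ?_⟩
    have h1 := modByMonic_add_div f (X - C a₀)
    rw [modByMonic_X_sub_C_eq_C_eval] at h1
    rw [add_comm]
    exact h1.symm
  have hga₀ : g.eval a₀ = f.derivative.eval a₀ := by
    have h1 := congrArg (fun p : R[X] => p.derivative.eval a₀) hg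
    simp only [derivative_add, derivative_mul, derivative_sub, derivative_X, derivative_C,
      sub_zero, one_mul, eval_add, eval_mul, eval_sub, eval_X, eval_C, sub_self, zero_mul,
      add_zero] at h1
    exact h1.symm
  let P : StandardEtalePair R := ⟨f, hf, derivative f * g, g, 0, 1, by ring⟩
  obtain ⟨e, he, hfin, hq⟩ := h P.Ring
  let m := maximalIdeal R
  let mS : Ideal P.Ring := m.map (algebraMap R P.Ring)
  have hX := P.hasMap_X
  have hfX : aeval P.X f = 0 := hX.1
  have hgX : IsUnit (aeval P.X g) := by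
    have := hX.2
    change IsUnit (aeval P.X (derivative f * g)) at this
    rw [map_mul] at this
    exact isUnit_of_mul_isUnit_right this
  -- `X ≡ a₀`
  have hXa₀ : P.X - algebraMap R P.Ring a₀ ∈ mS := by
    have h1 := congrArg (aeval P.X) hg
    rw [hfX, map_add, map_mul, map_sub, aeval_X, aeval_C, aeval_C] at h1
    obtain ⟨u, hu⟩ := hgX
    have h2 : P.X - algebraMap R P.Ring a₀ = - (algebraMap R P.Ring (f.eval a₀) * ↑u⁻¹) := by
      have h3 : (P.X - algebraMap R P.Ring a₀) * (u : P.Ring) =
          - algebraMap R P.Ring (f.eval a₀) := by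
        rw [hu]; linear_combination -h1
      calc P.X - algebraMap R P.Ring a₀
          = (P.X - algebraMap R P.Ring a₀) * (u : P.Ring) * ↑u⁻¹ := by
            rw [mul_assoc, Units.mul_inv, mul_one]
        _ = _ := by rw [h3]; ring
    rw [h2]
    exact Ideal.neg_mem_iff _ |>.mpr (Ideal.mul_mem_right _ _ (Ideal.mem_map_of_mem _ h₁))
  -- the `k`-point
  have hmapk : P.HasMap (residue R a₀) := by
    constructor
    · change aeval (residue R a₀) f = 0
      rw [← ResidueField.algebraMap_eq, aeval_algebraMap_apply, ResidueField.algebraMap_eq,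
        coe_aeval_eq_eval]
      exact (residue_eq_zero_iff _).mpr h₁
    · change IsUnit (aeval (residue R a₀) (derivative f * g))
      rw [← ResidueField.algebraMap_eq, aeval_algebraMap_apply, ResidueField.algebraMap_eq,
        coe_aeval_eq_eval, eval_mul, hga₀]
      exact (h₂.mul h₂).map _
  let c' : P.Ring →ₐ[R] ResidueField R := P.lift _ hmapk
  have hc'm : ∀ w ∈ mS, c' w = 0 := by
    intro w hw
    have h2 := Ideal.mem_map_of_mem c'.toRingHom hw
    rw [Ideal.map_map] at h2
    have h3 : c'.toRingHom.comp (algebraMap R P.Ring) = residue R :=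
      RingHom.ext fun a => c'.commutes a
    rw [h3] at h2
    have h4 : m.map (residue R) = ⊥ := Ideal.map_quotient_self m
    rw [h4] at h2
    exact Ideal.mem_bot.mp h2
  -- H1
  let T := P.Ring ⧸ mS
  let ι : ResidueField R →ₐ[R] T := Ideal.Quotient.liftₐ m (Algebra.ofId R T) (by
    intro a ha
    change Ideal.Quotient.mk mS (algebraMap R P.Ring a) = 0
    rw [Ideal.Quotient.eq_zero_iff_mem]
    exact Ideal.mem_map_of_mem _ ha)
  have hπ : Ideal.Quotient.mkₐ R mS = ι.comp c' := by
    apply StandardEtalePair.hom_ext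
    rw [AlgHom.comp_apply, StandardEtalePair.lift_X, Ideal.Quotient.mkₐ_eq_mk]
    change _ = Ideal.Quotient.mk mS (algebraMap R P.Ring a₀)
    exact Ideal.Quotient.eq.mpr hXa₀
  have H1 : ∀ s : P.Ring, ∃ t : R, s - algebraMap R P.Ring t ∈ mS := by
    intro s
    obtain ⟨t, ht⟩ := Ideal.Quotient.mk_surjective (c' s)
    refine ⟨t, ?_⟩
    rw [← Ideal.Quotient.eq]
    have h1 : Ideal.Quotient.mk mS s = ι (c' s) :=
      congrArg (fun φ : P.Ring →ₐ[R] T => φ s) hπ
    rw [h1, ← ht]
    rfl
  have H2 : ∀ t : R, algebraMap R P.Ring t ∈ mS → t ∈ m := by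
    intro t ht
    have h1 := hc'm _ ht
    rw [AlgHom.commutes] at h1
    exact (residue_eq_zero_iff _).mp h1
  -- `1 - e ∈ mS`
  have he1 : 1 - e ∈ mS := by
    have htop : m.map (algebraMap R (P.Ring ⧸ Ideal.span ({e} : Set P.Ring))) = ⊤ := by
      by_contra hne
      obtain ⟨M, hMmax, hMle⟩ := Ideal.exists_le_maximal _ hne
      have hMprime := hMmax.isPrime
      have hover : M.LiesOver m := by
        constructor
        have h1 : m ≤ M.comap (algebraMap R _) := Ideal.map_le_iff_le_comap.mp hMle
        have h2 : (M.comap (algebraMap R (P.Ring ⧸ Ideal.span ({e} : Set P.Ring)))) ≠ ⊤ :=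
          (Ideal.comap_ne_top _ hMmax.ne_top)
        exact ((maximalIdeal.isMaximal R).eq_of_le h2 h1)
      exact hq M hover inferInstance
    have h1 : (1 : P.Ring ⧸ Ideal.span ({e} : Set P.Ring)) ∈
        mS.map (Ideal.Quotient.mk (Ideal.span ({e} : Set P.Ring))) := by
      have : mS.map (Ideal.Quotient.mk (Ideal.span ({e} : Set P.Ring))) =
          m.map (algebraMap R (P.Ring ⧸ Ideal.span ({e} : Set P.Ring))) := by
        rw [Ideal.map_map]; rfl
      rw [this, htop]; exact Submodule.mem_top
    rw [Ideal.mem_map_iff_of_surjective _ Ideal.Quotient.mk_surjective] at h1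
    obtain ⟨μ, hμ, hμ1⟩ := h1
    rw [← map_one (Ideal.Quotient.mk _), Ideal.Quotient.eq, Ideal.mem_span_singleton'] at hμ1
    obtain ⟨y, hy⟩ := hμ1
    have h2 : 1 - e = (1 - e) * μ := by
      have h3 : (1 - e) * e = 0 := by rw [sub_mul, one_mul, he.eq, sub_self]
      have h4 : (1 : P.Ring) = μ - y * e := by rw [hy]; ring
      calc 1 - e = (1 - e) * 1 := (mul_one _).symm
        _ = (1 - e) * (μ - y * e) := by rw [← h4]
        _ = (1 - e) * μ - y * ((1 - e) * e) := by ring
        _ = (1 - e) * μ := by rw [h3, mul_zero, sub_zero]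
    rw [h2]
    exact Ideal.mul_mem_left _ _ hμ
  -- Nakayama
  have hE1 : ∀ s : P.Ring, ∃ t : R, e * s = t • e := by
    have hfg : (idemSub R e).FG := idemSub_fg_of_finite_quotient he hfin
    let N : Submodule R P.Ring := Submodule.span R {e}
    have hmul : ∀ y ∈ (m • ⊤ : Submodule R P.Ring), e * y ∈ m • idemSub R e := by
      intro y hy
      refine Submodule.smul_induction_on hy ?_ ?_
      · intro r hr x _
        rw [mul_smul_comm]
        exact Submodule.smul_mem_smul hr (mem_idemSub.mpr ⟨x, rfl⟩)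
      · intro y z hy hz
        rw [mul_add]
        exact add_mem hy hz
    have hle : idemSub R e ≤ N ⊔ m • idemSub R e := by
      intro z hz
      obtain ⟨s, rfl⟩ := mem_idemSub.mp hz
      obtain ⟨t, ht⟩ := H1 s
      have h2 : e * s = t • e + e * (s - algebraMap R P.Ring t) := by
        rw [mul_sub, Algebra.smul_def, mul_comm (algebraMap R P.Ring t) e]; ring
      rw [h2]
      exact Submodule.add_mem_sup (Submodule.smul_mem _ _ (Submodule.subset_span rfl))
        (hmul _ ((EtaleLift.mem_map_iff_mem_smul_top _).mp ht))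
    have hN := Submodule.le_of_le_smul_of_le_jacobson_bot hfg (maximalIdeal_le_jacobson _) hle
    intro s
    have hb : e * s ∈ N := hN (mem_idemSub.mpr ⟨s, rfl⟩)
    obtain ⟨t, ht⟩ := Submodule.mem_span_singleton.mp hb
    exact ⟨t, ht.symm⟩
  obtain ⟨τ⟩ := EtaleLift.exists_algHom_of_idem (I := m) (maximalIdeal_le_jacobson _) H2 e he
    he1 hE1
  have hroot : P.HasMap (τ P.X) := hX.map τ
  refine ⟨τ P.X, ?_, ?_⟩
  · have := hroot.1
    change aeval (τ P.X) f = 0 at this
    rwa [coe_aeval_eq_eval] at this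
  · have h1 := EtaleLift.map_mem_of_mem τ hXa₀
    rw [map_sub, AlgHom.commutes] at h1
    have h2 : m.map (algebraMap R R) = m := Ideal.map_id m
    rw [h2] at h1
    exact h1

end Groth.Agent.H3
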