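import Groth.Agent.H3.EtNbhdImage
import Groth.Agent.H3.HensFlatMain
import Groth.Agent.H3.HenselBasic

/-!
# Composition of henselian finitely presented maps
-/

set_option autoImplicit false
universe u

open TensorProduct

namespace Groth.Agent.H3

namespace HfpComp

open Hens2

theorem main (A : Type u) [CommRing A] (I : Ideal A)
    (R : Type u) [CommRing R] [Algebra A R] [Algebra.FinitePresentation A R]
    (B : Type u) [CommRing B] [Algebra R B] [Algebra A B] [IsScalarTower A R B]
    (hB : IsPairHenselization R (I.map (algebraMap A R)) B)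
    (S : Type u) [CommRing S] [Algebra B S] [Algebra A S] [IsScalarTower A B S]
    [Algebra.FinitePresentation B S]
    (C : Type u) [CommRing C] [Algebra S C] [Algebra B C] [Algebra A C] [IsScalarTower B S C]
    [IsScalarTower A B C]
    (hC : IsPairHenselization S (I.map (algebraMap A S)) C) :
    ∃ (T : Type u) (_ : CommRing T) (_ : Algebra A T) (_ : Algebra T C) (_ : IsScalarTower A T C),
      Algebra.FinitePresentation A T ∧ IsPairHenselization T (I.map (algebraMap A T)) C := by
  classical
  obtain ⟨n, f, hfs, hfg⟩ := Algebra.FinitePresentation.out (R := B) (A := S)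
  obtain ⟨s, hs⟩ := hfg
  obtain ⟨R', _, _, hN, ψ, hψ⟩ := EtNbhd.inImage_finset hB (s.biUnion fun p => p.coeffs)
  haveI hEt : Algebra.Etale R R' := hN.etale
  letI aAR' : Algebra A R' := ((algebraMap R R').comp (algebraMap A R)).toAlgebra
  haveI tARR' : IsScalarTower A R R' := IsScalarTower.of_algebraMap_eq' rfl
  -- lifts of the relations
  have hlift : ∀ p : (s : Set (MvPolynomial (Fin n) B)),
      ∃ p' : MvPolynomial (Fin n) R', MvPolynomial.map (ψ : R' →+* B) p' = p := by
    intro p
    have h1 : (p : MvPolynomial (Fin n) B) ∈ Set.range (MvPolynomial.map (ψ : R' →+* B)) := by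
      rw [MvPolynomial.mem_range_map_iff_coeffs_subset]
      intro c hc
      apply hψ
      rw [Finset.mem_coe, Finset.mem_biUnion]
      exact ⟨p, p.2, hc⟩
    exact h1
  choose g hg using hlift
  let K' : Ideal (MvPolynomial (Fin n) R') := Ideal.span (Set.range g)
  have hK'fg : K'.FG := Submodule.fg_span (Set.finite_range g)
  have hFPR' : Algebra.FinitePresentation A R' := Algebra.FinitePresentation.trans A R R'
  have hFPPn : Algebra.FinitePresentation A (MvPolynomial (Fin n) R') :=
    Algebra.FinitePresentation.trans A R' _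
  have hFPT : Algebra.FinitePresentation A (MvPolynomial (Fin n) R' ⧸ K') :=
    Algebra.FinitePresentation.quotient hK'fg
  -- the map `T → S`
  let θ : MvPolynomial (Fin n) R' →+* S :=
    f.toRingHom.comp (MvPolynomial.map (ψ : R' →+* B))
  have hsker : ∀ p ∈ s, f p = 0 := by
    intro p hp
    have h1 : p ∈ RingHom.ker f.toRingHom := by
      rw [← hs]
      exact Ideal.subset_span hp
    exact h1
  have hθK : ∀ x ∈ K', θ x = 0 := by
    intro x hx
    have h1 : K' ≤ RingHom.ker θ := by
      rw [Ideal.span_le]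
      rintro _ ⟨p, rfl⟩
      rw [SetLike.mem_coe, RingHom.mem_ker]
      change f (MvPolynomial.map (ψ : R' →+* B) (g p)) = 0
      rw [hg]
      exact hsker p p.2
    exact h1 hx
  let θb : (MvPolynomial (Fin n) R' ⧸ K') →+* S := Ideal.Quotient.lift K' θ hθK
  have hθb : ∀ x, θb (Ideal.Quotient.mk K' x) = f (MvPolynomial.map (ψ : R' →+* B) x) :=
    fun x => rfl
  letI aTC : Algebra (MvPolynomial (Fin n) R' ⧸ K') C := ((algebraMap S C).comp θb).toAlgebra
  have hTC : ∀ t, algebraMap (MvPolynomial (Fin n) R' ⧸ K') C t = algebraMap S C (θb t) :=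
    fun t => rfl
  have hfC : ∀ b : B, f (MvPolynomial.C b) = algebraMap B S b := fun b => f.commutes b
  have hAT : ∀ a : A, algebraMap A (MvPolynomial (Fin n) R' ⧸ K') a =
      Ideal.Quotient.mk K' (MvPolynomial.C (algebraMap R R' (algebraMap A R a))) := fun a => rfl
  have hψR : ∀ r : R, ψ (algebraMap R R' r) = algebraMap R B r := fun r => ψ.commutes r
  have hASC : ∀ a : A, algebraMap A C a = algebraMap S C (algebraMap A S a) := by
    intro a
    rw [IsScalarTower.algebraMap_apply A B C, IsScalarTower.algebraMap_apply B S C,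
      ← IsScalarTower.algebraMap_apply A B S]
  haveI tATC : IsScalarTower A (MvPolynomial (Fin n) R' ⧸ K') C := by
    refine IsScalarTower.of_algebraMap_eq (R := A) (S := MvPolynomial (Fin n) R' ⧸ K') (A := C)
      fun a => ?_
    rw [hTC, hAT, hθb, MvPolynomial.map_C]
    change _ = algebraMap S C (f (MvPolynomial.C (ψ (algebraMap R R' (algebraMap A R a)))))
    rw [hψR, hfC, ← IsScalarTower.algebraMap_apply A R B, hASC,
      IsScalarTower.algebraMap_apply A B S]
  refine ⟨MvPolynomial (Fin n) R' ⧸ K', inferInstance, inferInstance, aTC, tATC, hFPT, ?_, ?_⟩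
  · have h1 : (I.map (algebraMap A (MvPolynomial (Fin n) R' ⧸ K'))).map
        (algebraMap (MvPolynomial (Fin n) R' ⧸ K') C) = I.map (algebraMap A C) := by
      rw [Ideal.map_map, ← IsScalarTower.algebraMap_eq]
    have h2 : (I.map (algebraMap A S)).map (algebraMap S C) = I.map (algebraMap A C) := by
      rw [Ideal.map_map]
      congr 1
      ext a
      exact (hASC a).symm
    rw [h1, ← h2]
    exact hC.1
  · intro D _ J φ hDJ hIJ
    let ρ : R →+* D := φ.comp ((algebraMap R' (MvPolynomial (Fin n) R' ⧸ K')).comp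
      (algebraMap R R'))
    have hρA : ∀ a : A, ρ (algebraMap A R a) =
        φ (algebraMap A (MvPolynomial (Fin n) R' ⧸ K') a) := fun a => rfl
    have hIφ : ∀ a ∈ I, φ (algebraMap A (MvPolynomial (Fin n) R' ⧸ K') a) ∈ J := by
      intro a ha
      apply hIJ
      exact Ideal.mem_map_of_mem _ (Ideal.mem_map_of_mem _ ha)
    have hρJ : (I.map (algebraMap A R)).map ρ ≤ J := by
      rw [Ideal.map_map, Ideal.map_le_iff_le_comap]
      intro a ha
      exact hIφ a ha
    obtain ⟨β, hβ, hβuniq⟩ := hB.2 D J ρ hDJ hρJ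
    have hβR : ∀ r : R, β (algebraMap R B r) = ρ r := fun r =>
      congrArg (fun χ : R →+* D => χ r) hβ
    -- compatibility on `R'`
    letI aRD : Algebra R D := ρ.toAlgebra
    have hDhens : HenselianRing D ((I.map (algebraMap A R)).map (algebraMap R D)) :=
      henselianRing_of_le hρJ hDJ
    let φ₁ : R' →ₐ[R] D := ⟨β.comp (ψ : R' →+* B), fun r => by
      change β (ψ (algebraMap R R' r)) = ρ r
      rw [hψR, hβR]⟩
    let φ₂ : R' →ₐ[R] D := ⟨φ.comp (algebraMap R' (MvPolynomial (Fin n) R' ⧸ K')), fun r => rfl⟩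
    have h12 : φ₁ = φ₂ := EtNbhd.algHom_unique hDhens hN φ₁ φ₂
    have hβψ : ∀ r' : R', β (ψ r') = φ (Ideal.Quotient.mk K' (MvPolynomial.C r')) := fun r' =>
      congrArg (fun χ : R' →ₐ[R] D => χ r') h12
    -- the map on polynomials
    let σ₀ : MvPolynomial (Fin n) B →+* D :=
      MvPolynomial.eval₂Hom β (fun i => φ (Ideal.Quotient.mk K' (MvPolynomial.X i)))
    have hσ₀map : ∀ x : MvPolynomial (Fin n) R',
        σ₀ (MvPolynomial.map (ψ : R' →+* B) x) = φ (Ideal.Quotient.mk K' x) := by
      intro x
      have h1 : σ₀.comp (MvPolynomial.map (ψ : R' →+* B)) = φ.comp (Ideal.Quotient.mk K') := by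
        apply MvPolynomial.ringHom_ext
        · intro r'
          change σ₀ (MvPolynomial.map (ψ : R' →+* B) (MvPolynomial.C r')) = _
          rw [MvPolynomial.map_C]
          change MvPolynomial.eval₂Hom β _ (MvPolynomial.C (ψ r')) = _
          rw [MvPolynomial.eval₂Hom_C]
          exact hβψ r'
        · intro i
          change σ₀ (MvPolynomial.map (ψ : R' →+* B) (MvPolynomial.X i)) = _
          rw [MvPolynomial.map_X]
          change MvPolynomial.eval₂Hom β _ (MvPolynomial.X i) = _
          rw [MvPolynomial.eval₂Hom_X']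
          rfl
      exact congrArg (fun χ : MvPolynomial (Fin n) R' →+* D => χ x) h1
    have hσ₀ker : ∀ x ∈ RingHom.ker f.toRingHom, σ₀ x = 0 := by
      intro x hx
      have h1 : RingHom.ker f.toRingHom ≤ RingHom.ker σ₀ := by
        rw [← hs, Ideal.span_le]
        intro p hp
        rw [SetLike.mem_coe, RingHom.mem_ker,
          show p = MvPolynomial.map (ψ : R' →+* B) (g ⟨p, hp⟩) from (hg ⟨p, hp⟩).symm, hσ₀map]
        have : Ideal.Quotient.mk K' (g ⟨p, hp⟩) = 0 :=
          Ideal.Quotient.eq_zero_iff_mem.mpr (Ideal.subset_span ⟨_, rfl⟩)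
        rw [this, map_zero]
      exact h1 hx
    let ef : (MvPolynomial (Fin n) B ⧸ RingHom.ker f.toRingHom) ≃+* S :=
      RingHom.quotientKerEquivOfSurjective hfs
    have hef : ∀ x, ef (Ideal.Quotient.mk _ x) = f x := fun x => rfl
    let σ : S →+* D := (Ideal.Quotient.lift _ σ₀ hσ₀ker).comp (ef.symm : S →+* _)
    have hσf : ∀ x, σ (f x) = σ₀ x := by
      intro x
      change Ideal.Quotient.lift _ σ₀ hσ₀ker (ef.symm (f x)) = _
      rw [← hef, RingEquiv.symm_apply_apply]
      rfl
    have hσA : ∀ a : A, σ (algebraMap A S a) =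
        φ (algebraMap A (MvPolynomial (Fin n) R' ⧸ K') a) := by
      intro a
      rw [IsScalarTower.algebraMap_apply A B S, ← hfC, hσf]
      change MvPolynomial.eval₂Hom β _ (MvPolynomial.C (algebraMap A B a)) = _
      rw [MvPolynomial.eval₂Hom_C, IsScalarTower.algebraMap_apply A R B, hβR, hρA]
    have hσJ : (I.map (algebraMap A S)).map σ ≤ J := by
      rw [Ideal.map_map, Ideal.map_le_iff_le_comap]
      intro a ha
      rw [Ideal.mem_comap, RingHom.comp_apply, hσA]
      exact hIφ a ha
    obtain ⟨γ, hγ, hγuniq⟩ := hC.2 D J σ hDJ hσJ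
    have hγS : ∀ x : S, γ (algebraMap S C x) = σ x := fun x =>
      congrArg (fun χ : S →+* D => χ x) hγ
    refine ⟨γ, ?_, ?_⟩
    · refine RingHom.ext fun t => ?_
      obtain ⟨x, rfl⟩ := Ideal.Quotient.mk_surjective t
      rw [RingHom.comp_apply, hTC, hθb, hγS, hσf, hσ₀map]
    · intro γ' hγ'
      apply hγuniq
      have hγ'T : ∀ t, γ' (algebraMap (MvPolynomial (Fin n) R' ⧸ K') C t) = φ t := fun t =>
        congrArg (fun χ : (MvPolynomial (Fin n) R' ⧸ K') →+* D => χ t) hγ'
      -- `γ' ∘ (S → C) ∘ (B → S) = β`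
      have hβ' : (γ'.comp (algebraMap S C)).comp (algebraMap B S) = β := by
        apply hβuniq
        ext r
        change γ' (algebraMap S C (algebraMap B S (algebraMap R B r))) = ρ r
        change _ = φ (Ideal.Quotient.mk K' (MvPolynomial.C (algebraMap R R' r)))
        rw [← hγ'T, hTC, hθb, MvPolynomial.map_C]
        change _ = γ' (algebraMap S C (f (MvPolynomial.C (ψ (algebraMap R R' r)))))
        rw [hψR, hfC]
      have h1 : (γ'.comp (algebraMap S C)).comp f.toRingHom = σ₀ := by
        apply MvPolynomial.ringHom_ext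
        · intro b
          change γ' (algebraMap S C (f (MvPolynomial.C b))) =
            MvPolynomial.eval₂Hom β _ (MvPolynomial.C b)
          rw [MvPolynomial.eval₂Hom_C, hfC, ← hβ']
          rfl
        · intro i
          change γ' (algebraMap S C (f (MvPolynomial.X i))) =
            MvPolynomial.eval₂Hom β _ (MvPolynomial.X i)
          rw [MvPolynomial.eval₂Hom_X', ← hγ'T, hTC, hθb, MvPolynomial.map_X]
      ext x
      obtain ⟨y, rfl⟩ := hfs x
      rw [hσf]
      exact congrArg (fun χ : MvPolynomial (Fin n) B →+* D => χ y) h1
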