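import Groth.Agent.H3.DirLimFP

/-!
# Compactness of an algebra with respect to direct limits of henselian pairs: sections
-/

set_option autoImplicit false
universe u

namespace Groth.Agent.H3

namespace HfpCompact

open DirLim

/-- every algebra map to a direct limit of henselian pairs factors through a level -/
def IsCompactHens (A : Type u) [CommRing A] (I : Ideal A) (B : Type u) [CommRing B]
    [Algebra A B] : Prop :=
  ∀ (κ : Type u) [Preorder κ] [IsDirectedOrder κ] [Nonempty κ]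
    (Ra : κ → Type u) [∀ a, CommRing (Ra a)] [∀ a, Algebra A (Ra a)]
    [∀ a, HenselianRing (Ra a) (I.map (algebraMap A (Ra a)))]
    (t : ∀ a b : κ, a ≤ b → (Ra a →+* Ra b)) [DirectedSystem Ra (fun a b hab => t a b hab)],
    (∀ (a b : κ) (hab : a ≤ b), (t a b hab).comp (algebraMap A (Ra a)) = algebraMap A (Ra b)) →
    ∀ [Algebra A (DirectLimit Ra t)],
    (∀ (a : κ) (x : A), algebraMap A (DirectLimit Ra t) x =
      DirectLimit.Ring.of Ra t a (algebraMap A (Ra a) x)) →
    ∀ χ : B →ₐ[A] DirectLimit Ra t, ∃ (a : κ) (φ : B →ₐ[A] Ra a),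
      ∀ x : B, DirectLimit.Ring.of Ra t a (φ x) = χ x

variable {A : Type u} [CommRing A] {I : Ideal A} {B : Type u} [CommRing B] [Algebra A B]

/-- if `B` is the colimit of a directed system of henselian pairs over `A`, the colimit maps have
a common section at some level -/
theorem exists_section (hc : IsCompactHens A I B)
    {κ : Type u} [Preorder κ] [IsDirectedOrder κ] [Nonempty κ]
    (Ra : κ → Type u) [∀ a, CommRing (Ra a)] [∀ a, Algebra A (Ra a)]
    [∀ a, HenselianRing (Ra a) (I.map (algebraMap A (Ra a)))]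
    (t : ∀ a b : κ, a ≤ b → (Ra a →+* Ra b)) [DirectedSystem Ra (fun a b hab => t a b hab)]
    (ht : ∀ (a b : κ) (hab : a ≤ b),
      (t a b hab).comp (algebraMap A (Ra a)) = algebraMap A (Ra b))
    (ψ : ∀ a, Ra a →ₐ[A] B) (hψ : ∀ (a b : κ) (hab : a ≤ b) (x : Ra a), ψ b (t a b hab x) = ψ a x)
    (hsurj : ∀ y : B, ∃ (a : κ) (x : Ra a), ψ a x = y)
    (hinj : ∀ (a : κ) (x : Ra a), ψ a x = 0 → ∃ b, ∃ hab : a ≤ b, t a b hab x = 0) :
    ∃ (a : κ) (φ : B →ₐ[A] Ra a), ∀ x, ψ a (φ x) = x := by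
  classical
  let a₀ : κ := Classical.arbitrary κ
  letI algL : Algebra A (DirectLimit Ra t) :=
    ((DirectLimit.Ring.of Ra t a₀).comp (algebraMap A (Ra a₀))).toAlgebra
  have halg : ∀ (a : κ) (x : A), algebraMap A (DirectLimit Ra t) x =
      DirectLimit.Ring.of Ra t a (algebraMap A (Ra a) x) := by
    intro a x
    obtain ⟨c, h0c, hac⟩ := exists_ge_ge a₀ a
    change DirectLimit.Ring.of Ra t a₀ (algebraMap A (Ra a₀) x) = _
    rw [← of_f a₀ c h0c, ← of_f a c hac]
    have h1 := congrArg (fun θ : A →+* Ra c => θ x) (ht a₀ c h0c)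
    have h2 := congrArg (fun θ : A →+* Ra c => θ x) (ht a c hac)
    simp only [RingHom.comp_apply] at h1 h2
    rw [h1, h2]
  let Ψ : DirectLimit Ra t →+* B :=
    DirectLimit.Ring.lift Ra t B (fun a => (ψ a).toRingHom) (fun a b hab x => hψ a b hab x)
  have hΨ : ∀ a x, Ψ (DirectLimit.Ring.of Ra t a x) = ψ a x := fun a x => rfl
  have hbij : Function.Bijective Ψ := by
    constructor
    · rw [injective_iff_map_eq_zero]
      intro z hz
      obtain ⟨a, x, rfl⟩ := exists_of z
      rw [hΨ] at hz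
      obtain ⟨b, hab, hb⟩ := hinj a x hz
      rw [← of_f a b hab, hb, map_zero]
    · intro y
      obtain ⟨a, x, rfl⟩ := hsurj y
      exact ⟨DirectLimit.Ring.of Ra t a x, hΨ a x⟩
  let e : DirectLimit Ra t ≃+* B := RingEquiv.ofBijective Ψ hbij
  let χ : B →ₐ[A] DirectLimit Ra t :=
    { e.symm.toRingHom with
      commutes' := fun r => by
        change e.symm (algebraMap A B r) = algebraMap A (DirectLimit Ra t) r
        rw [RingEquiv.symm_apply_eq, halg a₀ r]
        change _ = Ψ (DirectLimit.Ring.of Ra t a₀ (algebraMap A (Ra a₀) r))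
        rw [hΨ, AlgHom.commutes] }
  obtain ⟨a, φ, hφ⟩ := hc κ Ra t ht halg χ
  refine ⟨a, φ, fun x => ?_⟩
  have h1 : Ψ (DirectLimit.Ring.of Ra t a (φ x)) = Ψ (χ x) := congrArg Ψ (hφ x)
  rw [hΨ] at h1
  rw [h1]
  exact e.apply_symm_apply x

end HfpCompact

end Groth.Agent.H3
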