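import Groth.Agent.H3.HensQuotient
import Groth.Agent.H3.EtNbhdImage
import Groth.Agent.H3.HensIso

/-!
# A quotient of the henselization of a finitely presented algebra by a finitely generated ideal is
the henselization of a finitely presented algebra
-/

set_option autoImplicit false
universe u

namespace Groth.Agent.H3

namespace HfpCompact

open Hens2 EtNbhd

variable {A : Type u} [CommRing A] {I : Ideal A} {B : Type u} [CommRing B] [Algebra A B]
  (P : Type u) [CommRing P] [Algebra A P] (H : Type u) [CommRing H] [Algebra P H] [Algebra A H]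
  [IsScalarTower A P H]

theorem exists_fp_of_ker_fg [hfp : Algebra.FinitePresentation A P]
    (hH : IsPairHenselization P (I.map (algebraMap A P)) H)
    (π : H →ₐ[A] B) (hπ : Function.Surjective π) (hker : (RingHom.ker π.toRingHom).FG) :
    ∃ (R : Type u) (_ : CommRing R) (_ : Algebra A R) (_ : Algebra R B) (_ : IsScalarTower A R B),
      Algebra.FinitePresentation A R ∧ IsPairHenselization R (I.map (algebraMap A R)) B := by
  classical
  obtain ⟨d, hd⟩ := hker
  obtain ⟨P', cP', aP', hN, φ, hφ⟩ := inImage_finset hH d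
  letI aP'H : Algebra P' H := φ.toRingHom.toAlgebra
  haveI tPP'H : IsScalarTower P P' H := IsScalarTower.of_algebraMap_eq fun x => (φ.commutes x).symm
  have hH' := isPairHenselization_nbhd hH hN
  letI aAP' : Algebra A P' := ((algebraMap P P').comp (algebraMap A P)).toAlgebra
  haveI tAPP' : IsScalarTower A P P' := IsScalarTower.of_algebraMap_eq' rfl
  haveI tAP'H : IsScalarTower A P' H := by
    refine IsScalarTower.of_algebraMap_eq fun a => ?_
    rw [IsScalarTower.algebraMap_apply A P H, IsScalarTower.algebraMap_apply P P' H]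
    rfl
  haveI := hN.etale
  haveI fpP' : Algebra.FinitePresentation A P' := Algebra.FinitePresentation.trans A P P'
  -- preimages of the generators
  have hpre : ∀ x : H, ∃ y : P', x ∈ d → algebraMap P' H y = x := by
    intro x
    by_cases hx : x ∈ d
    · obtain ⟨y, hy⟩ := hφ hx
      exact ⟨y, fun _ => hy⟩
    · exact ⟨0, fun h => absurd h hx⟩
  choose pre hpre using hpre
  let K : Ideal P' := Ideal.span ((d.image pre : Finset P') : Set P')
  have hKfg : K.FG := ⟨d.image pre, rfl⟩
  have hKmap : K.map (algebraMap P' H) = RingHom.ker π.toRingHom := by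
    rw [← hd, Ideal.map_span]
    congr 1
    ext x
    simp only [Finset.coe_image, Set.mem_image, Finset.mem_coe]
    constructor
    · rintro ⟨_, ⟨z, hz, rfl⟩, rfl⟩
      rw [hpre z hz]
      exact hz
    · intro hx
      exact ⟨pre x, ⟨x, hx, rfl⟩, hpre x hx⟩
  have hQ := HensQuotient.isPairHenselization_quotient hH' K
  -- the isomorphism with `B`
  let e₁ : (H ⧸ K.map (algebraMap P' H)) ≃+* (H ⧸ RingHom.ker π.toRingHom) :=
    Ideal.quotEquivOfEq hKmap
  let e₂ : (H ⧸ RingHom.ker π.toRingHom) ≃+* B :=
    RingHom.quotientKerEquivOfSurjective (f := π.toRingHom) hπ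
  let e : (H ⧸ K.map (algebraMap P' H)) ≃+* B := e₁.trans e₂
  have he : ∀ h : H, e (Ideal.Quotient.mk _ h) = π h := fun h => rfl
  letI aRB : Algebra (P' ⧸ K) B :=
    ((e : _ →+* B).comp (algebraMap (P' ⧸ K) (H ⧸ K.map (algebraMap P' H)))).toAlgebra
  haveI tARB : IsScalarTower A (P' ⧸ K) B := by
    refine IsScalarTower.of_algebraMap_eq fun a => ?_
    change _ = e (algebraMap (P' ⧸ K) (H ⧸ K.map (algebraMap P' H))
      (Ideal.Quotient.mk K (algebraMap A P' a)))
    rw [Ideal.Quotient.algebraMap_quotient_map_quotient, he,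
      ← IsScalarTower.algebraMap_apply A P' H]
    exact (π.commutes a).symm
  have hfpR : Algebra.FinitePresentation A (P' ⧸ K) := Algebra.FinitePresentation.quotient hKfg
  refine ⟨P' ⧸ K, inferInstance, inferInstance, aRB, tARB, hfpR, ?_⟩
  have h1 := HensIso.isPairHenselization_of_ringEquiv hQ e rfl
  have h2 : ((I.map (algebraMap A P)).map (algebraMap P P')).map (Ideal.Quotient.mk K) =
      I.map (algebraMap A (P' ⧸ K)) := by
    rw [Ideal.map_map, Ideal.map_map]
    rfl
  rwa [h2] at h1

end HfpCompact

end Groth.Agent.H3
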