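import Groth.Agent.H3.HfpCompact
import Groth.Agent.H3.Gabber
import Groth.Agent.H3.HensIso
import Groth.Agent.H3.HensFlatMain
import Groth.Prelude.Def_Hens2

/-!
# A compact henselian algebra is a quotient of the henselization of a polynomial ring in finitely
many variables
-/

set_option autoImplicit false
universe u

namespace Groth.Agent.H3

namespace HfpCompact

open DirLim Hens2

/-- henselian pairs pass to surjective images -/
theorem henselianRing_of_surjective {S T : Type u} [CommRing S] [CommRing T] (f : S →+* T)
    (hf : Function.Surjective f) (J : Ideal S) (hS : HenselianRing S J) :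
    HenselianRing T (J.map f) := by
  let e : S ⧸ RingHom.ker f ≃+* T := RingHom.quotientKerEquivOfSurjective hf
  have h1 := Groth.Agent.H3.henselianRing_quotient_general (RingHom.ker f) hS
  have h2 := HensIso.henselianRing_of_ringEquiv e _ h1
  rw [Ideal.map_map] at h2
  have h3 : (e : S ⧸ RingHom.ker f →+* T).comp (Ideal.Quotient.mk (RingHom.ker f)) = f :=
    RingHom.ext fun x => rfl
  rwa [h3] at h2

section Gen

variable {A : Type u} [CommRing A] (I : Ideal A) (B : Type u) [CommRing B] [Algebra A B]

/-- the polynomial ring on a finite subset of `B` -/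
abbrev Ps (s : Finset B) : Type u := MvPolynomial s A

/-- the extension of `I` -/
noncomputable abbrev Js (s : Finset B) : Ideal (Ps (A := A) B s) := I.map (algebraMap A (Ps (A := A) B s))

/-- the henselization of the polynomial ring -/
abbrev Hs (s : Finset B) : Type u := HensTower.Lim (Ps (A := A) B s) (Js I B s)

/-- the `A`-algebra structure on the henselization -/
@[reducible] noncomputable def algAHs (s : Finset B) : Algebra A (Hs I B s) :=
  ((algebraMap (Ps (A := A) B s) (Hs I B s)).comp (algebraMap A (Ps (A := A) B s))).toAlgebra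

attribute [local instance] algAHs

instance (s : Finset B) : IsScalarTower A (Ps (A := A) B s) (Hs I B s) :=
  IsScalarTower.of_algebraMap_eq' rfl

theorem isPairHenselization_Hs (s : Finset B) :
    IsPairHenselization (Ps (A := A) B s) (Js I B s) (Hs I B s) :=
  HensFlatMain.isPairHenselization_Lim _ _

/-- evaluation -/
noncomputable def ev (s : Finset B) : Ps (A := A) B s →ₐ[A] B :=
  MvPolynomial.aeval (fun b : s => (b : B))

theorem map_ev_le (s : Finset B) :
    (Js I B s).map (ev (A := A) B s).toRingHom ≤ I.map (algebraMap A B) := by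
  rw [Ideal.map_map]
  apply le_of_eq
  congr 1
  ext a
  exact (ev (A := A) B s).commutes a

variable (hB : HenselianRing B (I.map (algebraMap A B)))

/-- the extension of the evaluation to the henselization -/
noncomputable def hhat (s : Finset B) : Hs I B s →+* B :=
  ((isPairHenselization_Hs I B s).2 B (I.map (algebraMap A B)) (ev (A := A) B s).toRingHom hB
    (map_ev_le I B s)).exists.choose

theorem hhat_comp (s : Finset B) :
    (hhat I B hB s).comp (algebraMap (Ps (A := A) B s) (Hs I B s)) = (ev (A := A) B s).toRingHom :=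
  ((isPairHenselization_Hs I B s).2 B (I.map (algebraMap A B)) (ev (A := A) B s).toRingHom hB
    (map_ev_le I B s)).exists.choose_spec

theorem hhat_unique (s : Finset B) (g : Hs I B s →+* B)
    (hg : g.comp (algebraMap (Ps (A := A) B s) (Hs I B s)) = (ev (A := A) B s).toRingHom) :
    g = hhat I B hB s :=
  ((isPairHenselization_Hs I B s).2 B (I.map (algebraMap A B)) (ev (A := A) B s).toRingHom hB
    (map_ev_le I B s)).unique hg (hhat_comp I B hB s)

theorem hhat_algebraMap (s : Finset B) (a : A) :
    hhat I B hB s (algebraMap A (Hs I B s) a) = algebraMap A B a := by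
  change (hhat I B hB s).comp (algebraMap (Ps (A := A) B s) (Hs I B s))
    (algebraMap A (Ps (A := A) B s) a) = _
  rw [hhat_comp]
  exact (ev (A := A) B s).commutes a

/-- the extension as an algebra map -/
noncomputable def hhatAlg (s : Finset B) : Hs I B s →ₐ[A] B :=
  { hhat I B hB s with commutes' := hhat_algebraMap I B hB s }

theorem hhat_X (s : Finset B) (b : s) :
    hhat I B hB s (algebraMap (Ps (A := A) B s) (Hs I B s) (MvPolynomial.X b)) = b := by
  have h := congrArg (fun θ : Ps (A := A) B s →+* B => θ (MvPolynomial.X b)) (hhat_comp I B hB s)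
  simp only [RingHom.comp_apply] at h
  rw [h]
  exact MvPolynomial.aeval_X _ b

/-- monotonicity of the images -/
theorem range_hhat_mono {s s' : Finset B} (h : s ⊆ s') :
    (hhat I B hB s).range ≤ (hhat I B hB s').range := by
  let ρ : Ps (A := A) B s →ₐ[A] Ps (A := A) B s' :=
    MvPolynomial.rename (fun b : s => (⟨b.1, h b.2⟩ : s'))
  have hρ : (ev (A := A) B s').comp ρ = ev (A := A) B s := by
    apply MvPolynomial.algHom_ext
    intro b
    change MvPolynomial.aeval _ (MvPolynomial.rename _ (MvPolynomial.X b)) = MvPolynomial.aeval _ _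
    rw [MvPolynomial.rename_X, MvPolynomial.aeval_X, MvPolynomial.aeval_X]
  have hle : (Js I B s).map ((algebraMap (Ps (A := A) B s') (Hs I B s')).comp ρ.toRingHom) ≤
      (Js I B s').map (algebraMap (Ps (A := A) B s') (Hs I B s')) := by
    rw [Ideal.map_map, Ideal.map_map]
    apply le_of_eq
    congr 1
    ext a
    simp only [RingHom.comp_apply]
    congr 1
    exact ρ.commutes a
  obtain ⟨θ, hθ, -⟩ := (isPairHenselization_Hs I B s).2 (Hs I B s')
    ((Js I B s').map (algebraMap (Ps (A := A) B s') (Hs I B s')))
    ((algebraMap (Ps (A := A) B s') (Hs I B s')).comp ρ.toRingHom)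
    (isPairHenselization_Hs I B s').1 hle
  have h1 : (hhat I B hB s').comp θ = hhat I B hB s := by
    apply hhat_unique
    rw [RingHom.comp_assoc, hθ, ← RingHom.comp_assoc, hhat_comp]
    exact congrArg AlgHom.toRingHom hρ
  rintro _ ⟨x, rfl⟩
  exact ⟨θ x, congrArg (fun g : Hs I B s →+* B => g x) h1⟩

/-- the image of the henselization, as a subalgebra -/
noncomputable def Rs (s : Finset B) : Subalgebra A B := (hhatAlg I B hB s).range

theorem Rs_mono {s s' : Finset B} (h : s ⊆ s') : Rs I B hB s ≤ Rs I B hB s' := by
  rintro _ ⟨x, rfl⟩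
  obtain ⟨y, hy⟩ := range_hhat_mono I B hB h ⟨x, rfl⟩
  exact ⟨y, hy⟩

theorem henselianRing_Rs (s : Finset B) :
    HenselianRing (Rs I B hB s) (I.map (algebraMap A (Rs I B hB s))) := by
  have h1 := henselianRing_of_surjective (hhatAlg I B hB s).rangeRestrict.toRingHom
    (hhatAlg I B hB s).rangeRestrict_surjective _ (isPairHenselization_Hs I B s).1
  rw [Ideal.map_map, Ideal.map_map] at h1
  have h2 : ((hhatAlg I B hB s).rangeRestrict.toRingHom.comp
      (algebraMap (Ps (A := A) B s) (Hs I B s))).comp (algebraMap A (Ps (A := A) B s)) =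
      algebraMap A (Rs I B hB s) :=
    RingHom.ext fun a => (hhatAlg I B hB s).rangeRestrict.commutes a
  rw [h2] at h1
  exact h1

include hB in
/-- a compact henselian algebra is a quotient of the henselization of a polynomial ring -/
theorem exists_surjective (hc : IsCompactHens A I B) :
    ∃ s : Finset B, Function.Surjective (hhatAlg I B hB s) := by
  classical
  letI : ∀ s : Finset B, HenselianRing (Rs I B hB s) (I.map (algebraMap A (Rs I B hB s))) :=
    fun s => henselianRing_Rs I B hB s
  let t : ∀ s s' : Finset B, s ≤ s' → (Rs I B hB s →+* Rs I B hB s') :=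
    fun s s' h => (Subalgebra.inclusion (Rs_mono I B hB h)).toRingHom
  haveI : DirectedSystem (fun s : Finset B => Rs I B hB s) (fun s s' h => t s s' h) :=
    ⟨fun s x => rfl, fun k j i hij hjk x => rfl⟩
  have ht : ∀ (s s' : Finset B) (h : s ≤ s'),
      (t s s' h).comp (algebraMap A (Rs I B hB s)) = algebraMap A (Rs I B hB s') := by
    intro s s' h
    ext a
    rfl
  obtain ⟨s, φ, hφ⟩ := exists_section hc (fun s : Finset B => Rs I B hB s) t ht
    (fun s => (Rs I B hB s).val) (fun s s' h x => rfl)
    (fun y => ⟨{y}, ⟨y, ⟨algebraMap (Ps (A := A) B {y}) (Hs I B {y})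
      (MvPolynomial.X ⟨y, Finset.mem_singleton_self y⟩), hhat_X I B hB {y} _⟩⟩, rfl⟩)
    (fun s x hx => ⟨s, le_rfl, Subtype.ext hx⟩)
  refine ⟨s, fun y => ?_⟩
  obtain ⟨x, hx⟩ := (φ y).2
  exact ⟨x, hx.trans (hφ y)⟩

end Gen

end HfpCompact

end Groth.Agent.H3
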