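import Groth.Agent.H3.HfpCompact
import Groth.Agent.H3.Gabber
import Groth.Prelude.Def_Hens2

/-!
# Compact henselian algebras: a surjection from the henselization of a finite type algebra has a
finitely generated kernel
-/

set_option autoImplicit false
universe u

namespace Groth.Agent.H3

namespace HfpCompact

open DirLim Hens2

section Kernel

variable {A : Type u} [CommRing A] {I : Ideal A} {B : Type u} [CommRing B] [Algebra A B]
  (P : Type u) [CommRing P] [Algebra A P] (H : Type u) [CommRing H] [Algebra P H] [Algebra A H]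
  [IsScalarTower A P H]

omit [IsScalarTower A P H] in
/-- the henselian pair structure on a quotient of `H` along `I` -/
theorem henselianRing_quotient_of (hH : HenselianRing H (I.map (algebraMap A H))) (𝔠 : Ideal H) :
    HenselianRing (H ⧸ 𝔠) (I.map (algebraMap A (H ⧸ 𝔠))) := by
  have h := Groth.Agent.H3.henselianRing_quotient_general 𝔠 hH
  rwa [Ideal.map_map] at h

variable (hH : IsPairHenselization P (I.map (algebraMap A P)) H)

include hH in
theorem henselianRing_of_isPairHenselization : HenselianRing H (I.map (algebraMap A H)) := by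
  have h := hH.1
  rwa [Ideal.map_map, ← IsScalarTower.algebraMap_eq] at h

variable (π : H →ₐ[A] B)

include hH in
/-- a section of `H ⧸ 𝔠 → B` forces the kernel of `H → B` to be finitely generated -/
theorem ker_fg_of_section [hft : Algebra.FiniteType A P] (𝔠 : Ideal H) (h𝔠 : 𝔠.FG)
    (h𝔠π : ∀ x ∈ 𝔠, π x = 0) (φ : B →ₐ[A] H ⧸ 𝔠)
    (hφ : ∀ x, Ideal.Quotient.liftₐ 𝔠 π h𝔠π (φ x) = x) : (RingHom.ker π.toRingHom).FG := by
  classical
  have hHI := henselianRing_of_isPairHenselization P H hH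
  obtain ⟨s, hs⟩ := hft.out
  let πb : H ⧸ 𝔠 →ₐ[A] B := Ideal.Quotient.liftₐ 𝔠 π h𝔠π
  have hπb : ∀ h : H, πb (Ideal.Quotient.mk 𝔠 h) = π h := fun h => rfl
  let e : H ⧸ 𝔠 →ₐ[A] H ⧸ 𝔠 := φ.comp πb
  let y : P → H ⧸ 𝔠 := fun x => Ideal.Quotient.mk 𝔠 (algebraMap P H x)
  -- lifts of the differences
  have hw : ∀ x : P, ∃ w : H, Ideal.Quotient.mk 𝔠 w = y x - e (y x) :=
    fun x => Ideal.Quotient.mk_surjective _
  choose w hw using hw
  let W : Ideal H := Ideal.span (w '' (s : Set P))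
  have hWfg : W.FG := ⟨s.image w, by rw [Finset.coe_image]⟩
  have hWπ : W ≤ RingHom.ker π.toRingHom := by
    rw [Ideal.span_le]
    rintro _ ⟨x, -, rfl⟩
    change π (w x) = 0
    rw [← hπb, hw, map_sub]
    change πb (y x) - πb (φ (πb (y x))) = 0
    rw [hφ, sub_self]
  let J : Ideal (H ⧸ 𝔠) := W.map (Ideal.Quotient.mk 𝔠)
  -- the two maps to the quotient by `J`
  let Q := (H ⧸ 𝔠) ⧸ J
  have hQ : HenselianRing Q (I.map (algebraMap A Q)) :=
    henselianRing_quotient_of (H ⧸ 𝔠) (henselianRing_quotient_of H hHI 𝔠) J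
  let p₁ : H →ₐ[A] Q := (Ideal.Quotient.mkₐ A J).comp (Ideal.Quotient.mkₐ A 𝔠)
  let p₂ : H →ₐ[A] Q := ((Ideal.Quotient.mkₐ A J).comp e).comp (Ideal.Quotient.mkₐ A 𝔠)
  have hp : p₁.comp (IsScalarTower.toAlgHom A P H) = p₂.comp (IsScalarTower.toAlgHom A P H) := by
    apply AlgHom.ext_of_adjoin_eq_top hs
    intro x hx
    change Ideal.Quotient.mk J (y x) = Ideal.Quotient.mk J (e (y x))
    rw [Ideal.Quotient.eq, ← hw]
    exact Ideal.mem_map_of_mem _ (Ideal.subset_span ⟨x, hx, rfl⟩)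
  have hle : (I.map (algebraMap A P)).map (p₁.toRingHom.comp (algebraMap P H)) ≤
      I.map (algebraMap A Q) := by
    rw [Ideal.map_map]
    apply le_of_eq
    congr 1
    ext a
    simp only [RingHom.comp_apply]
    rw [← IsScalarTower.algebraMap_apply A P H]
    exact p₁.commutes a
  obtain ⟨g, -, hguniq⟩ := hH.2 Q (I.map (algebraMap A Q)) (p₁.toRingHom.comp (algebraMap P H))
    hQ hle
  have h1 : p₁.toRingHom = g := hguniq _ rfl
  have h2 : p₂.toRingHom = g := hguniq _ (by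
    ext x
    exact (congrArg (fun θ : P →ₐ[A] Q => θ x) hp).symm)
  have h12 : ∀ h : H, p₁ h = p₂ h := fun h =>
    congrArg (fun θ : H →+* Q => θ h) (h1.trans h2.symm)
  -- the kernel
  have hker : RingHom.ker π.toRingHom = 𝔠 ⊔ W := by
    apply le_antisymm
    · intro x hx
      have hx0 : π x = 0 := hx
      have h3 : p₂ x = 0 := by
        change Ideal.Quotient.mk J (φ (πb (Ideal.Quotient.mk 𝔠 x))) = 0
        rw [hπb, hx0, map_zero, map_zero]
      have h4 : Ideal.Quotient.mk J (Ideal.Quotient.mk 𝔠 x) = 0 := (h12 x).trans h3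
      rw [Ideal.Quotient.eq_zero_iff_mem] at h4
      obtain ⟨w', hw'W, hw'⟩ :=
        (Ideal.mem_map_iff_of_surjective _ Ideal.Quotient.mk_surjective).mp h4
      have h5 : x - w' ∈ 𝔠 := by
        rw [← Ideal.Quotient.eq, hw']
      have h6 : x = (x - w') + w' := by ring
      rw [h6]
      exact Ideal.add_mem _ (Ideal.mem_sup_left h5) (Ideal.mem_sup_right hw'W)
    · exact sup_le (fun x hx => h𝔠π x hx) hWπ
  rw [hker]
  exact Submodule.FG.sup h𝔠 hWfg

end Kernel

section QuotSystem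

variable {A : Type u} [CommRing A] {I : Ideal A} {B : Type u} [CommRing B] [Algebra A B]
  (P : Type u) [CommRing P] [Algebra A P] (H : Type u) [CommRing H] [Algebra P H] [Algebra A H]
  [IsScalarTower A P H] (π : H →ₐ[A] B)

/-- finitely generated ideals inside the kernel -/
abbrev KIdx : Type u := {𝔠 : Ideal H // 𝔠.FG ∧ 𝔠 ≤ RingHom.ker π.toRingHom}

instance : IsDirectedOrder (KIdx H π) :=
  ⟨fun a b => ⟨⟨a.1 ⊔ b.1, Submodule.FG.sup a.2.1 b.2.1, sup_le a.2.2 b.2.2⟩,
    show a.1 ≤ a.1 ⊔ b.1 from le_sup_left, show b.1 ≤ a.1 ⊔ b.1 from le_sup_right⟩⟩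

instance : Nonempty (KIdx H π) := ⟨⟨⊥, Submodule.fg_bot, bot_le⟩⟩

variable (hH : IsPairHenselization P (I.map (algebraMap A P)) H)

include hH in
/-- a surjection from the henselization of a finite type algebra onto a compact henselian algebra
has a finitely generated kernel -/
theorem ker_fg (hc : IsCompactHens A I B) [hft : Algebra.FiniteType A P]
    (hπ : Function.Surjective π) : (RingHom.ker π.toRingHom).FG := by
  classical
  have hHI := henselianRing_of_isPairHenselization P H hH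
  letI : ∀ a : KIdx H π, HenselianRing (H ⧸ a.1) (I.map (algebraMap A (H ⧸ a.1))) :=
    fun a => henselianRing_quotient_of H hHI a.1
  let t : ∀ a b : KIdx H π, a ≤ b → (H ⧸ a.1 →+* H ⧸ b.1) :=
    fun a b h => Ideal.Quotient.factor h
  haveI : DirectedSystem (fun a : KIdx H π => H ⧸ a.1) (fun a b h => t a b h) := by
    refine ⟨fun a x => ?_, fun k j i hij hjk x => ?_⟩
    · obtain ⟨x, rfl⟩ := Ideal.Quotient.mk_surjective x
      rfl
    · obtain ⟨x, rfl⟩ := Ideal.Quotient.mk_surjective x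
      rfl
  have ht : ∀ (a b : KIdx H π) (hab : a ≤ b),
      (t a b hab).comp (algebraMap A (H ⧸ a.1)) = algebraMap A (H ⧸ b.1) := by
    intro a b hab
    ext r
    rfl
  let ψ : ∀ a : KIdx H π, H ⧸ a.1 →ₐ[A] B :=
    fun a => Ideal.Quotient.liftₐ a.1 π (fun x hx => a.2.2 hx)
  have hψ : ∀ (a b : KIdx H π) (hab : a ≤ b) (x : H ⧸ a.1), ψ b (t a b hab x) = ψ a x := by
    intro a b hab x
    obtain ⟨x, rfl⟩ := Ideal.Quotient.mk_surjective x
    rfl
  have hsurj : ∀ y : B, ∃ (a : KIdx H π) (x : H ⧸ a.1), ψ a x = y := by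
    intro y
    obtain ⟨h, rfl⟩ := hπ y
    exact ⟨⟨⊥, Submodule.fg_bot, bot_le⟩, Ideal.Quotient.mk _ h, rfl⟩
  have hinj : ∀ (a : KIdx H π) (x : H ⧸ a.1), ψ a x = 0 →
      ∃ b, ∃ hab : a ≤ b, t a b hab x = 0 := by
    intro a x hx
    obtain ⟨x, rfl⟩ := Ideal.Quotient.mk_surjective x
    have hx0 : π x = 0 := hx
    refine ⟨⟨a.1 ⊔ Ideal.span {x}, Submodule.FG.sup a.2.1 ⟨{x}, by simp⟩,
      sup_le a.2.2 ((Ideal.span_singleton_le_iff_mem _).mpr hx0)⟩,
      show a.1 ≤ a.1 ⊔ Ideal.span {x} from le_sup_left, ?_⟩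
    change Ideal.Quotient.mk _ x = 0
    rw [Ideal.Quotient.eq_zero_iff_mem]
    exact Ideal.mem_sup_right (Ideal.mem_span_singleton_self x)
  obtain ⟨a, φ, hφ⟩ := exists_section hc (fun a : KIdx H π => H ⧸ a.1) t ht ψ hψ hsurj hinj
  exact ker_fg_of_section P H hH π a.1 a.2.1 (fun x hx => a.2.2 hx) φ hφ

end QuotSystem

end HfpCompact

end Groth.Agent.H3
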