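import Groth.Agent.H3.EtNbhdImage
import Groth.Agent.H3.HensFlatMain
import Groth.Agent.H3.HenselBasic
import Groth.Agent.H3.HensTensorPrime
import Mathlib.RingTheory.FiniteStability

/-!
# Maps between henselian finitely presented algebras are henselian finitely presented
-/

set_option autoImplicit false
universe u

open TensorProduct

namespace Groth.Agent.H3

namespace HfpHom

open Hens2 EtNbhd

section Nbhd

variable {A : Type u} [CommRing A] {I : Ideal A}
variable {B : Type u} [CommRing B] [Algebra A B]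

/-- finitely many polynomial relations that hold in the henselization hold in an étale
neighbourhood -/
theorem exists_nbhd_eval_eq_zero {A₀ : Type u} [CommRing A₀] [Algebra A₀ A]
    (hB : IsPairHenselization A I B) {n : ℕ}
    (c : Fin n → B) (rs : Finset (MvPolynomial (Fin n) A₀))
    (hrs : ∀ r ∈ rs, MvPolynomial.eval₂ ((algebraMap A B).comp (algebraMap A₀ A)) c r = 0) :
    ∃ (A' : Type u) (_ : CommRing A') (_ : Algebra A A') (_ : IsNbhd I A') (φ : A' →ₐ[A] B)
      (s : Fin n → A'), (∀ i, φ (s i) = c i) ∧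
        ∀ r ∈ rs, MvPolynomial.eval₂ ((algebraMap A A').comp (algebraMap A₀ A)) s r = 0 := by
  classical
  obtain ⟨A', _, _, hN, φ, hφ⟩ := inImage_finset hB (Finset.univ.image c)
  have hpre : ∀ i, ∃ x : A', φ x = c i := by
    intro i
    apply hφ
    rw [Finset.mem_coe, Finset.mem_image]
    exact ⟨i, Finset.mem_univ _, rfl⟩
  choose s hs using hpre
  have hcomp : (φ : A' →+* B).comp ((algebraMap A A').comp (algebraMap A₀ A)) =
      (algebraMap A B).comp (algebraMap A₀ A) := by
    ext a
    exact φ.commutes _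
  have hφev : ∀ r ∈ rs,
      φ (MvPolynomial.eval₂ ((algebraMap A A').comp (algebraMap A₀ A)) s r) = 0 := by
    intro r hr
    have h1 := MvPolynomial.eval₂_comp_left (φ : A' →+* B)
      ((algebraMap A A').comp (algebraMap A₀ A)) s r
    have h2 : (φ : A' →+* B) ∘ s = c := funext hs
    rw [hcomp, h2] at h1
    exact h1.trans (hrs r hr)
  have hk : ∀ t : Finset (MvPolynomial (Fin n) A₀), t ⊆ rs →
      ∃ k : A', k - 1 ∈ I.map (algebraMap A A') ∧
        ∀ r ∈ t, k * MvPolynomial.eval₂ ((algebraMap A A').comp (algebraMap A₀ A)) s r = 0 := by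
    intro t
    induction t using Finset.induction_on with
    | empty =>
      intro _
      refine ⟨1, ?_, fun r hr => absurd hr (Finset.notMem_empty r)⟩
      rw [sub_self]
      exact Ideal.zero_mem _
    | insert a t ha ih =>
      intro hsub
      obtain ⟨k₁, hk₁, hk₁'⟩ := ih ((Finset.subset_insert a t).trans hsub)
      obtain ⟨k₂, hk₂, hk₂'⟩ := exists_mul_eq_zero hB hN φ _
        (hφev a (hsub (Finset.mem_insert_self a t)))
      refine ⟨k₁ * k₂, ?_, ?_⟩
      · have h1 : k₁ * k₂ - 1 = k₁ * (k₂ - 1) + (k₁ - 1) := by ring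
        rw [h1]
        exact Ideal.add_mem _ (Ideal.mul_mem_left _ _ hk₂) hk₁
      · intro r hr
        rcases Finset.mem_insert.mp hr with rfl | hr
        · rw [mul_assoc, hk₂', mul_zero]
        · rw [mul_comm k₁ k₂, mul_assoc, hk₁' r hr, mul_zero]
  obtain ⟨k, hk1, hk2⟩ := hk rs (Finset.Subset.refl _)
  have hN'' : IsNbhd I (Localization.Away k) := hN.away k hk1
  obtain ⟨φ''⟩ := exists_algHom hB.1 hN''
  have hφ'' : φ''.comp (IsScalarTower.toAlgHom A A' (Localization.Away k)) = φ :=
    algHom_unique hB.1 hN _ _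
  refine ⟨Localization.Away k, inferInstance, inferInstance, hN'', φ'',
    fun i => algebraMap A' (Localization.Away k) (s i), ?_, ?_⟩
  · intro i
    rw [← hs i]
    exact congrArg (fun χ : A' →ₐ[A] B => χ (s i)) hφ''
  · intro r hr
    have h1 := MvPolynomial.eval₂_comp_left (algebraMap A' (Localization.Away k))
      ((algebraMap A A').comp (algebraMap A₀ A)) s r
    have h2 : (algebraMap A' (Localization.Away k)).comp
        ((algebraMap A A').comp (algebraMap A₀ A)) =
        (algebraMap A (Localization.Away k)).comp (algebraMap A₀ A) := by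
      rw [← RingHom.comp_assoc, ← IsScalarTower.algebraMap_eq]
    rw [h2] at h1
    change MvPolynomial.eval₂ _ (⇑(algebraMap A' (Localization.Away k)) ∘ s) r = 0
    rw [← h1, IsLocalization.map_eq_zero_iff (Submonoid.powers k)]
    exact ⟨⟨k, Submonoid.mem_powers k⟩, hk2 r hr⟩

end Nbhd

section Main

theorem main (A : Type u) [CommRing A] (I : Ideal A)
    (R : Type u) [CommRing R] [Algebra A R] [Algebra.FinitePresentation A R]
    (B : Type u) [CommRing B] [Algebra R B] [Algebra A B] [IsScalarTower A R B]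
    (hB : IsPairHenselization R (I.map (algebraMap A R)) B)
    (S : Type u) [CommRing S] [Algebra A S] [Algebra.FinitePresentation A S]
    (C : Type u) [CommRing C] [Algebra S C] [Algebra A C] [IsScalarTower A S C]
    (hC : IsPairHenselization S (I.map (algebraMap A S)) C)
    [Algebra B C] [IsScalarTower A B C] :
    ∃ (T : Type u) (_ : CommRing T) (_ : Algebra B T) (_ : Algebra T C) (_ : IsScalarTower B T C),
      Algebra.FinitePresentation B T ∧
      IsPairHenselization T ((I.map (algebraMap A B)).map (algebraMap B T)) C := by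
  classical
  obtain ⟨n, f, hfs, hfg⟩ := Algebra.FinitePresentation.out (R := A) (A := R)
  obtain ⟨rs, hrs⟩ := hfg
  let ι : R →+* C := (algebraMap B C).comp (algebraMap R B)
  have hιA : ∀ a : A, ι (algebraMap A R a) = algebraMap A C a := by
    intro a
    change algebraMap B C (algebraMap R B (algebraMap A R a)) = _
    rw [← IsScalarTower.algebraMap_apply A R B, ← IsScalarTower.algebraMap_apply A B C]
  let c : Fin n → C := fun i => ι (f (MvPolynomial.X i))
  -- `ι ∘ f` is evaluation at `c`
  have hev : ∀ p : MvPolynomial (Fin n) A,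
      MvPolynomial.eval₂ ((algebraMap S C).comp (algebraMap A S)) c p = ι (f p) := by
    intro p
    have h1 : (MvPolynomial.eval₂Hom ((algebraMap S C).comp (algebraMap A S)) c) =
        ι.comp f.toRingHom := by
      apply MvPolynomial.ringHom_ext
      · intro a
        rw [MvPolynomial.eval₂Hom_C]
        change algebraMap S C (algebraMap A S a) = ι (f (MvPolynomial.C a))
        have : f (MvPolynomial.C a) = algebraMap A R a := f.commutes a
        rw [this, hιA, ← IsScalarTower.algebraMap_apply A S C]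
      · intro i
        rw [MvPolynomial.eval₂Hom_X']
        rfl
    exact congrArg (fun χ : MvPolynomial (Fin n) A →+* C => χ p) h1
  have hrs0 : ∀ r ∈ rs, MvPolynomial.eval₂ ((algebraMap S C).comp (algebraMap A S)) c r = 0 := by
    intro r hr
    rw [hev]
    have h1 : r ∈ RingHom.ker f.toRingHom := by
      rw [← hrs]
      exact Ideal.subset_span hr
    have h2 : f r = 0 := h1
    rw [h2, map_zero]
  obtain ⟨S', _, _, hN, ψ, s, hψs, hs0⟩ := exists_nbhd_eval_eq_zero hC c rs hrs0
  haveI hEt : Algebra.Etale S S' := hN.etale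
  letI aAS' : Algebra A S' := ((algebraMap S S').comp (algebraMap A S)).toAlgebra
  haveI tASS' : IsScalarTower A S S' := IsScalarTower.of_algebraMap_eq' rfl
  letI aS'C : Algebra S' C := ψ.toRingHom.toAlgebra
  haveI tSS'C : IsScalarTower S S' C := IsScalarTower.of_algebraMap_eq fun x => (ψ.commutes x).symm
  have hψa : ∀ x : S', algebraMap S' C x = ψ x := fun x => rfl
  have hC' := isPairHenselization_nbhd hC hN
  have hFPS' : Algebra.FinitePresentation A S' := Algebra.FinitePresentation.trans A S S'
  -- the map `R → S'`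
  let ρ₀ : MvPolynomial (Fin n) A →+* S' :=
    MvPolynomial.eval₂Hom ((algebraMap S S').comp (algebraMap A S)) s
  have hρ₀ker : ∀ x ∈ RingHom.ker f.toRingHom, ρ₀ x = 0 := by
    intro x hx
    have h1 : RingHom.ker f.toRingHom ≤ RingHom.ker ρ₀ := by
      rw [← hrs, Ideal.span_le]
      intro r hr
      rw [SetLike.mem_coe, RingHom.mem_ker]
      exact hs0 r hr
    exact h1 hx
  let ef : (MvPolynomial (Fin n) A ⧸ RingHom.ker f.toRingHom) ≃+* R :=
    RingHom.quotientKerEquivOfSurjective hfs
  have hef : ∀ x, ef (Ideal.Quotient.mk _ x) = f x := fun x => rfl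
  let ρ : R →+* S' := (Ideal.Quotient.lift _ ρ₀ hρ₀ker).comp (ef.symm : R →+* _)
  have hρf : ∀ x, ρ (f x) = ρ₀ x := by
    intro x
    change Ideal.Quotient.lift _ ρ₀ hρ₀ker (ef.symm (f x)) = _
    rw [← hef, RingEquiv.symm_apply_apply]
    rfl
  letI aRS' : Algebra R S' := ρ.toAlgebra
  have hρa : ∀ x : R, algebraMap R S' x = ρ x := fun x => rfl
  haveI tARS' : IsScalarTower A R S' := by
    refine IsScalarTower.of_algebraMap_eq fun a => ?_
    rw [hρa]
    have : algebraMap A R a = f (MvPolynomial.C a) := (f.commutes a).symm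
    rw [this, hρf]
    change _ = MvPolynomial.eval₂Hom _ s (MvPolynomial.C a)
    rw [MvPolynomial.eval₂Hom_C]
    rfl
  haveI hFPRS' : Algebra.FinitePresentation R S' :=
    Algebra.FinitePresentation.of_restrict_scalars_finitePresentation A R S'
  -- compatibility `ψ ∘ ρ = ι`
  have hψρ : ∀ x : R, ψ (ρ x) = ι x := by
    intro x
    obtain ⟨p, rfl⟩ := hfs x
    rw [hρf, ← hev]
    have h1 := MvPolynomial.eval₂_comp_left (ψ : S' →+* C)
      ((algebraMap S S').comp (algebraMap A S)) s p
    have h2 : (ψ : S' →+* C) ∘ s = c := funext hψs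
    have h3 : (ψ : S' →+* C).comp ((algebraMap S S').comp (algebraMap A S)) =
        (algebraMap S C).comp (algebraMap A S) := by
      ext a
      exact ψ.commutes _
    rw [h2, h3] at h1
    exact h1
  letI aRC : Algebra R C := ι.toAlgebra
  haveI tRBC : IsScalarTower R B C := IsScalarTower.of_algebraMap_eq' rfl
  haveI tRS'C : IsScalarTower R S' C := IsScalarTower.of_algebraMap_eq fun x => (hψρ x).symm
  -- the algebra `T`
  let μ : B ⊗[R] S' →ₐ[B] C :=
    Algebra.TensorProduct.lift (Algebra.ofId B C) (IsScalarTower.toAlgHom R S' C)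
      (fun _ _ => Commute.all _ _)
  letI aTC : Algebra (B ⊗[R] S') C := μ.toRingHom.toAlgebra
  have hμa : ∀ t, algebraMap (B ⊗[R] S') C t = μ t := fun t => rfl
  haveI tBTC : IsScalarTower B (B ⊗[R] S') C :=
    IsScalarTower.of_algebraMap_eq fun b => (μ.commutes b).symm
  have hμ1 : ∀ b : B, μ (b ⊗ₜ 1) = algebraMap B C b := by
    intro b
    rw [Algebra.TensorProduct.lift_tmul, map_one, mul_one]
    rfl
  have hμ2 : ∀ x : S', μ (1 ⊗ₜ x) = ψ x := by
    intro x
    rw [Algebra.TensorProduct.lift_tmul, map_one, one_mul]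
    rfl
  refine ⟨B ⊗[R] S', inferInstance, inferInstance, aTC, tBTC, inferInstance, ?_, ?_⟩
  · have h1 : ((I.map (algebraMap A B)).map (algebraMap B (B ⊗[R] S'))).map
        (algebraMap (B ⊗[R] S') C) = I.map (algebraMap A C) := by
      rw [Ideal.map_map, ← IsScalarTower.algebraMap_eq, Ideal.map_map,
        ← IsScalarTower.algebraMap_eq]
    have h2 : (I.map (algebraMap A S)).map (algebraMap S C) = I.map (algebraMap A C) := by
      rw [Ideal.map_map, ← IsScalarTower.algebraMap_eq]
    rw [h1, ← h2]
    exact hC.1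
  · intro D _ J φ hDJ hIJ
    have hIφ : ∀ a ∈ I, φ ((algebraMap A B a) ⊗ₜ 1) ∈ J := by
      intro a ha
      apply hIJ
      apply Ideal.mem_map_of_mem
      have : (algebraMap A B a) ⊗ₜ[R] (1 : S') = algebraMap B (B ⊗[R] S') (algebraMap A B a) := rfl
      rw [this]
      exact Ideal.mem_map_of_mem _ (Ideal.mem_map_of_mem _ ha)
    let σ : S' →+* D := φ.comp
      (Algebra.TensorProduct.includeRight : S' →ₐ[R] B ⊗[R] S').toRingHom
    have hσ : ∀ x : S', σ x = φ (1 ⊗ₜ x) := fun x => rfl
    have hAtmul : ∀ a : A, (1 : B) ⊗ₜ[R] (algebraMap A S' a) = (algebraMap A B a) ⊗ₜ[R] (1 : S') := by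
      intro a
      rw [IsScalarTower.algebraMap_apply A R S', IsScalarTower.algebraMap_apply A R B,
        Algebra.algebraMap_eq_smul_one (algebraMap A R a),
        Algebra.algebraMap_eq_smul_one (A := B) (algebraMap A R a), TensorProduct.smul_tmul]
    have hσJ : ((I.map (algebraMap A S)).map (algebraMap S S')).map σ ≤ J := by
      rw [Ideal.map_map, Ideal.map_map, Ideal.map_le_iff_le_comap]
      intro a ha
      rw [Ideal.mem_comap]
      change σ (algebraMap A S' a) ∈ J
      rw [hσ, hAtmul]
      exact hIφ a ha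
    obtain ⟨γ, hγ, hγuniq⟩ := hC'.2 D J σ hDJ hσJ
    have hγψ : ∀ x : S', γ (ψ x) = σ x := fun x =>
      congrArg (fun χ : S' →+* D => χ x) hγ
    -- the restriction to `B`
    let β : B →+* D := φ.comp (algebraMap B (B ⊗[R] S'))
    have hβ : ∀ b : B, β b = φ (b ⊗ₜ 1) := fun b => rfl
    let ρD : R →+* D := β.comp (algebraMap R B)
    have hρDJ : (I.map (algebraMap A R)).map ρD ≤ J := by
      rw [Ideal.map_map, Ideal.map_le_iff_le_comap]
      intro a ha
      rw [Ideal.mem_comap]
      change β (algebraMap R B (algebraMap A R a)) ∈ J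
      rw [← IsScalarTower.algebraMap_apply A R B, hβ]
      exact hIφ a ha
    obtain ⟨β₀, -, hβ₀uniq⟩ := hB.2 D J ρD hDJ hρDJ
    have hRtmul : ∀ x : R, (1 : B) ⊗ₜ[R] (ρ x) = (algebraMap R B x) ⊗ₜ[R] (1 : S') := by
      intro x
      rw [← hρa, Algebra.algebraMap_eq_smul_one x,
        Algebra.algebraMap_eq_smul_one (A := B) x, TensorProduct.smul_tmul]
    have hγB : γ.comp (algebraMap B C) = β := by
      rw [hβ₀uniq β rfl]
      apply hβ₀uniq
      ext x
      change γ (algebraMap B C (algebraMap R B x)) = β (algebraMap R B x)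
      have h1 : algebraMap B C (algebraMap R B x) = ψ (ρ x) := (hψρ x).symm
      rw [h1, hγψ, hσ, hRtmul, hβ]
    refine ⟨γ, ?_, ?_⟩
    · apply HensTensorPrime.ringHom_ext_tensor
      · intro b
        rw [RingHom.comp_apply, hμa, hμ1]
        exact congrArg (fun χ : B →+* D => χ b) hγB
      · intro x
        rw [RingHom.comp_apply, hμa, hμ2, hγψ, hσ]
    · intro γ' hγ'
      apply hγuniq
      ext x
      have h1 := congrArg (fun χ : (B ⊗[R] S') →+* D => χ (1 ⊗ₜ x)) hγ'
      simp only [RingHom.comp_apply] at h1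
      rw [hμa, hμ2] at h1
      rw [RingHom.comp_apply, hψa, h1, hσ]

end Main

end HfpHom

end Groth.Agent.H3
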