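import Groth.Agent.H3.EtaleLiftUnique
import Mathlib.RingTheory.HopfAlgebra.Convolution
import Mathlib.RingTheory.HopfAlgebra.TensorProduct

/-! Lifting the Hopf algebra structure of the reduction of a finite étale algebra over a henselian
pair: structure maps. -/

set_option autoImplicit false
set_option linter.style.haveILetI false
set_option linter.unusedSectionVars false
universe u
open scoped TensorProduct

namespace Groth.Agent.H3.HopfLift

section Bar

variable {R : Type u} [CommRing R] (I : Ideal R)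
variable {X Y Z : Type u} [CommRing X] [CommRing Y] [CommRing Z] [Algebra R X] [Algebra R Y]
  [Algebra R Z]

/-- reduction of an algebra map modulo `I` -/
noncomputable abbrev bar (f : X →ₐ[R] Y) : (R ⧸ I) ⊗[R] X →ₐ[R ⧸ I] (R ⧸ I) ⊗[R] Y :=
  Algebra.TensorProduct.map (AlgHom.id (R ⧸ I) (R ⧸ I)) f

theorem bar_tmul (f : X →ₐ[R] Y) (a : R ⧸ I) (x : X) : bar I f (a ⊗ₜ x) = a ⊗ₜ f x := by
  simp [bar]

theorem bar_comp (g : Y →ₐ[R] Z) (f : X →ₐ[R] Y) :
    bar I (g.comp f) = (bar I g).comp (bar I f) := by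
  apply Algebra.TensorProduct.ext'
  intro a x
  simp

theorem bar_comp_apply (g : Y →ₐ[R] Z) (f : X →ₐ[R] Y) (z : (R ⧸ I) ⊗[R] X) :
    bar I g (bar I f z) = bar I (g.comp f) z := by
  rw [bar_comp]; rfl

end Bar

section Lift

variable {R : Type u} [CommRing R] {I : Ideal R} (h : HenselianRing R I)
  (E : Type u) [CommRing E] [Algebra R E] [Module.Finite R E] [Algebra.Etale R E]

include h

theorem exists_lift (Y : Type u) [CommRing Y] [Algebra R Y] [Module.Finite R Y]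
    (χ : (R ⧸ I) ⊗[R] E →ₐ[R ⧸ I] (R ⧸ I) ⊗[R] Y) : ∃ f : E →ₐ[R] Y, bar I f = χ :=
  (Groth.Agent.H3.EtaleLift.finite_etale_hom_bijective h E Y).2 χ

theorem hom_ext (Y : Type u) [CommRing Y] [Algebra R Y] [Module.Finite R Y]
    {f g : E →ₐ[R] Y} (hfg : ∀ e : E, bar I f ((1 : R ⧸ I) ⊗ₜ e) = bar I g ((1 : R ⧸ I) ⊗ₜ e)) :
    f = g := by
  apply (Groth.Agent.H3.EtaleLift.finite_etale_hom_bijective h E Y).1
  apply Algebra.TensorProduct.ext'
  intro a e
  have h1 : (a ⊗ₜ[R] e : (R ⧸ I) ⊗[R] E) = a • ((1 : R ⧸ I) ⊗ₜ e) := by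
    rw [TensorProduct.smul_tmul', smul_eq_mul, mul_one]
  change bar I f (a ⊗ₜ e) = bar I g (a ⊗ₜ e)
  rw [h1, map_smul, map_smul, hfg]

end Lift

section Phi

open WithConv

variable {R : Type u} [CommRing R] {I : Ideal R} (h : HenselianRing R I)
  (E : Type u) [CommRing E] [Algebra R E] [Module.Finite R E] [Algebra.Etale R E]
  (H : Type u) [CommRing H] [HopfAlgebra (R ⧸ I) H] (θ : (R ⧸ I) ⊗[R] E ≃ₐ[R ⧸ I] H)

/-- the comparison of `Hom(E, Y)` with the convolution monoid `Hom(H, Y/I)` -/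
noncomputable def Φ {Y : Type u} [CommRing Y] [Algebra R Y] (u : E →ₐ[R] Y) :
    WithConv (H →ₐ[R ⧸ I] (R ⧸ I) ⊗[R] Y) :=
  toConv ((bar I u).comp (θ.symm : H →ₐ[R ⧸ I] (R ⧸ I) ⊗[R] E))

theorem Φ_apply {Y : Type u} [CommRing Y] [Algebra R Y] (u : E →ₐ[R] Y) (x : H) :
    (Φ E H θ u).ofConv x = bar I u (θ.symm x) := rfl

theorem Φ_comp {Y Z : Type u} [CommRing Y] [Algebra R Y] [CommRing Z] [Algebra R Z]
    (g : Y →ₐ[R] Z) (u : E →ₐ[R] Y) :
    Φ E H θ (g.comp u) = toConv ((bar I g).comp (Φ E H θ u).ofConv) := by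
  apply WithConv.ofConv_injective
  apply AlgHom.ext
  intro x
  rw [Φ_apply, bar_comp]
  rfl

include h in
theorem Φ_injective {Y : Type u} [CommRing Y] [Algebra R Y] [Module.Finite R Y] :
    Function.Injective (Φ E H θ (Y := Y)) := by
  intro u v huv
  apply hom_ext h E Y
  intro e
  have h1 := congrArg (fun F : WithConv (H →ₐ[R ⧸ I] (R ⧸ I) ⊗[R] Y) =>
    F.ofConv (θ ((1 : R ⧸ I) ⊗ₜ e))) huv
  simp only [Φ_apply, AlgEquiv.symm_apply_apply] at h1
  exact h1

include h in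
theorem Φ_surjective {Y : Type u} [CommRing Y] [Algebra R Y] [Module.Finite R Y] :
    Function.Surjective (Φ E H θ (Y := Y)) := by
  intro F
  obtain ⟨u, hu⟩ := exists_lift h E Y (F.ofConv.comp (θ : (R ⧸ I) ⊗[R] E →ₐ[R ⧸ I] H))
  refine ⟨u, ?_⟩
  apply WithConv.ofConv_injective
  apply AlgHom.ext
  intro x
  rw [Φ_apply, hu]
  simp

end Phi

end Groth.Agent.H3.HopfLift
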