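import Groth.Agent.H3.HopfLiftInst
import Mathlib.RingTheory.Bialgebra.TensorProduct

/-! The reduction of the lifted Hopf algebra structure is the given one. -/

set_option autoImplicit false
set_option linter.style.haveILetI false
set_option linter.unusedSectionVars false
universe u
open scoped TensorProduct
open WithConv

namespace Groth.Agent.H3.HopfLift

section Mu

variable {R : Type u} [CommRing R] (I : Ideal R)
variable (X Y : Type u) [CommRing X] [CommRing Y] [Algebra R X] [Algebra R Y]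

/-- the canonical map `(X/I) ⊗ (Y/I) → (X ⊗ Y)/I` -/
noncomputable def mu :
    ((R ⧸ I) ⊗[R] X) ⊗[R ⧸ I] ((R ⧸ I) ⊗[R] Y) →ₐ[R ⧸ I] (R ⧸ I) ⊗[R] (X ⊗[R] Y) :=
  Algebra.TensorProduct.lift (bar I (Algebra.TensorProduct.includeLeft : X →ₐ[R] X ⊗[R] Y))
    (bar I (Algebra.TensorProduct.includeRight : Y →ₐ[R] X ⊗[R] Y)) (fun _ _ => Commute.all _ _)

/-- the canonical map `(X ⊗ Y)/I → (X/I) ⊗ (Y/I)` -/
noncomputable def nu :
    (R ⧸ I) ⊗[R] (X ⊗[R] Y) →ₐ[R ⧸ I] ((R ⧸ I) ⊗[R] X) ⊗[R ⧸ I] ((R ⧸ I) ⊗[R] Y) :=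
  (Algebra.TensorProduct.tensorTensorTensorComm R (R ⧸ I) R (R ⧸ I) (R ⧸ I) (R ⧸ I) X
    Y).toAlgHom.comp
    (Algebra.TensorProduct.map (Bialgebra.comulAlgHom (R ⧸ I) (R ⧸ I)) (AlgHom.id R (X ⊗[R] Y)))

theorem nu_tmul (a : R ⧸ I) (x : X) (y : Y) :
    nu I X Y (a ⊗ₜ (x ⊗ₜ y)) = (a ⊗ₜ x) ⊗ₜ ((1 : R ⧸ I) ⊗ₜ y) := by
  have h1 : nu I X Y (a ⊗ₜ (x ⊗ₜ y)) = ((1 : R ⧸ I) ⊗ₜ x) ⊗ₜ (a ⊗ₜ y) := by
    simp [nu, CommSemiring.comul_apply]
  rw [h1]
  have h2 : (a ⊗ₜ[R] y : (R ⧸ I) ⊗[R] Y) = a • ((1 : R ⧸ I) ⊗ₜ y) := by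
    rw [TensorProduct.smul_tmul', smul_eq_mul, mul_one]
  have h3 : (a ⊗ₜ[R] x : (R ⧸ I) ⊗[R] X) = a • ((1 : R ⧸ I) ⊗ₜ x) := by
    rw [TensorProduct.smul_tmul', smul_eq_mul, mul_one]
  rw [h2, h3, TensorProduct.tmul_smul, TensorProduct.smul_tmul']

theorem mu_tmul (a a' : R ⧸ I) (x : X) (y : Y) :
    mu I X Y ((a ⊗ₜ x) ⊗ₜ (a' ⊗ₜ y)) = (a * a') ⊗ₜ (x ⊗ₜ y) := by
  simp [mu]

theorem nu_mu (w : ((R ⧸ I) ⊗[R] X) ⊗[R ⧸ I] ((R ⧸ I) ⊗[R] Y)) : nu I X Y (mu I X Y w) = w := by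
  induction w using TensorProduct.induction_on with
  | zero => simp
  | add w w' hw hw' => rw [map_add, map_add, hw, hw']
  | tmul p q =>
    induction p using TensorProduct.induction_on with
    | zero => simp
    | add p p' hp hp' => rw [TensorProduct.add_tmul, map_add, map_add, hp, hp']
    | tmul a x =>
      induction q using TensorProduct.induction_on with
      | zero => simp
      | add q q' hq hq' => rw [TensorProduct.tmul_add, map_add, map_add, hq, hq']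
      | tmul a' y =>
        rw [mu_tmul, nu_tmul]
        have h2 : (a' ⊗ₜ[R] y : (R ⧸ I) ⊗[R] Y) = a' • ((1 : R ⧸ I) ⊗ₜ y) := by
          rw [TensorProduct.smul_tmul', smul_eq_mul, mul_one]
        have h3 : ((a * a') ⊗ₜ[R] x : (R ⧸ I) ⊗[R] X) = a' • (a ⊗ₜ x) := by
          rw [TensorProduct.smul_tmul', smul_eq_mul, mul_comm]
        have h4 : (((a * a') ⊗ₜ[R] x : (R ⧸ I) ⊗[R] X) ⊗ₜ[R ⧸ I] ((1 : R ⧸ I) ⊗ₜ[R] y)) =
            a' • ((a ⊗ₜ[R] x : (R ⧸ I) ⊗[R] X) ⊗ₜ[R ⧸ I] ((1 : R ⧸ I) ⊗ₜ[R] y)) := by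
          rw [h3]
          exact (TensorProduct.smul_tmul' _ _ _).symm
        have h5 : ((a ⊗ₜ[R] x : (R ⧸ I) ⊗[R] X) ⊗ₜ[R ⧸ I] (a' ⊗ₜ[R] y)) =
            a' • ((a ⊗ₜ[R] x : (R ⧸ I) ⊗[R] X) ⊗ₜ[R ⧸ I] ((1 : R ⧸ I) ⊗ₜ[R] y)) := by
          rw [h2, TensorProduct.tmul_smul]
        rw [h4, h5]

end Mu

section Theta

variable {R : Type u} [CommRing R] {I : Ideal R} (h : HenselianRing R I)
  (E : Type u) [CommRing E] [Algebra R E] [Module.Finite R E] [Algebra.Etale R E]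
  (H : Type u) [CommRing H] [HopfAlgebra (R ⧸ I) H] (θ : (R ⧸ I) ⊗[R] E ≃ₐ[R ⧸ I] H)

theorem comul_eq_nu (z : (R ⧸ I) ⊗[R] E) :
    letI := hopfL h E H θ
    Coalgebra.comul (R := R ⧸ I) z = nu I E E (bar I (comulL h E H θ) z) := by
  letI := hopfL h E H θ
  induction z using TensorProduct.induction_on with
  | zero => simp
  | add z z' hz hz' => rw [map_add, map_add, map_add, hz, hz']
  | tmul a e => rfl

theorem lift_eq_mu_map (w : H ⊗[R ⧸ I] H) :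
    Algebra.TensorProduct.lift
      ((bar I (Algebra.TensorProduct.includeLeft : E →ₐ[R] E ⊗[R] E)).comp
        (θ.symm : H →ₐ[R ⧸ I] (R ⧸ I) ⊗[R] E))
      ((bar I (Algebra.TensorProduct.includeRight : E →ₐ[R] E ⊗[R] E)).comp
        (θ.symm : H →ₐ[R ⧸ I] (R ⧸ I) ⊗[R] E)) (fun _ _ => Commute.all _ _) w =
      mu I E E (Algebra.TensorProduct.map (θ.symm : H →ₐ[R ⧸ I] (R ⧸ I) ⊗[R] E)
        (θ.symm : H →ₐ[R ⧸ I] (R ⧸ I) ⊗[R] E) w) := by
  induction w using TensorProduct.induction_on with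
  | zero => simp
  | add w w' hw hw' => rw [map_add, map_add, map_add, hw, hw']
  | tmul x y => simp [mu]

theorem bar_comulL_eq (x : H) :
    bar I (comulL h E H θ) (θ.symm x) =
      mu I E E (Algebra.TensorProduct.map (θ.symm : H →ₐ[R ⧸ I] (R ⧸ I) ⊗[R] E)
        (θ.symm : H →ₐ[R ⧸ I] (R ⧸ I) ⊗[R] E) (Coalgebra.comul (R := R ⧸ I) x)) := by
  have h1 : (Φ E H θ (comulL h E H θ)) x =
      (Φ E H θ (Algebra.TensorProduct.includeLeft : E →ₐ[R] E ⊗[R] E) *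
        Φ E H θ (Algebra.TensorProduct.includeRight : E →ₐ[R] E ⊗[R] E)) x := by
    rw [Φ_comulL]
  rw [AlgHom.convMul_apply] at h1
  rw [← lift_eq_mu_map]
  exact h1

theorem theta_comul :
    letI := hopfL h E H θ
    (Algebra.TensorProduct.map (θ : (R ⧸ I) ⊗[R] E →ₐ[R ⧸ I] H)
      (θ : (R ⧸ I) ⊗[R] E →ₐ[R ⧸ I] H)).comp (Bialgebra.comulAlgHom (R ⧸ I) ((R ⧸ I) ⊗[R] E)) =
      (Bialgebra.comulAlgHom (R ⧸ I) H).comp (θ : (R ⧸ I) ⊗[R] E →ₐ[R ⧸ I] H) := by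
  letI := hopfL h E H θ
  apply AlgHom.ext
  intro z
  simp only [AlgHom.comp_apply, Bialgebra.comulAlgHom_apply, AlgEquiv.coe_algHom]
  rw [comul_eq_nu]
  have h1 := bar_comulL_eq h E H θ (θ z)
  rw [AlgEquiv.symm_apply_apply] at h1
  rw [h1, nu_mu]
  generalize (Coalgebra.comul (R := R ⧸ I) (θ z)) = w
  induction w using TensorProduct.induction_on with
  | zero => simp
  | add w w' hw hw' => rw [map_add, map_add, hw, hw']
  | tmul x y => simp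

theorem theta_counit :
    letI := hopfL h E H θ
    (Bialgebra.counitAlgHom (R ⧸ I) H).comp (θ : (R ⧸ I) ⊗[R] E →ₐ[R ⧸ I] H) =
      Bialgebra.counitAlgHom (R ⧸ I) ((R ⧸ I) ⊗[R] E) := by
  letI := hopfL h E H θ
  apply Algebra.TensorProduct.ext'
  intro a e
  simp only [AlgHom.comp_apply, Bialgebra.counitAlgHom_apply, AlgEquiv.coe_algHom]
  have h1 : (Φ E H θ (counitL h E H θ)) (θ (a ⊗ₜ e)) =
      (1 : WithConv (H →ₐ[R ⧸ I] (R ⧸ I) ⊗[R] R)) (θ (a ⊗ₜ e)) := by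
    rw [Φ_counitL]
  rw [AlgHom.convOne_apply] at h1
  have h2 : (Φ E H θ (counitL h E H θ)) (θ (a ⊗ₜ e)) = a ⊗ₜ (counitL h E H θ e) := by
    change bar I (counitL h E H θ) (θ.symm (θ (a ⊗ₜ e))) = _
    rw [AlgEquiv.symm_apply_apply, bar_tmul]
  rw [h2] at h1
  have h3 := congrArg (Algebra.TensorProduct.rid R (R ⧸ I) (R ⧸ I)) h1
  rw [Algebra.TensorProduct.rid_tmul, Algebra.TensorProduct.algebraMap_apply,
    Algebra.TensorProduct.rid_tmul, one_smul] at h3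
  rw [TensorProduct.counit_tmul, CommSemiring.counit_apply]
  exact h3.symm ▸ rfl

/-- the comparison isomorphism as an isomorphism of bialgebras -/
noncomputable def thetaBialg :
    letI := hopfL h E H θ
    (R ⧸ I) ⊗[R] E ≃ₐc[R ⧸ I] H :=
  letI := hopfL h E H θ
  BialgEquiv.ofAlgEquiv θ (theta_counit h E H θ) (theta_comul h E H θ)

theorem comm_comulL [Coalgebra.IsCocomm (R ⧸ I) H] :
    (Algebra.TensorProduct.comm R E E).toAlgHom.comp (comulL h E H θ) = comulL h E H θ := by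
  apply Φ_injective h E H θ
  have h1 : (Algebra.TensorProduct.comm R E E).toAlgHom =
      Algebra.TensorProduct.lift (Algebra.TensorProduct.includeRight : E →ₐ[R] E ⊗[R] E)
        (Algebra.TensorProduct.includeLeft : E →ₐ[R] E ⊗[R] E) (fun _ _ => Commute.all _ _) := by
    apply Algebra.TensorProduct.ext'
    intro x y
    simp
  rw [h1, Φ_star, Φ_comulL]
  exact mul_comm (Φ E H θ (Algebra.TensorProduct.includeRight : E →ₐ[R] E ⊗[R] E))
    (Φ E H θ (Algebra.TensorProduct.includeLeft : E →ₐ[R] E ⊗[R] E))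

theorem isCocomm_hopfL [Coalgebra.IsCocomm (R ⧸ I) H] :
    letI := hopfL h E H θ
    Coalgebra.IsCocomm R E := by
  letI := hopfL h E H θ
  refine ⟨?_⟩
  apply LinearMap.ext
  intro e
  exact DFunLike.congr_fun (comm_comulL h E H θ) e

end Theta

end Groth.Agent.H3.HopfLift
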