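import Groth.Agent.H3.HopfLiftMaps

/-! The lifted Hopf algebra structure on a finite étale algebra over a henselian pair. -/

set_option autoImplicit false
set_option linter.style.haveILetI false
set_option linter.unusedSectionVars false
universe u
open scoped TensorProduct
open WithConv

namespace Groth.Agent.H3.HopfLift

variable {R : Type u} [CommRing R] {I : Ideal R} (h : HenselianRing R I)
  (E : Type u) [CommRing E] [Algebra R E] [Module.Finite R E] [Algebra.Etale R E]
  (H : Type u) [CommRing H] [HopfAlgebra (R ⧸ I) H] (θ : (R ⧸ I) ⊗[R] E ≃ₐ[R ⧸ I] H)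

/-- the lifted bialgebra structure -/
noncomputable abbrev bialgL : Bialgebra R E :=
  Bialgebra.ofAlgHom (comulL h E H θ) (counitL h E H θ) (coassocL h E H θ)
    (rTensor_counitL h E H θ) (lTensor_counitL h E H θ)

theorem mul'_rTensor_eq_lift (S : E →ₐ[R] E) (w : E ⊗[R] E) :
    LinearMap.mul' R E (S.toLinearMap.rTensor E w) =
      Algebra.TensorProduct.lift S (AlgHom.id R E) (fun _ _ => Commute.all _ _) w := by
  induction w using TensorProduct.induction_on with
  | zero => simp
  | tmul x y => simp
  | add w w' hw hw' => rw [map_add, map_add, hw, hw', map_add]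

theorem mul'_lTensor_eq_lift (S : E →ₐ[R] E) (w : E ⊗[R] E) :
    LinearMap.mul' R E (S.toLinearMap.lTensor E w) =
      Algebra.TensorProduct.lift (AlgHom.id R E) S (fun _ _ => Commute.all _ _) w := by
  induction w using TensorProduct.induction_on with
  | zero => simp
  | tmul x y => simp
  | add w w' hw hw' => rw [map_add, map_add, hw, hw', map_add]

/-- the lifted Hopf algebra structure -/
noncomputable abbrev hopfL : HopfAlgebra R E :=
  letI := bialgL h E H θ
  { antipode := (antipodeL h E H θ).toLinearMap
    mul_antipode_rTensor_comul := by
      apply LinearMap.ext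
      intro e
      have h1 := DFunLike.congr_fun (antipodeL_left h E H θ) e
      simp only [LinearMap.comp_apply]
      rw [mul'_rTensor_eq_lift]
      exact h1
    mul_antipode_lTensor_comul := by
      apply LinearMap.ext
      intro e
      have h1 := DFunLike.congr_fun (antipodeL_right h E H θ) e
      simp only [LinearMap.comp_apply]
      rw [mul'_lTensor_eq_lift]
      exact h1 }

end Groth.Agent.H3.HopfLift
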