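import Groth.Agent.H3.HopfLiftEquiv
import Groth.Agent.H3.CartBCBialg
import Groth.Agent.H3.MTFinProps
import Groth.Agent.S0532

/-! Lifting finite groups of multiplicative type from the residue field of a henselian local
ring. -/

set_option autoImplicit false
set_option linter.style.haveILetI false
set_option linter.unusedSectionVars false
universe u
open scoped TensorProduct
open CartDual

namespace Groth.Agent.H3.HopfLift

open Groth.Agent.H3.CartRing

theorem connectedSpace_of_isLocalRing (R : Type u) [CommRing R] [IsLocalRing R] :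
    ConnectedSpace (PrimeSpectrum R) := by
  apply Groth.Agent.H3.FEtConn.connectedSpace_of_idem
  intro e he
  rcases IsLocalRing.isUnit_or_isUnit_one_sub_self e with hu | hu
  · right
    exact (IsIdempotentElem.iff_eq_one_of_isUnit hu).1 he
  · left
    have h1 : e * (1 - e) = 0 := by
      rw [mul_sub, mul_one, he.eq, sub_self]
    exact (hu.mul_left_eq_zero).1 h1

theorem projective_of_finite_etale (R : Type u) [CommRing R] (E : Type u) [CommRing E]
    [Algebra R E] [Module.Finite R E] [Algebra.Etale R E] : Module.Projective R E := by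
  haveI : Module.FinitePresentation R E :=
    Module.FinitePresentation.of_finite_of_finitePresentation R E
  exact Module.Flat.projective_of_finitePresentation

theorem exists_isotrivial_lift (R : Type u) [CommRing R] [HenselianLocalRing R]
    (C₀ : Type u) [CommRing C₀] [HopfAlgebra (R ⧸ IsLocalRing.maximalIdeal R) C₀]
    [Module.Finite (R ⧸ IsLocalRing.maximalIdeal R) C₀]
    (h₀ : SGA3b.IsMultType (R ⧸ IsLocalRing.maximalIdeal R) C₀) :
    ∃ (C : Type u) (_ : CommRing C) (_ : HopfAlgebra R C), Module.Finite R C ∧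
      SGA3b.IsIsotrivial R C ∧
      Nonempty (((R ⧸ IsLocalRing.maximalIdeal R) ⊗[R] C) ≃ₐc[R ⧸ IsLocalRing.maximalIdeal R]
        C₀) := by
  haveI := isCocomm_of_isMultType (R ⧸ IsLocalRing.maximalIdeal R) C₀ h₀
  haveI := projective_of_isMultType (R ⧸ IsLocalRing.maximalIdeal R) C₀ h₀
  haveI := etale_dual_of_isMultType (R ⧸ IsLocalRing.maximalIdeal R) C₀ h₀
  have hhens : HenselianRing R (IsLocalRing.maximalIdeal R) := inferInstance
  obtain ⟨E, _, _, hfin, het, ⟨θ⟩⟩ := Groth.Agent.S0532.result R (IsLocalRing.maximalIdeal R)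
    (D (R ⧸ IsLocalRing.maximalIdeal R) C₀)
  haveI := hfin
  haveI := het
  letI := hopfL hhens E (D (R ⧸ IsLocalRing.maximalIdeal R) C₀) θ
  haveI := isCocomm_hopfL hhens E (D (R ⧸ IsLocalRing.maximalIdeal R) C₀) θ
  haveI := projective_of_finite_etale R E
  haveI := connectedSpace_of_isLocalRing R
  refine ⟨D R E, inferInstance, inferInstance, inferInstance, ?_, ⟨?_⟩⟩
  · haveI : Algebra.Etale R (D R (D R E)) :=
      Algebra.Etale.of_equiv (Groth.Agent.H79.cartEvalEquiv R E).toAlgEquiv
    exact isIsotrivial_of_etale_dual R (D R E)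
  · exact (bcBialg R E (R ⧸ IsLocalRing.maximalIdeal R)).trans
      ((transposeEquiv (R ⧸ IsLocalRing.maximalIdeal R)
        (thetaBialg hhens E (D (R ⧸ IsLocalRing.maximalIdeal R) C₀) θ).symm).trans
        (Groth.Agent.H79.cartEvalEquiv (R ⧸ IsLocalRing.maximalIdeal R) C₀).symm)

end Groth.Agent.H3.HopfLift
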