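import Groth.Agent.H3.HopfLiftCore

/-! Lifting the Hopf algebra structure of the reduction of a finite étale algebra over a henselian
pair: the lifted structure maps and the axioms. -/

set_option autoImplicit false
set_option linter.style.haveILetI false
set_option linter.unusedSectionVars false
universe u
open scoped TensorProduct
open WithConv

namespace Groth.Agent.H3.HopfLift

variable {R : Type u} [CommRing R] {I : Ideal R} (h : HenselianRing R I)
  (E : Type u) [CommRing E] [Algebra R E] [Module.Finite R E] [Algebra.Etale R E]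
  (H : Type u) [CommRing H] [HopfAlgebra (R ⧸ I) H] (θ : (R ⧸ I) ⊗[R] E ≃ₐ[R ⧸ I] H)

/-- the lifted comultiplication -/
noncomputable def comulL : E →ₐ[R] E ⊗[R] E :=
  Classical.choose (Φ_surjective h E H θ (Y := E ⊗[R] E)
    (Φ E H θ (Algebra.TensorProduct.includeLeft : E →ₐ[R] E ⊗[R] E) *
      Φ E H θ (Algebra.TensorProduct.includeRight : E →ₐ[R] E ⊗[R] E)))

theorem Φ_comulL : Φ E H θ (comulL h E H θ) =
    Φ E H θ (Algebra.TensorProduct.includeLeft : E →ₐ[R] E ⊗[R] E) *
      Φ E H θ (Algebra.TensorProduct.includeRight : E →ₐ[R] E ⊗[R] E) :=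
  Classical.choose_spec (Φ_surjective h E H θ (Y := E ⊗[R] E) _)

/-- the lifted counit -/
noncomputable def counitL : E →ₐ[R] R :=
  Classical.choose (Φ_surjective h E H θ (Y := R) 1)

theorem Φ_counitL : Φ E H θ (counitL h E H θ) = 1 :=
  Classical.choose_spec (Φ_surjective h E H θ (Y := R) 1)

/-- the lifted antipode -/
noncomputable def antipodeL : E →ₐ[R] E :=
  Classical.choose (Φ_surjective h E H θ (Y := E)
    (toConv ((Φ E H θ (AlgHom.id R E)).ofConv.comp (HopfAlgebra.antipodeAlgHom (R ⧸ I) H))))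

theorem Φ_antipodeL : Φ E H θ (antipodeL h E H θ) =
    toConv ((Φ E H θ (AlgHom.id R E)).ofConv.comp (HopfAlgebra.antipodeAlgHom (R ⧸ I) H)) :=
  Classical.choose_spec (Φ_surjective h E H θ (Y := E) _)

/-- the product of two maps out of `E`, defined through the lifted comultiplication -/
theorem Φ_star {Y : Type u} [CommRing Y] [Algebra R Y] (u v : E →ₐ[R] Y) :
    Φ E H θ ((Algebra.TensorProduct.lift u v (fun _ _ => Commute.all _ _)).comp (comulL h E H θ)) =
      Φ E H θ u * Φ E H θ v := by
  rw [Φ_comp, Φ_comulL, AlgHom.comp_convMul_distrib, WithConv.toConv_ofConv]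
  congr 1
  · rw [← Φ_comp, Algebra.TensorProduct.lift_comp_includeLeft]
  · rw [← Φ_comp]
    congr 1
    apply AlgHom.ext
    intro e
    simp

theorem Φ_unit {Y : Type u} [CommRing Y] [Algebra R Y] :
    Φ E H θ ((Algebra.ofId R Y).comp (counitL h E H θ)) = 1 := by
  rw [Φ_comp, Φ_counitL]
  apply WithConv.ofConv_injective
  apply AlgHom.ext
  intro x
  simp only [WithConv.ofConv_toConv, AlgHom.comp_apply, AlgHom.convOne_apply]
  rw [Algebra.algebraMap_eq_smul_one, Algebra.algebraMap_eq_smul_one, map_smul, map_one]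

theorem map_eq_lift {X₁ X₂ Y₁ Y₂ : Type u} [CommRing X₁] [CommRing X₂] [CommRing Y₁] [CommRing Y₂]
    [Algebra R X₁] [Algebra R X₂] [Algebra R Y₁] [Algebra R Y₂] (f : X₁ →ₐ[R] Y₁)
    (g : X₂ →ₐ[R] Y₂) :
    Algebra.TensorProduct.map f g =
      Algebra.TensorProduct.lift
        ((Algebra.TensorProduct.includeLeft : Y₁ →ₐ[R] Y₁ ⊗[R] Y₂).comp f)
        ((Algebra.TensorProduct.includeRight : Y₂ →ₐ[R] Y₁ ⊗[R] Y₂).comp g)
        (fun _ _ => Commute.all _ _) := by
  apply Algebra.TensorProduct.ext'
  intro a b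
  simp

theorem rTensor_counitL :
    (Algebra.TensorProduct.map (counitL h E H θ) (.id R E)).comp (comulL h E H θ) =
      (Algebra.TensorProduct.lid R E).symm := by
  apply Φ_injective h E H θ
  rw [map_eq_lift, Φ_star]
  have h1 : (Algebra.TensorProduct.includeLeft : R →ₐ[R] R ⊗[R] E) = Algebra.ofId R (R ⊗[R] E) := by
    apply AlgHom.ext
    intro r
    simp [Algebra.ofId_apply, Algebra.TensorProduct.algebraMap_apply]
  rw [h1, Φ_unit]
  refine (one_mul (Φ E H θ ((Algebra.TensorProduct.includeRight : E →ₐ[R] R ⊗[R] E).comp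
    (AlgHom.id R E)))).trans ?_
  congr 1

theorem lTensor_counitL :
    (Algebra.TensorProduct.map (.id R E) (counitL h E H θ)).comp (comulL h E H θ) =
      (Algebra.TensorProduct.rid R R E).symm := by
  apply Φ_injective h E H θ
  rw [map_eq_lift, Φ_star]
  have h1 : (Algebra.TensorProduct.includeRight : R →ₐ[R] E ⊗[R] R) = Algebra.ofId R (E ⊗[R] R) := by
    apply AlgHom.ext
    intro r
    rw [Algebra.ofId_apply, Algebra.TensorProduct.includeRight_apply,
      Algebra.algebraMap_eq_smul_one, Algebra.TensorProduct.one_def, ← TensorProduct.tmul_smul,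
      smul_eq_mul, mul_one]
  rw [h1, Φ_unit]
  refine (mul_one (Φ E H θ ((Algebra.TensorProduct.includeLeft : E →ₐ[R] E ⊗[R] R).comp
    (AlgHom.id R E)))).trans ?_
  congr 1

theorem coassocL :
    (Algebra.TensorProduct.assoc R R R E E E).toAlgHom.comp
      ((Algebra.TensorProduct.map (comulL h E H θ) (.id R E)).comp (comulL h E H θ)) =
      (Algebra.TensorProduct.map (.id R E) (comulL h E H θ)).comp (comulL h E H θ) := by
  apply Φ_injective h E H θ
  let a : E →ₐ[R] E ⊗[R] (E ⊗[R] E) := Algebra.TensorProduct.includeLeft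
  let b : E →ₐ[R] E ⊗[R] (E ⊗[R] E) :=
    (Algebra.TensorProduct.includeRight : E ⊗[R] E →ₐ[R] E ⊗[R] (E ⊗[R] E)).comp
      (Algebra.TensorProduct.includeLeft : E →ₐ[R] E ⊗[R] E)
  let c : E →ₐ[R] E ⊗[R] (E ⊗[R] E) :=
    (Algebra.TensorProduct.includeRight : E ⊗[R] E →ₐ[R] E ⊗[R] (E ⊗[R] E)).comp
      (Algebra.TensorProduct.includeRight : E →ₐ[R] E ⊗[R] E)
  have key1 : ∀ (w : E ⊗[R] E) (y : E), Algebra.TensorProduct.assoc R R R E E E (w ⊗ₜ y) =
      Algebra.TensorProduct.lift a b (fun _ _ => Commute.all _ _) w * c y := by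
    intro w y
    induction w using TensorProduct.induction_on with
    | zero => simp
    | tmul x x' => simp [a, b, c]
    | add w w' hw hw' => rw [TensorProduct.add_tmul, map_add, hw, hw', map_add, add_mul]
  have key2 : ∀ w : E ⊗[R] E, (Algebra.TensorProduct.includeRight :
      E ⊗[R] E →ₐ[R] E ⊗[R] (E ⊗[R] E)) w =
      Algebra.TensorProduct.lift b c (fun _ _ => Commute.all _ _) w := by
    intro w
    induction w using TensorProduct.induction_on with
    | zero => simp
    | tmul x x' => simp [b, c]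
    | add w w' hw hw' => rw [map_add, hw, hw', map_add]
  have hL : (Algebra.TensorProduct.assoc R R R E E E).toAlgHom.comp
      ((Algebra.TensorProduct.map (comulL h E H θ) (.id R E)).comp (comulL h E H θ)) =
      (Algebra.TensorProduct.lift ((Algebra.TensorProduct.lift a b
        (fun _ _ => Commute.all _ _)).comp (comulL h E H θ)) c
        (fun _ _ => Commute.all _ _)).comp (comulL h E H θ) := by
    rw [← AlgHom.comp_assoc]
    congr 1
    apply Algebra.TensorProduct.ext'
    intro x y
    simp only [AlgHom.comp_apply, Algebra.TensorProduct.map_tmul, AlgHom.id_apply,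
      Algebra.TensorProduct.lift_tmul]
    exact key1 _ _
  have hR : (Algebra.TensorProduct.map (.id R E) (comulL h E H θ)).comp (comulL h E H θ) =
      (Algebra.TensorProduct.lift a ((Algebra.TensorProduct.lift b c
        (fun _ _ => Commute.all _ _)).comp (comulL h E H θ))
        (fun _ _ => Commute.all _ _)).comp (comulL h E H θ) := by
    congr 1
    apply Algebra.TensorProduct.ext'
    intro x y
    simp only [AlgHom.comp_apply, Algebra.TensorProduct.map_tmul, AlgHom.id_apply,
      Algebra.TensorProduct.lift_tmul]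
    rw [← key2]
    simp [a]
  rw [hL, hR, Φ_star, Φ_star, Φ_star, Φ_star]
  exact mul_assoc (Φ E H θ a) (Φ E H θ b) (Φ E H θ c)

theorem id_antipode_cancel (k : Type u) [CommRing k] (A : Type u) [CommRing A] [HopfAlgebra k A] :
    toConv (AlgHom.id k A) * toConv (HopfAlgebra.antipodeAlgHom k A) = 1 := by
  apply WithConv.ofConv_injective
  apply AlgHom.toLinearMap_injective
  apply WithConv.toConv_injective
  rw [AlgHom.toLinearMap_convMul, AlgHom.toLinearMap_convOne]
  simp [LinearMap.id_mul_antipode]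

theorem comp_one_conv {k : Type u} [CommRing k] {A T : Type u} [CommRing A] [Bialgebra k A]
    [CommRing T] [Algebra k T] (F : A →ₐ[k] T) :
    toConv (F.comp (1 : WithConv (A →ₐ[k] A)).ofConv) = 1 := by
  apply WithConv.ofConv_injective
  apply AlgHom.ext
  intro x
  simp

theorem antipodeL_left :
    (Algebra.TensorProduct.lift (antipodeL h E H θ) (AlgHom.id R E)
      (fun _ _ => Commute.all _ _)).comp (comulL h E H θ) =
      (Algebra.ofId R E).comp (counitL h E H θ) := by
  apply Φ_injective h E H θ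
  rw [Φ_star, Φ_unit, Φ_antipodeL]
  have h1 := AlgHom.comp_convMul_distrib (Φ E H θ (AlgHom.id R E)).ofConv
    (toConv (HopfAlgebra.antipodeAlgHom (R ⧸ I) H)) (toConv (AlgHom.id (R ⧸ I) H))
  rw [AlgHom.antipode_id_cancel] at h1
  have h2 := congrArg toConv h1
  rw [comp_one_conv, WithConv.toConv_ofConv] at h2
  rw [h2]
  congr 1

theorem antipodeL_right :
    (Algebra.TensorProduct.lift (AlgHom.id R E) (antipodeL h E H θ)
      (fun _ _ => Commute.all _ _)).comp (comulL h E H θ) =
      (Algebra.ofId R E).comp (counitL h E H θ) := by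
  apply Φ_injective h E H θ
  rw [Φ_star, Φ_unit, Φ_antipodeL]
  have h1 := AlgHom.comp_convMul_distrib (Φ E H θ (AlgHom.id R E)).ofConv
    (toConv (AlgHom.id (R ⧸ I) H)) (toConv (HopfAlgebra.antipodeAlgHom (R ⧸ I) H))
  rw [id_antipode_cancel] at h1
  have h2 := congrArg toConv h1
  rw [comp_one_conv, WithConv.toConv_ofConv] at h2
  rw [h2]
  congr 1

end Groth.Agent.H3.HopfLift
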