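import Mathlib.RingTheory.HopfAlgebra.Convolution
import Mathlib.RingTheory.HopfAlgebra.TensorProduct
import Mathlib.RingTheory.Bialgebra.TensorProduct

/-! Transfer of a Hopf algebra structure along a base change `K ⊗[R] E ≃ₐ[K] H`: if the functor of
points of `E` (seen through `K ⊗[R] -`) is a subgroup functor of that of `H`, then `E` is a Hopf
algebra over `R` and the comparison is an isomorphism of bialgebras. -/

set_option autoImplicit false
set_option linter.style.haveILetI false
set_option linter.unusedSectionVars false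
universe u
open scoped TensorProduct
open WithConv

namespace Groth.Agent.H3.HopfTransfer

section BC

variable {R : Type u} [CommRing R] (K : Type u) [CommRing K] [Algebra R K]
variable {X Y Z : Type u} [CommRing X] [CommRing Y] [CommRing Z] [Algebra R X] [Algebra R Y]
  [Algebra R Z]

/-- base change of an algebra map to `K` -/
noncomputable abbrev bc (f : X →ₐ[R] Y) : K ⊗[R] X →ₐ[K] K ⊗[R] Y :=
  Algebra.TensorProduct.map (AlgHom.id K K) f

theorem bc_tmul (f : X →ₐ[R] Y) (a : K) (x : X) : bc K f (a ⊗ₜ x) = a ⊗ₜ f x := by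
  simp [bc]

theorem bc_comp (g : Y →ₐ[R] Z) (f : X →ₐ[R] Y) :
    bc K (g.comp f) = (bc K g).comp (bc K f) := by
  apply Algebra.TensorProduct.ext'
  intro a x
  simp

theorem bc_comp_apply (g : Y →ₐ[R] Z) (f : X →ₐ[R] Y) (z : K ⊗[R] X) :
    bc K g (bc K f z) = bc K (g.comp f) z := by
  rw [bc_comp]; rfl

end BC

section Phi

open WithConv

variable {R : Type u} [CommRing R] (K : Type u) [CommRing K] [Algebra R K]
  (E : Type u) [CommRing E] [Algebra R E]
  (H : Type u) [CommRing H] [HopfAlgebra K H] (θ : K ⊗[R] E ≃ₐ[K] H)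

/-- the comparison of `Hom(E, Y)` with the convolution monoid `Hom(H, Y/I)` -/
noncomputable def Φ {Y : Type u} [CommRing Y] [Algebra R Y] (u : E →ₐ[R] Y) :
    WithConv (H →ₐ[K] K ⊗[R] Y) :=
  toConv ((bc K u).comp (θ.symm : H →ₐ[K] K ⊗[R] E))

theorem Φ_apply {Y : Type u} [CommRing Y] [Algebra R Y] (u : E →ₐ[R] Y) (x : H) :
    (Φ K E H θ u).ofConv x = bc K u (θ.symm x) := rfl

theorem Φ_comp {Y Z : Type u} [CommRing Y] [Algebra R Y] [CommRing Z] [Algebra R Z]
    (g : Y →ₐ[R] Z) (u : E →ₐ[R] Y) :
    Φ K E H θ (g.comp u) = toConv ((bc K g).comp (Φ K E H θ u).ofConv) := by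
  apply WithConv.ofConv_injective
  apply AlgHom.ext
  intro x
  rw [Φ_apply, bc_comp]
  rfl


/-- the data needed to transfer the Hopf algebra structure -/
structure Data where
  inj : ∀ (Y : Type u) [CommRing Y] [Algebra R Y], Function.Injective (Φ K E H θ (Y := Y))
  comul : E →ₐ[R] E ⊗[R] E
  comul_spec : Φ K E H θ comul =
    Φ K E H θ (Algebra.TensorProduct.includeLeft : E →ₐ[R] E ⊗[R] E) *
      Φ K E H θ (Algebra.TensorProduct.includeRight : E →ₐ[R] E ⊗[R] E)
  counit : E →ₐ[R] R
  counit_spec : Φ K E H θ counit = 1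
  antipode : E →ₐ[R] E
  antipode_spec : Φ K E H θ antipode =
    toConv ((Φ K E H θ (AlgHom.id R E)).ofConv.comp (HopfAlgebra.antipodeAlgHom K H))

end Phi

section Maps

variable {R : Type u} [CommRing R] {K : Type u} [CommRing K] [Algebra R K]
  {E : Type u} [CommRing E] [Algebra R E]
  {H : Type u} [CommRing H] [HopfAlgebra K H] {θ : K ⊗[R] E ≃ₐ[K] H} (D : Data K E H θ)

/-- the product of two maps out of `E`, defined through the lifted comultiplication -/
theorem Φ_star {Y : Type u} [CommRing Y] [Algebra R Y] (u v : E →ₐ[R] Y) :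
    Φ K E H θ ((Algebra.TensorProduct.lift u v (fun _ _ => Commute.all _ _)).comp (D.comul)) =
      Φ K E H θ u * Φ K E H θ v := by
  rw [Φ_comp, D.comul_spec, AlgHom.comp_convMul_distrib, WithConv.toConv_ofConv]
  congr 1
  · rw [← Φ_comp, Algebra.TensorProduct.lift_comp_includeLeft]
  · rw [← Φ_comp]
    congr 1
    apply AlgHom.ext
    intro e
    simp

theorem Φ_unit {Y : Type u} [CommRing Y] [Algebra R Y] :
    Φ K E H θ ((Algebra.ofId R Y).comp (D.counit)) = 1 := by
  rw [Φ_comp, D.counit_spec]
  apply WithConv.ofConv_injective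
  apply AlgHom.ext
  intro x
  simp only [WithConv.ofConv_toConv, AlgHom.comp_apply, AlgHom.convOne_apply]
  rw [Algebra.algebraMap_eq_smul_one, Algebra.algebraMap_eq_smul_one, map_smul, map_one]

theorem map_eq_lift {X₁ X₂ Y₁ Y₂ : Type u} [CommRing X₁] [CommRing X₂] [CommRing Y₁] [CommRing Y₂]
    [Algebra R X₁] [Algebra R X₂] [Algebra R Y₁] [Algebra R Y₂] (f : X₁ →ₐ[R] Y₁)
    (g : X₂ →ₐ[R] Y₂) :
    Algebra.TensorProduct.map f g =
      Algebra.TensorProduct.lift
        ((Algebra.TensorProduct.includeLeft : Y₁ →ₐ[R] Y₁ ⊗[R] Y₂).comp f)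
        ((Algebra.TensorProduct.includeRight : Y₂ →ₐ[R] Y₁ ⊗[R] Y₂).comp g)
        (fun _ _ => Commute.all _ _) := by
  apply Algebra.TensorProduct.ext'
  intro a b
  simp

theorem rTensor_counitT :
    (Algebra.TensorProduct.map (D.counit) (.id R E)).comp (D.comul) =
      (Algebra.TensorProduct.lid R E).symm := by
  apply D.inj
  rw [map_eq_lift, Φ_star]
  have h1 : (Algebra.TensorProduct.includeLeft : R →ₐ[R] R ⊗[R] E) = Algebra.ofId R (R ⊗[R] E) := by
    apply AlgHom.ext
    intro r
    simp [Algebra.ofId_apply, Algebra.TensorProduct.algebraMap_apply]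
  rw [h1, Φ_unit]
  refine (one_mul (Φ K E H θ ((Algebra.TensorProduct.includeRight : E →ₐ[R] R ⊗[R] E).comp
    (AlgHom.id R E)))).trans ?_
  congr 1

theorem lTensor_counitT :
    (Algebra.TensorProduct.map (.id R E) (D.counit)).comp (D.comul) =
      (Algebra.TensorProduct.rid R R E).symm := by
  apply D.inj
  rw [map_eq_lift, Φ_star]
  have h1 : (Algebra.TensorProduct.includeRight : R →ₐ[R] E ⊗[R] R) = Algebra.ofId R (E ⊗[R] R) := by
    apply AlgHom.ext
    intro r
    rw [Algebra.ofId_apply, Algebra.TensorProduct.includeRight_apply,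
      Algebra.algebraMap_eq_smul_one, Algebra.TensorProduct.one_def, ← TensorProduct.tmul_smul,
      smul_eq_mul, mul_one]
  rw [h1, Φ_unit]
  refine (mul_one (Φ K E H θ ((Algebra.TensorProduct.includeLeft : E →ₐ[R] E ⊗[R] R).comp
    (AlgHom.id R E)))).trans ?_
  congr 1

theorem coassocT :
    (Algebra.TensorProduct.assoc R R R E E E).toAlgHom.comp
      ((Algebra.TensorProduct.map (D.comul) (.id R E)).comp (D.comul)) =
      (Algebra.TensorProduct.map (.id R E) (D.comul)).comp (D.comul) := by
  apply D.inj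
  let a : E →ₐ[R] E ⊗[R] (E ⊗[R] E) := Algebra.TensorProduct.includeLeft
  let b : E →ₐ[R] E ⊗[R] (E ⊗[R] E) :=
    (Algebra.TensorProduct.includeRight : E ⊗[R] E →ₐ[R] E ⊗[R] (E ⊗[R] E)).comp
      (Algebra.TensorProduct.includeLeft : E →ₐ[R] E ⊗[R] E)
  let c : E →ₐ[R] E ⊗[R] (E ⊗[R] E) :=
    (Algebra.TensorProduct.includeRight : E ⊗[R] E →ₐ[R] E ⊗[R] (E ⊗[R] E)).comp
      (Algebra.TensorProduct.includeRight : E →ₐ[R] E ⊗[R] E)
  have key1 : ∀ (w : E ⊗[R] E) (y : E), Algebra.TensorProduct.assoc R R R E E E (w ⊗ₜ y) =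
      Algebra.TensorProduct.lift a b (fun _ _ => Commute.all _ _) w * c y := by
    intro w y
    induction w using TensorProduct.induction_on with
    | zero => simp
    | tmul x x' => simp [a, b, c]
    | add w w' hw hw' => rw [TensorProduct.add_tmul, map_add, hw, hw', map_add, add_mul]
  have key2 : ∀ w : E ⊗[R] E, (Algebra.TensorProduct.includeRight :
      E ⊗[R] E →ₐ[R] E ⊗[R] (E ⊗[R] E)) w =
      Algebra.TensorProduct.lift b c (fun _ _ => Commute.all _ _) w := by
    intro w
    induction w using TensorProduct.induction_on with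
    | zero => simp
    | tmul x x' => simp [b, c]
    | add w w' hw hw' => rw [map_add, hw, hw', map_add]
  have hL : (Algebra.TensorProduct.assoc R R R E E E).toAlgHom.comp
      ((Algebra.TensorProduct.map (D.comul) (.id R E)).comp (D.comul)) =
      (Algebra.TensorProduct.lift ((Algebra.TensorProduct.lift a b
        (fun _ _ => Commute.all _ _)).comp (D.comul)) c
        (fun _ _ => Commute.all _ _)).comp (D.comul) := by
    rw [← AlgHom.comp_assoc]
    congr 1
    apply Algebra.TensorProduct.ext'
    intro x y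
    simp only [AlgHom.comp_apply, Algebra.TensorProduct.map_tmul, AlgHom.id_apply,
      Algebra.TensorProduct.lift_tmul]
    exact key1 _ _
  have hR : (Algebra.TensorProduct.map (.id R E) (D.comul)).comp (D.comul) =
      (Algebra.TensorProduct.lift a ((Algebra.TensorProduct.lift b c
        (fun _ _ => Commute.all _ _)).comp (D.comul))
        (fun _ _ => Commute.all _ _)).comp (D.comul) := by
    congr 1
    apply Algebra.TensorProduct.ext'
    intro x y
    simp only [AlgHom.comp_apply, Algebra.TensorProduct.map_tmul, AlgHom.id_apply,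
      Algebra.TensorProduct.lift_tmul]
    rw [← key2]
    simp [a]
  rw [hL, hR, Φ_star, Φ_star, Φ_star, Φ_star]
  exact mul_assoc (Φ K E H θ a) (Φ K E H θ b) (Φ K E H θ c)

theorem id_antipode_cancel (k : Type u) [CommRing k] (A : Type u) [CommRing A] [HopfAlgebra k A] :
    toConv (AlgHom.id k A) * toConv (HopfAlgebra.antipodeAlgHom k A) = 1 := by
  apply WithConv.ofConv_injective
  apply AlgHom.toLinearMap_injective
  apply WithConv.toConv_injective
  rw [AlgHom.toLinearMap_convMul, AlgHom.toLinearMap_convOne]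
  simp [LinearMap.id_mul_antipode]

theorem comp_one_conv {k : Type u} [CommRing k] {A T : Type u} [CommRing A] [Bialgebra k A]
    [CommRing T] [Algebra k T] (F : A →ₐ[k] T) :
    toConv (F.comp (1 : WithConv (A →ₐ[k] A)).ofConv) = 1 := by
  apply WithConv.ofConv_injective
  apply AlgHom.ext
  intro x
  simp

theorem antipodeT_left :
    (Algebra.TensorProduct.lift (D.antipode) (AlgHom.id R E)
      (fun _ _ => Commute.all _ _)).comp (D.comul) =
      (Algebra.ofId R E).comp (D.counit) := by
  apply D.inj
  rw [Φ_star, Φ_unit, D.antipode_spec]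
  have h1 := AlgHom.comp_convMul_distrib (Φ K E H θ (AlgHom.id R E)).ofConv
    (toConv (HopfAlgebra.antipodeAlgHom K H)) (toConv (AlgHom.id K H))
  rw [AlgHom.antipode_id_cancel] at h1
  have h2 := congrArg toConv h1
  rw [comp_one_conv, WithConv.toConv_ofConv] at h2
  rw [h2]
  congr 1

theorem antipodeT_right :
    (Algebra.TensorProduct.lift (AlgHom.id R E) (D.antipode)
      (fun _ _ => Commute.all _ _)).comp (D.comul) =
      (Algebra.ofId R E).comp (D.counit) := by
  apply D.inj
  rw [Φ_star, Φ_unit, D.antipode_spec]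
  have h1 := AlgHom.comp_convMul_distrib (Φ K E H θ (AlgHom.id R E)).ofConv
    (toConv (AlgHom.id K H)) (toConv (HopfAlgebra.antipodeAlgHom K H))
  rw [id_antipode_cancel] at h1
  have h2 := congrArg toConv h1
  rw [comp_one_conv, WithConv.toConv_ofConv] at h2
  rw [h2]
  congr 1

/-- the lifted bialgebra structure -/
noncomputable abbrev bialgT : Bialgebra R E :=
  Bialgebra.ofAlgHom (D.comul) (D.counit) (coassocT D)
    (rTensor_counitT D) (lTensor_counitT D)

theorem mul'_rTensor_eq_lift (S : E →ₐ[R] E) (w : E ⊗[R] E) :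
    LinearMap.mul' R E (S.toLinearMap.rTensor E w) =
      Algebra.TensorProduct.lift S (AlgHom.id R E) (fun _ _ => Commute.all _ _) w := by
  induction w using TensorProduct.induction_on with
  | zero => simp
  | tmul x y => simp
  | add w w' hw hw' => rw [map_add, map_add, hw, hw', map_add]

theorem mul'_lTensor_eq_lift (S : E →ₐ[R] E) (w : E ⊗[R] E) :
    LinearMap.mul' R E (S.toLinearMap.lTensor E w) =
      Algebra.TensorProduct.lift (AlgHom.id R E) S (fun _ _ => Commute.all _ _) w := by
  induction w using TensorProduct.induction_on with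
  | zero => simp
  | tmul x y => simp
  | add w w' hw hw' => rw [map_add, map_add, hw, hw', map_add]

/-- the lifted Hopf algebra structure -/
noncomputable abbrev hopfT : HopfAlgebra R E :=
  letI := bialgT D
  { antipode := (D.antipode).toLinearMap
    mul_antipode_rTensor_comul := by
      apply LinearMap.ext
      intro e
      have h1 := DFunLike.congr_fun (antipodeT_left D) e
      simp only [LinearMap.comp_apply]
      rw [mul'_rTensor_eq_lift]
      exact h1
    mul_antipode_lTensor_comul := by
      apply LinearMap.ext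
      intro e
      have h1 := DFunLike.congr_fun (antipodeT_right D) e
      simp only [LinearMap.comp_apply]
      rw [mul'_lTensor_eq_lift]
      exact h1 }

end Maps

end Groth.Agent.H3.HopfTransfer
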