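import Groth.Agent.H3.HopfTransfer

/-! The reduction of the lifted Hopf algebra structure is the given one. -/

set_option autoImplicit false
set_option linter.style.haveILetI false
set_option linter.unusedSectionVars false
universe u
open scoped TensorProduct
open WithConv

namespace Groth.Agent.H3.HopfTransfer

section Mu

variable {R : Type u} [CommRing R] (K : Type u) [CommRing K] [Algebra R K]
variable (X Y : Type u) [CommRing X] [CommRing Y] [Algebra R X] [Algebra R Y]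

/-- the canonical map `(X/I) ⊗ (Y/I) → (X ⊗ Y)/I` -/
noncomputable def mu :
    (K ⊗[R] X) ⊗[K] (K ⊗[R] Y) →ₐ[K] K ⊗[R] (X ⊗[R] Y) :=
  Algebra.TensorProduct.lift (bc K (Algebra.TensorProduct.includeLeft : X →ₐ[R] X ⊗[R] Y))
    (bc K (Algebra.TensorProduct.includeRight : Y →ₐ[R] X ⊗[R] Y)) (fun _ _ => Commute.all _ _)

/-- the canonical map `(X ⊗ Y)/I → (X/I) ⊗ (Y/I)` -/
noncomputable def nu :
    K ⊗[R] (X ⊗[R] Y) →ₐ[K] (K ⊗[R] X) ⊗[K] (K ⊗[R] Y) :=
  (Algebra.TensorProduct.tensorTensorTensorComm R K R K K K X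
    Y).toAlgHom.comp
    (Algebra.TensorProduct.map (Bialgebra.comulAlgHom K K) (AlgHom.id R (X ⊗[R] Y)))

theorem nu_tmul (a : K) (x : X) (y : Y) :
    nu K X Y (a ⊗ₜ[R] (x ⊗ₜ[R] y)) = (a ⊗ₜ[R] x) ⊗ₜ[K] ((1 : K) ⊗ₜ[R] y) := by
  have h1 : nu K X Y (a ⊗ₜ[R] (x ⊗ₜ[R] y)) = ((1 : K) ⊗ₜ[R] x) ⊗ₜ[K] (a ⊗ₜ[R] y) := by
    simp [nu, CommSemiring.comul_apply]
  rw [h1]
  have h2 : (a ⊗ₜ[R] y : K ⊗[R] Y) = a • ((1 : K) ⊗ₜ y) := by
    rw [TensorProduct.smul_tmul', smul_eq_mul, mul_one]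
  have h3 : (a ⊗ₜ[R] x : K ⊗[R] X) = a • ((1 : K) ⊗ₜ x) := by
    rw [TensorProduct.smul_tmul', smul_eq_mul, mul_one]
  rw [h2, h3, TensorProduct.tmul_smul, TensorProduct.smul_tmul']

theorem mu_tmul (a a' : K) (x : X) (y : Y) :
    mu K X Y ((a ⊗ₜ[R] x) ⊗ₜ[K] (a' ⊗ₜ[R] y)) = (a * a') ⊗ₜ[R] (x ⊗ₜ[R] y) := by
  simp [mu]

theorem nu_mu (w : (K ⊗[R] X) ⊗[K] (K ⊗[R] Y)) : nu K X Y (mu K X Y w) = w := by
  induction w using TensorProduct.induction_on with
  | zero => simp
  | add w w' hw hw' => rw [map_add, map_add, hw, hw']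
  | tmul p q =>
    induction p using TensorProduct.induction_on with
    | zero => simp
    | add p p' hp hp' => rw [TensorProduct.add_tmul, map_add, map_add, hp, hp']
    | tmul a x =>
      induction q using TensorProduct.induction_on with
      | zero => simp
      | add q q' hq hq' => rw [TensorProduct.tmul_add, map_add, map_add, hq, hq']
      | tmul a' y =>
        rw [mu_tmul, nu_tmul]
        have h2 : (a' ⊗ₜ[R] y : K ⊗[R] Y) = a' • ((1 : K) ⊗ₜ y) := by
          rw [TensorProduct.smul_tmul', smul_eq_mul, mul_one]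
        have h3 : ((a * a') ⊗ₜ[R] x : K ⊗[R] X) = a' • (a ⊗ₜ x) := by
          rw [TensorProduct.smul_tmul', smul_eq_mul, mul_comm]
        have h4 : (((a * a') ⊗ₜ[R] x : K ⊗[R] X) ⊗ₜ[K] ((1 : K) ⊗ₜ[R] y)) =
            a' • ((a ⊗ₜ[R] x : K ⊗[R] X) ⊗ₜ[K] ((1 : K) ⊗ₜ[R] y)) := by
          rw [h3]
          exact (TensorProduct.smul_tmul' _ _ _).symm
        have h5 : ((a ⊗ₜ[R] x : K ⊗[R] X) ⊗ₜ[K] (a' ⊗ₜ[R] y)) =
            a' • ((a ⊗ₜ[R] x : K ⊗[R] X) ⊗ₜ[K] ((1 : K) ⊗ₜ[R] y)) := by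
          rw [h2, TensorProduct.tmul_smul]
        rw [h4, h5]

end Mu

section Theta

variable {R : Type u} [CommRing R] {K : Type u} [CommRing K] [Algebra R K]
  {E : Type u} [CommRing E] [Algebra R E]
  {H : Type u} [CommRing H] [HopfAlgebra K H] {θ : K ⊗[R] E ≃ₐ[K] H} (D : Data K E H θ)

theorem comul_eq_nu (z : K ⊗[R] E) :
    letI := hopfT D
    Coalgebra.comul (R := K) z = nu K E E (bc K (D.comul) z) := by
  letI := hopfT D
  induction z using TensorProduct.induction_on with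
  | zero => simp
  | add z z' hz hz' => rw [map_add, map_add, map_add, hz, hz']
  | tmul a e => rfl

theorem lift_eq_mu_map (w : H ⊗[K] H) :
    Algebra.TensorProduct.lift
      ((bc K (Algebra.TensorProduct.includeLeft : E →ₐ[R] E ⊗[R] E)).comp
        (θ.symm : H →ₐ[K] K ⊗[R] E))
      ((bc K (Algebra.TensorProduct.includeRight : E →ₐ[R] E ⊗[R] E)).comp
        (θ.symm : H →ₐ[K] K ⊗[R] E)) (fun _ _ => Commute.all _ _) w =
      mu K E E (Algebra.TensorProduct.map (θ.symm : H →ₐ[K] K ⊗[R] E)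
        (θ.symm : H →ₐ[K] K ⊗[R] E) w) := by
  induction w using TensorProduct.induction_on with
  | zero => simp
  | add w w' hw hw' => rw [map_add, map_add, map_add, hw, hw']
  | tmul x y => simp [mu]

theorem bc_comul_eq (x : H) :
    bc K (D.comul) (θ.symm x) =
      mu K E E (Algebra.TensorProduct.map (θ.symm : H →ₐ[K] K ⊗[R] E)
        (θ.symm : H →ₐ[K] K ⊗[R] E) (Coalgebra.comul (R := K) x)) := by
  have h1 : (Φ K E H θ (D.comul)) x =
      (Φ K E H θ (Algebra.TensorProduct.includeLeft : E →ₐ[R] E ⊗[R] E) *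
        Φ K E H θ (Algebra.TensorProduct.includeRight : E →ₐ[R] E ⊗[R] E)) x := by
    rw [D.comul_spec]
  rw [AlgHom.convMul_apply] at h1
  rw [← lift_eq_mu_map]
  exact h1

theorem theta_comul :
    letI := hopfT D
    (Algebra.TensorProduct.map (θ : K ⊗[R] E →ₐ[K] H)
      (θ : K ⊗[R] E →ₐ[K] H)).comp (Bialgebra.comulAlgHom K (K ⊗[R] E)) =
      (Bialgebra.comulAlgHom K H).comp (θ : K ⊗[R] E →ₐ[K] H) := by
  letI := hopfT D
  apply AlgHom.ext
  intro z
  simp only [AlgHom.comp_apply, Bialgebra.comulAlgHom_apply, AlgEquiv.coe_algHom]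
  rw [comul_eq_nu]
  have h1 := bc_comul_eq D (θ z)
  rw [AlgEquiv.symm_apply_apply] at h1
  rw [h1, nu_mu]
  generalize (Coalgebra.comul (R := K) (θ z)) = w
  induction w using TensorProduct.induction_on with
  | zero => simp
  | add w w' hw hw' => rw [map_add, map_add, hw, hw']
  | tmul x y => simp

theorem theta_counit :
    letI := hopfT D
    (Bialgebra.counitAlgHom K H).comp (θ : K ⊗[R] E →ₐ[K] H) =
      Bialgebra.counitAlgHom K (K ⊗[R] E) := by
  letI := hopfT D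
  apply Algebra.TensorProduct.ext'
  intro a e
  simp only [AlgHom.comp_apply, Bialgebra.counitAlgHom_apply, AlgEquiv.coe_algHom]
  have h1 : (Φ K E H θ (D.counit)) (θ (a ⊗ₜ e)) =
      (1 : WithConv (H →ₐ[K] K ⊗[R] R)) (θ (a ⊗ₜ e)) := by
    rw [D.counit_spec]
  rw [AlgHom.convOne_apply] at h1
  have h2 : (Φ K E H θ (D.counit)) (θ (a ⊗ₜ e)) = a ⊗ₜ (D.counit e) := by
    change bc K (D.counit) (θ.symm (θ (a ⊗ₜ e))) = _
    rw [AlgEquiv.symm_apply_apply, bc_tmul]
  rw [h2] at h1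
  have h3 := congrArg (Algebra.TensorProduct.rid R K K) h1
  rw [Algebra.TensorProduct.rid_tmul, Algebra.TensorProduct.algebraMap_apply,
    Algebra.TensorProduct.rid_tmul, one_smul] at h3
  rw [TensorProduct.counit_tmul, CommSemiring.counit_apply]
  exact h3.symm ▸ rfl

/-- the comparison isomorphism as an isomorphism of bialgebras -/
noncomputable def thetaBialgT :
    letI := hopfT D
    K ⊗[R] E ≃ₐc[K] H :=
  letI := hopfT D
  BialgEquiv.ofAlgEquiv θ (theta_counit D) (theta_comul D)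

theorem comm_comulT [Coalgebra.IsCocomm K H] :
    (Algebra.TensorProduct.comm R E E).toAlgHom.comp (D.comul) = D.comul := by
  apply D.inj
  have h1 : (Algebra.TensorProduct.comm R E E).toAlgHom =
      Algebra.TensorProduct.lift (Algebra.TensorProduct.includeRight : E →ₐ[R] E ⊗[R] E)
        (Algebra.TensorProduct.includeLeft : E →ₐ[R] E ⊗[R] E) (fun _ _ => Commute.all _ _) := by
    apply Algebra.TensorProduct.ext'
    intro x y
    simp
  rw [h1, Φ_star, D.comul_spec]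
  exact mul_comm (Φ K E H θ (Algebra.TensorProduct.includeRight : E →ₐ[R] E ⊗[R] E))
    (Φ K E H θ (Algebra.TensorProduct.includeLeft : E →ₐ[R] E ⊗[R] E))

theorem isCocomm_hopfT [Coalgebra.IsCocomm K H] :
    letI := hopfT D
    Coalgebra.IsCocomm R E := by
  letI := hopfT D
  refine ⟨?_⟩
  apply LinearMap.ext
  intro e
  exact DFunLike.congr_fun (comm_comulT D) e

end Theta

end Groth.Agent.H3.HopfTransfer
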