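import Groth.Agent.H3.HopfTransferEquiv

/-! Transfer of a Hopf algebra structure along a jointly faithful family of base changes
`K c ⊗[R] E ≃ₐ[K c] H c`: if the functor of points of `E`, seen through the `K c ⊗[R] -`, is a
subgroup functor of the product of those of the `H c`, then `E` is a Hopf algebra over `R` and the
comparison maps are isomorphisms of bialgebras. -/

set_option autoImplicit false
set_option linter.style.haveILetI false
set_option linter.unusedSectionVars false
universe u
open scoped TensorProduct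
open WithConv

namespace Groth.Agent.H3.HopfTransfer

section Single

variable {R : Type u} [CommRing R] {K : Type u} [CommRing K] [Algebra R K]
  {E : Type u} [CommRing E] [Algebra R E]
  {H : Type u} [CommRing H] [HopfAlgebra K H] {θ : K ⊗[R] E ≃ₐ[K] H}

theorem Φ_star' {comul : E →ₐ[R] E ⊗[R] E}
    (hspec : Φ K E H θ comul =
      Φ K E H θ (Algebra.TensorProduct.includeLeft : E →ₐ[R] E ⊗[R] E) *
        Φ K E H θ (Algebra.TensorProduct.includeRight : E →ₐ[R] E ⊗[R] E))
    {Y : Type u} [CommRing Y] [Algebra R Y] (u v : E →ₐ[R] Y) :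
    Φ K E H θ ((Algebra.TensorProduct.lift u v (fun _ _ => Commute.all _ _)).comp comul) =
      Φ K E H θ u * Φ K E H θ v := by
  rw [Φ_comp, hspec, AlgHom.comp_convMul_distrib, WithConv.toConv_ofConv]
  congr 1
  · rw [← Φ_comp, Algebra.TensorProduct.lift_comp_includeLeft]
  · rw [← Φ_comp]
    congr 1
    apply AlgHom.ext
    intro e
    simp

theorem Φ_unit' {counit : E →ₐ[R] R} (hspec : Φ K E H θ counit = 1)
    {Y : Type u} [CommRing Y] [Algebra R Y] :
    Φ K E H θ ((Algebra.ofId R Y).comp counit) = 1 := by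
  rw [Φ_comp, hspec]
  apply WithConv.ofConv_injective
  apply AlgHom.ext
  intro x
  simp only [WithConv.ofConv_toConv, AlgHom.comp_apply, AlgHom.convOne_apply]
  rw [Algebra.algebraMap_eq_smul_one, Algebra.algebraMap_eq_smul_one, map_smul, map_one]

end Single

section Fam

variable {R : Type u} [CommRing R] {ι : Type*} (K : ι → Type u) [∀ c, CommRing (K c)]
  [∀ c, Algebra R (K c)] (E : Type u) [CommRing E] [Algebra R E]
  (H : ι → Type u) [∀ c, CommRing (H c)] [∀ c, HopfAlgebra (K c) (H c)]
  (θ : ∀ c, K c ⊗[R] E ≃ₐ[K c] H c)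

/-- the data needed to transfer Hopf algebra structures along a family -/
structure FamData where
  inj : ∀ (Y : Type u) [CommRing Y] [Algebra R Y] (u v : E →ₐ[R] Y),
    (∀ c, Φ (K c) E (H c) (θ c) u = Φ (K c) E (H c) (θ c) v) → u = v
  comul : E →ₐ[R] E ⊗[R] E
  comul_spec : ∀ c, Φ (K c) E (H c) (θ c) comul =
    Φ (K c) E (H c) (θ c) (Algebra.TensorProduct.includeLeft : E →ₐ[R] E ⊗[R] E) *
      Φ (K c) E (H c) (θ c) (Algebra.TensorProduct.includeRight : E →ₐ[R] E ⊗[R] E)
  counit : E →ₐ[R] R
  counit_spec : ∀ c, Φ (K c) E (H c) (θ c) counit = 1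
  antipode : E →ₐ[R] E
  antipode_spec : ∀ c, Φ (K c) E (H c) (θ c) antipode =
    toConv ((Φ (K c) E (H c) (θ c) (AlgHom.id R E)).ofConv.comp
      (HopfAlgebra.antipodeAlgHom (K c) (H c)))

end Fam

section FamMaps

variable {R : Type u} [CommRing R] {ι : Type*} {K : ι → Type u} [∀ c, CommRing (K c)]
  [∀ c, Algebra R (K c)] {E : Type u} [CommRing E] [Algebra R E]
  {H : ι → Type u} [∀ c, CommRing (H c)] [∀ c, HopfAlgebra (K c) (H c)]
  {θ : ∀ c, K c ⊗[R] E ≃ₐ[K c] H c} (D : FamData K E H θ)

theorem rTensor_counitF :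
    (Algebra.TensorProduct.map (D.counit) (.id R E)).comp (D.comul) =
      (Algebra.TensorProduct.lid R E).symm := by
  apply D.inj
  intro c
  rw [map_eq_lift, Φ_star' (D.comul_spec c)]
  have h1 : (Algebra.TensorProduct.includeLeft : R →ₐ[R] R ⊗[R] E) = Algebra.ofId R (R ⊗[R] E) := by
    apply AlgHom.ext
    intro r
    simp [Algebra.ofId_apply, Algebra.TensorProduct.algebraMap_apply]
  rw [h1, Φ_unit' (D.counit_spec c)]
  refine (one_mul (Φ (K c) E (H c) (θ c)
    ((Algebra.TensorProduct.includeRight : E →ₐ[R] R ⊗[R] E).comp (AlgHom.id R E)))).trans ?_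
  congr 1

theorem lTensor_counitF :
    (Algebra.TensorProduct.map (.id R E) (D.counit)).comp (D.comul) =
      (Algebra.TensorProduct.rid R R E).symm := by
  apply D.inj
  intro c
  rw [map_eq_lift, Φ_star' (D.comul_spec c)]
  have h1 : (Algebra.TensorProduct.includeRight : R →ₐ[R] E ⊗[R] R) = Algebra.ofId R (E ⊗[R] R) := by
    apply AlgHom.ext
    intro r
    rw [Algebra.ofId_apply, Algebra.TensorProduct.includeRight_apply,
      Algebra.algebraMap_eq_smul_one, Algebra.TensorProduct.one_def, ← TensorProduct.tmul_smul,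
      smul_eq_mul, mul_one]
  rw [h1, Φ_unit' (D.counit_spec c)]
  refine (mul_one (Φ (K c) E (H c) (θ c)
    ((Algebra.TensorProduct.includeLeft : E →ₐ[R] E ⊗[R] R).comp (AlgHom.id R E)))).trans ?_
  congr 1

theorem coassocF :
    (Algebra.TensorProduct.assoc R R R E E E).toAlgHom.comp
      ((Algebra.TensorProduct.map (D.comul) (.id R E)).comp (D.comul)) =
      (Algebra.TensorProduct.map (.id R E) (D.comul)).comp (D.comul) := by
  apply D.inj
  intro c
  let a : E →ₐ[R] E ⊗[R] (E ⊗[R] E) := Algebra.TensorProduct.includeLeft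
  let b : E →ₐ[R] E ⊗[R] (E ⊗[R] E) :=
    (Algebra.TensorProduct.includeRight : E ⊗[R] E →ₐ[R] E ⊗[R] (E ⊗[R] E)).comp
      (Algebra.TensorProduct.includeLeft : E →ₐ[R] E ⊗[R] E)
  let c' : E →ₐ[R] E ⊗[R] (E ⊗[R] E) :=
    (Algebra.TensorProduct.includeRight : E ⊗[R] E →ₐ[R] E ⊗[R] (E ⊗[R] E)).comp
      (Algebra.TensorProduct.includeRight : E →ₐ[R] E ⊗[R] E)
  have key1 : ∀ (w : E ⊗[R] E) (y : E), Algebra.TensorProduct.assoc R R R E E E (w ⊗ₜ y) =
      Algebra.TensorProduct.lift a b (fun _ _ => Commute.all _ _) w * c' y := by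
    intro w y
    induction w using TensorProduct.induction_on with
    | zero => simp
    | tmul x x' => simp [a, b, c']
    | add w w' hw hw' => rw [TensorProduct.add_tmul, map_add, hw, hw', map_add, add_mul]
  have key2 : ∀ w : E ⊗[R] E, (Algebra.TensorProduct.includeRight :
      E ⊗[R] E →ₐ[R] E ⊗[R] (E ⊗[R] E)) w =
      Algebra.TensorProduct.lift b c' (fun _ _ => Commute.all _ _) w := by
    intro w
    induction w using TensorProduct.induction_on with
    | zero => simp
    | tmul x x' => simp [b, c']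
    | add w w' hw hw' => rw [map_add, hw, hw', map_add]
  have hL : (Algebra.TensorProduct.assoc R R R E E E).toAlgHom.comp
      ((Algebra.TensorProduct.map (D.comul) (.id R E)).comp (D.comul)) =
      (Algebra.TensorProduct.lift ((Algebra.TensorProduct.lift a b
        (fun _ _ => Commute.all _ _)).comp (D.comul)) c'
        (fun _ _ => Commute.all _ _)).comp (D.comul) := by
    rw [← AlgHom.comp_assoc]
    congr 1
    apply Algebra.TensorProduct.ext'
    intro x y
    simp only [AlgHom.comp_apply, Algebra.TensorProduct.map_tmul, AlgHom.id_apply,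
      Algebra.TensorProduct.lift_tmul]
    exact key1 _ _
  have hR : (Algebra.TensorProduct.map (.id R E) (D.comul)).comp (D.comul) =
      (Algebra.TensorProduct.lift a ((Algebra.TensorProduct.lift b c'
        (fun _ _ => Commute.all _ _)).comp (D.comul))
        (fun _ _ => Commute.all _ _)).comp (D.comul) := by
    congr 1
    apply Algebra.TensorProduct.ext'
    intro x y
    simp only [AlgHom.comp_apply, Algebra.TensorProduct.map_tmul, AlgHom.id_apply,
      Algebra.TensorProduct.lift_tmul]
    rw [← key2]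
    simp [a]
  rw [hL, hR, Φ_star' (D.comul_spec c), Φ_star' (D.comul_spec c), Φ_star' (D.comul_spec c),
    Φ_star' (D.comul_spec c)]
  exact mul_assoc (Φ (K c) E (H c) (θ c) a) (Φ (K c) E (H c) (θ c) b) (Φ (K c) E (H c) (θ c) c')

theorem antipodeF_left :
    (Algebra.TensorProduct.lift (D.antipode) (AlgHom.id R E)
      (fun _ _ => Commute.all _ _)).comp (D.comul) =
      (Algebra.ofId R E).comp (D.counit) := by
  apply D.inj
  intro c
  rw [Φ_star' (D.comul_spec c), Φ_unit' (D.counit_spec c), D.antipode_spec c]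
  have h1 := AlgHom.comp_convMul_distrib (Φ (K c) E (H c) (θ c) (AlgHom.id R E)).ofConv
    (toConv (HopfAlgebra.antipodeAlgHom (K c) (H c))) (toConv (AlgHom.id (K c) (H c)))
  rw [AlgHom.antipode_id_cancel] at h1
  have h2 := congrArg toConv h1
  rw [comp_one_conv, WithConv.toConv_ofConv] at h2
  rw [h2]
  congr 1

theorem antipodeF_right :
    (Algebra.TensorProduct.lift (AlgHom.id R E) (D.antipode)
      (fun _ _ => Commute.all _ _)).comp (D.comul) =
      (Algebra.ofId R E).comp (D.counit) := by
  apply D.inj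
  intro c
  rw [Φ_star' (D.comul_spec c), Φ_unit' (D.counit_spec c), D.antipode_spec c]
  have h1 := AlgHom.comp_convMul_distrib (Φ (K c) E (H c) (θ c) (AlgHom.id R E)).ofConv
    (toConv (AlgHom.id (K c) (H c))) (toConv (HopfAlgebra.antipodeAlgHom (K c) (H c)))
  rw [id_antipode_cancel] at h1
  have h2 := congrArg toConv h1
  rw [comp_one_conv, WithConv.toConv_ofConv] at h2
  rw [h2]
  congr 1

/-- the transferred bialgebra structure -/
noncomputable abbrev bialgF : Bialgebra R E :=
  Bialgebra.ofAlgHom (D.comul) (D.counit) (coassocF D)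
    (rTensor_counitF D) (lTensor_counitF D)

/-- the transferred Hopf algebra structure -/
noncomputable abbrev hopfF : HopfAlgebra R E :=
  letI := bialgF D
  { antipode := (D.antipode).toLinearMap
    mul_antipode_rTensor_comul := by
      apply LinearMap.ext
      intro e
      have h1 := DFunLike.congr_fun (antipodeF_left D) e
      simp only [LinearMap.comp_apply]
      rw [mul'_rTensor_eq_lift]
      exact h1
    mul_antipode_lTensor_comul := by
      apply LinearMap.ext
      intro e
      have h1 := DFunLike.congr_fun (antipodeF_right D) e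
      simp only [LinearMap.comp_apply]
      rw [mul'_lTensor_eq_lift]
      exact h1 }

end FamMaps

section FamTheta

variable {R : Type u} [CommRing R] {ι : Type*} {K : ι → Type u} [∀ c, CommRing (K c)]
  [∀ c, Algebra R (K c)] {E : Type u} [CommRing E] [Algebra R E]
  {H : ι → Type u} [∀ c, CommRing (H c)] [∀ c, HopfAlgebra (K c) (H c)]
  {θ : ∀ c, K c ⊗[R] E ≃ₐ[K c] H c} (D : FamData K E H θ) (c : ι)

theorem comul_eq_nuF (z : K c ⊗[R] E) :
    letI := hopfF D
    Coalgebra.comul (R := K c) z = nu (K c) E E (bc (K c) (D.comul) z) := by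
  letI := hopfF D
  induction z using TensorProduct.induction_on with
  | zero => simp
  | add z z' hz hz' => rw [map_add, map_add, map_add, hz, hz']
  | tmul a e => rfl

theorem bc_comul_eqF (x : H c) :
    bc (K c) (D.comul) ((θ c).symm x) =
      mu (K c) E E (Algebra.TensorProduct.map ((θ c).symm : H c →ₐ[K c] K c ⊗[R] E)
        ((θ c).symm : H c →ₐ[K c] K c ⊗[R] E) (Coalgebra.comul (R := K c) x)) := by
  have h1 : (Φ (K c) E (H c) (θ c) (D.comul)) x =
      (Φ (K c) E (H c) (θ c) (Algebra.TensorProduct.includeLeft : E →ₐ[R] E ⊗[R] E) *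
        Φ (K c) E (H c) (θ c) (Algebra.TensorProduct.includeRight : E →ₐ[R] E ⊗[R] E)) x := by
    rw [D.comul_spec c]
  rw [AlgHom.convMul_apply] at h1
  rw [← lift_eq_mu_map]
  exact h1

theorem theta_comulF :
    letI := hopfF D
    (Algebra.TensorProduct.map ((θ c) : K c ⊗[R] E →ₐ[K c] H c)
      ((θ c) : K c ⊗[R] E →ₐ[K c] H c)).comp (Bialgebra.comulAlgHom (K c) (K c ⊗[R] E)) =
      (Bialgebra.comulAlgHom (K c) (H c)).comp ((θ c) : K c ⊗[R] E →ₐ[K c] H c) := by
  letI := hopfF D
  apply AlgHom.ext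
  intro z
  simp only [AlgHom.comp_apply, Bialgebra.comulAlgHom_apply, AlgEquiv.coe_algHom]
  rw [comul_eq_nuF]
  have h1 := bc_comul_eqF D c ((θ c) z)
  rw [AlgEquiv.symm_apply_apply] at h1
  rw [h1, nu_mu]
  generalize (Coalgebra.comul (R := K c) ((θ c) z)) = w
  induction w using TensorProduct.induction_on with
  | zero => simp
  | add w w' hw hw' => rw [map_add, map_add, hw, hw']
  | tmul x y => simp

theorem theta_counitF :
    letI := hopfF D
    (Bialgebra.counitAlgHom (K c) (H c)).comp ((θ c) : K c ⊗[R] E →ₐ[K c] H c) =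
      Bialgebra.counitAlgHom (K c) (K c ⊗[R] E) := by
  letI := hopfF D
  apply Algebra.TensorProduct.ext'
  intro a e
  simp only [AlgHom.comp_apply, Bialgebra.counitAlgHom_apply, AlgEquiv.coe_algHom]
  have h1 : (Φ (K c) E (H c) (θ c) (D.counit)) ((θ c) (a ⊗ₜ e)) =
      (1 : WithConv (H c →ₐ[K c] K c ⊗[R] R)) ((θ c) (a ⊗ₜ e)) := by
    rw [D.counit_spec c]
  rw [AlgHom.convOne_apply] at h1
  have h2 : (Φ (K c) E (H c) (θ c) (D.counit)) ((θ c) (a ⊗ₜ e)) = a ⊗ₜ (D.counit e) := by
    change bc (K c) (D.counit) ((θ c).symm ((θ c) (a ⊗ₜ e))) = _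
    rw [AlgEquiv.symm_apply_apply, bc_tmul]
  rw [h2] at h1
  have h3 := congrArg (Algebra.TensorProduct.rid R (K c) (K c)) h1
  rw [Algebra.TensorProduct.rid_tmul, Algebra.TensorProduct.algebraMap_apply,
    Algebra.TensorProduct.rid_tmul, one_smul] at h3
  rw [TensorProduct.counit_tmul, CommSemiring.counit_apply]
  exact h3.symm ▸ rfl

/-- the comparison isomorphisms as isomorphisms of bialgebras -/
noncomputable def thetaBialgF :
    letI := hopfF D
    K c ⊗[R] E ≃ₐc[K c] H c :=
  letI := hopfF D
  BialgEquiv.ofAlgEquiv (θ c) (theta_counitF D c) (theta_comulF D c)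

theorem thetaBialgF_apply (z : K c ⊗[R] E) :
    letI := hopfF D
    thetaBialgF D c z = θ c z := rfl

end FamTheta

end Groth.Agent.H3.HopfTransfer
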