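import Mathlib

/-!
# Descent of idempotents along a faithfully flat finite product

`T j` finitely many `K`-algebras whose product is faithfully flat, `cl : J → ι` a map such that
`T j ⊗ T j' = 0` whenever `cl j ≠ cl j'`.  Then `K` has a complete family of orthogonal idempotents
`e c` such that `e c` maps to `1` in `T j` when `cl j = c` and to `0` otherwise.
-/

set_option autoImplicit false
set_option linter.unusedSectionVars false
universe u
open scoped TensorProduct

namespace Groth.Agent.H3.IdemDescent

section Descent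

variable {K : Type*} [CommRing K] {J : Type*} [Fintype J] [DecidableEq J]
  (T : J → Type*) [∀ j, CommRing (T j)] [∀ j, Algebra K (T j)]

theorem single_tmul_single_eq_zero (j j' : J) [Subsingleton (T j ⊗[K] T j')] :
    (Pi.single j (1 : T j) : ∀ j, T j) ⊗ₜ[K] (Pi.single j' (1 : T j') : ∀ j, T j) = 0 := by
  have h1 : TensorProduct.map (LinearMap.single K T j) (LinearMap.single K T j')
      ((1 : T j) ⊗ₜ[K] (1 : T j')) =
      (Pi.single j (1 : T j) : ∀ j, T j) ⊗ₜ[K] (Pi.single j' (1 : T j') : ∀ j, T j) := by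
    rw [TensorProduct.map_tmul]
    rfl
  rw [← h1, Subsingleton.elim ((1 : T j) ⊗ₜ[K] (1 : T j')) 0, map_zero]

variable {ι : Type*} [DecidableEq ι] (cl : J → ι)

/-- the indicator of a class, in the product -/
def ind (c : ι) : ∀ j, T j := fun j => if cl j = c then 1 else 0

theorem ind_mul_single (c : ι) (j : J) :
    ind T cl c * (Pi.single j (1 : T j) : ∀ j, T j) =
      if cl j = c then (Pi.single j (1 : T j) : ∀ j, T j) else 0 := by
  funext i
  by_cases hij : i = j
  · subst hij
    by_cases h : cl i = c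
    · simp [ind, h]
    · simp [ind, h]
  · by_cases h : cl j = c
    · simp [Pi.single_eq_of_ne hij, h]
    · simp [Pi.single_eq_of_ne hij, h]

theorem ind_tmul_one
    (hr : ∀ j j', cl j ≠ cl j' → Subsingleton (T j ⊗[K] T j')) (c : ι) :
    (ind T cl c) ⊗ₜ[K] (1 : ∀ j, T j) = (1 : ∀ j, T j) ⊗ₜ[K] (ind T cl c) := by
  rw [← sub_eq_zero]
  set x : (∀ j, T j) ⊗[K] (∀ j, T j) :=
    (ind T cl c) ⊗ₜ[K] (1 : ∀ j, T j) - (1 : ∀ j, T j) ⊗ₜ[K] (ind T cl c) with hx
  have h1 : (1 : ∀ j, T j) = ∑ j, (Pi.single j (1 : T j) : ∀ j, T j) :=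
    (Finset.univ_sum_single (1 : ∀ j, T j)).symm
  have h2 : x = ∑ j, ∑ j', x * ((Pi.single j (1 : T j) : ∀ j, T j) ⊗ₜ[K]
      (Pi.single j' (1 : T j') : ∀ j, T j)) := by
    have h3 : x = x * ((∑ j, (Pi.single j (1 : T j) : ∀ j, T j)) ⊗ₜ[K]
        (∑ j', (Pi.single j' (1 : T j') : ∀ j, T j))) := by
      rw [← h1, ← Algebra.TensorProduct.one_def, mul_one]
    rw [TensorProduct.sum_tmul] at h3
    simp_rw [TensorProduct.tmul_sum] at h3
    rw [Finset.mul_sum] at h3
    simp_rw [Finset.mul_sum] at h3
    exact h3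
  rw [h2]
  apply Finset.sum_eq_zero
  intro j _
  apply Finset.sum_eq_zero
  intro j' _
  rw [hx, sub_mul, Algebra.TensorProduct.tmul_mul_tmul, Algebra.TensorProduct.tmul_mul_tmul,
    one_mul, one_mul, ind_mul_single, ind_mul_single]
  by_cases hjj : cl j = cl j'
  · rw [hjj]
    split_ifs
    · rw [sub_self]
    · rw [TensorProduct.zero_tmul, TensorProduct.tmul_zero, sub_self]
  · have := hr j j' hjj
    have h0 := single_tmul_single_eq_zero (K := K) T j j'
    split_ifs
    · rw [sub_self]
    · rw [TensorProduct.tmul_zero, sub_zero, h0]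
    · rw [TensorProduct.zero_tmul, zero_sub, h0, neg_zero]
    · rw [TensorProduct.zero_tmul, TensorProduct.tmul_zero, sub_self]

theorem ind_complete [Fintype ι] :
    CompleteOrthogonalIdempotents (ind T cl) where
  idem c := by
    funext j
    by_cases h : cl j = c
    · simp [ind, h]
    · simp [ind, h]
  ortho := by
    intro c c' hcc
    funext j
    by_cases h : cl j = c
    · have h' : cl j ≠ c' := fun h' => hcc (h.symm.trans h')
      simp [ind, h']
    · simp [ind, h]
  complete := by
    funext j
    rw [Finset.sum_apply]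
    simp [ind]

/-- descent of the class indicators to idempotents of the base -/
theorem exists_idem [Fintype ι] [Module.FaithfullyFlat K (∀ j, T j)]
    (hr : ∀ j j', cl j ≠ cl j' → Subsingleton (T j ⊗[K] T j')) :
    ∃ e : ι → K, CompleteOrthogonalIdempotents e ∧
      ∀ c j, algebraMap K (T j) (e c) = if cl j = c then 1 else 0 := by
  have heff : Algebra.IsEffective K (∀ j, T j) := Algebra.IsEffective.of_faithfullyFlat K _
  have h1 : ∀ c, ∃ r : K, algebraMap K (∀ j, T j) r = ind T cl c := by
    intro c
    have h2 : Algebra.TensorProduct.includeLeftSubRight K (∀ j, T j) (ind T cl c) = 0 := by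
      rw [Algebra.TensorProduct.includeLeftSubRight_apply, sub_eq_zero]
      exact ind_tmul_one T cl hr c
    obtain ⟨r, hr'⟩ := (heff (ind T cl c)).mp h2
    exact ⟨r, hr'⟩
  choose e he using h1
  refine ⟨e, ?_, fun c j => ?_⟩
  · have hinj : Function.Injective (algebraMap K (∀ j, T j)) :=
      FaithfulSMul.algebraMap_injective K _
    rw [← CompleteOrthogonalIdempotents.map_injective_iff (f := algebraMap K (∀ j, T j)) hinj]
    have h3 : (algebraMap K (∀ j, T j)) ∘ e = ind T cl := funext he
    rw [h3]
    exact ind_complete T cl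
  · have h4 := congrFun (he c) j
    exact h4

end Descent

end Groth.Agent.H3.IdemDescent
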