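import Mathlib

/-!
# Pieces of a ring cut out by idempotents

`IsPiece K e L`: the `K`-algebra `L` is the quotient of `K` by the annihilator of the idempotent `e`
(for instance `Localization.Away e`, or a factor of a finite product).  For a complete family of
orthogonal idempotents, a `K`-module is the product of its base changes to the pieces.
-/

set_option autoImplicit false
set_option linter.unusedSectionVars false
universe u v w
open scoped TensorProduct

namespace Groth.Agent.H3.Idem

/-- `L` is the piece of `K` cut out by `e` -/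
structure IsPiece (K : Type*) [CommRing K] (e : K) (L : Type*) [CommRing L] [Algebra K L] :
    Prop where
  surj : Function.Surjective (algebraMap K L)
  ker : ∀ x : K, algebraMap K L x = 0 ↔ e * x = 0

section Basic

variable {K : Type*} [CommRing K] {e : K} {L : Type*} [CommRing L] [Algebra K L]

theorem IsPiece.map_self (h : IsPiece K e L) (he : IsIdempotentElem e) : algebraMap K L e = 1 := by
  have h1 : algebraMap K L (1 - e) = 0 := by
    rw [h.ker, mul_sub, mul_one, he.eq, sub_self]
  rw [map_sub, map_one, sub_eq_zero] at h1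
  exact h1.symm

theorem IsPiece.map_of_mul_eq_zero (h : IsPiece K e L) {e' : K} (he' : e * e' = 0) :
    algebraMap K L e' = 0 := (h.ker e').mpr he'

/-- the localization away from an idempotent is a piece -/
theorem isPiece_away (he : IsIdempotentElem e) [IsLocalization.Away e L] : IsPiece K e L := by
  have hu : IsUnit (algebraMap K L e) := IsLocalization.Away.algebraMap_isUnit e
  have h1 : algebraMap K L e = 1 := by
    have h2 : algebraMap K L e * algebraMap K L e = algebraMap K L e := by
      rw [← map_mul, he.eq]
    have h3 := hu.mul_left_cancel (a := algebraMap K L e) (b := algebraMap K L e) (c := 1)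
    apply h3
    rw [h2, mul_one]
  constructor
  · intro y
    obtain ⟨n, r, hr⟩ := IsLocalization.Away.surj e y
    refine ⟨r, ?_⟩
    rw [← hr, h1, one_pow, mul_one]
  · intro x
    rw [IsLocalization.map_eq_zero_iff (Submonoid.powers e)]
    constructor
    · rintro ⟨⟨_, n, rfl⟩, hn⟩
      change e ^ n * x = 0 at hn
      cases n with
      | zero => rw [pow_zero, one_mul] at hn; rw [hn, mul_zero]
      | succ n => rw [he.pow_succ_eq] at hn; exact hn
    · intro hx
      exact ⟨⟨e, 1, pow_one e⟩, hx⟩

end Basic

section Tensor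

variable {K : Type u} [CommRing K] {e : K} {L : Type v} [CommRing L] [Algebra K L]
  {N : Type w} [AddCommGroup N] [Module K N]

/-- the section `L ⊗ N → N`, `l ⊗ n ↦ e x n` for `x` any lift of `l` -/
theorem IsPiece.exists_section (h : IsPiece K e L) :
    ∃ σ : L ⊗[K] N →ₗ[K] N, ∀ n : N, σ ((1 : L) ⊗ₜ[K] n) = e • n := by
  let f : K →ₗ[K] L := Algebra.linearMap K L
  have hf : Function.Surjective f := h.surj
  have hrange : LinearMap.range f = ⊤ := LinearMap.range_eq_top.mpr hf
  let φ : K →ₗ[K] Module.End K N :=
    { toFun := fun x => (e * x) • LinearMap.id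
      map_add' := fun x y => by rw [mul_add, add_smul]
      map_smul' := fun r x => by
        simp only [smul_eq_mul, RingHom.id_apply]
        rw [mul_left_comm, mul_smul] }
  have hker : LinearMap.ker f ≤ LinearMap.ker φ := by
    intro x hx
    rw [LinearMap.mem_ker] at hx ⊢
    have h1 : e * x = 0 := (h.ker x).mp hx
    change (e * x) • LinearMap.id = 0
    rw [h1, zero_smul]
  let s : L →ₗ[K] Module.End K N :=
    ((LinearMap.ker f).liftQ φ hker).comp (f.quotKerEquivOfSurjective hf).symm.toLinearMap
  have hs : ∀ x : K, s (f x) = φ x := by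
    intro x
    change ((LinearMap.ker f).liftQ φ hker) ((f.quotKerEquivOfSurjective hf).symm (f x)) = φ x
    have h2 : (f.quotKerEquivOfSurjective hf).symm (f x) = Submodule.Quotient.mk x := by
      rw [LinearEquiv.symm_apply_eq]
      rfl
    rw [h2, Submodule.liftQ_apply]
  refine ⟨TensorProduct.lift s, fun n => ?_⟩
  rw [TensorProduct.lift.tmul]
  have h3 : (1 : L) = f 1 := (map_one (algebraMap K L)).symm
  rw [h3, hs]
  change ((e * 1) • LinearMap.id : Module.End K N) n = e • n
  rw [mul_one]
  rfl

theorem IsPiece.tmul_eq_zero_iff (h : IsPiece K e L) (he : IsIdempotentElem e) (n : N) :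
    (1 : L) ⊗ₜ[K] n = 0 ↔ e • n = 0 := by
  constructor
  · intro hn
    obtain ⟨σ, hσ⟩ := h.exists_section (N := N)
    rw [← hσ, hn, map_zero]
  · intro hn
    have h1 : (1 : L) ⊗ₜ[K] n = (1 : L) ⊗ₜ[K] (e • n) := by
      rw [TensorProduct.tmul_smul, TensorProduct.smul_tmul', Algebra.smul_def, mul_one,
        h.map_self he]
    rw [h1, hn, TensorProduct.tmul_zero]

end Tensor

section Joint

variable {K : Type u} [CommRing K] {ι : Type*} [Fintype ι] {e : ι → K}
  (he : CompleteOrthogonalIdempotents e)
  {L : ι → Type v} [∀ c, CommRing (L c)] [∀ c, Algebra K (L c)]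
  (hL : ∀ c, IsPiece K (e c) (L c))
  {N : Type w} [AddCommGroup N] [Module K N]
  {N' : ι → Type*} [∀ c, AddCommGroup (N' c)] [∀ c, Module K (N' c)] [∀ c, Module (L c) (N' c)]
  [∀ c, IsScalarTower K (L c) (N' c)]
  (q : ∀ c, N →ₗ[K] N' c) (hq : ∀ c, IsBaseChange (L c) (q c))

include he hL in
theorem map_idem [DecidableEq ι] (c d : ι) :
    algebraMap K (L d) (e c) = if c = d then 1 else 0 := by
  split_ifs with h
  · subst h
    exact (hL c).map_self (he.idem c)
  · exact (hL d).map_of_mul_eq_zero (he.ortho (Ne.symm h))

include he hL hq in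
/-- an element vanishing on all pieces vanishes -/
theorem joint_injective (n : N) (h : ∀ c, q c n = 0) : n = 0 := by
  have h1 : ∀ c, e c • n = 0 := by
    intro c
    rw [← (hL c).tmul_eq_zero_iff (he.idem c)]
    apply (hq c).equiv.injective
    rw [(hq c).equiv_tmul, one_smul, h c, map_zero]
  have h2 : n = ∑ c, e c • n := by
    rw [← Finset.sum_smul, he.complete, one_smul]
  rw [h2]
  exact Finset.sum_eq_zero fun c _ => h1 c

include he hL hq in
/-- elements of the pieces glue -/
theorem joint_surjective (y : ∀ c, N' c) : ∃ n : N, ∀ c, q c n = y c := by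
  classical
  have h1 : ∀ c, ∃ n : N, q c n = y c := by
    intro c
    obtain ⟨n, hn⟩ := TensorProduct.mk_surjective K N (L c) (hL c).surj ((hq c).equiv.symm (y c))
    refine ⟨n, ?_⟩
    have h2 : (hq c).equiv ((1 : L c) ⊗ₜ[K] n) = y c := by
      have : (1 : L c) ⊗ₜ[K] n = (hq c).equiv.symm (y c) := hn
      rw [this, LinearEquiv.apply_symm_apply]
    rw [(hq c).equiv_tmul, one_smul] at h2
    exact h2
  choose n hn using h1
  refine ⟨∑ c, e c • n c, fun d => ?_⟩
  rw [map_sum]
  have h3 : ∀ c, q d (e c • n c) = if c = d then y d else 0 := by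
    intro c
    rw [map_smul, ← algebraMap_smul (L d) (e c) (q d (n c)), map_idem he hL c d]
    split_ifs with h
    · subst h
      rw [one_smul, hn]
    · rw [zero_smul]
  rw [Finset.sum_congr rfl (fun c _ => h3 c), Finset.sum_ite_eq' Finset.univ d]
  simp

end Joint

end Groth.Agent.H3.Idem
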