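import Groth.Agent.H3.HopfTransferFam
import Groth.Agent.H3.IdemPiece

/-!
# Hopf algebras over a ring decomposed by idempotents

`e` a complete family of orthogonal idempotents of `R`, `L c` the pieces of `R`.  An `R`-algebra `E`
whose base changes to the pieces are identified with Hopf algebras `H c` over `L c` is canonically a
Hopf algebra over `R` (the "product" of the `H c`).
-/

set_option autoImplicit false
set_option linter.style.haveILetI false
set_option linter.unusedSectionVars false
universe u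
open scoped TensorProduct
open WithConv

namespace Groth.Agent.H3.Idem

open Groth.Agent.H3.HopfTransfer

section Sheaf

variable {R : Type u} [CommRing R] {ι : Type u} [Fintype ι] {e : ι → R}
  (he : CompleteOrthogonalIdempotents e)
  {L : ι → Type u} [∀ c, CommRing (L c)] [∀ c, Algebra R (L c)]
  (hL : ∀ c, IsPiece R (e c) (L c))
  (Y : Type u) [CommRing Y] [Algebra R Y]

variable (R L) in
/-- the map of an algebra to the product of its base changes to the pieces -/
noncomputable def toPieces : Y →ₐ[R] ∀ c, L c ⊗[R] Y :=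
  AlgHom.pi (fun c => (Algebra.TensorProduct.includeRight : Y →ₐ[R] L c ⊗[R] Y))

theorem toPieces_apply (y : Y) (c : ι) : toPieces R L Y y c = (1 : L c) ⊗ₜ[R] y := rfl

include he hL in
theorem toPieces_bijective : Function.Bijective (toPieces R L Y) := by
  constructor
  · rw [injective_iff_map_eq_zero]
    intro y hy
    apply joint_injective he hL (fun c => TensorProduct.mk R (L c) Y 1)
      (fun c => TensorProduct.isBaseChange R Y (L c)) y
    intro c
    exact congrFun hy c
  · intro z
    obtain ⟨y, hy⟩ := joint_surjective he hL (fun c => TensorProduct.mk R (L c) Y 1)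
      (fun c => TensorProduct.isBaseChange R Y (L c)) z
    exact ⟨y, funext hy⟩

/-- an algebra is the product of its base changes to the pieces -/
noncomputable def sheafEquiv : Y ≃ₐ[R] ∀ c, L c ⊗[R] Y :=
  AlgEquiv.ofBijective (toPieces R L Y) (toPieces_bijective he hL Y)

theorem sheafEquiv_apply (y : Y) (c : ι) : sheafEquiv he hL Y y c = (1 : L c) ⊗ₜ[R] y := rfl

variable {Y} {E : Type u} [CommRing E] [Algebra R E]

/-- glue algebra maps given on the pieces -/
noncomputable def glueHom (F : ∀ c, L c ⊗[R] E →ₐ[L c] L c ⊗[R] Y) : E →ₐ[R] Y :=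
  ((sheafEquiv he hL Y).symm : (∀ c, L c ⊗[R] Y) →ₐ[R] Y).comp
    (AlgHom.pi (fun c => ((F c).restrictScalars R).comp
        (Algebra.TensorProduct.includeRight : E →ₐ[R] L c ⊗[R] E)))

theorem one_tmul_glueHom (F : ∀ c, L c ⊗[R] E →ₐ[L c] L c ⊗[R] Y) (x : E) (c : ι) :
    (1 : L c) ⊗ₜ[R] glueHom he hL F x = F c ((1 : L c) ⊗ₜ[R] x) := by
  have h1 : sheafEquiv he hL Y (glueHom he hL F x) =
      fun c => F c ((1 : L c) ⊗ₜ[R] x) := by
    change sheafEquiv he hL Y ((sheafEquiv he hL Y).symm _) = _
    rw [AlgEquiv.apply_symm_apply]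
    rfl
  exact congrFun h1 c

theorem bc_glueHom (F : ∀ c, L c ⊗[R] E →ₐ[L c] L c ⊗[R] Y) (c : ι) :
    bc (L c) (glueHom he hL F) = F c := by
  apply Algebra.TensorProduct.ext'
  intro a x
  rw [bc_tmul]
  have h1 : (a ⊗ₜ[R] x : L c ⊗[R] E) = a • ((1 : L c) ⊗ₜ[R] x) := by
    rw [TensorProduct.smul_tmul', smul_eq_mul, mul_one]
  have h2 : (a ⊗ₜ[R] glueHom he hL F x : L c ⊗[R] Y) =
      a • ((1 : L c) ⊗ₜ[R] glueHom he hL F x) := by
    rw [TensorProduct.smul_tmul', smul_eq_mul, mul_one]
  rw [h1, h2, map_smul, one_tmul_glueHom]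

include he hL in
theorem hom_ext_pieces {u v : E →ₐ[R] Y} (h : ∀ c, bc (L c) u = bc (L c) v) : u = v := by
  apply AlgHom.ext
  intro x
  apply (toPieces_bijective he hL Y).1
  funext c
  rw [toPieces_apply, toPieces_apply]
  have h1 := DFunLike.congr_fun (h c) ((1 : L c) ⊗ₜ[R] x)
  rw [bc_tmul, bc_tmul] at h1
  exact h1

end Sheaf

section Fam

variable {R : Type u} [CommRing R] {ι : Type u} [Fintype ι] {e : ι → R}
  (he : CompleteOrthogonalIdempotents e)
  {L : ι → Type u} [∀ c, CommRing (L c)] [∀ c, Algebra R (L c)]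
  (hL : ∀ c, IsPiece R (e c) (L c))
  {E : Type u} [CommRing E] [Algebra R E]
  {H : ι → Type u} [∀ c, CommRing (H c)] [∀ c, HopfAlgebra (L c) (H c)]
  (θ : ∀ c, L c ⊗[R] E ≃ₐ[L c] H c)

theorem Φ_eq_of_bc {Y : Type u} [CommRing Y] [Algebra R Y] (c : ι) (f : E →ₐ[R] Y)
    (F : L c ⊗[R] E →ₐ[L c] L c ⊗[R] Y) (h : bc (L c) f = F) :
    Φ (L c) E (H c) (θ c) f = toConv (F.comp ((θ c).symm : H c →ₐ[L c] L c ⊗[R] E)) := by
  rw [← h]
  rfl

/-- the comultiplication on the pieces -/
noncomputable def comulPiece (c : ι) : L c ⊗[R] E →ₐ[L c] L c ⊗[R] (E ⊗[R] E) :=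
  (mu (L c) E E).comp
    ((Algebra.TensorProduct.map ((θ c).symm : H c →ₐ[L c] L c ⊗[R] E)
      ((θ c).symm : H c →ₐ[L c] L c ⊗[R] E)).comp
      ((Bialgebra.comulAlgHom (L c) (H c)).comp ((θ c) : L c ⊗[R] E →ₐ[L c] H c)))

/-- the counit on the pieces -/
noncomputable def counitPiece (c : ι) : L c ⊗[R] E →ₐ[L c] L c ⊗[R] R :=
  ((Algebra.TensorProduct.rid R (L c) (L c)).symm : L c →ₐ[L c] L c ⊗[R] R).comp
    ((Bialgebra.counitAlgHom (L c) (H c)).comp ((θ c) : L c ⊗[R] E →ₐ[L c] H c))

/-- the antipode on the pieces -/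
noncomputable def antipodePiece (c : ι) : L c ⊗[R] E →ₐ[L c] L c ⊗[R] E :=
  ((θ c).symm : H c →ₐ[L c] L c ⊗[R] E).comp
    ((HopfAlgebra.antipodeAlgHom (L c) (H c)).comp ((θ c) : L c ⊗[R] E →ₐ[L c] H c))

/-- the data transferring the Hopf algebra structures of the pieces to `E` -/
noncomputable def famData : FamData L E H θ where
  inj := by
    intro Y _ _ u v h
    apply hom_ext_pieces he hL
    intro c
    have h1 := congrArg WithConv.ofConv (h c)
    apply AlgHom.ext
    intro z
    have h2 := DFunLike.congr_fun h1 (θ c z)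
    rw [Φ_apply, Φ_apply, AlgEquiv.symm_apply_apply] at h2
    exact h2
  comul := glueHom he hL (comulPiece θ)
  comul_spec := by
    intro c
    rw [Φ_eq_of_bc θ c _ _ (bc_glueHom he hL (comulPiece θ) c)]
    apply WithConv.ofConv_injective
    apply AlgHom.ext
    intro x
    rw [AlgHom.convMul_apply]
    simp only [WithConv.ofConv_toConv, AlgHom.comp_apply, comulPiece, AlgEquiv.coe_algHom,
      AlgEquiv.apply_symm_apply, Bialgebra.comulAlgHom_apply]
    exact (lift_eq_mu_map (θ := θ c) _).symm
  counit := glueHom he hL (counitPiece θ)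
  counit_spec := by
    intro c
    rw [Φ_eq_of_bc θ c _ _ (bc_glueHom he hL (counitPiece θ) c)]
    apply WithConv.ofConv_injective
    apply AlgHom.ext
    intro x
    rw [AlgHom.convOne_apply]
    simp only [WithConv.ofConv_toConv, AlgHom.comp_apply, counitPiece, AlgEquiv.coe_algHom,
      AlgEquiv.apply_symm_apply, Bialgebra.counitAlgHom_apply]
    rw [Algebra.TensorProduct.algebraMap_apply]
    rfl
  antipode := glueHom he hL (antipodePiece θ)
  antipode_spec := by
    intro c
    rw [Φ_eq_of_bc θ c _ _ (bc_glueHom he hL (antipodePiece θ) c)]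
    apply WithConv.ofConv_injective
    apply AlgHom.ext
    intro x
    simp only [WithConv.ofConv_toConv, AlgHom.comp_apply, antipodePiece, AlgEquiv.coe_algHom,
      AlgEquiv.apply_symm_apply, Φ_apply]
    have h1 : bc (L c) (AlgHom.id R E) = AlgHom.id (L c) (L c ⊗[R] E) := by
      apply Algebra.TensorProduct.ext'
      intro a x
      simp
    rw [h1]
    rfl

/-- the Hopf algebra structure on an algebra whose pieces are Hopf algebras -/
noncomputable abbrev hopfOfPieces : HopfAlgebra R E := hopfF (famData he hL θ)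

/-- the pieces of the glued Hopf algebra are the given ones -/
noncomputable def pieceEquiv (c : ι) :
    letI := hopfOfPieces he hL θ
    L c ⊗[R] E ≃ₐc[L c] H c :=
  thetaBialgF (famData he hL θ) c

theorem pieceEquiv_apply (c : ι) (z : L c ⊗[R] E) :
    letI := hopfOfPieces he hL θ
    pieceEquiv he hL θ c z = θ c z := rfl

end Fam

end Groth.Agent.H3.Idem
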