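import Groth.Agent.H3.IdemPiece

/-!
# Algebras over the pieces of an idempotent decomposition
-/

set_option autoImplicit false
set_option linter.unusedSectionVars false
set_option linter.style.haveILetI false
universe u
open scoped TensorProduct

namespace Groth.Agent.H3.Idem

section AlgebraOf

variable {K : Type*} [CommRing K] {e : K} {L : Type*} [CommRing L] [Algebra K L]
  (h : IsPiece K e L) (X : Type*) [CommRing X] [Algebra K X]

include h in
theorem IsPiece.ker_le (hX : algebraMap K X e = 1) :
    RingHom.ker (algebraMap K L) ≤ RingHom.ker (algebraMap K X) := by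
  intro x hx
  rw [RingHom.mem_ker] at hx ⊢
  have h1 : e * x = 0 := (h.ker x).mp hx
  have h2 : algebraMap K X (e * x) = 0 := by rw [h1, map_zero]
  rw [map_mul, hX, one_mul] at h2
  exact h2

/-- the ring map from a piece to an algebra in which the idempotent becomes `1` -/
noncomputable def IsPiece.toAlg (hX : algebraMap K X e = 1) : L →+* X :=
  RingHom.liftOfSurjective (algebraMap K L) h.surj ⟨algebraMap K X, h.ker_le X hX⟩

theorem IsPiece.toAlg_algebraMap (hX : algebraMap K X e = 1) (x : K) :
    h.toAlg X hX (algebraMap K L x) = algebraMap K X x :=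
  RingHom.liftOfRightInverse_comp_apply _ _ _ _ x

/-- an algebra in which the idempotent becomes `1` is an algebra over the piece -/
@[instance_reducible]
noncomputable def IsPiece.algebraOf (hX : algebraMap K X e = 1) : Algebra L X :=
  (h.toAlg X hX).toAlgebra

theorem IsPiece.isScalarTower_algebraOf (hX : algebraMap K X e = 1) :
    letI := h.algebraOf X hX
    IsScalarTower K L X := by
  letI := h.algebraOf X hX
  exact IsScalarTower.of_algebraMap_eq fun x => (h.toAlg_algebraMap X hX x).symm

end AlgebraOf

section Etale

variable {K : Type u} [CommRing K] {e : K} {L : Type u} [CommRing L] [Algebra K L]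
  (X : Type u) [CommRing X] [Algebra K X] [Algebra L X] [IsScalarTower K L X]

include e in
/-- an algebra over a piece which is etale over the whole ring is etale over the piece -/
theorem IsPiece.etale (h : IsPiece K e L) [Algebra.Etale K X] : Algebra.Etale L X := by
  haveI : Algebra.FormallyUnramified K L := Algebra.FormallyUnramified.of_surjective
    (Algebra.ofId K L) h.surj
  haveI : Algebra.FiniteType K L := Algebra.FiniteType.of_surjective (Algebra.ofId K L) h.surj
  exact
    { formallyEtale := Algebra.FormallyEtale.of_restrictScalars (R := K)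
      finitePresentation := Algebra.FinitePresentation.of_restrict_scalars_finitePresentation K L X }

end Etale

section Quot

variable {R : Type*} [CommRing R] (I : Ideal R) {E : R} {S : Type*} [CommRing S] [Algebra R S]

/-- the reduction of a piece modulo an ideal is a piece of the reduction -/
theorem isPiece_quotient (h : IsPiece R E S) (hE : IsIdempotentElem E) :
    IsPiece (R ⧸ I) (Ideal.Quotient.mk I E) (S ⧸ I.map (algebraMap R S)) := by
  constructor
  · intro y
    obtain ⟨s, rfl⟩ := Ideal.Quotient.mk_surjective y
    obtain ⟨r, rfl⟩ := h.surj s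
    exact ⟨Ideal.Quotient.mk I r, rfl⟩
  · intro x
    obtain ⟨x, rfl⟩ := Ideal.Quotient.mk_surjective x
    rw [Ideal.Quotient.algebraMap_quotient_map_quotient, Ideal.Quotient.eq_zero_iff_mem,
      ← map_mul, Ideal.Quotient.eq_zero_iff_mem]
    constructor
    · intro hx
      obtain ⟨y, hy, hyx⟩ := (Ideal.mem_map_iff_of_surjective (algebraMap R S) h.surj).mp hx
      have h1 : algebraMap R S (y - x) = 0 := by rw [map_sub, hyx, sub_self]
      have h2 : E * (y - x) = 0 := (h.ker _).mp h1
      have h3 : E * x = E * y := by
        rw [mul_sub, sub_eq_zero] at h2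
        exact h2.symm
      rw [h3]
      exact I.mul_mem_left E hy
    · intro hx
      have h1 : algebraMap R S (E * x) ∈ I.map (algebraMap R S) := Ideal.mem_map_of_mem _ hx
      rw [map_mul, h.map_self hE, one_mul] at h1
      exact h1

end Quot

section Cover

variable {K : Type*} [CommRing K] {e : K} {L : Type*} [CommRing L] [Algebra K L]
  (X : Type*) [CommRing X] [Algebra K X] [Algebra L X] [IsScalarTower K L X]

/-- a flat algebra over a piece whose spectrum covers the piece is faithfully flat -/
theorem IsPiece.faithfullyFlat_of_cover (h : IsPiece K e L) (he : IsIdempotentElem e)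
    [Module.Flat L X]
    (hcov : ∀ 𝔭 : PrimeSpectrum K, e ∉ 𝔭.asIdeal →
      ∃ 𝔮 : PrimeSpectrum X, PrimeSpectrum.comap (algebraMap K X) 𝔮 = 𝔭) :
    Module.FaithfullyFlat L X := by
  apply Module.FaithfullyFlat.of_comap_surjective
  intro 𝔭'
  have h1 : e ∉ (PrimeSpectrum.comap (algebraMap K L) 𝔭').asIdeal := by
    intro h2
    rw [PrimeSpectrum.comap_asIdeal, Ideal.mem_comap, h.map_self he] at h2
    exact 𝔭'.isPrime.ne_top ((Ideal.eq_top_iff_one _).mpr h2)
  obtain ⟨𝔮, h𝔮⟩ := hcov _ h1
  refine ⟨𝔮, ?_⟩
  apply PrimeSpectrum.comap_injective_of_surjective (algebraMap K L) h.surj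
  rw [← h𝔮, IsScalarTower.algebraMap_eq K L X, PrimeSpectrum.comap_comp]
  rfl

end Cover

section PiCover

variable {K : Type*} [CommRing K] {J : Type*} (T : J → Type*) [∀ j, CommRing (T j)]
  [∀ j, Algebra K (T j)]

/-- a product whose factors cover the base covers the base -/
theorem comap_surjective_pi
    (hcov : ∀ 𝔭 : PrimeSpectrum K, ∃ j, ∃ 𝔮 : PrimeSpectrum (T j),
      PrimeSpectrum.comap (algebraMap K (T j)) 𝔮 = 𝔭) :
    Function.Surjective (PrimeSpectrum.comap (algebraMap K (∀ j, T j))) := by
  intro 𝔭
  obtain ⟨j, 𝔮, h𝔮⟩ := hcov 𝔭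
  refine ⟨PrimeSpectrum.comap (Pi.evalRingHom T j) 𝔮, ?_⟩
  rw [← h𝔮]
  rfl

end PiCover

end Groth.Agent.H3.Idem
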