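import Mathlib.RingTheory.Idempotents
import Mathlib.RingTheory.Ideal.Quotient.Operations
import Mathlib.Algebra.Algebra.Prod
import Mathlib.Tactic.LinearCombination
import Mathlib.Tactic.Ring

set_option autoImplicit false
universe u

namespace Groth.Agent.H3

/-- The decomposition of an algebra along an idempotent. -/
noncomputable def idemProdEquiv (R : Type*) {S : Type*} [CommRing R] [CommRing S] [Algebra R S]
    {e : S} (he : IsIdempotentElem e) :
    S ≃ₐ[R] (S ⧸ Ideal.span {1 - e}) × (S ⧸ Ideal.span {e}) :=
  AlgEquiv.ofBijective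
    ((Ideal.Quotient.mkₐ R (Ideal.span {1 - e})).prod (Ideal.Quotient.mkₐ R (Ideal.span {e})))
    (by
      constructor
      · rw [injective_iff_map_eq_zero]
        intro x hx
        have h1 : Ideal.Quotient.mk (Ideal.span {1 - e}) x = 0 := congrArg Prod.fst hx
        have h2 : Ideal.Quotient.mk (Ideal.span {e}) x = 0 := congrArg Prod.snd hx
        rw [Ideal.Quotient.eq_zero_iff_mem, Ideal.mem_span_singleton'] at h1 h2
        obtain ⟨a, ha⟩ := h1
        obtain ⟨b, hb⟩ := h2
        have := he.eq
        have h3 : e * x = 0 := by rw [← ha]; linear_combination (-a) * this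
        have h4 : (1 - e) * x = 0 := by rw [← hb]; linear_combination (-b) * this
        linear_combination h3 + h4
      · rintro ⟨a, b⟩
        obtain ⟨a, rfl⟩ := Ideal.Quotient.mk_surjective a
        obtain ⟨b, rfl⟩ := Ideal.Quotient.mk_surjective b
        refine ⟨e * a + (1 - e) * b, ?_⟩
        refine Prod.ext ?_ ?_
        · change Ideal.Quotient.mk _ (e * a + (1 - e) * b) = Ideal.Quotient.mk _ a
          rw [Ideal.Quotient.eq, Ideal.mem_span_singleton']
          exact ⟨b - a, by ring⟩
        · change Ideal.Quotient.mk _ (e * a + (1 - e) * b) = Ideal.Quotient.mk _ b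
          rw [Ideal.Quotient.eq, Ideal.mem_span_singleton']
          exact ⟨a - b, by ring⟩)

end Groth.Agent.H3
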