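import Groth.Agent.H3.IdemHopf
import Groth.Agent.H26.DiagRigid

/-!
# The product of Hopf algebras over the pieces of an idempotent decomposition

`e` a complete family of orthogonal idempotents of `R`, `L c` the pieces, `A c` a Hopf algebra over
`L c`.  The product `∀ c, A c` is a Hopf algebra over `R` whose base change to `L c` is `A c`.
-/

set_option autoImplicit false
set_option linter.style.haveILetI false
set_option linter.unusedSectionVars false
universe u
open scoped TensorProduct

namespace Groth.Agent.H3.Idem

open Groth.Agent.H26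

section Prod

variable {R : Type u} [CommRing R] {ι : Type u} [Fintype ι] {e : ι → R}
  (he : CompleteOrthogonalIdempotents e)
  {L : ι → Type u} [∀ c, CommRing (L c)] [∀ c, Algebra R (L c)]
  (hL : ∀ c, IsPiece R (e c) (L c))
  (A : ι → Type u) [∀ c, CommRing (A c)] [∀ c, Algebra (L c) (A c)] [∀ c, Algebra R (A c)]
  [∀ c, IsScalarTower R (L c) (A c)]

/-- the projection of the product, extended to the base change -/
noncomputable def prodThetaHom (c : ι) : L c ⊗[R] (∀ d, A d) →ₐ[L c] A c :=
  Algebra.TensorProduct.lift (Algebra.ofId (L c) (A c)) (Pi.evalAlgHom R A c)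
    (fun _ _ => Commute.all _ _)

theorem prodThetaHom_tmul (c : ι) (t : L c) (x : ∀ d, A d) :
    prodThetaHom A c (t ⊗ₜ[R] x) = t • x c := by
  simp [prodThetaHom, Algebra.ofId_apply, Algebra.smul_def]

include he hL in
theorem prodThetaHom_bijective (c : ι) :
    Function.Bijective (prodThetaHom (R := R) (L := L) A c) := by
  classical
  constructor
  · rw [injective_iff_map_eq_zero]
    intro z hz
    obtain ⟨x, rfl⟩ := TensorProduct.mk_surjective R (∀ d, A d) (L c) (hL c).surj z
    change prodThetaHom (R := R) (L := L) A c ((1 : L c) ⊗ₜ[R] x) = 0 at hz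
    rw [prodThetaHom_tmul, one_smul] at hz
    change (1 : L c) ⊗ₜ[R] x = 0
    rw [(hL c).tmul_eq_zero_iff (he.idem c)]
    funext d
    change e c • x d = 0
    rw [← algebraMap_smul (L d) (e c) (x d), map_idem he hL c d]
    split_ifs with h
    · subst h
      rw [one_smul, hz]
    · rw [zero_smul]
  · intro a
    refine ⟨(1 : L c) ⊗ₜ[R] Pi.single c a, ?_⟩
    rw [prodThetaHom_tmul, one_smul, Pi.single_eq_same]

/-- the base change of the product to a piece is the corresponding factor -/
noncomputable def prodTheta (c : ι) : L c ⊗[R] (∀ d, A d) ≃ₐ[L c] A c :=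
  AlgEquiv.ofBijective (prodThetaHom A c) (prodThetaHom_bijective he hL A c)

theorem prodTheta_tmul (c : ι) (t : L c) (x : ∀ d, A d) :
    prodTheta he hL A c (t ⊗ₜ[R] x) = t • x c := prodThetaHom_tmul A c t x

end Prod

section ProdHopf

variable {R : Type u} [CommRing R] {ι : Type u} [Fintype ι] {e : ι → R}
  (he : CompleteOrthogonalIdempotents e)
  {L : ι → Type u} [∀ c, CommRing (L c)] [∀ c, Algebra R (L c)]
  (hL : ∀ c, IsPiece R (e c) (L c))
  (A : ι → Type u) [∀ c, CommRing (A c)] [∀ c, HopfAlgebra (L c) (A c)] [∀ c, Algebra R (A c)]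
  [∀ c, IsScalarTower R (L c) (A c)]

/-- the product of Hopf algebras over the pieces, as a Hopf algebra over `R` -/
noncomputable abbrev prodHopf : HopfAlgebra R (∀ d, A d) :=
  hopfOfPieces he hL (prodTheta he hL A)

/-- the projections of the product are coalgebra maps and base change maps -/
theorem proj_chart (c : ι) :
    letI := prodHopf he hL A
    IsCoalgMapOver (L c) (Pi.evalAlgHom R A c).toLinearMap ∧
      IsBaseChange (L c) (Pi.evalAlgHom R A c).toLinearMap := by
  letI := prodHopf he hL A
  let E := pieceEquiv he hL (prodTheta he hL A) c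
  have h : Pi.evalAlgHom R A c =
      ((E : L c ⊗[R] (∀ d, A d) →ₐ[L c] A c).restrictScalars R).comp
        Algebra.TensorProduct.includeRight := by
    apply AlgHom.ext
    intro x
    change x c = pieceEquiv he hL (prodTheta he hL A) c ((1 : L c) ⊗ₜ[R] x)
    rw [pieceEquiv_apply, prodTheta_tmul, one_smul]
  rw [h]
  constructor
  · have h1 := IsCoalgMapOver.comp (S₂ := L c)
      (isCoalgMapOver_of_coalgHom (E : L c ⊗[R] (∀ d, A d) →ₗc[L c] A c))
      (isCoalgMapOver_inc (R := R) (L c) (∀ d, A d))
    exact h1
  · have h1 := (TensorProduct.isBaseChange R (∀ d, A d) (L c)).comp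
      (IsBaseChange.ofEquiv E.toLinearEquiv)
    exact h1

end ProdHopf

end Groth.Agent.H3.Idem
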