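import Groth.Prelude.Def_PBC
import Groth.Agent.H3.UnionEtaleProps
import Mathlib.Algebra.Category.Ring.FilteredColimits
import Mathlib.CategoryTheory.Limits.Constructions.Over.Connected
import Mathlib.CategoryTheory.Limits.Types.Filtered
import Mathlib.CategoryTheory.Filtered.Connected
import Mathlib.RingTheory.Etale.Basic
import Mathlib.RingTheory.FinitePresentation

/-!
# A criterion for ind-étale algebras

If every element of `B` lies in the image of an étale `A`-algebra, and every element of an étale
`A`-algebra over `B` dying in `B` is killed by an element becoming a unit in `B`, then `B` is a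
filtered colimit of étale `A`-algebras.
-/

set_option autoImplicit false
universe u

open CategoryTheory CategoryTheory.Limits
open scoped TensorProduct

namespace Groth.Agent.H3

namespace IndEtCrit

variable (A B : Type u) [CommRing A] [CommRing B] [Algebra A B]

/-- presented étale algebras with a map to `B` -/
structure Obj : Type u where
  n : ℕ
  s : Finset (MvPolynomial (Fin n) A)
  etale : Algebra.Etale A (MvPolynomial (Fin n) A ⧸ Ideal.span (s : Set (MvPolynomial (Fin n) A)))
  φ : (MvPolynomial (Fin n) A ⧸ Ideal.span (s : Set (MvPolynomial (Fin n) A))) →ₐ[A] B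

variable {A B}

/-- the underlying ring -/
abbrev Obj.ring (X : Obj A B) : Type u :=
  MvPolynomial (Fin X.n) A ⧸ Ideal.span (X.s : Set (MvPolynomial (Fin X.n) A))

instance (X : Obj A B) : Algebra.Etale A X.ring := X.etale

/-- morphisms over `B` -/
@[ext]
structure Hom (X Y : Obj A B) : Type u where
  f : X.ring →ₐ[A] Y.ring
  comm : Y.φ.comp f = X.φ

noncomputable instance : Category (Obj A B) where
  Hom := Hom
  id X := ⟨AlgHom.id A _, AlgHom.comp_id _⟩
  comp f g := ⟨g.f.comp f.f, by rw [← AlgHom.comp_assoc, g.comm, f.comm]⟩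

theorem comp_f {X Y Z : Obj A B} (f : X ⟶ Y) (g : Y ⟶ Z) : (f ≫ g).f = g.f.comp f.f := rfl

theorem id_f (X : Obj A B) : (𝟙 X : X ⟶ X).f = AlgHom.id A _ := rfl

theorem hom_comm_apply {X Y : Obj A B} (f : X ⟶ Y) (x : X.ring) : Y.φ (f.f x) = X.φ x :=
  congrArg (fun g : X.ring →ₐ[A] B => g x) f.comm

/-- the diagram -/
noncomputable def diagram : Obj A B ⥤ Under (CommRingCat.of A) where
  obj X := Under.mk (CommRingCat.ofHom (algebraMap A X.ring))
  map {X Y} g := Under.homMk (CommRingCat.ofHom g.f.toRingHom) (by
    ext a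
    exact g.f.commutes a)
  map_id X := by ext x; rfl
  map_comp f g := by ext x; rfl

/-- the cocone with vertex `B` -/
noncomputable def cocone : Cocone (diagram (A := A) (B := B)) where
  pt := Under.mk (CommRingCat.ofHom (algebraMap A B))
  ι :=
    { app := fun X => Under.homMk (CommRingCat.ofHom X.φ.toRingHom) (by
        ext a
        exact X.φ.commutes a)
      naturality := fun X Y g => by
        ext x
        exact hom_comm_apply g x }

/-- every étale algebra over `B` is isomorphic to a presented one -/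
theorem exists_obj (E : Type u) [CommRing E] [Algebra A E] [Algebra.Etale A E] (φ : E →ₐ[A] B) :
    ∃ (X : Obj A B) (e : X.ring ≃ₐ[A] E), φ.comp e.toAlgHom = X.φ := by
  classical
  obtain ⟨n, f, hfs, t, ht⟩ := Algebra.FinitePresentation.out (R := A) (A := E)
  have hker : Ideal.span (t : Set (MvPolynomial (Fin n) A)) = RingHom.ker f.toRingHom := ht
  let e : (MvPolynomial (Fin n) A ⧸ Ideal.span (t : Set (MvPolynomial (Fin n) A))) ≃ₐ[A] E :=
    (Ideal.quotientEquivAlgOfEq A hker).trans (Ideal.quotientKerAlgEquivOfSurjective hfs)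
  exact ⟨⟨n, t, Algebra.Etale.of_equiv e.symm, φ.comp e.toAlgHom⟩, e, rfl⟩

section Filtered

variable (hK : ∀ (E : Type u) [CommRing E] [Algebra A E] [Algebra.Etale A E] (φ : E →ₐ[A] B)
  (x : E), φ x = 0 → ∃ k : E, IsUnit (φ k) ∧ k * x = 0)

include hK in
/-- killing finitely many elements at once -/
theorem exists_kill (X : Obj A B) (t : Finset X.ring) (ht : ∀ x ∈ t, X.φ x = 0) :
    ∃ (Y : Obj A B) (g : X ⟶ Y), ∀ x ∈ t, g.f x = 0 := by
  classical
  have h1 : ∀ x : X.ring, ∃ k : X.ring, x ∈ t → (IsUnit (X.φ k) ∧ k * x = 0) := by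
    intro x
    by_cases hx : x ∈ t
    · obtain ⟨k, hk⟩ := hK X.ring X.φ x (ht x hx)
      exact ⟨k, fun _ => hk⟩
    · exact ⟨0, fun h => absurd h hx⟩
  choose k hk using h1
  let K : X.ring := ∏ x ∈ t, k x
  have hKu : IsUnit (X.φ K) := by
    rw [map_prod]
    exact IsUnit.prod_iff.mpr fun x hx => (hk x hx).1
  obtain ⟨hEt, φ', hφ'⟩ := UnionEtale.exists_away X.φ K hKu
  obtain ⟨Y, e, he⟩ := exists_obj (Localization.Away K) φ'
  let ψ : X.ring →ₐ[A] Y.ring :=
    e.symm.toAlgHom.comp (IsScalarTower.toAlgHom A X.ring (Localization.Away K))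
  refine ⟨Y, ⟨ψ, ?_⟩, ?_⟩
  · ext x
    change Y.φ (e.symm (algebraMap X.ring (Localization.Away K) x)) = X.φ x
    rw [← he]
    change φ' (e (e.symm _)) = _
    rw [AlgEquiv.apply_symm_apply, hφ']
  · intro x hx
    change e.symm (algebraMap X.ring (Localization.Away K) x) = 0
    rw [map_eq_zero_iff _ e.symm.injective]
    have h2 : K * x = 0 := by
      have : K = (∏ y ∈ t.erase x, k y) * k x := by
        rw [Finset.prod_erase_mul t k hx]
      rw [this, mul_assoc, (hk x hx).2, mul_zero]
    have h3 : algebraMap X.ring (Localization.Away K) K *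
        algebraMap X.ring (Localization.Away K) x = 0 := by
      rw [← map_mul, h2, map_zero]
    exact (IsLocalization.Away.algebraMap_isUnit K).mul_right_eq_zero.mp h3

include hK in
theorem isFiltered : IsFiltered (Obj A B) := by
  classical
  haveI : Nonempty (Obj A B) := by
    obtain ⟨X, -, -⟩ := exists_obj (B := B) A (Algebra.ofId A B)
    exact ⟨X⟩
  refine { cocone_objs := ?_, cocone_maps := ?_ }
  · intro X Y
    haveI : Algebra.Etale A (TensorProduct A X.ring Y.ring) :=
      Algebra.Etale.comp A X.ring _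
    obtain ⟨Z, e, he⟩ := exists_obj (TensorProduct A X.ring Y.ring)
      (Algebra.TensorProduct.productMap X.φ Y.φ)
    let iL : X.ring →ₐ[A] TensorProduct A X.ring Y.ring := Algebra.TensorProduct.includeLeft
    let iR : Y.ring →ₐ[A] TensorProduct A X.ring Y.ring := Algebra.TensorProduct.includeRight
    refine ⟨Z, ⟨e.symm.toAlgHom.comp iL, ?_⟩, ⟨e.symm.toAlgHom.comp iR, ?_⟩, trivial⟩
    · ext x
      change Z.φ (e.symm (iL x)) = X.φ x
      rw [← he]
      change Algebra.TensorProduct.productMap X.φ Y.φ (e (e.symm _)) = _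
      rw [AlgEquiv.apply_symm_apply]
      change Algebra.TensorProduct.productMap X.φ Y.φ (x ⊗ₜ[A] 1) = _
      rw [Algebra.TensorProduct.productMap_apply_tmul, map_one, mul_one]
    · ext y
      change Z.φ (e.symm (iR y)) = Y.φ y
      rw [← he]
      change Algebra.TensorProduct.productMap X.φ Y.φ (e (e.symm _)) = _
      rw [AlgEquiv.apply_symm_apply]
      change Algebra.TensorProduct.productMap X.φ Y.φ (1 ⊗ₜ[A] y) = _
      rw [Algebra.TensorProduct.productMap_apply_tmul, map_one, one_mul]
  · intro X Y f g
    let t : Finset Y.ring := Finset.univ.image fun i : Fin X.n =>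
      f.f (Ideal.Quotient.mk _ (MvPolynomial.X i)) - g.f (Ideal.Quotient.mk _ (MvPolynomial.X i))
    have ht : ∀ y ∈ t, Y.φ y = 0 := by
      intro y hy
      obtain ⟨i, -, rfl⟩ := Finset.mem_image.mp hy
      rw [map_sub, hom_comm_apply, hom_comm_apply, sub_self]
    obtain ⟨Z, h, hh⟩ := exists_kill hK Y t ht
    refine ⟨Z, h, ?_⟩
    apply Hom.ext
    rw [comp_f, comp_f]
    have hsurj : Function.Surjective (Ideal.Quotient.mkₐ A
        (Ideal.span (X.s : Set (MvPolynomial (Fin X.n) A)))) := Ideal.Quotient.mk_surjective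
    rw [← AlgHom.cancel_right hsurj]
    apply MvPolynomial.algHom_ext
    intro i
    change h.f (f.f (Ideal.Quotient.mk _ (MvPolynomial.X i))) =
      h.f (g.f (Ideal.Quotient.mk _ (MvPolynomial.X i)))
    rw [← sub_eq_zero, ← map_sub]
    exact hh _ (Finset.mem_image.mpr ⟨i, Finset.mem_univ _, rfl⟩)

include hK in
/-- the cocone is a colimit -/
theorem nonempty_isColimit (hU : UnionEtale.IsUnion A B) :
    Nonempty (IsColimit (cocone (A := A) (B := B))) := by
  classical
  haveI := isFiltered hK
  haveI : IsConnected (Obj A B) := IsFiltered.isConnected _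
  have hT : IsColimit ((forget CommRingCat).mapCocone
      ((Under.forget (CommRingCat.of A)).mapCocone (cocone (A := A) (B := B)))) := by
    apply Types.FilteredColimit.isColimitOf'
    · intro b
      obtain ⟨E, _, _, _, φ, hφ⟩ := hU b
      obtain ⟨x, hx⟩ := hφ (Set.mem_singleton b)
      obtain ⟨X, e, he⟩ := exists_obj E φ
      refine ⟨X, e.symm x, ?_⟩
      change b = X.φ (e.symm x)
      rw [← he]
      change b = φ (e (e.symm x))
      rw [AlgEquiv.apply_symm_apply, hx]
    · intro X (x : X.ring) (y : X.ring) hxy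
      have hxy' : X.φ x = X.φ y := hxy
      have h0 : X.φ (x - y) = 0 := by rw [map_sub, hxy', sub_self]
      obtain ⟨Y, g, hg⟩ := exists_kill hK X {x - y} (by
        intro z hz
        rw [Finset.mem_singleton] at hz
        rw [hz]; exact h0)
      refine ⟨Y, g, ?_⟩
      change g.f x = g.f y
      have := hg (x - y) (Finset.mem_singleton_self _)
      rwa [map_sub, sub_eq_zero] at this
  haveI : ReflectsColimit (diagram (A := A) (B := B) ⋙ Under.forget (CommRingCat.of A))
      (forget CommRingCat) := reflectsColimit_of_reflectsIsomorphisms _ _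
  have hR := isColimitOfReflects (forget CommRingCat) hT
  exact ⟨isColimitOfReflects (Under.forget (CommRingCat.of A)) hR⟩

include hK in
/-- the criterion -/
theorem isIndEtale (hU : UnionEtale.IsUnion A B) : EtPBC.IsIndEtale A B := by
  obtain ⟨hc⟩ := nonempty_isColimit hK hU
  refine ⟨Obj A B, inferInstance, isFiltered hK, diagram, cocone, hc, ?_, ⟨Iso.refl _⟩⟩
  intro X
  have h3 : (((diagram (A := A) (B := B)).obj X).hom.hom.toAlgebra : Algebra A X.ring) =
      Ideal.Quotient.algebra A := by
    apply Algebra.algebra_ext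
    intro r
    rfl
  change @Algebra.Etale A X.ring _ _ (((diagram (A := A) (B := B)).obj X).hom.hom.toAlgebra)
  rw [h3]
  exact X.etale

end Filtered

/-- a flat local algebra which is a union of images of étale algebras is ind-étale -/
theorem isIndEtale_of_local [Module.Flat A B] [IsLocalRing B] (hU : UnionEtale.IsUnion A B) :
    EtPBC.IsIndEtale A B :=
  isIndEtale (fun _ _ _ _ φ x hx => UnionEtale.exists_mul_eq_zero_of_local φ x hx) hU

end IndEtCrit

end Groth.Agent.H3
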