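import Mathlib.RingTheory.Jacobson.Ring
import Mathlib.RingTheory.QuasiFinite.Basic
import Mathlib.RingTheory.Ideal.GoingDown
import Mathlib.RingTheory.Localization.Ideal
import Mathlib.RingTheory.Localization.Away.Basic

/-!
# The Jacobson property descends along flat quasi-finite maps surjective on spectra
-/

set_option autoImplicit false
universe u

namespace Groth.Agent.H3

namespace JacDesc

/-- a prime maximal among those containing `P` and avoiding `a` -/
theorem exists_prime_maximal_avoiding {A : Type u} [CommRing A] (P : Ideal A) [hP : P.IsPrime]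
    (a : A) (ha : a ∉ P) :
    ∃ P' : Ideal A, P'.IsPrime ∧ P ≤ P' ∧ a ∉ P' ∧
      ∀ Q : Ideal A, Q.IsPrime → P' ≤ Q → a ∉ Q → Q = P' := by
  let S := Localization.Away a
  have hdisj : Disjoint (Submonoid.powers a : Set A) P :=
    (Ideal.disjoint_powers_iff_notMem_of_isPrime a).mpr ha
  have hJprime : (P.map (algebraMap A S)).IsPrime :=
    IsLocalization.isPrime_of_isPrime_disjoint (.powers a) _ _ hP hdisj
  obtain ⟨𝔐, h𝔐max, hle⟩ := Ideal.exists_le_maximal _ hJprime.ne_top
  have h𝔐prime := h𝔐max.isPrime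
  refine ⟨𝔐.comap (algebraMap A S), Ideal.comap_isPrime _ _, ?_, ?_, ?_⟩
  · exact Ideal.map_le_iff_le_comap.mp hle
  · intro h
    rw [Ideal.mem_comap] at h
    exact h𝔐max.ne_top (Ideal.eq_top_of_isUnit_mem _ h
      (IsLocalization.map_units S (⟨a, Submonoid.mem_powers a⟩ : Submonoid.powers a)))
  · intro Q hQ hle' haQ
    have hdisjQ : Disjoint (Submonoid.powers a : Set A) Q :=
      (Ideal.disjoint_powers_iff_notMem_of_isPrime a).mpr haQ
    have hQprime : (Q.map (algebraMap A S)).IsPrime :=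
      IsLocalization.isPrime_of_isPrime_disjoint (.powers a) _ _ hQ hdisjQ
    have h1 : 𝔐 ≤ Q.map (algebraMap A S) := by
      rw [← IsLocalization.map_under (.powers a) S 𝔐]
      exact Ideal.map_mono hle'
    have h2 : 𝔐 = Q.map (algebraMap A S) := h𝔐max.eq_of_le hQprime.ne_top h1
    rw [h2]
    exact (IsLocalization.under_map_of_isPrime_disjoint (.powers a) S hQ hdisjQ).symm

theorem isJacobsonRing_of_quasiFinite_flat {A B₁ : Type u} [CommRing A] [CommRing B₁]
    [Algebra A B₁] [Algebra.QuasiFinite A B₁] [Module.Flat A B₁]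
    (hsurj : Function.Surjective (PrimeSpectrum.comap (algebraMap A B₁))) [IsJacobsonRing B₁] :
    IsJacobsonRing A := by
  rw [isJacobsonRing_iff_prime_eq]
  intro P hP
  refine le_antisymm ?_ Ideal.le_jacobson
  intro a ha
  by_contra haP
  obtain ⟨P', hP'prime, hPP', haP', hP'max⟩ := exists_prime_maximal_avoiding P a haP
  have hnotmax : ¬ P'.IsMaximal := by
    intro hmax
    rw [Ideal.jacobson, Ideal.mem_sInf] at ha
    exact haP' (ha ⟨hPP', hmax⟩)
  obtain ⟨m, hm, hP'm⟩ := Ideal.exists_le_maximal P' hP'prime.ne_top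
  have hmprime := hm.isPrime
  have hne : P' ≠ m := fun h => hnotmax (h ▸ hm)
  obtain ⟨⟨N, hNprime⟩, hN⟩ := hsurj ⟨m, hm.isPrime⟩
  have hNm : N.comap (algebraMap A B₁) = m := congrArg PrimeSpectrum.asIdeal hN
  have hNlies : N.LiesOver m := ⟨hNm.symm⟩
  obtain ⟨N₀, hN₀le, hN₀prime, hN₀lies⟩ :=
    Ideal.exists_ideal_le_liesOver_of_le (p := P') (q := m) N hP'm
  have hN₀P' : N₀.comap (algebraMap A B₁) = P' := hN₀lies.over.symm
  have hmem : algebraMap A B₁ a ∈ N₀.jacobson := by
    rw [Ideal.jacobson, Ideal.mem_sInf]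
    rintro J ⟨hN₀J, hJmax⟩
    by_contra haJ
    have hJprime := hJmax.isPrime
    have hQ : J.comap (algebraMap A B₁) = P' :=
      hP'max _ (Ideal.comap_isPrime _ _) (by rw [← hN₀P']; exact Ideal.comap_mono hN₀J)
        (fun h => haJ h)
    have hEq : N₀ = J := Algebra.QuasiFinite.eq_of_le_of_under_eq (R := A) N₀ J hN₀J
      (by rw [Ideal.under_def, Ideal.under_def, hN₀P', hQ])
    have hN₀max : N₀.IsMaximal := hEq ▸ hJmax
    have h3 : N₀ = N := hN₀max.eq_of_le hNprime.ne_top hN₀le
    apply hne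
    rw [← hN₀P', h3, hNm]
  rw [(isJacobsonRing_iff_prime_eq.mp ‹IsJacobsonRing B₁›) N₀ hN₀prime] at hmem
  exact haP' (by rw [← hN₀P']; exact hmem)

end JacDesc

end Groth.Agent.H3
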