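import Mathlib

/-!
# Inverse limits of finite projective modules along towers with nil kernels

Auxiliary lemmas: extension of elements of towers to compatible sequences, nilpotency of
matrices with entries in a nil ideal, and the inductive lifting step for a presentation of a
finite flat module as the image of an idempotent matrix.
-/

set_option autoImplicit false
universe u

namespace Groth.Agent.H3.LimProj

open Matrix

/-- Extending an element of a tower of sets with surjective transition maps to a compatible
sequence. -/
theorem exists_compatible_seq : ∀ (n : ℕ) {X : ℕ → Type u} (f : ∀ n, X (n + 1) → X n)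
    (_ : ∀ n, Function.Surjective (f n)) (a : X n),
    ∃ x : ∀ m, X m, (∀ m, f m (x (m + 1)) = x m) ∧ x n = a
  | 0, _, _, hf, a => ⟨fun m => Nat.rec a (fun m xm => Classical.choose (hf m xm)) m,
      fun m => Classical.choose_spec (hf m _), rfl⟩
  | n + 1, X, f, hf, a => by
      obtain ⟨x', h1, h2⟩ := exists_compatible_seq n (X := fun m => X (m + 1))
        (fun m => f (m + 1)) (fun m => hf (m + 1)) a
      refine ⟨fun m => match m with
        | 0 => f 0 (x' 0)
        | m + 1 => x' m, fun m => ?_, h2⟩
      cases m with
      | zero => rfl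
      | succ m => exact h1 m

theorem pow_entries_mem {R : Type u} [CommRing R] {r : ℕ} (J : Ideal R)
    (x : Matrix (Fin r) (Fin r) R) (hx : ∀ i j, x i j ∈ J) :
    ∀ (k : ℕ) (i j : Fin r), (x ^ k) i j ∈ J ^ k := by
  intro k
  induction k with
  | zero => intro i j; simp
  | succ k ih =>
    intro i j
    rw [pow_succ x k, Matrix.mul_apply, pow_succ J k]
    exact Ideal.sum_mem _ fun l _ => Ideal.mul_mem_mul (ih i l) (hx l j)

theorem isNilpotent_of_entries_mem {R : Type u} [CommRing R] {r : ℕ} (I : Ideal R)
    (hI : ∀ x ∈ I, IsNilpotent x) (x : Matrix (Fin r) (Fin r) R) (hx : ∀ i j, x i j ∈ I) :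
    IsNilpotent x := by
  classical
  let J : Ideal R := Ideal.span (Set.range fun ij : Fin r × Fin r => x ij.1 ij.2)
  have hJfg : J.FG := Submodule.fg_span (Set.finite_range _)
  have hJI : J ≤ I := Ideal.span_le.mpr (by rintro _ ⟨ij, rfl⟩; exact hx _ _)
  have hJnil : J ≤ nilradical R := fun a ha => mem_nilradical.mpr (hI a (hJI ha))
  obtain ⟨k, hk⟩ := hJfg.isNilpotent_iff_le_nilradical.mpr hJnil
  refine ⟨k, ?_⟩
  ext i j
  have h := pow_entries_mem J x (fun i j => Ideal.subset_span ⟨(i, j), rfl⟩) k i j
  rw [hk, Ideal.zero_eq_bot, Ideal.mem_bot] at h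
  simpa using h

section
variable {R : Type u} [CommRing R] {M : Type u} [AddCommGroup M] [Module R M] {r : ℕ}

/-- The linear combination map `v ↦ ∑ i, v i • y i`. -/
noncomputable def G (y : Fin r → M) : (Fin r → R) →ₗ[R] M := Fintype.linearCombination R y

theorem G_apply (y : Fin r → M) (v : Fin r → R) : G y v = ∑ i, v i • y i := rfl

theorem G_single (y : Fin r → M) (i : Fin r) : G y (Pi.single i (1 : R)) = y i := by
  classical
  simp [G]

end

/-- A presentation of a module as the image of an idempotent matrix: `y` is a family of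
generators whose relation module is the kernel of the idempotent matrix `e`. -/
structure Data (R : Type u) [CommRing R] (M : Type u) [AddCommGroup M] [Module R M] (r : ℕ) where
  e : Matrix (Fin r) (Fin r) R
  y : Fin r → M
  idem : IsIdempotentElem e
  h1 : ∀ v, G y (e *ᵥ v) = G y v
  h2 : Function.Surjective (G (R := R) y)
  h3 : ∀ v, G y v = 0 → e *ᵥ v = 0

theorem comp_mulVec {R R' : Type u} [CommRing R] [CommRing R'] (t : R →+* R') {r : ℕ}
    (e : Matrix (Fin r) (Fin r) R) (v : Fin r → R) :
    t ∘ (e *ᵥ v) = (t.mapMatrix e) *ᵥ (t ∘ v) := by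
  funext i
  simp only [Function.comp_apply, RingHom.mapMatrix_apply]
  exact RingHom.map_mulVec t e v i

theorem comp_single {R R' : Type u} [CommRing R] [CommRing R'] (t : R →+* R') {r : ℕ}
    (i : Fin r) : t ∘ (Pi.single i (1 : R) : Fin r → R) = Pi.single i (1 : R') := by
  funext j
  by_cases h : j = i
  · subst h; simp
  · simp [h]

end Groth.Agent.H3.LimProj
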