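import Groth.Agent.H3.LimProjStep

/-!
# The inverse limit of a system of finite flat modules along a tower with nil kernels
-/

set_option autoImplicit false
universe u

namespace Groth.Agent.H3.LimProj

open Matrix

theorem map_G {R R' : Type u} [CommRing R] [CommRing R'] (t : R →+* R')
    {M M' : Type u} [AddCommGroup M] [Module R M] [AddCommGroup M'] [Module R' M']
    (u : M →ₛₗ[t] M') {r : ℕ} (y : Fin r → M) (y' : Fin r → M') (hy : ∀ i, u (y i) = y' i)
    (v : Fin r → R) : u (G y v) = G y' (t ∘ v) := by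
  simp [G_apply, map_sum, hy]

theorem main (A : Type u) [CommRing A] (An : ℕ → Type u)
    [∀ n, CommRing (An n)] (t : ∀ n, An (n + 1) →+* An n) (π : ∀ n, A →+* An n)
    (ht : ∀ n, Function.Surjective (t n))
    (hnil : ∀ n (x : An (n + 1)), t n x = 0 → IsNilpotent x)
    (hA1 : ∀ n, (t n).comp (π (n + 1)) = π n)
    (hA2 : ∀ a b : A, (∀ n, π n a = π n b) → a = b)
    (hA3 : ∀ x : ∀ n, An n, (∀ n, t n (x (n + 1)) = x n) → ∃ a : A, ∀ n, π n a = x n)
    (M : ℕ → Type u) [∀ n, AddCommGroup (M n)] [∀ n, Module (An n) (M n)]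
    (u : ∀ n, M (n + 1) →ₛₗ[t n] M n)
    [Module.Projective (An 0) (M 0)] (hfin : ∀ n, Module.Finite (An n) (M n))
    (hflat : ∀ n, Module.Flat (An n) (M n))
    (hu : ∀ n, Function.Surjective (u n) ∧
      LinearMap.ker (u n) = RingHom.ker (t n) • (⊤ : Submodule (An (n + 1)) (M (n + 1)))) :
    ∃ (P : Type u) (_ : AddCommGroup P) (_ : Module A P) (p : ∀ n, P →ₛₗ[π n] M n),
      Module.Finite A P ∧ Module.Projective A P ∧ (∀ n (x : P), u n (p (n + 1) x) = p n x) ∧
      (∀ n, Function.Surjective (p n) ∧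
        LinearMap.ker (p n) = RingHom.ker (π n) • (⊤ : Submodule A P)) ∧
      (∀ x : (∀ n, M n), (∀ n, u n (x (n + 1)) = x n) → ∃! q : P, ∀ n, p n q = x n) := by
  classical
  haveI := hfin 0
  obtain ⟨r, ⟨d0⟩⟩ := base (An 0) (M 0)
  have hstep : ∀ n (d : Data (An n) (M n) r), ∃ d' : Data (An (n + 1)) (M (n + 1)) r,
      (t n).mapMatrix d'.e = d.e ∧ ∀ i, u n (d'.y i) = d.y i := by
    intro n d
    haveI := hfin (n + 1)
    haveI := hflat (n + 1)
    exact step (t n) (ht n) (hnil n) (u n) (hu n).1 (hu n).2 d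
  obtain ⟨D, hDe, hDy⟩ : ∃ D : ∀ n, Data (An n) (M n) r,
      (∀ n, (t n).mapMatrix (D (n + 1)).e = (D n).e) ∧
      (∀ n i, u n ((D (n + 1)).y i) = (D n).y i) :=
    ⟨fun n => Nat.rec d0 (fun n d => Classical.choose (hstep n d)) n,
      fun n => (Classical.choose_spec (hstep n _)).1,
      fun n => (Classical.choose_spec (hstep n _)).2⟩
  -- the limit idempotent
  have hEex : ∀ i j, ∃ a : A, ∀ n, π n a = (D n).e i j := fun i j =>
    hA3 (fun n => (D n).e i j) (fun n => by
      have h := Matrix.ext_iff.mpr (hDe n) i j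
      simpa using h)
  choose E0 hE0 using hEex
  obtain ⟨E, hE⟩ : ∃ E : Matrix (Fin r) (Fin r) A, ∀ n, (π n).mapMatrix E = (D n).e := by
    refine ⟨Matrix.of E0, fun n => ?_⟩
    ext i j
    simp [hE0]
  have hEidem : E * E = E := by
    ext i j
    apply hA2
    intro n
    have h1 : (π n).mapMatrix (E * E) = (π n).mapMatrix E := by
      rw [map_mul, hE, (D n).idem.eq]
    have h2 := Matrix.ext_iff.mpr h1 i j
    simp only [RingHom.mapMatrix_apply, Matrix.map_apply] at h2
    exact h2
  let EL : (Fin r → A) →ₗ[A] (Fin r → A) := E.mulVecLin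
  let P : Submodule A (Fin r → A) := LinearMap.range EL
  have hPfix : ∀ x : P, E *ᵥ x.1 = x.1 := by
    rintro ⟨_, ⟨w, rfl⟩⟩
    simp [EL, Matrix.mulVec_mulVec, hEidem]
  have hπmul : ∀ n (w : Fin r → A), π n ∘ (E *ᵥ w) = (D n).e *ᵥ (π n ∘ w) := fun n w => by
    rw [comp_mulVec, hE]
  have hπfix : ∀ n (x : P), (D n).e *ᵥ (π n ∘ x.1) = π n ∘ x.1 := fun n x => by
    rw [← hπmul, hPfix]
  obtain ⟨p, hp⟩ : ∃ p : ∀ n, P →ₛₗ[π n] M n, ∀ n (x : P), p n x = G (D n).y (π n ∘ x.1) :=
    ⟨fun n =>
    { toFun := fun x => G (D n).y (π n ∘ x.1)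
      map_add' := by
        intro x y
        rw [← map_add]
        congr 1
        funext i
        simp
      map_smul' := by
        intro a x
        rw [← map_smul]
        congr 1
        funext i
        simp }, fun n x => rfl⟩
  have hπsurj : ∀ n, Function.Surjective (π n) := by
    intro n a
    obtain ⟨x, hx1, hx2⟩ := exists_compatible_seq n (X := An) (fun n => t n) ht a
    obtain ⟨b, hb⟩ := hA3 x hx1
    exact ⟨b, by rw [hb, hx2]⟩
  have hker0 : ∀ n (x : P), p n x = 0 → π n ∘ x.1 = 0 := by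
    intro n x hx
    rw [hp] at hx
    have h := (D n).h3 _ hx
    rw [hπfix] at h
    exact h
  have hlin : ∀ w : Fin r → A, ∑ i, w i • EL (Pi.single i 1) = EL w := by
    intro w
    conv_rhs => rw [pi_eq_sum_univ' w]
    rw [map_sum]
    simp only [map_smul]
  have hfinP : Module.Finite A P := Module.Finite.range EL
  have hprojP : Module.Projective A P := by
    refine Module.Projective.of_split P.subtype EL.rangeRestrict ?_
    refine LinearMap.ext fun x => Subtype.ext ?_
    simp only [LinearMap.comp_apply, Submodule.subtype_apply, LinearMap.id_apply]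
    exact hPfix x
  refine ⟨P, inferInstance, inferInstance, p, hfinP, hprojP, ?_, ?_, ?_⟩
  · -- compatibility
    intro n x
    rw [hp, hp, map_G (t n) (u n) _ _ (hDy n)]
    congr 1
    funext i
    exact RingHom.congr_fun (hA1 n) (x.1 i)
  · intro n
    refine ⟨?_, le_antisymm ?_ ?_⟩
    · intro m
      obtain ⟨v, hv⟩ := (D n).h2 m
      choose w hw using fun i => hπsurj n (v i)
      have hwv : π n ∘ w = v := funext hw
      refine ⟨⟨EL w, LinearMap.mem_range_self _ _⟩, ?_⟩
      rw [hp]
      show G (D n).y (π n ∘ (E *ᵥ w)) = m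
      rw [hπmul, hwv, (D n).h1, hv]
    · intro x hx
      have h0 := hker0 n x hx
      have hx_eq : x = ∑ i, x.1 i • (⟨EL (Pi.single i 1), LinearMap.mem_range_self _ _⟩ : P) := by
        apply Subtype.ext
        rw [Submodule.coe_sum]
        simp only [Submodule.coe_smul]
        rw [hlin x.1]
        exact (hPfix x).symm
      rw [hx_eq]
      refine Submodule.sum_mem _ fun i _ => Submodule.smul_mem_smul ?_ Submodule.mem_top
      exact RingHom.mem_ker.mpr (congr_fun h0 i)
    · refine Submodule.smul_le.mpr fun a ha x _ => ?_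
      rw [LinearMap.mem_ker, map_smulₛₗ, RingHom.mem_ker.mp ha, zero_smul]
  · intro m hm
    -- the preimages
    have hv : ∀ n, ∃ v : Fin r → An n, (D n).e *ᵥ v = v ∧ G (D n).y v = m n := by
      intro n
      obtain ⟨w, hw⟩ := (D n).h2 (m n)
      exact ⟨(D n).e *ᵥ w, by rw [Matrix.mulVec_mulVec, (D n).idem.eq], by rw [(D n).h1, hw]⟩
    choose v hv1 hv2 using hv
    have hvc : ∀ n, t n ∘ v (n + 1) = v n := by
      intro n
      have e1 : (D n).e *ᵥ (t n ∘ v (n + 1)) = t n ∘ v (n + 1) := by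
        rw [← hDe n, ← comp_mulVec, hv1]
      have e2 : G (D n).y (t n ∘ v (n + 1) - v n) = 0 := by
        rw [map_sub, ← map_G (t n) (u n) _ _ (hDy n), hv2, hv2, hm, sub_self]
      have e3 := (D n).h3 _ e2
      rw [Matrix.mulVec_sub, e1, hv1, sub_eq_zero] at e3
      exact e3
    have hxex : ∀ i, ∃ a : A, ∀ n, π n a = v n i := fun i =>
      hA3 (fun n => v n i) (fun n => congr_fun (hvc n) i)
    choose x hx using hxex
    have hπx : ∀ n, π n ∘ x = v n := fun n => funext fun i => hx i n
    have hEx : E *ᵥ x = x := by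
      funext i
      apply hA2
      intro n
      have := congr_fun (hπmul n x) i
      rw [hπx, hv1] at this
      simp only [Function.comp_apply] at this
      rw [this, hx]
    refine ⟨⟨x, ⟨x, hEx⟩⟩, fun n => ?_, ?_⟩
    · rw [hp]
      show G (D n).y (π n ∘ x) = m n
      rw [hπx, hv2]
    · intro q hq
      have hsub : ∀ n, p n (q - ⟨x, ⟨x, hEx⟩⟩) = 0 := by
        intro n
        rw [map_sub, hq n, hp]
        show m n - G (D n).y (π n ∘ x) = 0
        rw [hπx, hv2, sub_self]
      apply Subtype.ext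
      funext i
      apply hA2
      intro n
      have h0 := congr_fun (hker0 n _ (hsub n)) i
      simp only [Function.comp_apply, Submodule.coe_sub, Pi.sub_apply, map_sub, Pi.zero_apply,
        sub_eq_zero] at h0
      exact h0

end Groth.Agent.H3.LimProj
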