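import Groth.Agent.H3.LimProj

/-!
# The lifting step for idempotent presentations along a surjection with nil kernel
-/

set_option autoImplicit false
universe u

namespace Groth.Agent.H3.LimProj

open Matrix

theorem step {R R' : Type u} [CommRing R] [CommRing R'] (t : R →+* R')
    (ht : Function.Surjective t) (hnil : ∀ x, t x = 0 → IsNilpotent x)
    {M M' : Type u} [AddCommGroup M] [Module R M] [AddCommGroup M'] [Module R' M']
    [Module.Finite R M] [Module.Flat R M] (u : M →ₛₗ[t] M') (hu : Function.Surjective u)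
    (hker : LinearMap.ker u = RingHom.ker t • (⊤ : Submodule R M)) {r : ℕ} (d : Data R' M' r) :
    ∃ d' : Data R M r, t.mapMatrix d'.e = d.e ∧ ∀ i, u (d'.y i) = d.y i := by
  classical
  -- lift the idempotent
  have hkerMat : ∀ x ∈ RingHom.ker
      (t.mapMatrix : Matrix (Fin r) (Fin r) R →+* Matrix (Fin r) (Fin r) R'), IsNilpotent x := by
    intro x hx
    refine isNilpotent_of_entries_mem (RingHom.ker t) (fun a ha => hnil a ha) x (fun i j => ?_)
    have h := Matrix.ext_iff.mpr (RingHom.mem_ker.mp hx) i j
    simpa [RingHom.mem_ker] using h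
  have hrange : d.e ∈
      (t.mapMatrix : Matrix (Fin r) (Fin r) R →+* Matrix (Fin r) (Fin r) R').range := by
    refine ⟨Matrix.of fun i j => Classical.choose (ht (d.e i j)), ?_⟩
    ext i j
    simp [Classical.choose_spec (ht (d.e i j))]
  obtain ⟨e, he, hte⟩ :=
    exists_isIdempotentElem_eq_of_ker_isNilpotent t.mapMatrix hkerMat d.e hrange d.idem
  -- lift the generators
  choose y0 hy0 using fun i => hu (d.y i)
  let y : Fin r → M := fun i => G y0 (e *ᵥ Pi.single i 1)
  have hcompat0 : ∀ v : Fin r → R, u (G y0 v) = G d.y (t ∘ v) := by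
    intro v
    simp [G_apply, map_sum, hy0]
  have hGy : ∀ v, G y v = G y0 (e *ᵥ v) := by
    have : G (R := R) y = (G y0) ∘ₗ e.mulVecLin := by
      ext i
      simp [G_single, y]
    intro v
    rw [this]
    rfl
  have h1 : ∀ v, G y (e *ᵥ v) = G y v := by
    intro v
    rw [hGy, hGy, Matrix.mulVec_mulVec, he.eq]
  have hcompat : ∀ v : Fin r → R, u (G y v) = G d.y (t ∘ v) := by
    intro v
    rw [hGy, hcompat0, comp_mulVec, hte, d.h1]
  have hsurj : Function.Surjective (G (R := R) y) := by
    rw [← LinearMap.range_eq_top]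
    apply top_le_iff.mp
    apply Submodule.le_of_le_smul_of_le_jacobson_bot (I := RingHom.ker t) Module.Finite.fg_top
    · intro a ha
      rw [Ideal.jacobson_bot]
      exact nilradical_le_jacobson R (mem_nilradical.mpr (hnil a ha))
    · intro m _
      obtain ⟨v', hv'⟩ := d.h2 (u m)
      choose v hv using fun i => ht (v' i)
      have htv : t ∘ v = v' := funext hv
      have h0 : u (m - G y v) = 0 := by
        rw [map_sub, hcompat, htv, hv', sub_self]
      have hmem : m - G y v ∈ RingHom.ker t • (⊤ : Submodule R M) := by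
        rw [← hker]; exact h0
      have hm : m = G y v + (m - G y v) := by abel
      rw [hm]
      exact Submodule.add_mem_sup (LinearMap.mem_range_self _ _) hmem
  have h3 : ∀ v, G y v = 0 → e *ᵥ v = 0 := by
    intro v hv
    set x := e *ᵥ v with hx
    have hex : e *ᵥ x = x := by rw [hx, Matrix.mulVec_mulVec, he.eq]
    have hGx : G y x = 0 := by rw [hx, h1, hv]
    obtain ⟨k, a, yy, hfac, hax⟩ :=
      Module.Flat.exists_factorization_of_apply_eq_zero_of_free (f := x) (x := G (R := R) y) hGx
    obtain ⟨b, hb⟩ := Module.projective_lifting_property (G (R := R) y) yy hsurj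
    let θ : (Fin r → R) →ₗ[R] (Fin r → R) := e.mulVecLin ∘ₗ (LinearMap.id - b ∘ₗ a)
    have hθx : θ x = x := by
      simp [θ, hax, hex]
    have hGθ : ∀ z, G y (θ z) = 0 := by
      intro z
      have e1 := LinearMap.congr_fun hb (a z)
      have e2 := LinearMap.congr_fun hfac z
      simp only [LinearMap.comp_apply] at e1 e2
      simp only [θ, LinearMap.comp_apply, Matrix.mulVecLin_apply, h1, LinearMap.sub_apply,
        LinearMap.id_apply, map_sub, e1, e2, sub_self]
    have heθ : ∀ z, e *ᵥ (θ z) = θ z := by
      intro z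
      simp [θ, Matrix.mulVec_mulVec, he.eq]
    have hent : ∀ z i, θ z i ∈ RingHom.ker t := by
      intro z i
      have h0 : G d.y (t ∘ θ z) = 0 := by rw [← hcompat, hGθ, map_zero]
      have h1' := d.h3 _ h0
      have h2' : t ∘ θ z = d.e *ᵥ (t ∘ θ z) := by
        rw [← hte, ← comp_mulVec, heθ]
      rw [h1'] at h2'
      exact congr_fun h2' i
    have hΘnil : IsNilpotent (LinearMap.toMatrix' θ) :=
      isNilpotent_of_entries_mem (RingHom.ker t) (fun a ha => hnil a ha) _ (fun i j => by
        rw [LinearMap.toMatrix'_apply]; exact hent _ _)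
    obtain ⟨N, hN⟩ := hΘnil
    have hΘx : ∀ k : ℕ, ((LinearMap.toMatrix' θ) ^ k) *ᵥ x = x := by
      intro k
      induction k with
      | zero => simp
      | succ k ih =>
        rw [pow_succ, ← Matrix.mulVec_mulVec, LinearMap.toMatrix'_mulVec, hθx, ih]
    have hfin := hΘx N
    rw [hN, Matrix.zero_mulVec] at hfin
    exact hfin.symm
  exact ⟨⟨e, y, he, h1, hsurj, h3⟩, hte, fun i => by
    have := hcompat (Pi.single i 1)
    rw [G_single, comp_single, G_single] at this
    exact this⟩

/-- The base case: a finite projective module is the image of an idempotent matrix. -/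
theorem base (R : Type u) [CommRing R] (M : Type u) [AddCommGroup M] [Module R M]
    [Module.Finite R M] [Module.Projective R M] : ∃ r : ℕ, Nonempty (Data R M r) := by
  classical
  obtain ⟨r, f, hf⟩ := Module.Finite.exists_fin' R M
  obtain ⟨s, hs⟩ := Module.projective_lifting_property f LinearMap.id hf
  have hfs : ∀ m, f (s m) = m := fun m => LinearMap.congr_fun hs m
  have hG : G (R := R) (fun i => f (Pi.single i 1)) = f := by
    ext i
    simp [G_single]
  refine ⟨r, ⟨⟨LinearMap.toMatrix' (s ∘ₗ f), fun i => f (Pi.single i 1), ?_, ?_, ?_, ?_⟩⟩⟩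
  · rw [IsIdempotentElem, ← LinearMap.toMatrix'_mul]
    congr 1
    refine LinearMap.ext fun v => ?_
    rw [Module.End.mul_apply, LinearMap.comp_apply, LinearMap.comp_apply, hfs]
  · intro v
    rw [hG, LinearMap.toMatrix'_mulVec]
    simp [hfs]
  · rw [hG]; exact hf
  · intro v hv
    rw [hG] at hv
    rw [LinearMap.toMatrix'_mulVec]
    simp [hv]

end Groth.Agent.H3.LimProj
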