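import Mathlib.RingTheory.LocalRing.Basic
import Mathlib.RingTheory.LocalRing.MaximalIdeal.Basic
import Mathlib.LinearAlgebra.Basis.Basic
import Mathlib.RingTheory.Ideal.Operations
import Mathlib.RingTheory.Jacobson.Ideal

set_option autoImplicit false

namespace Groth.Agent.H3

open IsLocalRing

/-- In a free module over a local ring, an element outside `m • ⊤` has trivial annihilator. -/
theorem eq_zero_of_smul_eq_zero_of_notMem_smul_top {R M ι : Type*} [CommRing R] [IsLocalRing R]
    [AddCommGroup M] [Module R M] [Fintype ι] (b : Module.Basis ι R M) (e : M)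
    (he : e ∉ (maximalIdeal R) • (⊤ : Submodule R M)) (r : R) (hr : r • e = 0) : r = 0 := by
  obtain ⟨k, hk⟩ : ∃ k, b.repr e k ∉ maximalIdeal R := by
    by_contra h
    push Not at h
    apply he
    rw [← b.sum_repr e]
    exact Submodule.sum_mem _ fun k _ => Submodule.smul_mem_smul (h k) Submodule.mem_top
  have hu : IsUnit (b.repr e k) := by
    rwa [mem_maximalIdeal, mem_nonunits_iff, not_not] at hk
  have h0 : r * b.repr e k = 0 := by
    have := congr(b.repr $hr k)
    simpa using this
  exact (hu.mul_left_eq_zero).mp h0

theorem isUnit_add_of_mem_maximalIdeal {A : Type*} [CommRing A] [IsLocalRing A] {x y : A}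
    (hx : IsUnit x) (hy : y ∈ maximalIdeal A) : IsUnit (x + y) := by
  by_contra h
  have h1 : x + y ∈ maximalIdeal A := h
  have : x ∈ maximalIdeal A := by
    have := (maximalIdeal A).sub_mem h1 hy
    simpa using this
  exact this hx

end Groth.Agent.H3
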