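import Mathlib.RingTheory.AdjoinRoot
import Mathlib.RingTheory.Flat.Stability
import Mathlib.RingTheory.Flat.EquationalCriterion
import Mathlib.RingTheory.MvPolynomial.Basic
import Mathlib.RingTheory.Polynomial.Tower
import Mathlib.RingTheory.Ideal.Quotient.Operations

/-!
# Flatness of `A[X_i : i ∈ σ] / (F_i(X_i))` for monic `F_i`
-/

set_option autoImplicit false
universe u v

namespace Groth.Agent.H3

namespace MonicQuot

open Polynomial

variable (σ : Type v) (A : Type u) [CommRing A] (F : σ → A[X])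

/-- the relation `F_i(X_i)` -/
noncomputable def rel (i : σ) : MvPolynomial σ A := Polynomial.aeval (MvPolynomial.X i) (F i)

/-- the ideal generated by the relations indexed by `S` -/
noncomputable def K (S : Set σ) : Ideal (MvPolynomial σ A) := Ideal.span (rel σ A F '' S)

variable {σ A F}

theorem rel_mem_K {S : Set σ} {i : σ} (hi : i ∈ S) : rel σ A F i ∈ K σ A F S :=
  Ideal.subset_span ⟨i, hi, rfl⟩

theorem aeval_mk_X {S : Set σ} {i : σ} (hi : i ∈ S) :
    Polynomial.aeval (Ideal.Quotient.mkₐ A (K σ A F S) (MvPolynomial.X i)) (F i) = 0 := by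
  rw [Polynomial.aeval_algHom_apply]
  exact Ideal.Quotient.eq_zero_iff_mem.mpr (rel_mem_K hi)

/-- a map out of the quotient -/
noncomputable def lift {S : Set σ} {B : Type*} [CommRing B] [Algebra A B] (y : σ → B)
    (hy : ∀ i ∈ S, Polynomial.aeval (y i) (F i) = 0) : (MvPolynomial σ A ⧸ K σ A F S) →ₐ[A] B :=
  Ideal.Quotient.liftₐ (K σ A F S) (MvPolynomial.aeval y) (by
    intro a ha
    have hle : K σ A F S ≤ RingHom.ker (MvPolynomial.aeval y : MvPolynomial σ A →ₐ[A] B) := by
      rw [K, Ideal.span_le]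
      rintro _ ⟨i, hi, rfl⟩
      rw [SetLike.mem_coe, RingHom.mem_ker, rel, ← Polynomial.aeval_algHom_apply,
        MvPolynomial.aeval_X]
      exact hy i hi
    exact hle ha)

theorem lift_mk_X {S : Set σ} {B : Type*} [CommRing B] [Algebra A B] (y : σ → B)
    (hy : ∀ i ∈ S, Polynomial.aeval (y i) (F i) = 0) (i : σ) :
    lift y hy (Ideal.Quotient.mkₐ A (K σ A F S) (MvPolynomial.X i)) = y i := by
  change Ideal.Quotient.liftₐ (K σ A F S) (MvPolynomial.aeval y) _
    (Ideal.Quotient.mk _ (MvPolynomial.X i)) = y i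
  rw [Ideal.Quotient.liftₐ_apply, Ideal.Quotient.lift_mk]
  exact MvPolynomial.aeval_X y i

theorem algHom_ext {S : Set σ} {B : Type*} [CommRing B] [Algebra A B]
    {φ ψ : (MvPolynomial σ A ⧸ K σ A F S) →ₐ[A] B}
    (h : ∀ i, φ (Ideal.Quotient.mkₐ A (K σ A F S) (MvPolynomial.X i)) =
      ψ (Ideal.Quotient.mkₐ A (K σ A F S) (MvPolynomial.X i))) : φ = ψ := by
  apply Ideal.Quotient.algHom_ext
  apply MvPolynomial.algHom_ext
  intro i
  exact h i

section Step

variable (F) [DecidableEq σ] (S : Finset σ) (i : σ)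

/-- the polynomials over `A[x]/(F_i)` -/
noncomputable abbrev F₁ (F : σ → A[X]) (i : σ) : σ → (AdjoinRoot (F i))[X] :=
  fun j => (F j).map (algebraMap A (AdjoinRoot (F i)))

omit [DecidableEq σ] in
theorem aeval_F₁ {B : Type*} [CommRing B] [Algebra A B]
    [Algebra (AdjoinRoot (F i)) B]
    [IsScalarTower A (AdjoinRoot (F i)) B] (b : B) (j : σ) :
    Polynomial.aeval b (F₁ F i j) = Polynomial.aeval b (F j) :=
  Polynomial.aeval_map_algebraMap (AdjoinRoot (F i)) b (F j)

/-- the inclusion into the bigger quotient -/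
noncomputable def incl :
    (MvPolynomial σ A ⧸ K σ A F (S : Set σ)) →ₐ[A]
      (MvPolynomial σ (AdjoinRoot (F i)) ⧸ K σ (AdjoinRoot (F i)) (F₁ F i) ((S.erase i : Finset σ) : Set σ)) :=
  lift (fun j => if j = i then
      algebraMap (AdjoinRoot (F i)) _ (AdjoinRoot.root (F i))
    else Ideal.Quotient.mkₐ (AdjoinRoot (F i)) _ (MvPolynomial.X j)) (by
    intro j hj
    by_cases hji : j = i
    · rw [if_pos hji, hji, Polynomial.aeval_algebraMap_apply, AdjoinRoot.aeval_eq,
        AdjoinRoot.mk_self, map_zero]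
    · rw [if_neg hji, ← aeval_F₁ F i]
      exact aeval_mk_X (Finset.mem_coe.mpr (Finset.mem_erase.mpr ⟨hji, Finset.mem_coe.mp hj⟩)))

/-- the map `A[x]/(F_i) → A[X]/K` -/
noncomputable def toQ (hi : i ∈ S) :
    AdjoinRoot (F i) →ₐ[A] (MvPolynomial σ A ⧸ K σ A F (S : Set σ)) :=
  AdjoinRoot.liftAlgHom (F i) (Algebra.ofId A _)
    (Ideal.Quotient.mkₐ A (K σ A F (S : Set σ)) (MvPolynomial.X i)) (by
      have := aeval_mk_X (F := F) (S := (S : Set σ)) (Finset.mem_coe.mpr hi)
      rwa [Polynomial.aeval_def] at this)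

/-- the retraction -/
noncomputable def retr (hi : i ∈ S) :
    (MvPolynomial σ (AdjoinRoot (F i)) ⧸ K σ (AdjoinRoot (F i)) (F₁ F i) ((S.erase i : Finset σ) : Set σ)) →ₐ[A]
      (MvPolynomial σ A ⧸ K σ A F (S : Set σ)) :=
  Ideal.Quotient.liftₐ _ (MvPolynomial.aevalTower (toQ F S i hi)
    (fun j => Ideal.Quotient.mkₐ A (K σ A F (S : Set σ)) (MvPolynomial.X j))) (by
    intro a ha
    have hle : K σ (AdjoinRoot (F i)) (F₁ F i) ((S.erase i : Finset σ) : Set σ) ≤
        RingHom.ker (MvPolynomial.aevalTower (toQ F S i hi)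
          (fun j => Ideal.Quotient.mkₐ A (K σ A F (S : Set σ)) (MvPolynomial.X j))) := by
      rw [K, Ideal.span_le]
      rintro _ ⟨j, hj, rfl⟩
      rw [SetLike.mem_coe, RingHom.mem_ker, rel, aeval_F₁ F i, ← Polynomial.aeval_algHom_apply,
        MvPolynomial.aevalTower_X]
      exact aeval_mk_X (Finset.mem_coe.mpr (Finset.mem_of_mem_erase (Finset.mem_coe.mp hj)))
    exact hle ha)

theorem retr_comp_incl (hi : i ∈ S) : (retr F S i hi).comp (incl F S i) = AlgHom.id A _ := by
  apply algHom_ext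
  intro j
  rw [AlgHom.comp_apply, incl, lift_mk_X, AlgHom.id_apply]
  by_cases hji : j = i
  · subst hji
    rw [if_pos rfl]
    change Ideal.Quotient.liftₐ _ _ _ (Ideal.Quotient.mk _ (MvPolynomial.C (AdjoinRoot.root (F j)))) = _
    rw [Ideal.Quotient.liftₐ_apply, Ideal.Quotient.lift_mk]
    change MvPolynomial.aevalTower (toQ F S j hi) _ (MvPolynomial.C (AdjoinRoot.root (F j))) = _
    rw [MvPolynomial.aevalTower_C, toQ, AdjoinRoot.liftAlgHom_root]
  · rw [if_neg hji]
    change Ideal.Quotient.liftₐ _ _ _ (Ideal.Quotient.mk _ (MvPolynomial.X j)) = _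
    rw [Ideal.Quotient.liftₐ_apply, Ideal.Quotient.lift_mk]
    change MvPolynomial.aevalTower (toQ F S i hi) _ (MvPolynomial.X j) = _
    rw [MvPolynomial.aevalTower_X]

end Step

theorem flat_finset [DecidableEq σ] : ∀ (n : ℕ) (A : Type u) [CommRing A] (F : σ → A[X])
    (_ : ∀ i, (F i).Monic) (S : Finset σ), S.card = n →
    Module.Flat A (MvPolynomial σ A ⧸ K σ A F (S : Set σ)) := by
  intro n
  induction n with
  | zero =>
    intro A _ F _ S hS
    have h0 : K σ A F (S : Set σ) = ⊥ := by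
      rw [Finset.card_eq_zero.mp hS, K]
      simp
    exact Module.Flat.of_linearEquiv
      ((Ideal.quotientEquivAlgOfEq A h0).trans (AlgEquiv.quotientBot A _)).toLinearEquiv
  | succ n ih =>
    intro A _ F hF S hS
    obtain ⟨i, hi⟩ : ∃ i, i ∈ S := by
      apply Finset.card_pos.mp
      omega
    have hcard : (S.erase i).card = n := by
      rw [Finset.card_erase_of_mem hi, hS]; rfl
    have ih' := ih (AdjoinRoot (F i)) (F₁ F i) (fun j => (hF j).map _) (S.erase i) hcard
    have hfree : Module.Free A (AdjoinRoot (F i)) := (hF i).free_adjoinRoot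
    have hflat : Module.Flat A (MvPolynomial σ (AdjoinRoot (F i)) ⧸
        K σ (AdjoinRoot (F i)) (F₁ F i) ((S.erase i : Finset σ) : Set σ)) :=
      Module.Flat.trans A (AdjoinRoot (F i)) _
    refine Module.Flat.of_retract (incl F S i).toLinearMap (retr F S i hi).toLinearMap ?_
    refine LinearMap.ext fun x => ?_
    exact congrArg (fun φ : _ →ₐ[A] _ => φ x) (retr_comp_incl F S i hi)

theorem K_le_span_range (S : Set σ) : K σ A F S ≤ Ideal.span (Set.range (rel σ A F)) :=
  Ideal.span_mono (Set.image_subset_range _ _)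

/-- `A[X_i]/(F_i(X_i))` is flat over `A` when all `F_i` are monic. -/
theorem flat_range (hF : ∀ i, (F i).Monic) :
    Module.Flat A (MvPolynomial σ A ⧸ Ideal.span (Set.range (rel σ A F))) := by
  classical
  apply Module.Flat.of_forall_isTrivialRelation
  intro l f x hx
  choose p hp using fun i => Ideal.Quotient.mk_surjective (x i)
  have hmem : ∑ i, f i • p i ∈ Ideal.span (Set.range (rel σ A F)) := by
    rw [← Ideal.Quotient.eq_zero_iff_mem, map_sum, ← hx]
    refine Finset.sum_congr rfl fun i _ => ?_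
    rw [← hp i]
    exact _root_.map_smul (Ideal.Quotient.mkₐ A _) (f i) (p i)
  obtain ⟨T, hT, hTmem⟩ := Submodule.mem_span_finite_of_mem_span hmem
  obtain ⟨S, -, hS⟩ := Finset.subset_set_image_iff.mp
    (by rwa [Set.image_univ] : (T : Set (MvPolynomial σ A)) ⊆ rel σ A F '' Set.univ)
  have hmemS : ∑ i, f i • p i ∈ K σ A F (S : Set σ) := by
    rw [K]
    refine Ideal.span_mono ?_ hTmem
    rw [← hS, Finset.coe_image]
  have hflat := flat_finset S.card A F hF S rfl
  have hrel : ∑ i, f i • (Ideal.Quotient.mkₐ A (K σ A F (S : Set σ)) (p i)) = 0 := by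
    have h1 : Ideal.Quotient.mkₐ A (K σ A F (S : Set σ)) (∑ i, f i • p i) = 0 :=
      Ideal.Quotient.eq_zero_iff_mem.mpr hmemS
    rw [map_sum] at h1
    rw [← h1]
    refine Finset.sum_congr rfl fun i _ => ?_
    exact (_root_.map_smul (Ideal.Quotient.mkₐ A _) (f i) (p i)).symm
  obtain ⟨k, a, y, hxy, ha⟩ := Module.Flat.isTrivialRelation_of_sum_smul_eq_zero hrel
  refine ⟨k, a, fun j => Ideal.Quotient.factorₐ A (K_le_span_range (S : Set σ)) (y j), ?_, ha⟩
  intro i
  have h2 : x i = Ideal.Quotient.factorₐ A (K_le_span_range (F := F) (S : Set σ))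
      (Ideal.Quotient.mkₐ A (K σ A F (S : Set σ)) (p i)) := by
    rw [← hp i]
    rfl
  have h3 : Ideal.Quotient.mkₐ A (K σ A F (S : Set σ)) (p i) = ∑ j, a i j • y j := hxy i
  rw [h2, h3, map_sum]
  refine Finset.sum_congr rfl fun j _ => ?_
  exact _root_.map_smul (Ideal.Quotient.factorₐ A (K_le_span_range (F := F) (S : Set σ))) _ _

theorem flat_univ (hF : ∀ i, (F i).Monic) :
    Module.Flat A (MvPolynomial σ A ⧸ K σ A F Set.univ) := by
  have h := flat_range hF
  rw [← Set.image_univ] at h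
  exact h

section RingHom

variable {S : Set σ} {B : Type*} [CommRing B]

theorem eval₂Hom_rel (φ : A →+* B) (y : σ → B) (i : σ) :
    MvPolynomial.eval₂Hom φ y (rel σ A F i) = (F i).eval₂ φ (y i) := by
  rw [rel, Polynomial.aeval_def, Polynomial.hom_eval₂, MvPolynomial.eval₂Hom_X']
  congr 1
  ext a
  rw [RingHom.comp_apply, MvPolynomial.algebraMap_eq, MvPolynomial.eval₂Hom_C]

/-- a ring map out of the quotient -/
noncomputable def liftRingHom (φ : A →+* B) (y : σ → B)
    (hy : ∀ i ∈ S, (F i).eval₂ φ (y i) = 0) : (MvPolynomial σ A ⧸ K σ A F S) →+* B :=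
  Ideal.Quotient.lift (K σ A F S) (MvPolynomial.eval₂Hom φ y) (by
    intro a ha
    have hle : K σ A F S ≤ RingHom.ker (MvPolynomial.eval₂Hom φ y) := by
      rw [K, Ideal.span_le]
      rintro _ ⟨i, hi, rfl⟩
      rw [SetLike.mem_coe, RingHom.mem_ker, eval₂Hom_rel]
      exact hy i hi
    exact hle ha)

theorem liftRingHom_mk_X (φ : A →+* B) (y : σ → B)
    (hy : ∀ i ∈ S, (F i).eval₂ φ (y i) = 0) (i : σ) :
    liftRingHom φ y hy (Ideal.Quotient.mk (K σ A F S) (MvPolynomial.X i)) = y i := by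
  rw [liftRingHom, Ideal.Quotient.lift_mk, MvPolynomial.eval₂Hom_X']

theorem liftRingHom_algebraMap (φ : A →+* B) (y : σ → B)
    (hy : ∀ i ∈ S, (F i).eval₂ φ (y i) = 0) (a : A) :
    liftRingHom φ y hy (algebraMap A (MvPolynomial σ A ⧸ K σ A F S) a) = φ a := by
  change liftRingHom φ y hy (Ideal.Quotient.mk (K σ A F S) (algebraMap A _ a)) = φ a
  rw [liftRingHom, Ideal.Quotient.lift_mk, MvPolynomial.algebraMap_eq, MvPolynomial.eval₂Hom_C]

theorem ringHom_ext {φ ψ : (MvPolynomial σ A ⧸ K σ A F S) →+* B}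
    (hC : ∀ a, φ (algebraMap A _ a) = ψ (algebraMap A _ a))
    (hX : ∀ i, φ (Ideal.Quotient.mk (K σ A F S) (MvPolynomial.X i)) =
      ψ (Ideal.Quotient.mk (K σ A F S) (MvPolynomial.X i))) : φ = ψ := by
  apply Ideal.Quotient.ringHom_ext
  apply MvPolynomial.ringHom_ext
  · intro a
    exact hC a
  · intro i
    exact hX i

/-- the image of `X_i` under a ring map is a root of `F_i` -/
theorem eval₂_mk_X (ψ : (MvPolynomial σ A ⧸ K σ A F S) →+* B) {i : σ} (hi : i ∈ S) :
    (F i).eval₂ (ψ.comp (algebraMap A _))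
      (ψ (Ideal.Quotient.mk (K σ A F S) (MvPolynomial.X i))) = 0 := by
  have h1 := aeval_mk_X (F := F) (S := S) hi
  rw [Polynomial.aeval_def] at h1
  have h2 := congrArg ψ h1
  rw [Polynomial.hom_eval₂, map_zero] at h2
  exact h2

end RingHom

end MonicQuot

end Groth.Agent.H3
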