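import Groth.Agent.H3.HenselEtale2
import Mathlib.RingTheory.Smooth.StandardSmoothCotangent
import Mathlib.RingTheory.Extension.Presentation.Submersive

/-!
# The multi-dimensional Hensel lemma for henselian local rings
-/

set_option autoImplicit false
universe u

namespace Groth.Agent.H3

open MvPolynomial IsLocalRing

section

variable {A : Type u} [CommRing A] {n : ℕ} (P : Fin n → MvPolynomial (Fin n) A)

/-- the quotient `A[T_1..T_n]/(P_1..P_n)` -/
abbrev MHQuot : Type u := MvPolynomial (Fin n) A ⧸ Ideal.span (Set.range P)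

/-- its naive presentation -/
noncomputable def mhPres : Algebra.PreSubmersivePresentation A (MHQuot P) (Fin n) (Fin n) :=
  Algebra.PreSubmersivePresentation.naive (v := P) id Function.injective_id

/-- the Jacobian determinant as a polynomial -/
noncomputable def mhDet : MvPolynomial (Fin n) A :=
  (Matrix.of fun i j => pderiv j (P i)).det

theorem mhPres_jacobian : (mhPres P).jacobian = Ideal.Quotient.mk _ (mhDet P) := by
  rw [Algebra.PreSubmersivePresentation.jacobian_eq_jacobiMatrix_det]
  have h1 : (mhPres P).jacobiMatrix = (Matrix.of fun i j => pderiv j (P i)).transpose := by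
    ext i j
    rw [mhPres, Algebra.PreSubmersivePresentation.jacobiMatrix_naive]
    rfl
  rw [h1, Matrix.det_transpose]
  rfl

/-- the étale algebra `(A[T]/(P))[1/det J]` -/
abbrev MHLoc : Type u := Localization.Away ((mhPres P).jacobian)

noncomputable def mhSubPres :
    Algebra.SubmersivePresentation A (MHLoc P) (Unit ⊕ Fin n) (Unit ⊕ Fin n) where
  __ := (Algebra.PreSubmersivePresentation.localizationAway (MHLoc P)
    ((mhPres P).jacobian)).comp (mhPres P)
  jacobian_isUnit := by
    rw [Algebra.PreSubmersivePresentation.comp_jacobian_eq_jacobian_smul_jacobian,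
      Algebra.smul_def, IsUnit.mul_iff,
      Algebra.PreSubmersivePresentation.localizationAway_jacobian]
    exact ⟨IsLocalization.Away.algebraMap_isUnit _, IsLocalization.Away.algebraMap_isUnit _⟩

instance : Algebra.Etale A (MHLoc P) := by
  have : Algebra.IsStandardSmoothOfRelativeDimension 0 A (MHLoc P) := by
    apply (mhSubPres P).isStandardSmoothOfRelativeDimension
    simp [Algebra.Presentation.dimension]
  infer_instance

end

section Main

variable {A : Type u} [CommRing A] [HenselianLocalRing A] {n : ℕ}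

/-- The multi-dimensional Hensel lemma for a henselian local ring. -/
theorem multi_hensel (P : Fin n → MvPolynomial (Fin n) A) (a₀ : Fin n → A)
    (h₀ : ∀ i, MvPolynomial.eval a₀ (P i) ∈ maximalIdeal A)
    (hJ : IsUnit (Matrix.of (fun i j => MvPolynomial.eval a₀ (MvPolynomial.pderiv j (P i)))).det) :
    ∃ a : Fin n → A, (∀ i, MvPolynomial.eval a (P i) = 0) ∧
      ∀ j, a j - a₀ j ∈ maximalIdeal A := by
  classical
  -- the point of the closed fibre
  let ev₀ : MvPolynomial (Fin n) A →ₐ[A] ResidueField A :=
    MvPolynomial.aeval (fun i => residue A (a₀ i))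
  have hev₀ : ∀ p, ev₀ p = residue A (MvPolynomial.eval a₀ p) := by
    intro p
    have h1 : (ev₀ : MvPolynomial (Fin n) A →+* ResidueField A) =
        (residue A).comp (MvPolynomial.eval a₀) := by
      apply MvPolynomial.ringHom_ext
      · intro r; simp [ev₀]
      · intro i; simp [ev₀]
    exact congrArg (fun f : MvPolynomial (Fin n) A →+* ResidueField A => f p) h1
  have hker : ∀ p ∈ Ideal.span (Set.range P), ev₀ p = 0 := by
    intro p hp
    refine Submodule.span_induction ?_ ?_ ?_ ?_ hp
    · rintro _ ⟨i, rfl⟩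
      rw [hev₀]
      exact (residue_eq_zero_iff _).mpr (h₀ i)
    · exact map_zero _
    · intro x y _ _ hx hy; rw [map_add, hx, hy, add_zero]
    · intro c x _ hx; rw [smul_eq_mul, map_mul, hx, mul_zero]
  let σ₁ : MHQuot P →ₐ[A] ResidueField A := Ideal.Quotient.liftₐ _ ev₀ hker
  have hσ₁ : ∀ p, σ₁ (Ideal.Quotient.mk _ p) = ev₀ p := fun p => rfl
  have hdet : IsUnit (σ₁ ((mhPres P).jacobian)) := by
    rw [mhPres_jacobian, hσ₁, hev₀, mhDet, RingHom.map_det]
    have h1 : (MvPolynomial.eval a₀).mapMatrix (Matrix.of fun i j => pderiv j (P i)) =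
        Matrix.of (fun i j => MvPolynomial.eval a₀ (MvPolynomial.pderiv j (P i))) := by
      ext i j; rfl
    rw [h1]
    exact hJ.map (residue A)
  let σ₀ : MHLoc P →ₐ[A] ResidueField A :=
    IsLocalization.liftAlgHom (M := Submonoid.powers ((mhPres P).jacobian)) (f := σ₁) (by
      rintro ⟨_, k, rfl⟩
      rw [map_pow]
      exact hdet.pow k)
  have hσ₀ : ∀ x : MHQuot P, σ₀ (algebraMap (MHQuot P) (MHLoc P) x) = σ₁ x := by
    intro x
    exact IsLocalization.lift_eq _ x
  obtain ⟨f, hf, -⟩ := existsUnique_lift_of_etale A A (MHLoc P) σ₀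
  let ι : MvPolynomial (Fin n) A →ₐ[A] MHLoc P :=
    (IsScalarTower.toAlgHom A (MHQuot P) (MHLoc P)).comp (Ideal.Quotient.mkₐ A _)
  have hι : ∀ p, ι p = algebraMap (MHQuot P) (MHLoc P) (Ideal.Quotient.mk _ p) := fun p => rfl
  refine ⟨fun j => f (ι (X j)), ?_, ?_⟩
  · intro i
    have h1 : ∀ p : MvPolynomial (Fin n) A,
        MvPolynomial.eval (fun j => f (ι (X j))) p = f (ι p) := by
      intro p
      have h2 : (MvPolynomial.aeval (fun j => f (ι (X j))) : MvPolynomial (Fin n) A →ₐ[A] A) =
          f.comp ι := by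
        apply MvPolynomial.algHom_ext
        intro j
        simp
      have h3 := congrArg (fun g : MvPolynomial (Fin n) A →ₐ[A] A => g p) h2
      exact h3
    rw [h1, hι]
    have : Ideal.Quotient.mk (Ideal.span (Set.range P)) (P i) = 0 :=
      Ideal.Quotient.eq_zero_iff_mem.mpr (Ideal.subset_span ⟨i, rfl⟩)
    rw [this, map_zero, map_zero]
  · intro j
    have h1 := congrArg (fun g : MHLoc P →ₐ[A] ResidueField A => g (ι (X j))) hf
    simp only [AlgHom.comp_apply] at h1
    rw [hι, hσ₀, hσ₁] at h1
    have h2 : ev₀ (X j) = residue A (a₀ j) := by simp [ev₀]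
    rw [h2] at h1
    have h3 : residue A (f (ι (X j)) - a₀ j) = 0 := by
      rw [map_sub, sub_eq_zero]
      exact h1
    exact (residue_eq_zero_iff _).mp h3

end Main

end Groth.Agent.H3
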