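import Mathlib.RingTheory.Polynomial.GaussLemma
import Mathlib.RingTheory.Polynomial.SeparableDegree
import Mathlib.RingTheory.Henselian
import Mathlib.FieldTheory.IsSepClosed
import Mathlib.Algebra.Polynomial.FieldDivision
import Mathlib.Algebra.CharP.Lemmas
import Mathlib.RingTheory.Polynomial.Basic
import Mathlib.RingTheory.LocalRing.ResidueField.Basic
import Mathlib.Algebra.Polynomial.Lifts

/-!
# Normal local domains with separably closed fraction field are strictly henselian
-/

set_option autoImplicit false
universe u v

namespace Groth.Agent.H3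

namespace NormalSepClosed

open Polynomial

variable {R : Type u} [CommRing R] [IsDomain R] [IsIntegrallyClosed R]
  (K : Type v) [Field K] [Algebra R K] [IsFractionRing R K]

/-- Gauss: a factorization over `K` of a monic polynomial over `R` into monic polynomials
descends to `R`. -/
theorem exists_factor (g : R[X]) (hg : g.Monic) (a b : K[X]) (ha : a.Monic) (hb : b.Monic)
    (hab : a * b = g.map (algebraMap R K)) :
    ∃ a' b' : R[X], a'.Monic ∧ b'.Monic ∧ a'.map (algebraMap R K) = a ∧
      b'.map (algebraMap R K) = b ∧ a' * b' = g := by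
  have hinj : Function.Injective (algebraMap R K) := IsFractionRing.injective R K
  obtain ⟨a', ha'⟩ := IsIntegrallyClosed.eq_map_mul_C_of_dvd K hg (Dvd.intro _ hab)
  obtain ⟨b', hb'⟩ := IsIntegrallyClosed.eq_map_mul_C_of_dvd K hg (Dvd.intro_left _ hab)
  rw [ha.leadingCoeff, C_1, mul_one] at ha'
  rw [hb.leadingCoeff, C_1, mul_one] at hb'
  refine ⟨a', b', monic_of_injective hinj (ha'.symm ▸ ha), monic_of_injective hinj (hb'.symm ▸ hb),
    ha', hb', ?_⟩
  apply Polynomial.map_injective _ hinj
  rw [Polynomial.map_mul, ha', hb', hab]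

/-- a minimal monic factor with a multiplicative-prime property is irreducible over `K` -/
theorem exists_irreducible_factor (P : R[X] → Prop)
    (hmul : ∀ a b : R[X], a.Monic → b.Monic → P (a * b) → P a ∨ P b) (hne : ¬ P 1)
    (f : R[X]) (hf : f.Monic) (hPf : P f) :
    ∃ g : R[X], g.Monic ∧ g ∣ f ∧ P g ∧ Irreducible (g.map (algebraMap R K)) := by
  classical
  have hinj : Function.Injective (algebraMap R K) := IsFractionRing.injective R K
  have hex : ∃ n, ∃ g : R[X], g.Monic ∧ g ∣ f ∧ P g ∧ g.natDegree = n :=
    ⟨_, f, hf, dvd_rfl, hPf, rfl⟩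
  obtain ⟨g, hgm, hgf, hPg, hgn⟩ := Nat.find_spec hex
  refine ⟨g, hgm, hgf, hPg, ?_⟩
  rw [(hgm.map (algebraMap R K)).irreducible_iff_natDegree]
  constructor
  · intro h1
    have : g = 1 := by
      apply Polynomial.map_injective _ hinj
      rw [h1, Polynomial.map_one]
    exact hne (this ▸ hPg)
  · intro a b ha hb hab
    obtain ⟨a', b', ha'm, hb'm, rfl, rfl, rfl⟩ := exists_factor K g hgm a b ha hb hab
    have hdeg : (a' * b').natDegree = a'.natDegree + b'.natDegree := ha'm.natDegree_mul hb'm
    rw [ha'm.natDegree_map, hb'm.natDegree_map]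
    rcases hmul a' b' ha'm hb'm hPg with h1 | h1
    · right
      have h2 : Nat.find hex ≤ a'.natDegree :=
        Nat.find_min' hex ⟨a', ha'm, (Dvd.intro _ rfl).trans hgf, h1, rfl⟩
      omega
    · left
      have h2 : Nat.find hex ≤ b'.natDegree :=
        Nat.find_min' hex ⟨b', hb'm, (Dvd.intro_left _ rfl).trans hgf, h1, rfl⟩
      omega

/-- shape of monic polynomials over `R` that are irreducible over the separably closed `K` -/
theorem eq_X_pow_add_C [IsSepClosed K] (q : ℕ) [ExpChar K q] (g : R[X]) (hg : g.Monic)
    (hirr : Irreducible (g.map (algebraMap R K))) :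
    ∃ (m : ℕ) (c : R), g = X ^ (q ^ m) + C c := by
  have hinj : Function.Injective (algebraMap R K) := IsFractionRing.injective R K
  obtain ⟨s, hsep, m, hexp⟩ := hirr.hasSeparableContraction q
  have hpos : 0 < q ^ m := expChar_pow_pos K q m
  have hsirr : Irreducible s := by
    apply of_irreducible_expand hpos.ne'
    rw [hexp]; exact hirr
  have hsm : s.Monic := by
    rw [← monic_expand_iff hpos, hexp]
    exact hg.map _
  have hdeg : s.natDegree = 1 :=
    natDegree_eq_of_degree_eq_some (IsSepClosed.degree_eq_one_of_irreducible K hsirr hsep)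
  have hs : s = X + C (s.coeff 0) := hsm.eq_X_add_C hdeg
  have hgK : g.map (algebraMap R K) = X ^ (q ^ m) + C (s.coeff 0) := by
    rw [← hexp, hs]
    simp
  have hc : algebraMap R K (g.coeff 0) = s.coeff 0 := by
    rw [← coeff_map, hgK]
    simp [hpos.ne', hpos.ne]
  refine ⟨m, g.coeff 0, ?_⟩
  apply Polynomial.map_injective _ hinj
  rw [hgK, Polynomial.map_add, Polynomial.map_pow, map_X, map_C, hc]

variable [IsLocalRing R]

/-- the residue field has the characteristic of `K` when that is positive -/
theorem charP_residueField (q : ℕ) (hq : q.Prime) [CharP K q] :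
    CharP (IsLocalRing.ResidueField R) q := by
  have hinj : Function.Injective (algebraMap R K) := IsFractionRing.injective R K
  rw [CharP.charP_iff_prime_eq_zero hq]
  have h1 : (q : R) = 0 := by
    apply hinj
    rw [map_natCast, map_zero]
    exact CharP.cast_eq_zero K q
  have h2 := congrArg (IsLocalRing.residue R) h1
  rwa [map_natCast, map_zero] at h2

theorem henselianLocalRing [IsSepClosed K] : HenselianLocalRing R := by
  have hinj : Function.Injective (algebraMap R K) := IsFractionRing.injective R K
  let κ := IsLocalRing.ResidueField R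
  refine ((HenselianLocalRing.TFAE R).out 0 1).mpr ?_
  intro f hf a₀ h0 h1
  obtain ⟨g, hgm, hgf, hPg, hirr⟩ := exists_irreducible_factor K
    (fun g : R[X] => aeval a₀ g = 0)
    (fun a b _ _ hab => by
      rw [map_mul] at hab
      exact mul_eq_zero.mp hab)
    (by rw [map_one]; exact one_ne_zero) f hf h0
  obtain ⟨q, hq⟩ := ExpChar.exists K
  obtain ⟨m, c, rfl⟩ := eq_X_pow_add_C K q g hgm hirr
  have hroot : a₀ ^ (q ^ m) + IsLocalRing.residue R c = 0 := by
    have := hPg
    rw [map_add, map_pow, aeval_X, aeval_C] at this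
    exact this
  have hqm : q ^ m = 1 := by
    cases hq with
    | zero => exact one_pow m
    | prime hprime =>
      haveI : CharP κ q := charP_residueField K q hprime
      haveI : ExpChar κ q := ExpChar.prime hprime
      let fb : κ[X] := f.map (IsLocalRing.residue R)
      have hfbm : fb.Monic := hf.map _
      have hgb : (X ^ (q ^ m) + C c : R[X]).map (IsLocalRing.residue R) =
          (X - C a₀) ^ (q ^ m) := by
        rw [sub_pow_expChar_pow, ← C_pow, Polynomial.map_add, Polynomial.map_pow, map_X, map_C]
        have : IsLocalRing.residue R c = - a₀ ^ (q ^ m) := by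
          linear_combination hroot
        rw [this, C_neg, sub_eq_add_neg]
      have hdvd : (X - C a₀) ^ (q ^ m) ∣ fb := by
        rw [← hgb]
        exact Polynomial.map_dvd _ hgf
      have hle : q ^ m ≤ fb.rootMultiplicity a₀ :=
        (le_rootMultiplicity_iff hfbm.ne_zero).mpr hdvd
      have hsimple : ¬ 1 < fb.rootMultiplicity a₀ := by
        rw [one_lt_rootMultiplicity_iff_isRoot hfbm.ne_zero]
        rintro ⟨-, h3⟩
        apply h1
        rw [IsRoot.def, derivative_map, eval_map] at h3
        exact h3
      have hpos : 0 < q ^ m := Nat.pow_pos hprime.pos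
      omega
  rw [hqm, pow_one] at hgf hroot
  refine ⟨-c, ?_, ?_⟩
  · obtain ⟨k, rfl⟩ := hgf
    rw [IsRoot.def, eval_mul, eval_add, eval_X, eval_C, neg_add_cancel, zero_mul]
  · rw [map_neg]
    linear_combination -hroot

theorem isSepClosed_residueField [IsSepClosed K] : IsSepClosed (IsLocalRing.ResidueField R) := by
  let κ := IsLocalRing.ResidueField R
  refine IsSepClosed.of_exists_root _ fun p hpm hpi hps => ?_
  have hlifts : p ∈ Polynomial.lifts (IsLocalRing.residue R) := by
    rw [Polynomial.lifts_iff_coeff_lifts]
    intro n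
    exact IsLocalRing.residue_surjective _
  obtain ⟨f, hfmap, hfdeg, hfm⟩ := Polynomial.lifts_and_natDegree_eq_and_monic hlifts hpm
  obtain ⟨g, hgm, hgf, hPg, hirr⟩ := exists_irreducible_factor K
    (fun g : R[X] => 0 < g.natDegree)
    (fun a b ha hb hab => by
      rw [ha.natDegree_mul hb] at hab
      omega)
    (by simp) f hfm (by rw [hfdeg]; exact hpi.natDegree_pos)
  obtain ⟨q, hq⟩ := ExpChar.exists K
  obtain ⟨m, c, rfl⟩ := eq_X_pow_add_C K q g hgm hirr
  set gb : κ[X] := (X ^ (q ^ m) + C c : R[X]).map (IsLocalRing.residue R) with hgb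
  have hgbm : gb.Monic := hgm.map _
  have hgbdeg : 0 < gb.natDegree := by rw [hgb, hgm.natDegree_map]; exact hPg
  obtain ⟨k, hk⟩ : gb ∣ p := by
    rw [← hfmap]
    exact Polynomial.map_dvd _ hgf
  have hgbsep : gb.Separable := by
    rw [hk] at hps
    exact hps.of_mul_left
  have hgb' : gb = X ^ (q ^ m) + C (IsLocalRing.residue R c) := by
    rw [hgb, Polynomial.map_add, Polynomial.map_pow, map_X, map_C]
  have hqm : q ^ m = 1 := by
    cases hq with
    | zero => exact one_pow m
    | prime hprime =>
      haveI : CharP κ q := charP_residueField K q hprime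
      by_contra hne
      have hm : m ≠ 0 := by
        rintro rfl
        exact hne (pow_zero q)
      have hder : derivative gb = 0 := by
        rw [hgb', derivative_add, derivative_C, add_zero, derivative_X_pow]
        have : ((q ^ m : ℕ) : κ) = 0 := by
          rw [Nat.cast_pow, CharP.cast_eq_zero κ q, zero_pow hm]
        rw [this, C_0, zero_mul]
      have hunit : IsUnit gb := by
        have := hgbsep
        rw [Polynomial.Separable, hder, isCoprime_zero_right] at this
        exact this
      have := natDegree_eq_zero_of_isUnit hunit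
      omega
  refine ⟨- IsLocalRing.residue R c, ?_⟩
  rw [hk, eval_mul, hgb', hqm, pow_one, eval_add, eval_X, eval_C, neg_add_cancel, zero_mul]

end NormalSepClosed

end Groth.Agent.H3
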