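import Groth.Agent.H3.PolyLift
import Groth.Agent.H3.UnivFactor
import Groth.Agent.H3.GabberRank1
import Mathlib.RingTheory.Ideal.IdempotentFG
import Mathlib.RingTheory.Finiteness.ModuleFinitePresentation

/-!
# Gabber's theorem: in a henselian pair, coprime monic factorizations lift
-/

set_option autoImplicit false
universe u

namespace Groth.Agent.H3

open Polynomial

section MvAux

variable {A : Type u} [CommRing A] {σ : Type*}

/-- `P - P(c)` lies in the ideal generated by the `X i - c i`. -/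
theorem mvPolynomial_sub_eval_mem (c : σ → A) (P : MvPolynomial σ A) :
    P - MvPolynomial.C (MvPolynomial.eval c P) ∈
      Ideal.span (Set.range fun i : σ => (MvPolynomial.X i - MvPolynomial.C (c i) :
        MvPolynomial σ A)) := by
  induction P using MvPolynomial.induction_on with
  | C a => simp
  | add P Q hP hQ =>
    have : P + Q - MvPolynomial.C (MvPolynomial.eval c (P + Q)) =
        (P - MvPolynomial.C (MvPolynomial.eval c P)) +
          (Q - MvPolynomial.C (MvPolynomial.eval c Q)) := by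
      rw [map_add, map_add]; ring
    rw [this]
    exact Ideal.add_mem _ hP hQ
  | mul_X P i hP =>
    have : P * MvPolynomial.X i - MvPolynomial.C (MvPolynomial.eval c (P * MvPolynomial.X i)) =
        (P - MvPolynomial.C (MvPolynomial.eval c P)) * MvPolynomial.X i +
          MvPolynomial.C (MvPolynomial.eval c P) *
            (MvPolynomial.X i - MvPolynomial.C (c i)) := by
      rw [map_mul, MvPolynomial.eval_X, map_mul]; ring
    rw [this]
    exact Ideal.add_mem _ (Ideal.mul_mem_right _ _ hP)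
      (Ideal.mul_mem_left _ _ (Ideal.subset_span ⟨i, rfl⟩))

end MvAux

namespace UnivFactor

variable {A : Type u} [CommRing A] {I : Ideal A} (G : A[X])
  (g₀ h₀ : (A ⧸ I)[X]) (hg₀ : g₀.Monic) (hh₀ : h₀.Monic) (hc : IsCoprime g₀ h₀)
  (hfac : G.map (Ideal.Quotient.mk I) = g₀ * h₀) {q p : ℕ} (hq : g₀.natDegree = q)
  (hp : h₀.natDegree = p)

/-- the point of the universal factorization algebra given by a factorization modulo `I`. -/
noncomputable def pt : U G q p →ₐ[A] A ⧸ I :=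
  lift g₀ h₀ hg₀ hq hh₀ hp hfac.symm

theorem pt_algebraMap (a : A) :
    pt G g₀ h₀ hg₀ hh₀ hfac hq hp (algebraMap A _ a) = Ideal.Quotient.mk I a :=
  (pt G g₀ h₀ hg₀ hh₀ hfac hq hp).commutes a

theorem gU_map_pt : (gU G q p).map (pt G g₀ h₀ hg₀ hh₀ hfac hq hp).toRingHom = g₀ :=
  gU_map_lift g₀ h₀ hg₀ hq hh₀ hp hfac.symm

theorem hU_map_pt : (hU G q p).map (pt G g₀ h₀ hg₀ hh₀ hfac hq hp).toRingHom = h₀ :=
  hU_map_lift g₀ h₀ hg₀ hq hh₀ hp hfac.symm

/-- abstract version: a point `σ` of `U` over `A/I` -/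
theorem map_le_ker (σ : U G q p →ₐ[A] A ⧸ I) :
    I.map (algebraMap A (U G q p)) ≤ RingHom.ker σ.toRingHom := by
  rw [Ideal.map_le_iff_le_comap]
  intro a ha
  rw [Ideal.mem_comap, RingHom.mem_ker]
  change σ (algebraMap A _ a) = 0
  rw [σ.commutes]
  exact Ideal.Quotient.eq_zero_iff_mem.mpr ha

/-- The kernel of a point is, modulo `IU`, finitely generated. -/
theorem exists_fg_ker (σ : U G q p →ₐ[A] A ⧸ I) : ∃ Jf : Ideal (U G q p), Jf.FG ∧
    Jf ≤ RingHom.ker σ.toRingHom ∧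
    ∀ u : U G q p, ∃ a : A, u - algebraMap A _ a ∈ Jf := by
  classical
  have hc : ∀ x : Fin q ⊕ Fin p, ∃ a : A, Ideal.Quotient.mk I a = σ (mkU G q p (MvPolynomial.X x)) :=
    fun x => Ideal.Quotient.mk_surjective _
  choose c hc using hc
  let J₀ : Ideal (MvPolynomial (Fin q ⊕ Fin p) A) :=
    Ideal.span (Set.range fun i => (MvPolynomial.X i - MvPolynomial.C (c i)))
  have hJ₀fg : J₀.FG := Submodule.fg_span (Set.finite_range _)
  refine ⟨J₀.map (mkU G q p).toRingHom, hJ₀fg.map _, ?_, ?_⟩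
  · rw [Ideal.map_le_iff_le_comap, Ideal.span_le]
    rintro _ ⟨i, rfl⟩
    rw [SetLike.mem_coe, Ideal.mem_comap, RingHom.mem_ker]
    have h1 : (mkU G q p).toRingHom (MvPolynomial.X i - MvPolynomial.C (c i)) =
        mkU G q p (MvPolynomial.X i) - algebraMap A _ (c i) := by
      change mkU G q p (MvPolynomial.X i - MvPolynomial.C (c i)) = _
      rw [map_sub, ← MvPolynomial.algebraMap_eq, AlgHom.commutes]
    rw [h1]
    change σ (mkU G q p (MvPolynomial.X i) - algebraMap A _ (c i)) = 0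
    rw [map_sub, σ.commutes, ← hc i]
    exact sub_self _
  · intro u
    obtain ⟨P, rfl⟩ := mkU_surjective G q p u
    refine ⟨MvPolynomial.eval c P, ?_⟩
    have := Ideal.mem_map_of_mem (mkU G q p).toRingHom (mvPolynomial_sub_eval_mem c P)
    have h1 : (mkU G q p).toRingHom (P - MvPolynomial.C (MvPolynomial.eval c P)) =
        mkU G q p P - algebraMap A _ (MvPolynomial.eval c P) := by
      change mkU G q p (P - MvPolynomial.C (MvPolynomial.eval c P)) = _
      rw [map_sub, ← MvPolynomial.algebraMap_eq, AlgHom.commutes]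
    rw [h1] at this
    exact this

/-- The kernel of a point whose factorization is coprime is idempotent modulo `IU`. -/
theorem ker_le_sq (σ : U G q p →ₐ[A] A ⧸ I)
    (hcσ : IsCoprime ((gU G q p).map σ.toRingHom) ((hU G q p).map σ.toRingHom)) :
    RingHom.ker σ.toRingHom ≤
      RingHom.ker σ.toRingHom * RingHom.ker σ.toRingHom ⊔ I.map (algebraMap A (U G q p)) := by
  obtain ⟨J, hJ⟩ : ∃ J, J = RingHom.ker σ.toRingHom := ⟨_, rfl⟩
  obtain ⟨IU, hIU⟩ : ∃ IU, IU = I.map (algebraMap A (U G q p)) := ⟨_, rfl⟩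
  rw [← hJ, ← hIU]
  have hIUJ : IU ≤ J := by rw [hJ, hIU]; exact map_le_ker G σ
  obtain ⟨L, hL⟩ : ∃ L : Ideal (U G q p), L = J * J ⊔ IU := ⟨_, rfl⟩
  rw [← hL]
  have hLJ : L ≤ J := by rw [hL]; exact sup_le Ideal.mul_le_left hIUJ
  -- the two maps
  let φ₁ : U G q p →ₐ[A] (U G q p ⧸ L) := Ideal.Quotient.mkₐ A L
  have hι : ∀ a ∈ I, (Algebra.ofId A (U G q p ⧸ L)) a = 0 := by
    intro a ha
    change Ideal.Quotient.mk L (algebraMap A (U G q p) a) = 0
    apply Ideal.Quotient.eq_zero_iff_mem.mpr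
    rw [hL, hIU]
    exact Ideal.mem_sup_right (Ideal.mem_map_of_mem _ ha)
  let ι : A ⧸ I →ₐ[A] (U G q p ⧸ L) := Ideal.Quotient.liftₐ I (Algebra.ofId A _) hι
  let φ₂ : U G q p →ₐ[A] (U G q p ⧸ L) := ι.comp σ
  let ρ : (U G q p ⧸ L) →+* A ⧸ I :=
    Ideal.Quotient.lift L σ.toRingHom (fun u hu => by
      have := hLJ hu
      rw [hJ] at this
      exact this)
  have hρ₁ : ∀ u, ρ (φ₁ u) = σ u := fun u => rfl
  have hρι : ∀ x : A ⧸ I, ρ (ι x) = x := by
    intro x
    obtain ⟨a, rfl⟩ := Ideal.Quotient.mk_surjective x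
    change σ (algebraMap A (U G q p) a) = _
    rw [σ.commutes]
    rfl
  have hρ₂ : ∀ u, ρ (φ₂ u) = σ u := fun u => hρι _
  have hρsurj : Function.Surjective ρ := fun x => ⟨ι x, hρι x⟩
  have hnil : ∀ x : U G q p ⧸ L, ρ x = 0 → IsNilpotent x := by
    intro x hx
    obtain ⟨u, rfl⟩ := Ideal.Quotient.mk_surjective x
    have huJ : u ∈ J := by rw [hJ]; exact hx
    refine ⟨2, ?_⟩
    rw [← map_pow, Ideal.Quotient.eq_zero_iff_mem, pow_two, hL]
    exact Ideal.mem_sup_left (Ideal.mul_mem_mul huJ huJ)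
  have hcomp₁ : ρ.comp φ₁.toRingHom = σ.toRingHom := RingHom.ext hρ₁
  have hcomp₂ : ρ.comp φ₂.toRingHom = σ.toRingHom := RingHom.ext hρ₂
  have hprod : ∀ φ : U G q p →ₐ[A] (U G q p ⧸ L),
      (gU G q p).map φ.toRingHom * (hU G q p).map φ.toRingHom =
        G.map (algebraMap A (U G q p ⧸ L)) := by
    intro φ
    rw [← Polynomial.map_mul, gU_mul_hU, Polynomial.map_map]
    congr 1
    exact φ.comp_algebraMap
  have e1 : ((gU G q p).map φ₁.toRingHom).map ρ = ((gU G q p).map φ₂.toRingHom).map ρ := by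
    rw [Polynomial.map_map, Polynomial.map_map, hcomp₁, hcomp₂]
  have e2 : ((hU G q p).map φ₁.toRingHom).map ρ = ((hU G q p).map φ₂.toRingHom).map ρ := by
    rw [Polynomial.map_map, Polynomial.map_map, hcomp₁, hcomp₂]
  have e3 : IsCoprime (((gU G q p).map φ₁.toRingHom).map ρ)
      (((hU G q p).map φ₁.toRingHom).map ρ) := by
    rw [Polynomial.map_map, Polynomial.map_map, hcomp₁]; exact hcσ
  have huniq := factor_unique_of_nilpotent ρ hρsurj hnil
    ((gU_monic G q p).map φ₁.toRingHom) ((hU_monic G q p).map φ₁.toRingHom)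
    ((gU_monic G q p).map φ₂.toRingHom) ((hU_monic G q p).map φ₂.toRingHom)
    ((hprod φ₁).trans (hprod φ₂).symm) e1 e2 e3
  have hφ : φ₁ = φ₂ := algHom_ext huniq.1 huniq.2
  intro u hu
  have h1 : φ₁ u = 0 := by
    rw [hφ]
    change ι (σ u) = 0
    have : σ u = 0 := by rw [hJ] at hu; exact hu
    rw [this, map_zero]
  exact Ideal.Quotient.eq_zero_iff_mem.mp h1

/-- The rank one lift: an element `b` of the universal factorization algebra, idempotent modulo
`IU`, cutting out the given point. -/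
theorem exists_rank_one (σ : U G q p →ₐ[A] A ⧸ I)
    (hcσ : IsCoprime ((gU G q p).map σ.toRingHom) ((hU G q p).map σ.toRingHom)) :
    ∃ b : U G q p,
      b * b - b ∈ I.map (algebraMap A (U G q p)) ∧ σ (1 - b) = 0 ∧
      ∀ u, σ u = 0 → ∃ t, u - (1 - b) * t ∈ I.map (algebraMap A (U G q p)) := by
  obtain ⟨J, hJ⟩ : ∃ J, J = RingHom.ker σ.toRingHom := ⟨_, rfl⟩
  obtain ⟨IU, hIU⟩ : ∃ IU, IU = I.map (algebraMap A (U G q p)) := ⟨_, rfl⟩
  rw [← hIU]
  have hmemJ : ∀ u, u ∈ J ↔ σ u = 0 := by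
    intro u; rw [hJ]; rfl
  have hIUJ : IU ≤ J := by rw [hJ, hIU]; exact map_le_ker G σ
  obtain ⟨Jf, hJffg, hJfJ, hJf⟩ := exists_fg_ker G σ
  rw [← hJ] at hJfJ
  have hJeq : J = Jf ⊔ IU := by
    apply le_antisymm
    · intro u hu
      obtain ⟨a, ha⟩ := hJf u
      have h1 : σ (u - algebraMap A _ a) = 0 := (hmemJ _).mp (hJfJ ha)
      have h2 : σ u = 0 := (hmemJ _).mp hu
      rw [map_sub, h2, zero_sub, neg_eq_zero, σ.commutes] at h1
      have h3 : algebraMap A (U G q p) a ∈ IU := by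
        rw [hIU]
        exact Ideal.mem_map_of_mem _ (Ideal.Quotient.eq_zero_iff_mem.mp h1)
      have : u = (u - algebraMap A _ a) + algebraMap A _ a := by ring
      rw [this]
      exact Ideal.add_mem _ (Ideal.mem_sup_left ha) (Ideal.mem_sup_right h3)
    · exact sup_le hJfJ hIUJ
  -- pass to the quotient by `IU`
  have hmksurj : Function.Surjective (Ideal.Quotient.mk IU) := Ideal.Quotient.mk_surjective
  obtain ⟨Jb, hJb⟩ : ∃ Jb : Ideal (U G q p ⧸ IU), Jb = J.map (Ideal.Quotient.mk IU) := ⟨_, rfl⟩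
  have hJbfg : Jb.FG := by
    have : Jb = Jf.map (Ideal.Quotient.mk IU) := by
      rw [hJb, hJeq, Ideal.map_sup, Ideal.map_quotient_self, sup_bot_eq]
    rw [this]
    exact hJffg.map _
  have hJbidem : IsIdempotentElem Jb := by
    have hle : Jb * Jb ≤ Jb := Ideal.mul_le_left
    refine le_antisymm hle ?_
    have h0 := ker_le_sq G σ hcσ
    rw [← hJ, ← hIU] at h0
    have h1 := Ideal.map_mono (f := Ideal.Quotient.mk IU) h0
    rw [Ideal.map_sup, Ideal.map_mul (Ideal.Quotient.mk IU) J J, Ideal.map_quotient_self,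
      sup_bot_eq, ← hJb] at h1
    exact h1
  obtain ⟨ε, hε, hJbε⟩ := (Ideal.isIdempotentElem_iff_of_fg Jb hJbfg).mp hJbidem
  obtain ⟨b, hb⟩ := hmksurj (1 - ε)
  have hmem_of_mk : ∀ u : U G q p, Ideal.Quotient.mk IU u ∈ Jb → u ∈ J := by
    intro u hu
    rw [hJb, Ideal.mem_map_iff_of_surjective _ hmksurj] at hu
    obtain ⟨j, hj, hju⟩ := hu
    have : u - j ∈ IU := by
      rw [← Ideal.Quotient.eq]; exact hju.symm
    have h2 : u = (u - j) + j := by ring
    rw [h2]
    exact Ideal.add_mem _ (hIUJ this) hj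
  refine ⟨b, ?_, ?_, ?_⟩
  · rw [← Ideal.Quotient.eq, map_mul, hb]
    exact hε.one_sub.eq
  · have h1 : Ideal.Quotient.mk IU (1 - b) ∈ Jb := by
      rw [map_sub, map_one, hb, sub_sub_cancel, hJbε]
      exact Ideal.mem_span_singleton_self ε
    exact (hmemJ _).mp (hmem_of_mk _ h1)
  · intro u hu
    have huJ : u ∈ J := (hmemJ _).mpr hu
    have h1 : Ideal.Quotient.mk IU u ∈ Jb := by
      rw [hJb]; exact Ideal.mem_map_of_mem _ huJ
    rw [hJbε, Ideal.mem_span_singleton'] at h1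
    obtain ⟨t', ht'⟩ := h1
    obtain ⟨t, rfl⟩ := hmksurj t'
    refine ⟨t, ?_⟩
    rw [← Ideal.Quotient.eq, map_mul, map_sub, map_one, hb, sub_sub_cancel, ← ht', mul_comm]

end UnivFactor

end Groth.Agent.H3
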