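import Groth.Agent.H3.PairFactorMain
import Mathlib.Algebra.Polynomial.Degree.SmallDegree

/-!
# Factorization lifting implies root lifting
-/

set_option autoImplicit false
universe u

namespace Groth.Agent.H3

open Polynomial

/-- the factorization lifting property of a pair -/
def FactorLifts {A : Type u} [CommRing A] (I : Ideal A) : Prop :=
  ∀ f : Polynomial A, f.Monic → ∀ g₀ h₀ : Polynomial (A ⧸ I), g₀.Monic → h₀.Monic →
    IsCoprime g₀ h₀ → Polynomial.map (Ideal.Quotient.mk I) f = g₀ * h₀ →
    ∃ g h : Polynomial A, g.Monic ∧ h.Monic ∧ f = g * h ∧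
      Polynomial.map (Ideal.Quotient.mk I) g = g₀ ∧ Polynomial.map (Ideal.Quotient.mk I) h = h₀

theorem factorLifts_of_henselianRing {A : Type u} [CommRing A] {I : Ideal A}
    (h : HenselianRing A I) : FactorLifts I :=
  fun f hf g₀ h₀ hg hh hc hfac => factor_lift_of_henselianRing h f hf g₀ h₀ hg hh hc hfac

theorem henselianRing_of_factorLifts {A : Type u} [CommRing A] {I : Ideal A}
    (hjac : I ≤ Ideal.jacobson ⊥) (hF : FactorLifts I) : HenselianRing A I := by
  refine ⟨hjac, ?_⟩
  intro f hf a₀ hfa hder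
  rcases subsingleton_or_nontrivial (A ⧸ I) with hS | hS
  · refine ⟨a₀, ?_, by simp⟩
    have h1 : (1 : A) ∈ I := by
      rw [← Ideal.Quotient.eq_zero_iff_mem]; exact Subsingleton.elim _ _
    have h2 : (1 : A) ∈ Ideal.jacobson (⊥ : Ideal A) := hjac h1
    have : Subsingleton A := by
      rw [Ideal.mem_jacobson_bot] at h2
      have h3 := h2 (-1)
      simp at h3
      exact subsingleton_of_zero_eq_one h3
    exact Subsingleton.elim _ _
  set ā := Ideal.Quotient.mk I a₀ with hā
  set fb := f.map (Ideal.Quotient.mk I) with hfb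
  have hfbm : fb.Monic := hf.map _
  have hroot : fb.IsRoot ā := by
    rw [IsRoot, hfb, hā, Polynomial.eval_map, Polynomial.eval₂_at_apply]
    exact Ideal.Quotient.eq_zero_iff_mem.mpr hfa
  set hb := fb /ₘ (X - C ā) with hhb
  have hfac : fb = (X - C ā) * hb := (Polynomial.mul_divByMonic_eq_iff_isRoot.mpr hroot).symm
  have hhbm : hb.Monic := (monic_X_sub_C ā).of_mul_monic_left (hfac ▸ hfbm)
  -- the derivative
  have hder' : IsUnit (hb.eval ā) := by
    have h1 : (derivative fb).eval ā = hb.eval ā := by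
      conv_lhs => rw [hfac]
      simp
    rw [← h1, hfb, Polynomial.derivative_map, hā, Polynomial.eval_map, Polynomial.eval₂_at_apply]
    exact hder
  obtain ⟨w, hw⟩ := hder'.exists_left_inv
  set k := hb /ₘ (X - C ā) with hk
  have hhbk : hb = C (hb.eval ā) + (X - C ā) * k := by
    have := Polynomial.modByMonic_add_div hb (X - C ā)
    rw [Polynomial.modByMonic_X_sub_C_eq_C_eval] at this
    exact this.symm
  have hcop : IsCoprime (X - C ā) hb := by
    refine ⟨- C w * k, C w, ?_⟩
    have h2 : C w * C (hb.eval ā) = 1 := by rw [← C_mul, hw, C_1]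
    calc - C w * k * (X - C ā) + C w * hb
        = - C w * k * (X - C ā) + C w * (C (hb.eval ā) + (X - C ā) * k) := by rw [← hhbk]
      _ = C w * C (hb.eval ā) := by ring
      _ = 1 := h2
  obtain ⟨g, h', hg, hh', hfgh, hgmap, hhmap⟩ :=
    hF f hf (X - C ā) hb (monic_X_sub_C ā) hhbm hcop hfac
  have hgdeg : g.natDegree = 1 := by
    rw [← hg.natDegree_map (Ideal.Quotient.mk I), hgmap, natDegree_X_sub_C]
  have hgeq := hg.eq_X_add_C hgdeg
  refine ⟨- g.coeff 0, ?_, ?_⟩
  · rw [IsRoot, hfgh, eval_mul]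
    have : g.eval (- g.coeff 0) = 0 := by
      rw [hgeq]; simp
    rw [this, zero_mul]
  · rw [← Ideal.Quotient.eq, map_neg, ← coeff_map, hgmap]
    simp [hā]

end Groth.Agent.H3
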