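import Groth.Agent.H3.PairFactor

/-!
# Gabber's theorem: in a henselian pair, coprime monic factorizations lift (main statement)
-/

set_option autoImplicit false
universe u

namespace Groth.Agent.H3

open Polynomial

/-- Coprimality with a monic polynomial lifts along a surjection whose kernel is contained in
the Jacobson radical. -/
theorem isCoprime_of_map_of_ker_le_jacobson {V D : Type*} [CommRing V] [CommRing D]
    (ρ : V →+* D) (hρ : Function.Surjective ρ) (hN : RingHom.ker ρ ≤ Ideal.jacobson ⊥)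
    {g h : V[X]} (hg : g.Monic) (hc : IsCoprime (g.map ρ) (h.map ρ)) : IsCoprime g h := by
  apply isCoprime_of_map_of_jacobson (RingHom.ker ρ) hN hg
  let e : V ⧸ RingHom.ker ρ ≃+* D := RingHom.quotientKerEquivOfSurjective hρ
  have he : (e.symm : D →+* V ⧸ RingHom.ker ρ).comp ρ = Ideal.Quotient.mk (RingHom.ker ρ) := by
    ext v
    change e.symm (ρ v) = _
    rw [RingEquiv.symm_apply_eq]
    rfl
  have := hc.map (Polynomial.mapRingHom (e.symm : D →+* V ⧸ RingHom.ker ρ))
  simp only [Polynomial.coe_mapRingHom, Polynomial.map_map, he] at this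
  exact this


/-- The image of an ideal in the Jacobson radical under a surjection lies in the Jacobson
radical. -/
theorem mem_jacobson_bot_of_surjective {A V : Type*} [CommRing A] [CommRing V] (f : A →+* V)
    (hf : Function.Surjective f) {a : A} (ha : a ∈ Ideal.jacobson (⊥ : Ideal A)) :
    f a ∈ Ideal.jacobson (⊥ : Ideal V) := by
  rw [Ideal.mem_jacobson_bot] at ha ⊢
  intro y
  obtain ⟨a', rfl⟩ := hf y
  have := (ha a').map f
  simpa using this

/-- Second half of Gabber's argument: once the point of the universal factorization algebra is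
cut out by an idempotent, the corresponding factor is `A` itself. -/
theorem factor_lift_aux {A : Type u} [CommRing A] {I : Ideal A} (hjac : I ≤ Ideal.jacobson ⊥)
    [Nontrivial (A ⧸ I)]
    (G : A[X]) (hG : G.Monic) (g₀ h₀ : (A ⧸ I)[X]) (hc : IsCoprime g₀ h₀) {q p : ℕ}
    (σ : UnivFactor.U G q p →ₐ[A] A ⧸ I)
    (hgσ : (UnivFactor.gU G q p).map σ.toRingHom = g₀)
    (hhσ : (UnivFactor.hU G q p).map σ.toRingHom = h₀)
    (e : UnivFactor.U G q p) (he : IsIdempotentElem e) (hσe : σ (1 - e) = 0)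
    (hker : ∀ u, σ u = 0 → ∃ t, u - (1 - e) * t ∈ I.map (algebraMap A (UnivFactor.U G q p))) :
    ∃ g h : A[X], g.Monic ∧ h.Monic ∧ G = g * h ∧ g.map (Ideal.Quotient.mk I) = g₀ ∧
      h.map (Ideal.Quotient.mk I) = h₀ := by
  classical
  have hfinU : Module.Finite A (UnivFactor.U G q p) := UnivFactor.finite G q p hG
  obtain ⟨W, hW⟩ : ∃ W : Ideal (UnivFactor.U G q p), W = Ideal.span {1 - e} := ⟨_, rfl⟩
  have hWmem : ∀ x, x ∈ W ↔ ∃ w, w * (1 - e) = x := by
    intro x; rw [hW]; exact Ideal.mem_span_singleton'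
  let πV : UnivFactor.U G q p →ₐ[A] (UnivFactor.U G q p ⧸ W) := Ideal.Quotient.mkₐ A W
  have hπVsurj : Function.Surjective πV := Ideal.Quotient.mkₐ_surjective A W
  have hπV0 : ∀ x, πV x = 0 ↔ x ∈ W := fun x => Ideal.Quotient.eq_zero_iff_mem
  have hσW : ∀ a ∈ W, σ a = 0 := by
    intro a ha
    obtain ⟨w, rfl⟩ := (hWmem a).mp ha
    rw [map_mul, hσe, mul_zero]
  let σV : (UnivFactor.U G q p ⧸ W) →ₐ[A] A ⧸ I := Ideal.Quotient.liftₐ W σ hσW
  have hσVπ : ∀ u, σV (πV u) = σ u := fun u => rfl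
  have hfinV : Module.Finite A (UnivFactor.U G q p ⧸ W) :=
    Module.Finite.of_surjective πV.toLinearMap hπVsurj
  have hntV : Nontrivial (UnivFactor.U G q p ⧸ W) := RingHom.domain_nontrivial σV.toRingHom
  -- `πV` maps `IU` into `I V`
  have hπIU : ∀ x ∈ I.map (algebraMap A (UnivFactor.U G q p)),
      πV x ∈ (I • ⊤ : Submodule A (UnivFactor.U G q p ⧸ W)) := by
    intro x hx
    have h1 : x ∈ (I • ⊤ : Submodule A (UnivFactor.U G q p)) := by
      rw [Ideal.smul_top_eq_map]; exact hx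
    have h2 : (I • ⊤ : Submodule A (UnivFactor.U G q p)).map πV.toLinearMap ≤ I • ⊤ := by
      rw [Submodule.map_smul'']
      exact Submodule.smul_mono le_rfl le_top
    exact h2 (Submodule.mem_map_of_mem h1)
  -- surjectivity of `A → V`
  have hsurj : Function.Surjective (algebraMap A (UnivFactor.U G q p ⧸ W)) := by
    have h1 : (⊤ : Submodule A (UnivFactor.U G q p ⧸ W)) ≤
        LinearMap.range (Algebra.linearMap A (UnivFactor.U G q p ⧸ W)) := by
      apply Submodule.le_of_le_smul_of_le_jacobson_bot Module.Finite.fg_top hjac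
      intro v _
      obtain ⟨u, rfl⟩ := hπVsurj v
      obtain ⟨c, hc'⟩ := Ideal.Quotient.mk_surjective (σ u)
      have h2 : σ (u - algebraMap A _ c) = 0 := by
        rw [map_sub, σ.commutes, ← hc']
        exact sub_self _
      obtain ⟨t, ht⟩ := hker _ h2
      have h3 : πV u = algebraMap A _ c + πV (u - algebraMap A _ c - (1 - e) * t) := by
        have h4 : πV ((1 - e) * t) = 0 := by
          rw [hπV0, hWmem]; exact ⟨t, mul_comm _ _⟩
        rw [map_sub, map_sub, h4, sub_zero, πV.commutes]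
        ring
      rw [h3]
      exact Submodule.add_mem_sup ⟨c, rfl⟩ (hπIU _ ht)
    intro v
    obtain ⟨a, ha⟩ := h1 (Submodule.mem_top : v ∈ ⊤)
    exact ⟨a, ha⟩
  -- the kernel
  obtain ⟨K, hK⟩ : ∃ K : Ideal A, K = RingHom.ker (algebraMap A (UnivFactor.U G q p ⧸ W)) :=
    ⟨_, rfl⟩
  have hKmem : ∀ a, a ∈ K ↔ algebraMap A (UnivFactor.U G q p ⧸ W) a = 0 := by
    intro a; rw [hK]; rfl
  have hKI : K ≤ I := by
    intro a ha
    have h1 : σV (algebraMap A _ a) = 0 := by rw [(hKmem a).mp ha, map_zero]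
    rw [σV.commutes] at h1
    exact Ideal.Quotient.eq_zero_iff_mem.mp h1
  have hKfg : K.FG := by
    have hUfp : Module.FinitePresentation A (UnivFactor.U G q p) :=
      Module.FinitePresentation.of_finite_of_finitePresentation A _
    have hkerπ : LinearMap.ker πV.toLinearMap =
        LinearMap.range (LinearMap.mulLeft A (1 - e)) := by
      ext x
      rw [LinearMap.mem_ker, LinearMap.mem_range]
      change πV x = 0 ↔ _
      rw [hπV0, hWmem]
      constructor
      · rintro ⟨w, rfl⟩; exact ⟨w, mul_comm _ _⟩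
      · rintro ⟨w, rfl⟩; exact ⟨w, mul_comm _ _⟩
    have hVfp : Module.FinitePresentation A (UnivFactor.U G q p ⧸ W) := by
      apply Module.finitePresentation_of_surjective πV.toLinearMap hπVsurj
      rw [hkerπ, LinearMap.range_eq_map]
      exact Submodule.FG.map _ Module.Finite.fg_top
    have h1 := Module.FinitePresentation.fg_ker
      (Algebra.linearMap A (UnivFactor.U G q p ⧸ W)) hsurj
    have h2 : K = LinearMap.ker (Algebra.linearMap A (UnivFactor.U G q p ⧸ W)) := by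
      ext a
      rw [hKmem]; rfl
    rw [h2]; exact h1
  -- lifting along `A/IK → V`
  have hIKK : ∀ a ∈ I * K, (Algebra.ofId A (UnivFactor.U G q p ⧸ W)) a = 0 := by
    intro a ha
    exact (hKmem a).mp (Ideal.mul_le_right ha)
  let ρA : (A ⧸ I * K) →ₐ[A] (UnivFactor.U G q p ⧸ W) :=
    Ideal.Quotient.liftₐ (I * K) (Algebra.ofId A _) hIKK
  have hρmk : ∀ a : A, ρA (Ideal.Quotient.mk (I * K) a) = algebraMap A _ a := fun a => rfl
  have hρsurj : Function.Surjective ρA.toRingHom := by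
    intro v
    obtain ⟨a, rfl⟩ := hsurj v
    exact ⟨Ideal.Quotient.mk (I * K) a, rfl⟩
  have hρsq : ∀ x y : A ⧸ I * K, ρA.toRingHom x = 0 → ρA.toRingHom y = 0 → x * y = 0 := by
    intro x y hx hy
    obtain ⟨a, rfl⟩ := Ideal.Quotient.mk_surjective x
    obtain ⟨a', rfl⟩ := Ideal.Quotient.mk_surjective y
    have ha : a ∈ K := (hKmem a).mpr hx
    have ha' : a' ∈ K := (hKmem a').mpr hy
    rw [← map_mul, Ideal.Quotient.eq_zero_iff_mem]
    exact Ideal.mul_mem_mul (hKI ha) ha'
  obtain ⟨gV, hgV⟩ : ∃ gV, gV = (UnivFactor.gU G q p).map πV.toRingHom := ⟨_, rfl⟩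
  obtain ⟨hV, hhV⟩ : ∃ hV, hV = (UnivFactor.hU G q p).map πV.toRingHom := ⟨_, rfl⟩
  have hgVm : gV.Monic := by rw [hgV]; exact (UnivFactor.gU_monic G q p).map _
  have hhVm : hV.Monic := by rw [hhV]; exact (UnivFactor.hU_monic G q p).map _
  have hprodV : gV * hV = G.map (algebraMap A (UnivFactor.U G q p ⧸ W)) := by
    rw [hgV, hhV, ← Polynomial.map_mul, UnivFactor.gU_mul_hU, Polynomial.map_map,
      show πV.toRingHom.comp (algebraMap A (UnivFactor.U G q p)) =
        algebraMap A (UnivFactor.U G q p ⧸ W) from πV.comp_algebraMap]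
  have hσVcomp : σV.toRingHom.comp πV.toRingHom = σ.toRingHom := RingHom.ext hσVπ
  have hgVσ : gV.map σV.toRingHom = g₀ := by
    rw [hgV, Polynomial.map_map, hσVcomp, hgσ]
  have hhVσ : hV.map σV.toRingHom = h₀ := by
    rw [hhV, Polynomial.map_map, hσVcomp, hhσ]
  have hσVsurj : Function.Surjective σV.toRingHom := by
    intro x
    obtain ⟨a, rfl⟩ := Ideal.Quotient.mk_surjective x
    exact ⟨algebraMap A _ a, σV.commutes a⟩
  have hkerσV : RingHom.ker σV.toRingHom ≤ Ideal.jacobson ⊥ := by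
    intro v hv
    obtain ⟨a, rfl⟩ := hsurj v
    have h1 : σV (algebraMap A _ a) = 0 := hv
    rw [σV.commutes] at h1
    exact mem_jacobson_bot_of_surjective _ hsurj (hjac (Ideal.Quotient.eq_zero_iff_mem.mp h1))
  have hcopV : IsCoprime gV hV := by
    apply isCoprime_of_map_of_ker_le_jacobson σV.toRingHom hσVsurj hkerσV hgVm
    rw [hgVσ, hhVσ]; exact hc
  have hfmap : (G.map (Ideal.Quotient.mk (I * K))).map ρA.toRingHom = gV * hV := by
    rw [hprodV, Polynomial.map_map,
      show ρA.toRingHom.comp (Ideal.Quotient.mk (I * K)) =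
        algebraMap A (UnivFactor.U G q p ⧸ W) from ρA.comp_algebraMap]
  obtain ⟨g₂, h₂, hg₂, hh₂, hf₂, hg₂ρ, hh₂ρ⟩ := factor_lift_sqzero ρA.toRingHom hρsurj hρsq
    (G.map (Ideal.Quotient.mk (I * K))) (hG.map _) gV hV hgVm hhVm hcopV hfmap
  have hdg : g₂.natDegree = q := by
    rw [← hg₂.natDegree_map ρA.toRingHom, hg₂ρ, hgV]
    exact UnivFactor.gU_map_natDegree G q p _
  have hdh : h₂.natDegree = p := by
    rw [← hh₂.natDegree_map ρA.toRingHom, hh₂ρ, hhV]
    exact UnivFactor.hU_map_natDegree G q p _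
  let τ : UnivFactor.U G q p →ₐ[A] (A ⧸ I * K) :=
    UnivFactor.lift g₂ h₂ hg₂ hdg hh₂ hdh hf₂.symm
  have hτg : (UnivFactor.gU G q p).map τ.toRingHom = g₂ :=
    UnivFactor.gU_map_lift g₂ h₂ hg₂ hdg hh₂ hdh hf₂.symm
  have hτh : (UnivFactor.hU G q p).map τ.toRingHom = h₂ :=
    UnivFactor.hU_map_lift g₂ h₂ hg₂ hdg hh₂ hdh hf₂.symm
  have hρτ : ρA.comp τ = πV := by
    apply UnivFactor.algHom_ext
    · change (UnivFactor.gU G q p).map (ρA.toRingHom.comp τ.toRingHom) = _
      rw [← Polynomial.map_map, hτg, hg₂ρ, hgV]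
    · change (UnivFactor.hU G q p).map (ρA.toRingHom.comp τ.toRingHom) = _
      rw [← Polynomial.map_map, hτh, hh₂ρ, hhV]
  have hτe : τ (1 - e) = 0 := by
    have h1 : ρA (τ (1 - e)) = 0 := by
      have := AlgHom.congr_fun hρτ (1 - e)
      rw [AlgHom.comp_apply] at this
      rw [this, hπV0, hWmem]
      exact ⟨1, one_mul _⟩
    have h2 : τ (1 - e) * τ (1 - e) = 0 := hρsq _ _ h1 h1
    have h3 : τ (1 - e) * τ (1 - e) = τ (1 - e) := by
      rw [← map_mul, he.one_sub.eq]
    rw [← h3, h2]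
  have hKle : K ≤ I • K := by
    intro a ha
    rw [Ideal.smul_eq_mul, ← Ideal.Quotient.eq_zero_iff_mem]
    have h1 : πV (algebraMap A _ a) = 0 := by
      rw [πV.commutes]; exact (hKmem a).mp ha
    rw [hπV0, hWmem] at h1
    obtain ⟨w, hw⟩ := h1
    have h2 : τ (algebraMap A _ a) = 0 := by
      rw [← hw, map_mul, hτe, mul_zero]
    rw [τ.commutes] at h2
    exact h2
  have hK0 : K = ⊥ := Submodule.eq_bot_of_le_smul_of_le_jacobson_bot I K hKfg hKle hjac
  have hinj : Function.Injective (algebraMap A (UnivFactor.U G q p ⧸ W)) := by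
    rw [RingHom.injective_iff_ker_eq_bot, ← hK, hK0]
  -- conclusion
  let φ : A ≃+* (UnivFactor.U G q p ⧸ W) := RingEquiv.ofBijective (algebraMap A _) ⟨hinj, hsurj⟩
  have hφcomp : (algebraMap A (UnivFactor.U G q p ⧸ W)).comp (φ.symm : _ →+* A) =
      RingHom.id _ := by
    refine RingHom.ext fun v => ?_
    exact φ.apply_symm_apply v
  have hmkφ : (Ideal.Quotient.mk I).comp (φ.symm : _ →+* A) = σV.toRingHom := by
    refine RingHom.ext fun v => ?_
    obtain ⟨a, rfl⟩ := hsurj v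
    have h1 : φ.symm (algebraMap A _ a) = a := φ.symm_apply_apply a
    change Ideal.Quotient.mk I (φ.symm (algebraMap A _ a)) = σV (algebraMap A _ a)
    rw [h1, σV.commutes]
    rfl
  refine ⟨gV.map (φ.symm : _ →+* A), hV.map (φ.symm : _ →+* A), hgVm.map _, hhVm.map _, ?_, ?_, ?_⟩
  · apply Polynomial.map_injective (algebraMap A (UnivFactor.U G q p ⧸ W)) hinj
    rw [Polynomial.map_mul, Polynomial.map_map, Polynomial.map_map, hφcomp, Polynomial.map_id,
      Polynomial.map_id, hprodV]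
  · rw [Polynomial.map_map, hmkφ, hgVσ]
  · rw [Polynomial.map_map, hmkφ, hhVσ]

/-- Coprime monic factorizations lift as soon as `I` is in the Jacobson radical and idempotents
lift along finite algebras. -/
theorem factor_lift_of_idem_lift {A : Type u} [CommRing A] {I : Ideal A}
    (hjac : I ≤ Ideal.jacobson ⊥)
    (hidem : ∀ (W : Type u) [CommRing W] [Algebra A W] [Module.Finite A W] (b : W),
      b * b - b ∈ I.map (algebraMap A W) → (∀ u : W, ∃ c : A, b * u - c • b ∈ I.map (algebraMap A W)) →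
      ∃ e : W, IsIdempotentElem e ∧ e - b ∈ I.map (algebraMap A W))
    (G : A[X]) (hG : G.Monic) (g₀ h₀ : (A ⧸ I)[X]) (hg₀ : g₀.Monic)
    (hh₀ : h₀.Monic) (hc : IsCoprime g₀ h₀) (hfac : G.map (Ideal.Quotient.mk I) = g₀ * h₀) :
    ∃ g h : A[X], g.Monic ∧ h.Monic ∧ G = g * h ∧ g.map (Ideal.Quotient.mk I) = g₀ ∧
      h.map (Ideal.Quotient.mk I) = h₀ := by
  classical
  rcases subsingleton_or_nontrivial (A ⧸ I) with hS | hS
  · exact ⟨G, 1, hG, monic_one, (mul_one G).symm, Subsingleton.elim _ _, Subsingleton.elim _ _⟩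
  obtain ⟨q, hq⟩ : ∃ q, g₀.natDegree = q := ⟨_, rfl⟩
  obtain ⟨p, hp⟩ : ∃ p, h₀.natDegree = p := ⟨_, rfl⟩
  obtain ⟨σ, hσ⟩ : ∃ σ, σ = UnivFactor.pt G g₀ h₀ hg₀ hh₀ hfac hq hp := ⟨_, rfl⟩
  have hgσ : (UnivFactor.gU G q p).map σ.toRingHom = g₀ := by
    rw [hσ]; exact UnivFactor.gU_map_pt G g₀ h₀ hg₀ hh₀ hfac hq hp
  have hhσ : (UnivFactor.hU G q p).map σ.toRingHom = h₀ := by
    rw [hσ]; exact UnivFactor.hU_map_pt G g₀ h₀ hg₀ hh₀ hfac hq hp
  have hcσ : IsCoprime ((UnivFactor.gU G q p).map σ.toRingHom)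
      ((UnivFactor.hU G q p).map σ.toRingHom) := by rw [hgσ, hhσ]; exact hc
  have hfin : Module.Finite A (UnivFactor.U G q p) := UnivFactor.finite G q p hG
  obtain ⟨IU, hIU⟩ : ∃ IU, IU = I.map (algebraMap A (UnivFactor.U G q p)) := ⟨_, rfl⟩
  have hσIU : ∀ x ∈ IU, σ x = 0 := by
    intro x hx
    rw [hIU] at hx
    exact UnivFactor.map_le_ker G σ hx
  obtain ⟨b, hbb, hσb, hbker⟩ := UnivFactor.exists_rank_one G σ hcσ
  rw [← hIU] at hbb hbker
  -- the rank one property
  have hrank : ∀ u : UnivFactor.U G q p, ∃ c : A, b * u - c • b ∈ IU := by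
    intro u
    obtain ⟨c, hc'⟩ := Ideal.Quotient.mk_surjective (σ u)
    have h1 : σ (u - algebraMap A _ c) = 0 := by
      rw [map_sub, σ.commutes, ← hc']
      exact sub_self _
    obtain ⟨t, ht⟩ := hbker _ h1
    refine ⟨c, ?_⟩
    have h2 : b * u - c • b = b * (u - algebraMap A _ c - (1 - b) * t) - (b * b - b) * t := by
      rw [Algebra.smul_def]; ring
    rw [h2]
    exact Ideal.sub_mem _ (Ideal.mul_mem_left _ _ ht) (Ideal.mul_mem_right _ _ hbb)
  obtain ⟨e, he, heb⟩ := hidem (UnivFactor.U G q p) b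
    (by rw [← hIU]; exact hbb) (by rw [← hIU]; exact hrank)
  rw [← hIU] at heb
  have hσe : σ (1 - e) = 0 := by
    have : (1 - e) = (1 - b) - (e - b) := by ring
    rw [this, map_sub, hσb, hσIU _ heb, sub_zero]
  exact factor_lift_aux hjac G hG g₀ h₀ hc σ hgσ hhσ e he hσe
    (by
      intro u hu
      obtain ⟨t, ht⟩ := hbker u hu
      refine ⟨t, ?_⟩
      have : u - (1 - e) * t = (u - (1 - b) * t) - (e - b) * (-t) := by ring
      rw [this, ← hIU]
      exact Ideal.sub_mem _ ht (Ideal.mul_mem_right _ _ heb))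

/-- **Gabber's theorem**: in a henselian pair (in the sense of simple root lifting), coprime
monic factorizations lift. -/
theorem factor_lift_of_henselianRing {A : Type u} [CommRing A] {I : Ideal A}
    (h : HenselianRing A I) (G : A[X]) (hG : G.Monic) (g₀ h₀ : (A ⧸ I)[X]) (hg₀ : g₀.Monic)
    (hh₀ : h₀.Monic) (hc : IsCoprime g₀ h₀) (hfac : G.map (Ideal.Quotient.mk I) = g₀ * h₀) :
    ∃ g h : A[X], g.Monic ∧ h.Monic ∧ G = g * h ∧ g.map (Ideal.Quotient.mk I) = g₀ ∧
      h.map (Ideal.Quotient.mk I) = h₀ :=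
  factor_lift_of_idem_lift h.jac
    (fun W _ _ _ b hb hrank => exists_idempotent_of_rank_one h W b hb hrank)
    G hG g₀ h₀ hg₀ hh₀ hc hfac

end Groth.Agent.H3
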