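import Groth.Agent.H3.PairHens

/-!
# Maps between henselizations of étale algebras over a henselian pair
-/

set_option autoImplicit false
universe u

namespace Groth.Agent.H3

namespace PairHens

open Hens2

variable {A : Type u} [CommRing A] {I : Ideal A}

theorem map_map_algebraMap (R : Type u) [CommRing R] [Algebra A R] (B : Type u) [CommRing B]
    [Algebra R B] [Algebra A B] [IsScalarTower A R B] :
    (I.map (algebraMap A R)).map (algebraMap R B) = I.map (algebraMap A B) := by
  rw [Ideal.map_map, ← IsScalarTower.algebraMap_eq]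

theorem map_algHom_eq {R : Type u} [CommRing R] [Algebra A R] {B' : Type u} [CommRing B']
    [Algebra A B'] (ρ : R →ₐ[A] B') :
    (I.map (algebraMap A R)).map ρ.toRingHom = I.map (algebraMap A B') := by
  rw [Ideal.map_map]
  congr 1
  exact RingHom.ext fun a => ρ.commutes a

theorem algHom_reduction_bijective
    (R : Type u) [CommRing R] [Algebra A R] [Algebra.Etale A R]
    (B : Type u) [CommRing B] [Algebra R B] [Algebra A B] [IsScalarTower A R B]
    (hB : IsPairHenselization R (I.map (algebraMap A R)) B)
    (R' : Type u) [CommRing R'] [Algebra A R']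
    (B' : Type u) [CommRing B'] [Algebra R' B'] [Algebra A B'] [IsScalarTower A R' B']
    (hB' : IsPairHenselization R' (I.map (algebraMap A R')) B') :
    (∀ φ ψ : B →ₐ[A] B', (∀ b : B, φ b - ψ b ∈ I.map (algebraMap A B')) → φ = ψ) ∧
    ∀ χ : (B ⧸ I.map (algebraMap A B)) →ₐ[A] (B' ⧸ I.map (algebraMap A B')),
      ∃ φ : B →ₐ[A] B', ∀ b : B,
        Ideal.Quotient.mk (I.map (algebraMap A B')) (φ b) =
          χ (Ideal.Quotient.mk (I.map (algebraMap A B)) b) := by
  have hHB' : HenselianRing B' (I.map (algebraMap A B')) := by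
    have := hB'.1
    rwa [map_map_algebraMap] at this
  have hle : ∀ ρ : R →ₐ[A] B', (I.map (algebraMap A R)).map ρ.toRingHom ≤
      I.map (algebraMap A B') := fun ρ => (map_algHom_eq ρ).le
  let ι : R →ₐ[A] B := IsScalarTower.toAlgHom A R B
  constructor
  · intro φ ψ h
    have h1 : φ.comp ι = ψ.comp ι := by
      apply EtaleLift.algHom_eq_of_unramified (I.map (algebraMap A B')) hHB'.jac
      intro x
      exact h (ι x)
    obtain ⟨g, -, hg⟩ := hB.2 B' (I.map (algebraMap A B')) (φ.comp ι).toRingHom hHB'
      (hle _)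
    have h2 : φ.toRingHom = g := hg _ rfl
    have h3 : ψ.toRingHom = g := hg _ (by
      change (ψ.comp ι).toRingHom = (φ.comp ι).toRingHom
      rw [h1])
    apply AlgHom.ext
    intro b
    exact congrArg (fun f : B →+* B' => f b) (h2.trans h3.symm)
  · intro χ
    let σ₀ : R →ₐ[A] B' ⧸ I.map (algebraMap A B') :=
      (χ.comp (Ideal.Quotient.mkₐ A (I.map (algebraMap A B)))).comp ι
    obtain ⟨ρ, hρ, -⟩ := EtaleLift.existsUnique_lift_of_etale_of_henselian B' hHB' σ₀
    obtain ⟨g, hg, -⟩ := hB.2 B' (I.map (algebraMap A B')) ρ.toRingHom hHB' (hle ρ)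
    have hgR : ∀ r : R, g (algebraMap R B r) = ρ r := fun r =>
      congrArg (fun f : R →+* B' => f r) hg
    let φ : B →ₐ[A] B' :=
      { g with
        commutes' := fun a => by
          change g (algebraMap A B a) = algebraMap A B' a
          rw [IsScalarTower.algebraMap_apply A R B, hgR, AlgHom.commutes] }
    refine ⟨φ, ?_⟩
    intro b
    change Ideal.Quotient.mk _ (g b) = _
    obtain ⟨r, hr⟩ := exists_sub_mem hB b
    rw [map_map_algebraMap] at hr
    have h1 : Ideal.Quotient.mk (I.map (algebraMap A B)) b =
        Ideal.Quotient.mk (I.map (algebraMap A B)) (algebraMap R B r) :=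
      Ideal.Quotient.eq.mpr hr
    have h2 : g (b - algebraMap R B r) ∈ I.map (algebraMap A B') := by
      have := ringHom_mem_of_mem g hr
      have h3 : g.comp (algebraMap A B) = algebraMap A B' := by
        apply RingHom.ext
        intro a
        exact φ.commutes a
      rwa [h3] at this
    have h4 : Ideal.Quotient.mk (I.map (algebraMap A B')) (g b) =
        Ideal.Quotient.mk (I.map (algebraMap A B')) (ρ r) := by
      rw [Ideal.Quotient.eq, ← hgR, ← map_sub]
      exact h2
    rw [h4, hρ, h1]
    rfl

end PairHens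

end Groth.Agent.H3
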