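import Mathlib.Algebra.Polynomial.Lifts
import Mathlib.Algebra.Polynomial.Div
import Mathlib.RingTheory.Polynomial.Nilpotent
import Mathlib.RingTheory.Nakayama
import Mathlib.RingTheory.Jacobson.Ideal
import Mathlib.RingTheory.Polynomial.Quotient
import Mathlib.RingTheory.AdjoinRoot
import Mathlib.RingTheory.Coprime.Lemmas
import Mathlib.Tactic.LinearCombination
import Mathlib.Tactic.Ring

/-!
# Lifting and uniqueness of coprime monic factorizations along small extensions
-/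

set_option autoImplicit false
universe u

namespace Groth.Agent.H3

open Polynomial

variable {R S : Type*} [CommRing R] [CommRing S]

/-- If the kernel of `ρ` squares to zero, two polynomials killed by `ρ` multiply to zero. -/
theorem mul_eq_zero_of_map_eq_zero (ρ : R →+* S)
    (hN : ∀ x y : R, ρ x = 0 → ρ y = 0 → x * y = 0) {x y : R[X]}
    (hx : x.map ρ = 0) (hy : y.map ρ = 0) : x * y = 0 := by
  ext k
  rw [coeff_mul, coeff_zero]
  apply Finset.sum_eq_zero
  intro ij _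
  apply hN
  · rw [← coeff_map, hx, coeff_zero]
  · rw [← coeff_map, hy, coeff_zero]

/-- Coprimality lifts along a surjection whose kernel consists of nilpotent elements. -/
theorem isCoprime_of_map_of_nilpotent (ρ : R →+* S) (hρ : Function.Surjective ρ)
    (hN : ∀ x : R, ρ x = 0 → IsNilpotent x) {g h : R[X]}
    (hc : IsCoprime (g.map ρ) (h.map ρ)) : IsCoprime g h := by
  obtain ⟨a₀, c₀, hac⟩ := hc
  obtain ⟨a, rfl⟩ := Polynomial.map_surjective ρ hρ a₀
  obtain ⟨c, rfl⟩ := Polynomial.map_surjective ρ hρ c₀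
  set ν : R[X] := a * g + c * h - 1 with hν
  have hνmap : ν.map ρ = 0 := by
    rw [hν, Polynomial.map_sub, Polynomial.map_add, Polynomial.map_mul, Polynomial.map_mul,
      Polynomial.map_one, hac, sub_self]
  have hnil : IsNilpotent ν := by
    rw [Polynomial.isNilpotent_iff]
    intro i
    apply hN
    rw [← coeff_map, hνmap, coeff_zero]
  have hu : IsUnit (1 + ν) := by
    have := hnil.isUnit_one_add
    exact this
  obtain ⟨w, hw⟩ := hu.exists_left_inv
  refine ⟨w * a, w * c, ?_⟩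
  have : 1 + ν = a * g + c * h := by rw [hν]; ring
  rw [this] at hw
  linear_combination hw

/-- Uniqueness of coprime monic factorizations along a surjection with nilpotent kernel. -/
theorem factor_unique_of_nilpotent (ρ : R →+* S) (hρ : Function.Surjective ρ)
    (hN : ∀ x : R, ρ x = 0 → IsNilpotent x) {g₁ h₁ g₂ h₂ : R[X]}
    (hg₁ : g₁.Monic) (hh₁ : h₁.Monic) (hg₂ : g₂.Monic) (hh₂ : h₂.Monic)
    (hfac : g₁ * h₁ = g₂ * h₂) (hg : g₁.map ρ = g₂.map ρ) (hh : h₁.map ρ = h₂.map ρ)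
    (hc : IsCoprime (g₁.map ρ) (h₁.map ρ)) : g₁ = g₂ ∧ h₁ = h₂ := by
  rcases subsingleton_or_nontrivial S with hS | hS
  · have : Subsingleton R := by
      have h1 : IsNilpotent (1 : R) := hN 1 (Subsingleton.elim _ _)
      obtain ⟨n, hn⟩ := h1
      rw [one_pow] at hn
      exact subsingleton_of_zero_eq_one hn.symm
    exact ⟨Subsingleton.elim _ _, Subsingleton.elim _ _⟩
  have hcop : IsCoprime g₁ h₂ := by
    apply isCoprime_of_map_of_nilpotent ρ hρ hN
    rw [← hh]; exact hc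
  have hdvd : g₁ ∣ g₂ := by
    apply hcop.dvd_of_dvd_mul_right
    rw [← hfac]
    exact dvd_mul_right _ _
  have hdeg : g₂.natDegree ≤ g₁.natDegree := by
    rw [← hg₁.natDegree_map ρ, ← hg₂.natDegree_map ρ, hg]
  have hgeq : g₁ = g₂ := (Polynomial.eq_of_monic_of_dvd_of_natDegree_le hg₁ hg₂ hdvd hdeg).symm
  refine ⟨hgeq, ?_⟩
  rw [hgeq] at hfac
  exact hg₂.isRegular.left hfac

/-- Existence of lifts of coprime monic factorizations along a surjection with square-zero
kernel. -/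
theorem factor_lift_sqzero (ρ : R →+* S) (hρ : Function.Surjective ρ)
    (hN : ∀ x y : R, ρ x = 0 → ρ y = 0 → x * y = 0) (f : R[X]) (hf : f.Monic)
    (g₀ h₀ : S[X]) (hg₀ : g₀.Monic) (hh₀ : h₀.Monic) (hc : IsCoprime g₀ h₀)
    (hfac : f.map ρ = g₀ * h₀) :
    ∃ g h : R[X], g.Monic ∧ h.Monic ∧ f = g * h ∧ g.map ρ = g₀ ∧ h.map ρ = h₀ := by
  rcases subsingleton_or_nontrivial R with hR | hR
  · have : Subsingleton S := hρ.subsingleton
    exact ⟨1, 1, monic_one, monic_one, Subsingleton.elim _ _, Subsingleton.elim _ _,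
      Subsingleton.elim _ _⟩
  have hsurj := Polynomial.map_surjective ρ hρ
  obtain ⟨g₁, hg₁map, -, hg₁⟩ := Polynomial.lifts_and_natDegree_eq_and_monic
    ((Polynomial.mem_lifts _).mpr (hsurj g₀)) hg₀
  obtain ⟨h₁, hh₁map, -, hh₁⟩ := Polynomial.lifts_and_natDegree_eq_and_monic
    ((Polynomial.mem_lifts _).mpr (hsurj h₀)) hh₀
  obtain ⟨a₀, c₀, hac⟩ := hc
  obtain ⟨a₁, ha₁⟩ := hsurj a₀
  obtain ⟨c₁, hc₁⟩ := hsurj c₀
  obtain ⟨δ, hδ⟩ : ∃ δ : R[X], δ = f - g₁ * h₁ := ⟨_, rfl⟩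
  have hδmap : δ.map ρ = 0 := by
    rw [hδ, Polynomial.map_sub, Polynomial.map_mul, hfac, hg₁map, hh₁map, sub_self]
  obtain ⟨ν, hν⟩ : ∃ ν : R[X], ν = a₁ * g₁ + c₁ * h₁ - 1 := ⟨_, rfl⟩
  have hνmap : ν.map ρ = 0 := by
    rw [hν, Polynomial.map_sub, Polynomial.map_add, Polynomial.map_mul, Polynomial.map_mul,
      Polynomial.map_one, ha₁, hc₁, hg₁map, hh₁map, hac, sub_self]
  have hνδ : ν * δ = 0 := mul_eq_zero_of_map_eq_zero ρ hN hνmap hδmap
  obtain ⟨κ, hκ⟩ : ∃ κ : R[X], κ = (c₁ * δ) /ₘ g₁ := ⟨_, rfl⟩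
  obtain ⟨γ, hγ⟩ : ∃ γ : R[X], γ = (c₁ * δ) %ₘ g₁ := ⟨_, rfl⟩
  have hdiv : γ + g₁ * κ = c₁ * δ := by
    rw [hγ, hκ]; exact Polynomial.modByMonic_add_div (c₁ * δ) g₁
  have hcδ : (c₁ * δ).map ρ = 0 := by rw [Polynomial.map_mul, hδmap, mul_zero]
  have hγmap : γ.map ρ = 0 := by
    rw [hγ, Polynomial.map_modByMonic _ hg₁, hcδ, Polynomial.zero_modByMonic]
  have hκmap : κ.map ρ = 0 := by
    rw [hκ, Polynomial.map_divByMonic _ hg₁, hcδ, Polynomial.zero_divByMonic]
  obtain ⟨η, hη⟩ : ∃ η : R[X], η = a₁ * δ + κ * h₁ := ⟨_, rfl⟩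
  have hηmap : η.map ρ = 0 := by
    rw [hη, Polynomial.map_add, Polynomial.map_mul, Polynomial.map_mul, hδmap, hκmap, mul_zero,
      zero_mul, add_zero]
  have hγη : γ * η = 0 := mul_eq_zero_of_map_eq_zero ρ hN hγmap hηmap
  have hkey : γ * h₁ + η * g₁ = δ := by
    rw [hν] at hνδ
    rw [hη]
    linear_combination h₁ * hdiv + hνδ
  have hγdeg : γ.degree < g₁.degree := by
    rw [hγ]; exact Polynomial.degree_modByMonic_lt _ hg₁
  have hgm : (g₁ + γ).Monic := hg₁.add_of_left hγdeg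
  have hprod : (g₁ + γ) * (h₁ + η) = f := by
    rw [hδ] at hkey
    linear_combination hkey + hγη
  refine ⟨g₁ + γ, h₁ + η, hgm, ?_, hprod.symm, ?_, ?_⟩
  · apply hgm.of_mul_monic_left
    rw [hprod]; exact hf
  · rw [Polynomial.map_add, hγmap, add_zero, hg₁map]
  · rw [Polynomial.map_add, hηmap, add_zero, hh₁map]

/-- Coprimality with a monic polynomial lifts from the quotient by an ideal contained in the
Jacobson radical. -/
theorem isCoprime_of_map_of_jacobson {V : Type*} [CommRing V] (N : Ideal V)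
    (hN : N ≤ Ideal.jacobson ⊥) {g h : V[X]} (hg : g.Monic)
    (hc : IsCoprime (g.map (Ideal.Quotient.mk N)) (h.map (Ideal.Quotient.mk N))) :
    IsCoprime g h := by
  obtain ⟨a₀, c₀, hac⟩ := hc
  have hsurj := Polynomial.map_surjective (Ideal.Quotient.mk N) Ideal.Quotient.mk_surjective
  obtain ⟨a, rfl⟩ := hsurj a₀
  obtain ⟨c, rfl⟩ := hsurj c₀
  obtain ⟨ν, hν⟩ : ∃ ν : V[X], ν = a * g + c * h - 1 := ⟨_, rfl⟩
  have hνN : ∀ k, ν.coeff k ∈ N := by
    intro k
    rw [← Ideal.Quotient.eq_zero_iff_mem, ← coeff_map, hν, Polynomial.map_sub,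
      Polynomial.map_add, Polynomial.map_mul, Polynomial.map_mul, Polynomial.map_one, hac,
      sub_self, coeff_zero]
  let J : Ideal V[X] := Ideal.span {g, h}
  have hfin : Module.Finite V (V[X] ⧸ J) := by
    have h1 : Module.Finite V (V[X] ⧸ Ideal.span {g}) := hg.finite_quotient
    have hle : Ideal.span {g} ≤ J := Ideal.span_mono (by simp)
    exact Module.Finite.of_surjective (Ideal.Quotient.factorₐ V hle).toLinearMap
      (Ideal.Quotient.factor_surjective hle)
  have hmem : ∀ x : V[X], (∀ k, x.coeff k ∈ N) →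
      (Ideal.Quotient.mk J x) ∈ (N • ⊤ : Submodule V (V[X] ⧸ J)) := by
    intro x hx
    rw [x.as_sum_support_C_mul_X_pow, map_sum]
    refine Submodule.sum_mem _ fun k _ => ?_
    have : Ideal.Quotient.mk J (C (x.coeff k) * X ^ k) =
        x.coeff k • Ideal.Quotient.mk J (X ^ k) := by
      rw [← Polynomial.smul_eq_C_mul]
      exact map_smul (Ideal.Quotient.mkₐ V J) _ _
    rw [this]
    exact Submodule.smul_mem_smul (hx k) trivial
  have hg0 : Ideal.Quotient.mk J g = 0 :=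
    Ideal.Quotient.eq_zero_iff_mem.mpr (Ideal.subset_span (by simp))
  have hh0 : Ideal.Quotient.mk J h = 0 :=
    Ideal.Quotient.eq_zero_iff_mem.mpr (Ideal.subset_span (by simp))
  have htop : (⊤ : Submodule V (V[X] ⧸ J)) = ⊥ := by
    apply Submodule.eq_bot_of_le_smul_of_le_jacobson_bot N _ Module.Finite.fg_top _ hN
    intro w _
    obtain ⟨r, rfl⟩ := Ideal.Quotient.mk_surjective w
    have h1 : Ideal.Quotient.mk J r = - Ideal.Quotient.mk J (ν * r) := by
      rw [hν]
      simp only [map_mul, map_sub, map_add, map_one, hg0, hh0, mul_zero, add_zero, zero_sub]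
      ring
    rw [h1]
    apply Submodule.neg_mem
    apply hmem
    intro k
    rw [coeff_mul]
    exact Ideal.sum_mem _ fun ij _ => Ideal.mul_mem_right _ _ (hνN _)
  have h1 : (1 : V[X] ⧸ J) = 0 := by
    have : (1 : V[X] ⧸ J) ∈ (⊤ : Submodule V (V[X] ⧸ J)) := trivial
    rw [htop] at this
    exact (Submodule.mem_bot V).mp this
  have h2 : (1 : V[X]) ∈ J := by
    rw [← Ideal.Quotient.eq_zero_iff_mem, map_one]; exact h1
  obtain ⟨a', c', hac'⟩ := Ideal.mem_span_pair.mp h2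
  exact ⟨a', c', hac'⟩

end Groth.Agent.H3
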