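import Mathlib.FieldTheory.PrimitiveElement
import Mathlib.FieldTheory.IntermediateField.Adjoin.Algebra
import Mathlib.RingTheory.Adjoin.Polynomial.Basic

/-!
# Two elements of a separable algebraic extension are polynomials in a common element
-/

set_option autoImplicit false

namespace Groth.Agent.H3

open Polynomial IntermediateField

theorem exists_primitive_pair {k K : Type*} [Field k] [Field K] [Algebra k K]
    [Algebra.IsSeparable k K] (γ δ : K) :
    ∃ (ε : K) (G D : k[X]), aeval ε G = γ ∧ aeval ε D = δ := by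
  have hγi : IsIntegral k γ := Algebra.IsIntegral.isIntegral γ
  have hδi : IsIntegral k δ := Algebra.IsIntegral.isIntegral δ
  have hfd : FiniteDimensional k k⟮γ, δ⟯ := finiteDimensional_adjoin_pair hγi hδi
  have hsep : Algebra.IsSeparable k k⟮γ, δ⟯ :=
    Algebra.isSeparable_tower_bot_of_isSeparable k k⟮γ, δ⟯ K
  obtain ⟨ε', hε'⟩ := Field.exists_primitive_element k k⟮γ, δ⟯
  have halg : IsAlgebraic k ε' := Algebra.IsAlgebraic.isAlgebraic ε'
  have key : ∀ x : k⟮γ, δ⟯, ∃ G : k[X], aeval (ε' : K) G = (x : K) := by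
    intro x
    have hx : x ∈ k⟮ε'⟯ := by rw [hε']; exact IntermediateField.mem_top
    rw [← IntermediateField.mem_toSubalgebra, adjoin_simple_toSubalgebra_of_isAlgebraic halg,
      Algebra.adjoin_singleton_eq_range_aeval] at hx
    obtain ⟨G, hG⟩ := hx
    refine ⟨G, ?_⟩
    have hG' : aeval ε' G = x := hG
    have h1 := congrArg (k⟮γ, δ⟯.val) hG'
    rw [← Polynomial.aeval_algHom_apply] at h1
    exact h1
  have hγm : γ ∈ k⟮γ, δ⟯ := subset_adjoin k _ (Set.mem_insert γ _)
  have hδm : δ ∈ k⟮γ, δ⟯ := subset_adjoin k _ (Set.mem_insert_of_mem γ rfl)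
  obtain ⟨G, hG⟩ := key ⟨γ, hγm⟩
  obtain ⟨D, hD⟩ := key ⟨δ, hδm⟩
  exact ⟨ε', G, D, hG, hD⟩

end Groth.Agent.H3
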