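/-
helper3 — purity (S0248), reduction to the Galois case, part 2: the Galois closure step.
If `B` is etale over the normal Noetherian domain `A` on `D(f)` and the field `E` is generated by the
`K`-conjugates of `L = Frac B`, then the integral closure of `A` in `E` is etale over `A` on `D(f)`
(`basicOpen_subset_etaleLocus_integralClosure`), via helper36's `EtCompositum.main_abstract` applied
to a tensor power of `B_f` over `A_f`.
-/
import Mathlib
import Groth.Agent.H36.EtCompositum

set_option autoImplicit false
set_option linter.unusedSectionVars false
set_option linter.style.haveILetI false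
universe u

open TensorProduct

namespace Groth.Agent.H3.PurRed

section Cover

variable (A' : Type u) [CommRing A'] (B' : Type u) [CommRing B'] [Algebra A' B']
  [Algebra.Etale A' B'] [Module.Finite A' B'] (E : Type u) [Field E] [Algebra A' E]

/-- finitely many maps from a finite etale algebra into a field factor through one finite etale
algebra (a tensor power). -/
theorem exists_etale_cover {ι : Type*} (s : Finset ι) (ψ : ι → (B' →ₐ[A'] E)) :
    ∃ (C' : Type u) (_ : CommRing C') (_ : Algebra A' C') (_ : Algebra.Etale A' C')
      (_ : Module.Finite A' C') (φ : C' →ₐ[A'] E), ∀ i ∈ s, (ψ i).range ≤ φ.range := by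
  classical
  induction s using Finset.induction_on with
  | empty =>
    exact ⟨A', inferInstance, inferInstance, inferInstance, inferInstance, Algebra.ofId A' E,
      fun i hi => absurd hi (Finset.notMem_empty i)⟩
  | insert i s hi ih =>
    obtain ⟨C', _, _, _, _, φ, hφ⟩ := ih
    have : Algebra.Etale A' (C' ⊗[A'] B') := Algebra.Etale.comp A' C' (C' ⊗[A'] B')
    refine ⟨C' ⊗[A'] B', inferInstance, inferInstance, inferInstance, inferInstance,
      Algebra.TensorProduct.productMap φ (ψ i), ?_⟩
    intro j hj
    rcases Finset.mem_insert.mp hj with rfl | hj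
    · rintro _ ⟨b, rfl⟩
      exact ⟨1 ⊗ₜ b, by simp⟩
    · refine (hφ j hj).trans ?_
      rintro _ ⟨c, rfl⟩
      exact ⟨c ⊗ₜ 1, by simp⟩

end Cover

section Closure

variable (A B K L E : Type u) [CommRing A] [IsDomain A] [IsIntegrallyClosed A] [IsNoetherianRing A]
  [CommRing B] [IsDomain B] [Algebra A B] [Module.Finite A B]
  [Field K] [Field L] [Field E] [Algebra A K] [IsFractionRing A K] [Algebra B L]
  [IsFractionRing B L] [Algebra K L] [Algebra A L] [IsScalarTower A K L] [IsScalarTower A B L]
  [FiniteDimensional K L] [Algebra K E] [Algebra A E] [IsScalarTower A K E]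

set_option maxHeartbeats 1600000 in
/-- **Galois closure step.** If `B` is etale over `A` on `D(f)` and `E` is generated by the
conjugates of `L = Frac B`, then the integral closure of `A` in `E` is etale over `A` on `D(f)`. -/
theorem basicOpen_subset_etaleLocus_integralClosure
    (hE : ⨆ σ : L →ₐ[K] E, σ.fieldRange = ⊤) (f : A) (hf0 : f ≠ 0)
    (hf : ↑(PrimeSpectrum.basicOpen (algebraMap A B f)) ⊆ Algebra.etaleLocus A B) :
    ↑(PrimeSpectrum.basicOpen (algebraMap A (integralClosure A E) f)) ⊆
      Algebra.etaleLocus A (integralClosure A E) := by
  classical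
  have hinjAE : Function.Injective (algebraMap A E) := by
    rw [IsScalarTower.algebraMap_eq A K E]
    exact (algebraMap K E).injective.comp (IsFractionRing.injective A K)
  have hM : Submonoid.powers f ≤ nonZeroDivisors A :=
    powers_le_nonZeroDivisors_of_noZeroDivisors hf0
  haveI : IsDomain (Localization.Away f) := IsLocalization.isDomain_localization hM
  haveI : IsIntegrallyClosed (Localization.Away f) :=
    isIntegrallyClosed_of_isLocalization (Localization.Away f) (Submonoid.powers f) hM
  have hunit : ∀ y : Submonoid.powers f, IsUnit (algebraMap A E y) := fun y =>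
    IsUnit.mk0 _ fun h0 => by
      have : (y : A) = 0 := hinjAE (by rw [h0, map_zero])
      exact (mem_nonZeroDivisors_iff_ne_zero.mp (hM y.2)) this
  letI algAfE : Algebra (Localization.Away f) E :=
    (IsLocalization.lift (M := Submonoid.powers f) (g := algebraMap A E) hunit).toAlgebra
  haveI : IsScalarTower A (Localization.Away f) E :=
    IsScalarTower.of_algebraMap_eq fun a => (IsLocalization.lift_eq hunit a).symm
  have hinjE : Function.Injective (algebraMap (Localization.Away f) E) := by
    change Function.Injective (IsLocalization.lift (M := Submonoid.powers f) hunit)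
    rw [IsLocalization.lift_injective_iff]
    intro x y
    constructor
    · intro h
      have := congrArg (IsLocalization.lift (M := Submonoid.powers f) hunit) h
      rwa [IsLocalization.lift_eq, IsLocalization.lift_eq] at this
    · intro h
      rw [hinjAE h]
  -- the etale base algebra `B_f = A_f ⊗ B`
  haveI : Algebra.FinitePresentation A B :=
    Algebra.FinitePresentation.of_finiteType.mp inferInstance
  haveI hBf : Algebra.Etale (Localization.Away f) (Localization.Away f ⊗[A] B) := by
    letI : Algebra B (Localization.Away f ⊗[A] B) := Algebra.TensorProduct.rightAlgebra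
    let e := IsLocalization.Away.tensorRightEquiv B f (Localization.Away f)
    haveI h1 : Algebra.FormallyEtale A (Localization.Away (algebraMap A B f)) :=
      Algebra.basicOpen_subset_etaleLocus_iff.mp hf
    haveI h2 : Algebra.FormallyEtale A (Localization.Away f ⊗[A] B) :=
      Algebra.FormallyEtale.of_equiv (e.symm.restrictScalars A)
    haveI h3 : Algebra.FormallyEtale (Localization.Away f) (Localization.Away f ⊗[A] B) :=
      Algebra.FormallyEtale.localization_base (Submonoid.powers f)
    exact ⟨h3, inferInstance⟩
  -- the maps into `E`
  let ψ : (L →ₐ[K] E) → (Localization.Away f ⊗[A] B →ₐ[Localization.Away f] E) := fun σ =>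
    Algebra.TensorProduct.productLeftAlgHom (Algebra.ofId (Localization.Away f) E)
      ((σ.restrictScalars A).comp (IsScalarTower.toAlgHom A B L))
  have hψ : ∀ (σ : L →ₐ[K] E) (b : B), ψ σ (1 ⊗ₜ b) = σ (algebraMap B L b) := fun σ b => by
    simp [ψ]
  haveI : Fintype (L →ₐ[K] E) := Fintype.ofFinite _
  obtain ⟨C', _, _, _, _, φ, hφ⟩ := exists_etale_cover (Localization.Away f)
    (Localization.Away f ⊗[A] B) E (Finset.univ : Finset (L →ₐ[K] E)) ψ
  have hgen : ∀ F : Subfield E, Set.range φ ⊆ F → F = ⊤ := by
    intro F hF
    have hA : ∀ a : A, algebraMap A E a ∈ F := fun a => hF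
      ⟨algebraMap (Localization.Away f) C' (algebraMap A (Localization.Away f) a), by
        rw [AlgHom.commutes, ← IsScalarTower.algebraMap_apply]⟩
    have hK : ∀ k : K, algebraMap K E k ∈ F := by
      intro k
      obtain ⟨a, b, -, rfl⟩ := IsFractionRing.div_surjective (A := A) k
      rw [map_div₀, ← IsScalarTower.algebraMap_apply, ← IsScalarTower.algebraMap_apply]
      exact F.div_mem (hA a) (hA b)
    have hB : ∀ (σ : L →ₐ[K] E) (b : B), σ (algebraMap B L b) ∈ F := fun σ b =>
      hF (hφ σ (Finset.mem_univ σ) ⟨1 ⊗ₜ b, hψ σ b⟩)
    let F' : IntermediateField K E := F.toIntermediateField hK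
    have hσ : ∀ σ : L →ₐ[K] E, σ.fieldRange ≤ F' := by
      rintro σ _ ⟨x, rfl⟩
      obtain ⟨b, b', -, rfl⟩ := IsFractionRing.div_surjective (A := B) x
      change σ (algebraMap B L b / algebraMap B L b') ∈ F
      rw [map_div₀]
      exact F.div_mem (hB σ b) (hB σ b')
    have htop : (⊤ : IntermediateField K E) ≤ F' := hE ▸ iSup_le hσ
    refine top_unique fun x _ => ?_
    exact htop (IntermediateField.mem_top (F := K) (E := E))
  obtain ⟨hT, hTet⟩ := Groth.Agent.H36.EtCompositum.main_abstract (Localization.Away f) C' E
    hinjE φ hgen
  haveI hTet' : Algebra.Etale (Localization.Away f) (integralClosure (Localization.Away f) E) :=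
    hT ▸ hTet
  -- transfer to `integralClosure A E`
  haveI : IsScalarTower A (Localization.Away f) (integralClosure (Localization.Away f) E) :=
    IsScalarTower.of_algebraMap_eq fun a =>
      Subtype.ext (IsScalarTower.algebraMap_apply A (Localization.Away f) E a)
  let j : integralClosure A E →+* integralClosure (Localization.Away f) E :=
    { toFun := fun s => ⟨s.1, IsIntegral.tower_top s.2⟩
      map_one' := rfl
      map_mul' := fun _ _ => rfl
      map_zero' := rfl
      map_add' := fun _ _ => rfl }
  letI algST : Algebra (integralClosure A E) (integralClosure (Localization.Away f) E) :=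
    j.toAlgebra
  haveI : IsScalarTower (integralClosure A E) (integralClosure (Localization.Away f) E) E :=
    IsScalarTower.of_algebraMap_eq fun _ => rfl
  haveI : IsScalarTower A (integralClosure A E) (integralClosure (Localization.Away f) E) :=
    IsScalarTower.of_algebraMap_eq fun a => Subtype.ext rfl
  haveI : IsLocalization.Away (algebraMap A E f) E :=
    IsLocalization.away_of_isUnit_of_bijective E
      (hunit ⟨f, Submonoid.mem_powers f⟩) Function.bijective_id
  haveI hloc : IsLocalization.Away (algebraMap A (integralClosure A E) f)
      (integralClosure (Localization.Away f) E) :=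
    IsLocalization.Away.integralClosure (R := A) (S := E) (Rf := Localization.Away f) (Sf := E) f
  haveI : Algebra.FormallyEtale A (Localization.Away f) :=
    Algebra.FormallyEtale.of_isLocalization (Submonoid.powers f)
  haveI : Algebra.FormallyEtale A (integralClosure (Localization.Away f) E) :=
    Algebra.FormallyEtale.comp A (Localization.Away f) _
  let e' : Localization.Away (algebraMap A (integralClosure A E) f) ≃ₐ[integralClosure A E]
      integralClosure (Localization.Away f) E :=
    IsLocalization.algEquiv (Submonoid.powers (algebraMap A (integralClosure A E) f)) _ _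
  rw [Algebra.basicOpen_subset_etaleLocus_iff]
  exact Algebra.FormallyEtale.of_equiv (e'.symm.restrictScalars A)

end Closure

end Groth.Agent.H3.PurRed
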