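/-
helper3 — purity (S0248), reduction to the Galois case, part 1: descent of projectivity to the
ring of invariants of a subgroup (`projective_of_invariants`), via an element of `G`-trace one
(`exists_sum_smul_eq_one`, from the surjectivity of helper80's `Phi`).
-/
import Mathlib
import Groth.Agent.H80.PurGal6

set_option autoImplicit false
set_option linter.unusedSectionVars false

namespace Groth.Agent.H3.PurRed

open Groth.Agent.H80.PurGal

section Coset

variable {G : Type*} [Group G] [Fintype G] (H : Subgroup G) [Fintype H]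
  {M : Type*} [AddCommMonoid M] [DistribMulAction G M]

/-- the bijection `(G ⧸ H) × H → G`, `(q, h) ↦ q.out * h`. -/
theorem bijective_out_mul :
    Function.Bijective (fun p : (G ⧸ H) × H => (p.1.out * (p.2 : G) : G)) := by
  constructor
  · rintro ⟨q, h⟩ ⟨q', h'⟩ heq
    simp only at heq
    have hq : q = q' := by
      have h1 : ((q.out * (h : G) : G) : G ⧸ H) = ((q'.out * (h' : G) : G) : G ⧸ H) := by rw [heq]
      rwa [QuotientGroup.mk_mul_of_mem _ h.2, QuotientGroup.mk_mul_of_mem _ h'.2,
        QuotientGroup.out_eq', QuotientGroup.out_eq'] at h1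
    subst hq
    have : (h : G) = h' := mul_left_cancel heq
    rw [Subtype.ext this]
  · intro g
    refine ⟨((g : G ⧸ H), ⟨(g : G ⧸ H).out⁻¹ * g, ?_⟩), ?_⟩
    · rw [← QuotientGroup.eq, QuotientGroup.out_eq']
    · simp

theorem sum_smul_eq_sum_subgroup (x : M) [Fintype (G ⧸ H)] :
    ∑ g : G, g • x = ∑ h : H, (h : G) • ∑ q : G ⧸ H, (q.out)⁻¹ • x := by
  have h1 : ∑ g : G, g • x = ∑ g : G, g⁻¹ • x :=
    (Equiv.sum_comp (Equiv.inv G) fun g => g • x).symm
  rw [h1, ← (Equiv.ofBijective _ (bijective_out_mul H)).sum_comp, Fintype.sum_prod_type,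
    Finset.sum_comm]
  have h2 : ∑ h : H, (h : G) • ∑ q : G ⧸ H, (q.out)⁻¹ • x =
      ∑ h : H, ((h⁻¹ : H) : G) • ∑ q : G ⧸ H, (q.out)⁻¹ • x :=
    (Equiv.sum_comp (Equiv.inv H) fun h : H => (h : G) • ∑ q : G ⧸ H, (q.out)⁻¹ • x).symm
  rw [h2]
  refine Finset.sum_congr rfl fun h _ => ?_
  rw [Finset.smul_sum]
  refine Finset.sum_congr rfl fun q _ => ?_
  simp [mul_smul]

end Coset

section Retraction

variable {A S : Type*} [CommRing A] [CommRing S] [Algebra A S]
  {G : Type*} [Group G] [Fintype G] [MulSemiringAction G S] [SMulCommClass G A S]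
  (H : Subgroup G) [Fintype H]

/-- the `A`-linear operator `s ↦ ∑_{h ∈ H} h • (c * s)` -/
noncomputable def avg (c : S) : S →ₗ[A] S :=
  ∑ h : H, (MulSemiringAction.toAlgHom A S (h : G)).toLinearMap.comp (LinearMap.mulLeft A c)

theorem avg_apply (c s : S) : avg (A := A) H c s = ∑ h : H, (h : G) • (c * s) := by
  simp [avg, LinearMap.sum_apply]

theorem smul_avg (c s : S) (k : H) : (k : G) • avg (A := A) H c s = avg (A := A) H c s := by
  rw [avg_apply, Finset.smul_sum]
  simp_rw [← mul_smul]
  have := Equiv.sum_comp (Equiv.mulLeft k) fun h : H => ((h : G)) • (c * s)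
  simpa using this

theorem avg_of_invariant (c s : S) (hc : ∑ h : H, (h : G) • c = 1)
    (hs : ∀ h : H, (h : G) • s = s) : avg (A := A) H c s = s := by
  rw [avg_apply]
  simp_rw [smul_mul', hs]
  rw [← Finset.sum_mul, hc, one_mul]

/-- **Descent of projectivity to invariants.** If `c₀` has `G`-trace one and the image of an
injective `ι : B → S` is the ring of `H`-invariants, then `B` is an `A`-linear retract of `S`. -/
theorem projective_of_invariants {B : Type*} [CommRing B] [Algebra A B] (ι : B →ₐ[A] S)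
    (hι : Function.Injective ι)
    (hH : ∀ s : S, (∀ h : H, (h : G) • s = s) ↔ s ∈ Set.range ι)
    (c₀ : S) (hc₀ : ∑ g : G, g • c₀ = 1) [Module.Projective A S] : Module.Projective A B := by
  classical
  have : Fintype (G ⧸ H) := Fintype.ofFinite _
  set c : S := ∑ q : G ⧸ H, (q.out)⁻¹ • c₀ with hcdef
  have hc : ∑ h : H, (h : G) • c = 1 := by
    rw [hcdef, ← sum_smul_eq_sum_subgroup H c₀, hc₀]
  have hmem : ∀ s : S, avg (A := A) H c s ∈ LinearMap.range ι.toLinearMap := fun s =>
    (hH _).mp fun h => smul_avg H c s h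
  let e : B ≃ₗ[A] LinearMap.range ι.toLinearMap := LinearEquiv.ofInjective ι.toLinearMap hι
  let r : S →ₗ[A] B := e.symm.toLinearMap.comp ((avg (A := A) H c).codRestrict _ hmem)
  refine Module.Projective.of_split ι.toLinearMap r ?_
  ext b
  apply hι
  have h1 : ι (r (ι b)) = avg (A := A) H c (ι b) := by
    have : (e (r (ι b)) : S) = avg (A := A) H c (ι b) := by
      simp only [r, LinearMap.comp_apply, LinearEquiv.coe_coe, LinearEquiv.apply_symm_apply]
      rfl
    exact this
  change ι (r (ι b)) = ι b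
  rw [h1]
  exact avg_of_invariant H c (ι b) hc ((hH _).mpr ⟨b, rfl⟩)

end Retraction

section TraceOne

variable (A : Type*) [CommRing A] {S : Type*} [CommRing S] [Algebra A S]
  {G : Type*} [Group G] [Fintype G] [DecidableEq G] [MulSemiringAction G S] [SMulCommClass G A S]

/-- a functional with `lam 1 = 1` on a free module-finite algebra over a local ring -/
theorem exists_linearMap_one_eq_one [IsLocalRing A] [Nontrivial S] [Module.Finite A S]
    [Module.Free A S] : ∃ lam : S →ₗ[A] A, lam 1 = 1 := by
  classical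
  let b := Module.Free.chooseBasis A S
  have : Fintype (Module.Free.ChooseBasisIndex A S) := Fintype.ofFinite _
  by_cases hex : ∃ i, IsUnit (b.repr 1 i)
  · obtain ⟨i, hi⟩ := hex
    refine ⟨(hi.unit⁻¹ : Aˣ) • b.coord i, ?_⟩
    simp only [LinearMap.smul_apply, Module.Basis.coord_apply, Units.smul_def, smul_eq_mul]
    exact hi.val_inv_mul
  · exfalso
    push Not at hex
    have hm : ∀ i, b.repr 1 i ∈ IsLocalRing.maximalIdeal A := fun i =>
      (IsLocalRing.mem_maximalIdeal _).mpr (hex i)
    have htop : (⊤ : Submodule A S) ≤ IsLocalRing.maximalIdeal A • (⊤ : Submodule A S) := by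
      intro s _
      have h1 : s = ∑ i, b.repr 1 i • (s * b i) := by
        conv_lhs => rw [← mul_one s, ← b.sum_repr 1, Finset.mul_sum]
        refine Finset.sum_congr rfl fun i _ => ?_
        rw [mul_smul_comm]
      rw [h1]
      exact Submodule.sum_mem _ fun i _ => Submodule.smul_mem_smul (hm i) Submodule.mem_top
    have hbot : (⊤ : Submodule A S) = ⊥ :=
      Submodule.eq_bot_of_le_smul_of_le_jacobson_bot (IsLocalRing.maximalIdeal A) ⊤
        Module.Finite.fg_top htop (IsLocalRing.maximalIdeal_le_jacobson ⊥)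
    have : (1 : S) ∈ (⊥ : Submodule A S) := hbot ▸ Submodule.mem_top
    exact one_ne_zero ((Submodule.mem_bot A).mp this)

/-- a `G`-trace-one element from the surjectivity of `Phi`. -/
theorem exists_sum_smul_eq_one [IsDomain S] [IsNoetherianRing S] [IsIntegrallyClosed S]
    [FaithfulSMul G S] [Algebra.IsInvariant A S G]
    (hin : ∀ Q : Ideal S, Q.IsPrime → Q.height ≤ 1 →
      ∀ g h : G, (∀ t : S, g • t - h • t ∈ Q) → g = h)
    (lam : S →ₗ[A] A) (hlam : lam 1 = 1) : ∃ c₀ : S, ∑ g : G, g • c₀ = 1 := by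
  let φ : Module.End A S := (Algebra.linearMap A S).comp lam
  obtain ⟨s, hs⟩ := Phi_surjective A hin φ
  have hφ : ∀ t, φ t = ∑ g, s g * g • t := fun t => by rw [← hs, Phi_apply]
  have hinv : ∀ (k : G) (t : S), k • φ t = φ t := fun k t => by
    change k • algebraMap A S (lam t) = algebraMap A S (lam t)
    exact smul_algebraMap k (lam t)
  have hsk : ∀ k : G, s k = k • s 1 := by
    intro k
    let s' : G → S := fun g => k • s (k⁻¹ * g)
    have h1 : Phi A S G s' = Phi A S G s := by
      ext t
      rw [Phi_apply, Phi_apply, ← hφ t, ← hinv k t, hφ t, Finset.smul_sum]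
      have h0 := Equiv.sum_comp (Equiv.mulLeft k) fun g => s' g * g • t
      rw [← h0]
      refine Finset.sum_congr rfl fun g _ => ?_
      simp [s', smul_mul', mul_smul]
    have h2 := congrFun (Phi_injective A h1) k
    simpa [s'] using h2.symm
  refine ⟨s 1, ?_⟩
  have h3 := hφ 1
  simp only [smul_one, mul_one] at h3
  rw [← Finset.sum_congr rfl fun g _ => hsk g, ← h3]
  change algebraMap A S (lam 1) = 1
  rw [hlam, map_one]

end TraceOne

end Groth.Agent.H3.PurRed
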