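/-
helper3 — purity (S0248), reduction to the Galois case, part 3: assembly.
`GalFree` is the Galois case (a normal Galois cover `S` of a regular local ring `A` of dimension `≥ 2`,
etale over the punctured spectrum, is free); `purity_of_galFree : GalFree → (statement of S0248)`.
Route: `E` = normal closure of `Frac B / Frac A`, `S` = integral closure of `A` in `E` with the action
of `Gal(E/K)`; `S` is etale over the punctured spectrum (`PurRedClosure`), so free by `GalFree`; an
element of trace one (`PurRedDescent.exists_sum_smul_eq_one`) makes `B = S^H` an `A`-linear retract of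
`S` (`projective_of_invariants`), hence projective, hence flat, and helper97's flat case
(`H97.PurityFlat.etale_of_punctured`) concludes.
-/
import Mathlib
import Groth.Agent.H3.PurRedClosure
import Groth.Agent.H3.PurRedDescent
import Groth.Agent.H97.PurityFlat
import Groth.Agent.H14.RegularNormal

set_option autoImplicit false
set_option linter.unusedSectionVars false
set_option linter.style.haveILetI false
universe u

open IsLocalRing

namespace Groth.Agent.H3.PurRed

attribute [local instance] FractionRing.liftAlgebra FractionRing.isScalarTower_liftAlgebra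

section Setup

variable (A B : Type u) [CommRing A] [IsDomain A] [IsIntegrallyClosed A] [IsNoetherianRing A]
  [CommRing B] [IsDomain B] [IsIntegrallyClosed B] [Algebra A B] [Module.Finite A B]
  [FaithfulSMul A B]

theorem finiteDimensional_fractionRing :
    FiniteDimensional (FractionRing A) (FractionRing B) := by
  haveI : IsIntegralClosure B A (FractionRing B) :=
    IsIntegralClosure.of_isIntegrallyClosed _ _ _
  haveI : Algebra.IsAlgebraic (FractionRing A) (FractionRing B) :=
    isAlgebraic_of_isFractionRing A B ..
  haveI : IsLocalization (Algebra.algebraMapSubmonoid B (nonZeroDivisors A)) (FractionRing B) :=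
    IsIntegralClosure.isLocalization _ (FractionRing A) _ _
  exact .of_isLocalization A B (nonZeroDivisors A)

/-- separability of the fraction field extension from etaleness at the generic point -/
theorem isSeparable_fractionRing
    (h : Algebra.FormallyEtale A (Localization.AtPrime (⊥ : Ideal B))) :
    Algebra.IsSeparable (FractionRing A) (FractionRing B) := by
  haveI := finiteDimensional_fractionRing A B
  haveI : IsFractionRing B (Localization.AtPrime (⊥ : Ideal B)) := by
    simpa [Ideal.primeCompl_bot] using
      Localization.isLocalization (M := (⊥ : Ideal B).primeCompl)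
  let e0 : Localization.AtPrime (⊥ : Ideal B) ≃ₐ[B] FractionRing B :=
    (FractionRing.algEquiv B _).symm
  haveI : Algebra.FormallyEtale A (FractionRing B) :=
    Algebra.FormallyEtale.of_equiv (e0.restrictScalars A)
  haveI : Algebra.FormallyEtale (FractionRing A) (FractionRing B) :=
    Algebra.FormallyEtale.localization_base (nonZeroDivisors A)
  exact Algebra.FormallyUnramified.isSeparable _ _

end Setup

/-- **The Galois case of purity** (to be supplied by Auslander's theorem + `H80.PurGal`):
freeness of a normal Galois cover of a regular local ring of dimension `≥ 2` which is etale over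
the punctured spectrum. -/
def GalFree : Prop :=
  ∀ (A : Type u) [CommRing A] [IsRegularLocalRing A] (_ : (2 : WithBot ℕ∞) ≤ ringKrullDim A)
    (S : Type u) [CommRing S] [IsDomain S] [IsIntegrallyClosed S] [Algebra A S] [Module.Finite A S]
    [FaithfulSMul A S] (G : Type u) [Group G] [Finite G] [MulSemiringAction G S]
    [SMulCommClass G A S] [FaithfulSMul G S] [Algebra.IsInvariant A S G],
    (∀ (q : Ideal S) (_ : q.IsPrime), q.comap (algebraMap A S) ≠ maximalIdeal A →
      Algebra.IsEtaleAt A q) → Module.Free A S

section Abstract

variable (A B K L E : Type u) [CommRing A] [IsRegularLocalRing A] [IsDomain A]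
  [IsIntegrallyClosed A]
  [CommRing B] [IsDomain B] [IsIntegrallyClosed B] [Algebra A B] [Module.Finite A B]
  [FaithfulSMul A B]
  [Field K] [Field L] [Field E] [Algebra A K] [IsFractionRing A K] [Algebra B L]
  [IsFractionRing B L] [Algebra K L] [Algebra A L] [IsScalarTower A K L] [IsScalarTower A B L]
  [FiniteDimensional K L] [Algebra K E] [Algebra A E] [IsScalarTower A K E] [Algebra L E]
  [IsScalarTower K L E] [FiniteDimensional K E] [IsGalois K E]

/-- the integral closure of `A` in `E` is etale over `A` at the primes not above the maximal
ideal. -/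
theorem isEtaleAt_integralClosure (hE : ⨆ σ : L →ₐ[K] E, σ.fieldRange = ⊤)
    (h : ∀ (q : Ideal B) (_ : q.IsPrime), q.comap (algebraMap A B) ≠ maximalIdeal A →
      Algebra.IsEtaleAt A q)
    (Q : Ideal (integralClosure A E)) (hQ : Q.IsPrime)
    (hQm : Q.comap (algebraMap A (integralClosure A E)) ≠ maximalIdeal A) :
    Algebra.IsEtaleAt A Q := by
  have hle : Q.comap (algebraMap A (integralClosure A E)) ≤ maximalIdeal A :=
    le_maximalIdeal (Ideal.comap_ne_top _ hQ.ne_top)
  obtain ⟨f, hfm, hfQ⟩ : ∃ f ∈ maximalIdeal A, f ∉ Q.comap (algebraMap A (integralClosure A E)) := by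
    by_contra hcon
    push Not at hcon
    exact hQm (le_antisymm hle hcon)
  have hf0 : f ≠ 0 := fun h0 => hfQ (h0 ▸ Ideal.zero_mem _)
  have hf : ↑(PrimeSpectrum.basicOpen (algebraMap A B f)) ⊆ Algebra.etaleLocus A B := by
    intro q hq
    refine h q.asIdeal q.2 fun hqm => hq ?_
    have : f ∈ q.asIdeal.comap (algebraMap A B) := hqm ▸ hfm
    exact this
  have key := basicOpen_subset_etaleLocus_integralClosure A B K L E hE f hf0 hf
  exact key (show (⟨Q, hQ⟩ : PrimeSpectrum (integralClosure A E)) ∈
    (PrimeSpectrum.basicOpen (algebraMap A (integralClosure A E) f) : Set _) from hfQ)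

set_option maxHeartbeats 1600000 in
/-- **Reduction of purity to the Galois case**, abstract form. -/
theorem etale_of_galFree_aux (hgal : GalFree.{u}) (hA : (2 : WithBot ℕ∞) ≤ ringKrullDim A)
    (hE : ⨆ σ : L →ₐ[K] E, σ.fieldRange = ⊤)
    (h : ∀ (q : Ideal B) (_ : q.IsPrime), q.comap (algebraMap A B) ≠ maximalIdeal A →
      Algebra.IsEtaleAt A q) : Algebra.Etale A B := by
  classical
  -- the normal Galois cover `S`
  haveI : Algebra.IsSeparable K E := IsGalois.to_isSeparable
  haveI hSfin : Module.Finite A (integralClosure A E) :=
    IsIntegralClosure.finite A K E (integralClosure A E)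
  haveI : IsNoetherianRing (integralClosure A E) := IsNoetherianRing.of_finite A _
  haveI : IsIntegrallyClosed (integralClosure A E) :=
    integralClosure.isIntegrallyClosedOfFiniteExtension K
  have hinjAE : Function.Injective (algebraMap A E) := by
    rw [IsScalarTower.algebraMap_eq A K E]
    exact (algebraMap K E).injective.comp (IsFractionRing.injective A K)
  haveI : FaithfulSMul A (integralClosure A E) := by
    rw [faithfulSMul_iff_algebraMap_injective]
    intro a b hab
    exact hinjAE (congrArg Subtype.val hab)
  haveI : IsFractionRing (integralClosure A E) E :=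
    IsIntegralClosure.isFractionRing_of_finite_extension A K E (integralClosure A E)
  letI act : MulSemiringAction Gal(E/K) (integralClosure A E) :=
    IsIntegralClosure.MulSemiringAction A K E (integralClosure A E)
  have hact : ∀ (g : Gal(E/K)) (s : integralClosure A E), ((g • s : integralClosure A E) : E) = g s :=
    fun g s => algebraMap_galRestrict_apply A g s
  haveI : SMulCommClass Gal(E/K) A (integralClosure A E) := ⟨fun g a s => by
    apply Subtype.ext
    rw [hact]
    change g (a • (s : E)) = a • ((g • s : integralClosure A E) : E)
    rw [hact, Algebra.smul_def, Algebra.smul_def, map_mul, IsScalarTower.algebraMap_apply A K E,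
      AlgEquiv.commutes]⟩
  haveI : FaithfulSMul Gal(E/K) (integralClosure A E) := ⟨fun {g g'} hgg' => by
    apply AlgEquiv.coe_ringEquiv_injective
    apply RingEquiv.toRingHom_injective
    apply IsLocalization.ringHom_ext (nonZeroDivisors (integralClosure A E))
    ext s
    have := congrArg Subtype.val (hgg' s)
    rw [hact, hact] at this
    exact this⟩
  haveI : Algebra.IsInvariant A (integralClosure A E) Gal(E/K) :=
    Algebra.isInvariant_of_isGalois A K E (integralClosure A E)
  -- etaleness over the punctured spectrum
  have hSet : ∀ (Q : Ideal (integralClosure A E)) (hQ : Q.IsPrime),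
      Q.comap (algebraMap A (integralClosure A E)) ≠ maximalIdeal A → Algebra.IsEtaleAt A Q :=
    fun Q hQ hQm => isEtaleAt_integralClosure A B K L E hE h Q hQ hQm
  -- the Galois case
  haveI hfree : Module.Free A (integralClosure A E) :=
    hgal A hA (integralClosure A E) Gal(E/K) hSet
  -- an element of trace one
  have hin : ∀ Q : Ideal (integralClosure A E), Q.IsPrime → Q.height ≤ 1 →
      ∀ g g' : Gal(E/K), (∀ t : integralClosure A E, g • t - g' • t ∈ Q) → g = g' := by
    intro Q hQp hQ g g' hgg'
    haveI := hQp
    haveI : Algebra.IsEtaleAt A Q := hSet Q hQp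
      (Groth.Agent.H80.PurGal.comap_ne_maximalIdeal_of_height_le_one A hA Q hQ)
    haveI : Algebra.IsUnramifiedAt A Q := inferInstanceAs
      (Algebra.FormallyUnramified A (Localization.AtPrime Q))
    exact Groth.Agent.H80.PurGal.inertia_trivial_of_unramified A Q g g' hgg'
  obtain ⟨lam, hlam⟩ := exists_linearMap_one_eq_one A (S := integralClosure A E)
  obtain ⟨c₀, hc₀⟩ := exists_sum_smul_eq_one A hin lam hlam
  -- the embedding of `B`
  haveI : IsScalarTower A L E := IsScalarTower.to₁₃₄ A K L E
  have hintB : ∀ b : B, IsIntegral A (algebraMap L E (algebraMap B L b)) := fun b =>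
    ((Algebra.IsIntegral.isIntegral (R := A) b).algebraMap).algebraMap
  let ι : B →ₐ[A] integralClosure A E :=
    { toFun := fun b => ⟨algebraMap L E (algebraMap B L b), hintB b⟩
      map_one' := Subtype.ext (by simp)
      map_mul' := fun x y => Subtype.ext (by simp)
      map_zero' := Subtype.ext (by simp)
      map_add' := fun x y => Subtype.ext (by simp)
      commutes' := fun a => Subtype.ext (by
        change algebraMap L E (algebraMap B L (algebraMap A B a)) = algebraMap A E a
        rw [← IsScalarTower.algebraMap_apply A B L, IsScalarTower.algebraMap_apply A K L,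
          ← IsScalarTower.algebraMap_apply K L E, ← IsScalarTower.algebraMap_apply A K E]) }
  have hι : Function.Injective ι := by
    intro x y hxy
    have := congrArg Subtype.val hxy
    exact IsFractionRing.injective B L ((algebraMap L E).injective this)
  -- the subgroup fixing `L`
  let L' : IntermediateField K E := (IsScalarTower.toAlgHom K L E).fieldRange
  let H : Subgroup Gal(E/K) := L'.fixingSubgroup
  haveI : Fintype H := Fintype.ofFinite _
  have hH : ∀ s : integralClosure A E,
      (∀ k : H, (k : Gal(E/K)) • s = s) ↔ s ∈ Set.range ι := by
    intro s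
    constructor
    · intro hs
      have h1 : (s : E) ∈ IntermediateField.fixedField H := by
        rw [IntermediateField.mem_fixedField_iff]
        intro g hg
        have := congrArg Subtype.val (hs ⟨g, hg⟩)
        rwa [hact] at this
      rw [IsGalois.fixedField_fixingSubgroup] at h1
      obtain ⟨x, hx⟩ := h1
      have hxint : IsIntegral A x := by
        have h2 : IsIntegral A (s : E) := s.2
        rw [← hx] at h2
        exact (isIntegral_algebraMap_iff (algebraMap L E).injective).mp h2
      obtain ⟨b, rfl⟩ := IsIntegrallyClosed.algebraMap_eq_of_integral (hxint.tower_top (A := B))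
      exact ⟨b, Subtype.ext hx⟩
    · rintro ⟨b, rfl⟩ ⟨g, hg⟩
      apply Subtype.ext
      rw [hact]
      exact (IntermediateField.mem_fixingSubgroup_iff _ _).mp hg _ ⟨algebraMap B L b, rfl⟩
  have hproj : Module.Projective A B := projective_of_invariants H ι hι hH c₀ hc₀
  haveI : Module.Flat A B := inferInstance
  exact Groth.Agent.H97.PurityFlat.etale_of_punctured A B hA fun q hq => h q.asIdeal q.2 hq

end Abstract

/-- **Reduction of ring-level Zariski–Nagata purity (S0248) to the Galois case.** -/
theorem purity_of_galFree (hgal : GalFree.{u}) (A B : Type u) [CommRing A] [IsRegularLocalRing A]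
    (hA : (2 : WithBot ℕ∞) ≤ ringKrullDim A) [CommRing B] [IsDomain B] [IsIntegrallyClosed B]
    [Algebra A B] [Module.Finite A B] (hinj : Function.Injective (algebraMap A B))
    (h : ∀ (q : Ideal B) (_ : q.IsPrime), q.comap (algebraMap A B) ≠ maximalIdeal A →
      Algebra.IsEtaleAt A q) : Algebra.Etale A B := by
  haveI : IsDomain A := Groth.Agent.Lead.RLR.isDomain A
  haveI : IsIntegrallyClosed A := Groth.Agent.H14.isIntegrallyClosed_of_isRegularLocalRing A
  haveI : FaithfulSMul A B := (faithfulSMul_iff_algebraMap_injective A B).mpr hinj
  haveI := finiteDimensional_fractionRing A B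
  have hm : maximalIdeal A ≠ ⊥ := by
    intro hm
    have hf : IsField A := isField_iff_maximalIdeal_eq.mpr hm
    have h0 : ringKrullDim A = 0 := by
      letI := hf.toField
      exact ringKrullDim_eq_zero_of_field A
    rw [h0] at hA
    exact absurd hA (by norm_num)
  have hbot : (⊥ : Ideal B).comap (algebraMap A B) ≠ maximalIdeal A := by
    rw [Ideal.comap_bot_of_injective _ hinj]
    exact hm.symm
  haveI : Algebra.IsSeparable (FractionRing A) (FractionRing B) :=
    isSeparable_fractionRing A B (h ⊥ Ideal.isPrime_bot hbot)
  haveI : Normal (FractionRing A) (AlgebraicClosure (FractionRing B)) :=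
    IsAlgClosure.normal _ _
  haveI : Algebra.IsSeparable (FractionRing A)
      (IntermediateField.normalClosure (FractionRing A) (FractionRing B)
        (AlgebraicClosure (FractionRing B))) := by
    haveI : ∀ σ : FractionRing B →ₐ[FractionRing A] AlgebraicClosure (FractionRing B),
        Algebra.IsSeparable (FractionRing A) σ.fieldRange := fun σ =>
      AlgEquiv.Algebra.isSeparable (AlgEquiv.ofInjectiveField σ)
    exact IntermediateField.isSeparable_iSup _ _
  haveI : IsGalois (FractionRing A)
      (IntermediateField.normalClosure (FractionRing A) (FractionRing B)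
        (AlgebraicClosure (FractionRing B))) := {}
  have hE : ⨆ σ : FractionRing B →ₐ[FractionRing A]
      (IntermediateField.normalClosure (FractionRing A) (FractionRing B)
        (AlgebraicClosure (FractionRing B))), σ.fieldRange = ⊤ :=
    (Algebra.IsAlgebraic.isNormalClosure_iff.mp inferInstance).2
  exact etale_of_galFree_aux A B (FractionRing A) (FractionRing B)
    (IntermediateField.normalClosure (FractionRing A) (FractionRing B)
      (AlgebraicClosure (FractionRing B))) hgal hA hE h

end Groth.Agent.H3.PurRed

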