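import Mathlib.FieldTheory.PurelyInseparable.Basic
import Mathlib.LinearAlgebra.TensorProduct.RightExactness
import Mathlib.RingTheory.LocalRing.ResidueField.Basic
import Mathlib.RingTheory.IntegralClosure.Algebra.Basic
import Mathlib.RingTheory.Ideal.GoingUp
import Mathlib.RingTheory.TensorProduct.Maps

/-!
# Tensor products with an integral local algebra with purely inseparable residue extension

Let `P → X`, `P → Y` be local homomorphisms of local rings, `Y` integral over `P` with purely
inseparable residue field extension.  Then a ring map `X ⊗_P Y → Z` to a local ring which is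
local on both factors reflects units.
-/

set_option autoImplicit false
universe u

open TensorProduct IsLocalRing

namespace Groth.Agent.H3

namespace PurelyInsepTensorLocal

variable {P X Y : Type u} [CommRing P] [IsLocalRing P] [CommRing X] [IsLocalRing X]
  [CommRing Y] [IsLocalRing Y]
  [Algebra P X] [Algebra P Y] [IsLocalHom (algebraMap P X)] [IsLocalHom (algebraMap P Y)]

variable (P X Y) in
/-- the ideal generated by the two maximal ideals -/
noncomputable abbrev N : Ideal (X ⊗[P] Y) :=
  (maximalIdeal X).map (Algebra.TensorProduct.includeLeft : X →ₐ[P] X ⊗[P] Y) ⊔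
    (maximalIdeal Y).map (Algebra.TensorProduct.includeRight : Y →ₐ[P] X ⊗[P] Y)

theorem ker_toAlgHom_residue (R : Type u) [CommRing R] [IsLocalRing R] [Algebra P R] :
    RingHom.ker (IsScalarTower.toAlgHom P R (ResidueField R)) = maximalIdeal R := by
  ext x
  rw [RingHom.mem_ker]
  change algebraMap R (ResidueField R) x = 0 ↔ _
  rw [ResidueField.algebraMap_eq, residue_eq_zero_iff]

/-- every element of `X ⊗ Y` has a power congruent to an element of `X` modulo `N` -/
theorem exists_pow_sub_mem [IsPurelyInseparable (ResidueField P) (ResidueField Y)]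
    (e : X ⊗[P] Y) : ∃ n > 0, ∃ c : X, e ^ n - c ⊗ₜ[P] (1 : Y) ∈ N P X Y := by
  let resX : X →ₐ[P] ResidueField X := IsScalarTower.toAlgHom P X (ResidueField X)
  let resY : Y →ₐ[P] ResidueField Y := IsScalarTower.toAlgHom P Y (ResidueField Y)
  have hsX : Function.Surjective resX := residue_surjective
  have hsY : Function.Surjective resY := residue_surjective
  let π' := Algebra.TensorProduct.map resX resY
  have hker : RingHom.ker π' = N P X Y := by
    rw [Algebra.TensorProduct.map_ker resX resY hsX hsY, ker_toAlgHom_residue,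
      ker_toAlgHom_residue]
  -- the comparison map from the tensor product over the residue field
  let incR : ResidueField Y →ₐ[ResidueField P] (ResidueField X) ⊗[P] (ResidueField Y) :=
    { (Algebra.TensorProduct.includeRight :
        ResidueField Y →ₐ[P] (ResidueField X) ⊗[P] (ResidueField Y)).toRingHom with
      commutes' := by
        intro a
        obtain ⟨a, rfl⟩ := residue_surjective a
        change (1 : ResidueField X) ⊗ₜ[P] (algebraMap (ResidueField P) (ResidueField Y)
          (residue P a)) = (algebraMap (ResidueField P) (ResidueField X) (residue P a)) ⊗ₜ[P] 1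
        rw [ResidueField.algebraMap_residue, ResidueField.algebraMap_residue,
          ← ResidueField.algebraMap_eq, ← ResidueField.algebraMap_eq,
          ← IsScalarTower.algebraMap_apply, ← IsScalarTower.algebraMap_apply,
          Algebra.algebraMap_eq_smul_one a, Algebra.algebraMap_eq_smul_one (A := ResidueField X) a,
          TensorProduct.smul_tmul] }
  let ω' : (ResidueField X) ⊗[ResidueField P] (ResidueField Y) →ₐ[ResidueField P]
      (ResidueField X) ⊗[P] (ResidueField Y) :=
    Algebra.TensorProduct.lift (Algebra.TensorProduct.includeLeft) incR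
      (fun _ _ => Commute.all _ _)
  have hω : ∀ (l : ResidueField X) (y : ResidueField Y), ω' (l ⊗ₜ y) = l ⊗ₜ[P] y := by
    intro l y
    rw [Algebra.TensorProduct.lift_tmul]
    change (l ⊗ₜ[P] (1 : ResidueField Y)) * ((1 : ResidueField X) ⊗ₜ[P] y) = _
    rw [Algebra.TensorProduct.tmul_mul_tmul, mul_one, one_mul]
  have hωsurj : Function.Surjective ω' := by
    intro z
    induction z using TensorProduct.induction_on with
    | zero => exact ⟨0, map_zero _⟩
    | tmul l y => exact ⟨l ⊗ₜ y, hω l y⟩
    | add z₁ z₂ h₁ h₂ =>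
      obtain ⟨w₁, rfl⟩ := h₁
      obtain ⟨w₂, rfl⟩ := h₂
      exact ⟨w₁ + w₂, map_add _ _ _⟩
  obtain ⟨z, hz⟩ := hωsurj (π' e)
  obtain ⟨n, hn, l, hl⟩ := IsPurelyInseparable.exists_pow_mem_range_tensorProduct
    (k := ResidueField P) (K := ResidueField Y) (R := ResidueField X) z
  obtain ⟨c, rfl⟩ := residue_surjective l
  refine ⟨n, hn, c, ?_⟩
  rw [← hker, RingHom.mem_ker, map_sub, map_pow, ← hz, ← map_pow, ← hl,
    Algebra.TensorProduct.algebraMap_apply, Algebra.algebraMap_self, RingHom.id_apply, hω,
    Algebra.TensorProduct.map_tmul, map_one]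
  exact sub_self _

variable [Algebra.IsIntegral P Y]

/-- `N` lies in every maximal ideal -/
theorem N_le_of_isMaximal (M : Ideal (X ⊗[P] Y)) [hM : M.IsMaximal] : N P X Y ≤ M := by
  have h1 : (M.comap (algebraMap X (X ⊗[P] Y))).IsMaximal :=
    Ideal.isMaximal_comap_of_isIntegral_of_isMaximal M
  have h2 : M.comap (algebraMap X (X ⊗[P] Y)) = maximalIdeal X := IsLocalRing.eq_maximalIdeal h1
  have hX : (maximalIdeal X).map (Algebra.TensorProduct.includeLeft : X →ₐ[P] X ⊗[P] Y) ≤ M := by
    rw [Ideal.map_le_iff_le_comap, ← h2]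
    exact le_rfl
  refine sup_le hX ?_
  -- the prime of `Y`
  let PY : Ideal Y := M.comap (Algebra.TensorProduct.includeRight : Y →ₐ[P] X ⊗[P] Y).toRingHom
  have hPYprime : PY.IsPrime := Ideal.comap_isPrime _ M
  have hle : maximalIdeal P ≤ PY.comap (algebraMap P Y) := by
    intro a ha
    rw [Ideal.mem_comap, Ideal.mem_comap]
    change (1 : X) ⊗ₜ[P] (algebraMap P Y a) ∈ M
    have h3 : (1 : X) ⊗ₜ[P] (algebraMap P Y a) = (algebraMap P X a) ⊗ₜ[P] (1 : Y) := by
      rw [Algebra.algebraMap_eq_smul_one a, Algebra.algebraMap_eq_smul_one (A := X) a,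
        TensorProduct.smul_tmul]
    rw [h3]
    apply hX
    apply Ideal.mem_map_of_mem
    have h4 := ((local_hom_TFAE (algebraMap P X)).out 0 3).mp
      (inferInstance : IsLocalHom (algebraMap P X))
    exact h4 ha
  have hPc : (PY.comap (algebraMap P Y)).IsPrime := Ideal.comap_isPrime _ PY
  have heq : maximalIdeal P = PY.comap (algebraMap P Y) :=
    (IsLocalRing.maximalIdeal.isMaximal P).eq_of_le hPc.ne_top hle
  have hPYmax : PY.IsMaximal := by
    apply Ideal.isMaximal_of_isIntegral_of_isMaximal_comap (R := P) PY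
    rw [← heq]
    infer_instance
  have h5 : PY = maximalIdeal Y := IsLocalRing.eq_maximalIdeal hPYmax
  rw [Ideal.map_le_iff_le_comap, ← h5]
  exact le_rfl

/-- a ring map out of `X ⊗ Y`, local on both factors, reflects units -/
theorem isUnit_of_isUnit_map [IsPurelyInseparable (ResidueField P) (ResidueField Y)]
    {Z : Type u} [CommRing Z] [IsLocalRing Z] (μ : X ⊗[P] Y →+* Z)
    (hX : ∀ x ∈ maximalIdeal X, μ (x ⊗ₜ 1) ∈ maximalIdeal Z)
    (hY : ∀ y ∈ maximalIdeal Y, μ (1 ⊗ₜ y) ∈ maximalIdeal Z)
    (e : X ⊗[P] Y) (he : IsUnit (μ e)) : IsUnit e := by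
  by_contra hnu
  obtain ⟨M, hM, heM⟩ := exists_max_ideal_of_mem_nonunits hnu
  have hNM := N_le_of_isMaximal M
  obtain ⟨n, hn, c, hc⟩ := exists_pow_sub_mem (P := P) e
  -- `c` lies in the maximal ideal
  have hcM : c ⊗ₜ[P] (1 : Y) ∈ M := by
    have h1 : c ⊗ₜ[P] (1 : Y) = e ^ n - (e ^ n - c ⊗ₜ[P] (1 : Y)) := by ring
    rw [h1]
    exact Ideal.sub_mem _ (Ideal.pow_mem_of_mem _ heM n hn) (hNM hc)
  have hcm : c ∈ maximalIdeal X := by
    by_contra hcu
    have h1 : IsUnit c := IsLocalRing.notMem_maximalIdeal.mp hcu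
    have h2 : IsUnit (c ⊗ₜ[P] (1 : Y)) :=
      h1.map (Algebra.TensorProduct.includeLeft : X →ₐ[P] X ⊗[P] Y)
    exact hM.ne_top (Ideal.eq_top_of_isUnit_mem _ hcM h2)
  -- `N` maps into the maximal ideal of `Z`
  have hNZ : N P X Y ≤ (maximalIdeal Z).comap μ := by
    refine sup_le ?_ ?_
    · rw [Ideal.map_le_iff_le_comap]
      intro x hx
      exact hX x hx
    · rw [Ideal.map_le_iff_le_comap]
      intro y hy
      exact hY y hy
  have h3 : e ^ n ∈ (maximalIdeal Z).comap μ := by
    have h1 : e ^ n = (e ^ n - c ⊗ₜ[P] (1 : Y)) + c ⊗ₜ[P] (1 : Y) := by ring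
    rw [h1]
    exact Ideal.add_mem _ (hNZ hc) (hX c hcm)
  rw [Ideal.mem_comap, map_pow] at h3
  have h4 : μ e ∈ maximalIdeal Z := Ideal.IsPrime.mem_of_pow_mem inferInstance n h3
  exact (IsLocalRing.mem_maximalIdeal _).mp h4 he

end PurelyInsepTensorLocal

end Groth.Agent.H3
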