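import Groth.Agent.H3.QILiftPieces
import Groth.Agent.H3.IdemDescent
import Groth.Agent.H15.MTKer5

/-!
# Lifting quasi-isotrivial groups of multiplicative type along a nil ideal

The base `Spec R/I` is decomposed into finitely many open and closed pieces on which the type is
constant (descent of idempotents along the etale cover given by the charts), each piece is lifted
by the single-type lifting, and the lifts are assembled into a product.
-/

set_option autoImplicit false
set_option linter.unusedSectionVars false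
set_option linter.style.haveILetI false
universe u
open scoped TensorProduct

namespace Groth.Agent.H3.QILift

open Groth.Agent.H26 Groth.Agent.H15.MTC Groth.Agent.H3.Idem Groth.Agent.H3.ChartLoc
  Groth.Agent.H3.TwDesc

section Family

variable (R : Type u) [CommRing R] (I : Ideal R) (hI : ∀ x ∈ I, IsNilpotent x)
  (A₀ : Type u) [CommRing A₀] [HopfAlgebra (R ⧸ I) A₀]
  (J : Type u) [Fintype J] (T : J → Type u) [∀ j, CommRing (T j)] [∀ j, Algebra (R ⧸ I) (T j)]
  [∀ j, Algebra.Etale (R ⧸ I) (T j)]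
  (N : J → Type u) [∀ j, CommGroup (N j)]

include hI in
/-- a group over `R/I` with a finite etale atlas of charts lifts -/
theorem exists_lift_of_family (hch : ∀ j, HasDChart (R ⧸ I) A₀ (T j) (N j))
    (hcov : ∀ 𝔭 : PrimeSpectrum (R ⧸ I), ∃ j, ∃ 𝔮 : PrimeSpectrum (T j),
      PrimeSpectrum.comap (algebraMap (R ⧸ I) (T j)) 𝔮 = 𝔭) :
    ∃ (A : Type u) (_ : CommRing A) (_ : HopfAlgebra R A),
      SGA3b.IsQuasiIsotrivial R A ∧ Nonempty (((R ⧸ I) ⊗[R] A) ≃ₐc[R ⧸ I] A₀) := by
  classical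
  let r : Setoid J :=
    { r := fun j j' => Nonempty (N j ≃* N j')
      iseqv :=
        { refl := fun j => ⟨MulEquiv.refl _⟩
          symm := fun ⟨e⟩ => ⟨e.symm⟩
          trans := fun ⟨e⟩ ⟨e'⟩ => ⟨e.trans e'⟩ } }
  let cl : J → Quotient r := Quotient.mk r
  haveI : Module.Flat (R ⧸ I) (∀ j, T j) := inferInstance
  haveI : Module.FaithfullyFlat (R ⧸ I) (∀ j, T j) :=
    Module.FaithfullyFlat.of_comap_surjective (comap_surjective_pi T hcov)
  have hr : ∀ j j', cl j ≠ cl j' → Subsingleton (T j ⊗[R ⧸ I] T j') := by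
    intro j j' hne
    by_contra hns
    rw [not_subsingleton_iff_nontrivial] at hns
    obtain ⟨e⟩ := Groth.Agent.H15.MTQ.nonempty_mulEquiv_of_algHom (T j ⊗[R ⧸ I] T j') (T j) (T j')
      Algebra.TensorProduct.includeLeft Algebra.TensorProduct.includeRight (hch j) (hch j')
    exact hne (Quotient.sound ⟨e⟩)
  obtain ⟨ē, hē, hēT⟩ := Groth.Agent.H3.IdemDescent.exists_idem T cl hr
  have hker : ∀ x ∈ RingHom.ker (Ideal.Quotient.mk I), IsNilpotent x := by
    intro x hx
    rw [Ideal.mk_ker] at hx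
    exact hI x hx
  obtain ⟨E, hE, hEē⟩ := CompleteOrthogonalIdempotents.lift_of_isNilpotent_ker
    (Ideal.Quotient.mk I) hker hē (fun c => by
      obtain ⟨x, hx⟩ := Ideal.Quotient.mk_surjective (I := I) (ē c)
      exact RingHom.mem_range.mpr ⟨x, hx⟩)
  have hEē' : ∀ c, Ideal.Quotient.mk I (E c) = ē c := fun c => congrFun hEē c
  have hcl : ∀ (c : Quotient r) (j : {j // cl j = c}), Nonempty (N j.1 ≃* N (Quotient.out c)) := by
    intro c j
    have h1 : cl j.1 = cl (Quotient.out c) := by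
      rw [j.2]
      exact (Quotient.out_eq c).symm
    exact Quotient.exact h1
  refine exists_lift_of_pieces R I hI A₀ E hE (fun c => ∀ j : {j // cl j = c}, T j.1)
    (fun c => N (Quotient.out c)) ?_ ?_ ?_
  · intro c
    funext j
    change algebraMap (R ⧸ I) (T j.1) (Ideal.Quotient.mk I (E c)) = 1
    rw [hEē', hēT, if_pos j.2]
  · intro c 𝔭 h𝔭
    obtain ⟨j, 𝔮, h𝔮⟩ := hcov 𝔭
    have hj : cl j = c := by
      by_contra hne
      apply h𝔭
      rw [← h𝔮, PrimeSpectrum.comap_asIdeal, Ideal.mem_comap, hEē', hēT, if_neg hne]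
      exact zero_mem _
    refine ⟨PrimeSpectrum.comap (Pi.evalRingHom (fun j : {j // cl j = c} => T j.1) ⟨j, hj⟩) 𝔮, ?_⟩
    rw [← h𝔮]
    rfl
  · intro c
    exact hasDChart_pi (fun j : {j // cl j = c} => T j.1)
      (fun j => hasDChart_congr_group (hch j.1) (hcl c j).some)

end Family

/-- a chart of a quasi-isotrivial group over a basic open, seen over the base -/
structure FamPack (R₀ : Type u) [CommRing R₀] (A₀ : Type u) [CommRing A₀] [HopfAlgebra R₀ A₀]
    (f : R₀) where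
  /-- the chart ring -/
  T : Type u
  [cr : CommRing T]
  [alg : Algebra R₀ T]
  etale : Algebra.Etale R₀ T
  /-- the type -/
  N : Type u
  [grp : CommGroup N]
  chart : HasDChart R₀ A₀ T N
  cov : ∀ 𝔭 : PrimeSpectrum R₀, f ∉ 𝔭.asIdeal →
    ∃ 𝔮 : PrimeSpectrum T, PrimeSpectrum.comap (algebraMap R₀ T) 𝔮 = 𝔭

attribute [instance] FamPack.cr FamPack.alg FamPack.grp

section Pack

variable (R₀ : Type u) [CommRing R₀] (A₀ : Type u) [CommRing A₀] [HopfAlgebra R₀ A₀]

theorem exists_famPack (f : R₀)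
    (h : SGA3b.IsQuasiIsotrivialConst (Localization.Away f) (Localization.Away f ⊗[R₀] A₀)) :
    Nonempty (FamPack R₀ A₀ f) := by
  obtain ⟨R', _, _, het, hff, M, _, ⟨e⟩⟩ := h
  letI : Algebra R₀ R' :=
    ((algebraMap (Localization.Away f) R').comp (algebraMap R₀ (Localization.Away f))).toAlgebra
  haveI : IsScalarTower R₀ (Localization.Away f) R' :=
    IsScalarTower.of_algebraMap_eq (fun _ => rfl)
  haveI : Algebra.Etale R₀ (Localization.Away f) := Algebra.Etale.of_isLocalizationAway f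
  haveI : Algebra.Etale R₀ R' := Algebra.Etale.comp R₀ (Localization.Away f) R'
  have h1 : HasDChart (Localization.Away f) (Localization.Away f ⊗[R₀] A₀) R' M :=
    HasDChart.of_equiv e
  have h2 : HasDChart R₀ A₀ R' M := HasDChart.of_baseChange (Localization.Away f) h1
  refine ⟨{ T := R', etale := inferInstance, N := M, chart := h2, cov := ?_ }⟩
  intro 𝔭 h𝔭
  have hdisj : Disjoint (Submonoid.powers f : Set R₀) (𝔭.asIdeal : Set R₀) := by
    rw [Set.disjoint_left]
    rintro x ⟨n, rfl⟩ hx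
    exact h𝔭 (𝔭.isPrime.mem_of_pow_mem n hx)
  have hprime : (𝔭.asIdeal.map (algebraMap R₀ (Localization.Away f))).IsPrime :=
    IsLocalization.isPrime_of_isPrime_disjoint (Submonoid.powers f) _ _ 𝔭.isPrime hdisj
  have hcomap : (𝔭.asIdeal.map (algebraMap R₀ (Localization.Away f))).comap
      (algebraMap R₀ (Localization.Away f)) = 𝔭.asIdeal :=
    IsLocalization.comap_map_of_isPrime_disjoint (Submonoid.powers f) _ 𝔭.isPrime hdisj
  obtain ⟨𝔮, h𝔮⟩ := PrimeSpectrum.comap_surjective_of_faithfullyFlat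
    (A := Localization.Away f) (B := R')
    ⟨𝔭.asIdeal.map (algebraMap R₀ (Localization.Away f)), hprime⟩
  refine ⟨𝔮, ?_⟩
  apply PrimeSpectrum.ext
  have h3 : (PrimeSpectrum.comap (algebraMap R₀ R') 𝔮).asIdeal =
      ((PrimeSpectrum.comap (algebraMap (Localization.Away f) R') 𝔮).asIdeal).comap
        (algebraMap R₀ (Localization.Away f)) := rfl
  rw [h3, h𝔮]
  exact hcomap

end Pack

section Final

/-- quasi-isotrivial groups of multiplicative type lift along nil ideals -/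
theorem exists_quasiIsotrivial_lift (R : Type u) [CommRing R] (I : Ideal R)
    (hI : ∀ x ∈ I, IsNilpotent x) (A₀ : Type u) [CommRing A₀] [HopfAlgebra (R ⧸ I) A₀]
    (h0 : SGA3b.IsQuasiIsotrivial (R ⧸ I) A₀) :
    ∃ (A : Type u) (_ : CommRing A) (_ : HopfAlgebra R A),
      SGA3b.IsQuasiIsotrivial R A ∧ Nonempty (((R ⧸ I) ⊗[R] A) ≃ₐc[R ⧸ I] A₀) := by
  obtain ⟨s, hs, hloc⟩ := h0
  obtain ⟨t, hts, ht⟩ := (Ideal.span_eq_top_iff_finite s).mp hs
  have hpk : ∀ f : {f // f ∈ t}, Nonempty (FamPack (R ⧸ I) A₀ f.1) :=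
    fun f => exists_famPack (R ⧸ I) A₀ f.1 (hloc f.1 (hts f.2))
  let pk := fun f => (hpk f).some
  haveI : ∀ f, Algebra.Etale (R ⧸ I) (pk f).T := fun f => (pk f).etale
  refine exists_lift_of_family R I hI A₀ {f // f ∈ t} (fun f => (pk f).T) (fun f => (pk f).N)
    (fun f => (pk f).chart) ?_
  intro 𝔭
  have h1 : ∃ f ∈ t, f ∉ 𝔭.asIdeal := by
    by_contra hcon
    push_neg at hcon
    have h2 : Ideal.span (t : Set (R ⧸ I)) ≤ 𝔭.asIdeal := Ideal.span_le.mpr (fun f hf => hcon f hf)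
    rw [ht, top_le_iff] at h2
    exact 𝔭.isPrime.ne_top h2
  obtain ⟨f, hf, hf𝔭⟩ := h1
  obtain ⟨𝔮, h𝔮⟩ := (pk ⟨f, hf⟩).cov 𝔭 hf𝔭
  exact ⟨⟨f, hf⟩, 𝔮, h𝔮⟩

end Final

end Groth.Agent.H3.QILift
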