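import Groth.Agent.H15.MTBC

/-!
# The comparison map on a piece, for the lifting of quasi-isotrivial groups
-/

set_option autoImplicit false
set_option linter.unusedSectionVars false
universe u
open scoped TensorProduct

namespace Groth.Agent.H3.QILift

open Groth.Agent.H26 Groth.Agent.H15.MTC

section PieceMap

variable {R : Type u} [CommRing R] {A : Type u} [CommRing A] [HopfAlgebra R A]
  {S : Type u} [CommRing S] [Algebra R S]
  {Ac : Type u} [CommRing Ac] [HopfAlgebra S Ac] [Algebra R Ac] [IsScalarTower R S Ac]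
  (pr : A →ₐ[R] Ac)
  {S₀ : Type u} [CommRing S₀] [Algebra S S₀] [Algebra R S₀] [IsScalarTower R S S₀]
  (R₀ : Type u) [CommRing R₀] [Algebra R R₀] [Algebra R₀ S₀] [IsScalarTower R R₀ S₀]
  {H : Type u} [CommRing H] [HopfAlgebra S₀ H] [Algebra R₀ H] [IsScalarTower R₀ S₀ H]
  [Algebra R H] [IsScalarTower R S₀ H] [IsScalarTower R R₀ H]
  (ζ : S₀ ⊗[S] Ac ≃ₐc[S₀] H)

include ζ in
/-- from a chart `A → Ac` over `S` and an identification of the reduction of `Ac` with `H`, a chart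
`R₀ ⊗ A → H` -/
theorem exists_piece_map (hprco : IsCoalgMapOver S pr.toLinearMap)
    (hprbc : IsBaseChange S pr.toLinearMap) :
    ∃ p : R₀ ⊗[R] A →ₐ[R₀] H, IsCoalgMapOver S₀ p.toLinearMap ∧ IsBaseChange S₀ p.toLinearMap := by
  let inc : Ac →ₐ[S] S₀ ⊗[S] Ac := Algebra.TensorProduct.includeRight
  let w : A →ₐ[R] S₀ ⊗[S] Ac := (inc.restrictScalars R).comp pr
  let g : A →ₐ[R] H := ((ζ : S₀ ⊗[S] Ac →ₐ[S₀] H).restrictScalars R).comp w
  have hwco : IsCoalgMapOver S₀ w.toLinearMap := by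
    have h1 := IsCoalgMapOver.comp (S₁ := S) (S₂ := S₀) (isCoalgMapOver_inc (R := S) S₀ Ac) hprco
    exact h1
  have hwbc : IsBaseChange S₀ w.toLinearMap := by
    have h1 := hprbc.comp (TensorProduct.isBaseChange S Ac S₀)
    exact h1
  have hgco : IsCoalgMapOver S₀ g.toLinearMap := by
    have h1 := IsCoalgMapOver.comp (S₁ := S₀) (S₂ := S₀)
      (isCoalgMapOver_of_coalgHom (ζ : S₀ ⊗[S] Ac →ₗc[S₀] H)) hwco
    exact h1
  have hgbc : IsBaseChange S₀ g.toLinearMap := by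
    have h1 := hwbc.comp (IsBaseChange.ofEquiv ζ.toLinearEquiv)
    exact h1
  exact ⟨liftAlg R₀ g, isCoalgMapOver_liftAlg R₀ hgco, isBaseChange_liftAlg R₀ hgbc⟩

end PieceMap

end Groth.Agent.H3.QILift
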