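import Groth.Agent.H3.TwDescNil
import Groth.Agent.H3.IdemProdHopf
import Groth.Agent.H3.ChartGlue
import Groth.Agent.H3.ChartTransport
import Groth.Agent.H3.IdemPieceAlg
import Groth.Agent.H3.QIPiece

/-!
# Lifting a quasi-isotrivial group which has constant type on the pieces of an idempotent
decomposition
-/

set_option autoImplicit false
set_option linter.unusedSectionVars false
set_option linter.style.haveILetI false
universe u
open scoped TensorProduct

namespace Groth.Agent.H3.QILift

open Groth.Agent.H26 Groth.Agent.H15.MTC Groth.Agent.H3.Idem Groth.Agent.H3.ChartLoc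
  Groth.Agent.H3.TwDesc

/-- the output of the single-type lifting -/
structure LiftPack (S : Type u) [CommRing S] (Ic : Ideal S) (A₀' : Type u) [CommRing A₀']
    [HopfAlgebra (S ⧸ Ic) A₀'] where
  /-- the lifted Hopf algebra -/
  A : Type u
  [cr : CommRing A]
  [hopf : HopfAlgebra S A]
  /-- the cover -/
  T : Type u
  [crT : CommRing T]
  [algT : Algebra S T]
  etale : Algebra.Etale S T
  ff : Module.FaithfullyFlat S T
  /-- the type -/
  M : Type u
  [grp : CommGroup M]
  chart : HasDChart S A T M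
  /-- the reduction -/
  red : ((S ⧸ Ic) ⊗[S] A) ≃ₐc[S ⧸ Ic] A₀'

attribute [instance] LiftPack.cr LiftPack.hopf LiftPack.crT LiftPack.algT LiftPack.grp

section Pieces

variable (R : Type u) [CommRing R] (I : Ideal R) (hI : ∀ x ∈ I, IsNilpotent x)
  (A₀ : Type u) [CommRing A₀] [HopfAlgebra (R ⧸ I) A₀]
  {ι : Type u} [Fintype ι] (E : ι → R) (hE : CompleteOrthogonalIdempotents E)
  (T₀ : ι → Type u) [∀ c, CommRing (T₀ c)] [∀ c, Algebra (R ⧸ I) (T₀ c)]
  [∀ c, Algebra.Etale (R ⧸ I) (T₀ c)]
  (M : ι → Type u) [∀ c, CommGroup (M c)]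

include hI hE in
theorem exists_pack
    (hT1 : ∀ c, algebraMap (R ⧸ I) (T₀ c) (Ideal.Quotient.mk I (E c)) = 1)
    (hcov : ∀ c, ∀ 𝔭 : PrimeSpectrum (R ⧸ I), Ideal.Quotient.mk I (E c) ∉ 𝔭.asIdeal →
      ∃ 𝔮 : PrimeSpectrum (T₀ c), PrimeSpectrum.comap (algebraMap (R ⧸ I) (T₀ c)) 𝔮 = 𝔭)
    (hch : ∀ c, HasDChart (R ⧸ I) A₀ (T₀ c) (M c)) (c : ι) :
    Nonempty (LiftPack (Localization.Away (E c)) (I.map (algebraMap R (Localization.Away (E c))))
      ((Localization.Away (E c) ⧸ I.map (algebraMap R (Localization.Away (E c)))) ⊗[R ⧸ I] A₀)) := by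
  have hS : IsPiece R (E c) (Localization.Away (E c)) := isPiece_away (hE.idem c)
  have hS₀ : IsPiece (R ⧸ I) (Ideal.Quotient.mk I (E c))
      (Localization.Away (E c) ⧸ I.map (algebraMap R (Localization.Away (E c)))) :=
    isPiece_quotient I hS (hE.idem c)
  have hē : IsIdempotentElem (Ideal.Quotient.mk I (E c)) := (hE.idem c).map _
  have hnil : ∀ x ∈ I.map (algebraMap R (Localization.Away (E c))), IsNilpotent x :=
    Groth.Agent.H15.MTC.map_nil _ I hI
  letI : Algebra (Localization.Away (E c) ⧸ I.map (algebraMap R (Localization.Away (E c))))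
      (T₀ c) := hS₀.algebraOf (T₀ c) (hT1 c)
  haveI : IsScalarTower (R ⧸ I)
      (Localization.Away (E c) ⧸ I.map (algebraMap R (Localization.Away (E c)))) (T₀ c) :=
    hS₀.isScalarTower_algebraOf (T₀ c) (hT1 c)
  haveI : Algebra.Etale
      (Localization.Away (E c) ⧸ I.map (algebraMap R (Localization.Away (E c)))) (T₀ c) :=
    hS₀.etale (T₀ c)
  haveI : Module.Flat
      (Localization.Away (E c) ⧸ I.map (algebraMap R (Localization.Away (E c)))) (T₀ c) :=
    inferInstance
  haveI : Module.FaithfullyFlat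
      (Localization.Away (E c) ⧸ I.map (algebraMap R (Localization.Away (E c)))) (T₀ c) :=
    hS₀.faithfullyFlat_of_cover (T₀ c) hē (hcov c)
  have hch' : HasDChart
      (Localization.Away (E c) ⧸ I.map (algebraMap R (Localization.Away (E c))))
      ((Localization.Away (E c) ⧸ I.map (algebraMap R (Localization.Away (E c)))) ⊗[R ⧸ I] A₀)
      (T₀ c) (M c) := (hch c).baseChange _
  obtain ⟨A, _, _, T, _, _, het, hff, hchart, ⟨red⟩⟩ :=
    exists_lift_of_nil (Localization.Away (E c)) (I.map (algebraMap R (Localization.Away (E c))))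
      hnil _ (T₀ c) (M c) hch'
  exact ⟨{ A := A, T := T, etale := het, ff := hff, M := M c, chart := hchart, red := red }⟩

end Pieces

section Assemble

variable (R : Type u) [CommRing R] (I : Ideal R)
  (A₀ : Type u) [CommRing A₀] [HopfAlgebra (R ⧸ I) A₀]
  {ι : Type u} [Fintype ι] (E : ι → R) (hE : CompleteOrthogonalIdempotents E)
  (A : Type u) [CommRing A] [HopfAlgebra R A]
  (pk : ∀ c, LiftPack (Localization.Away (E c)) (I.map (algebraMap R (Localization.Away (E c))))
    ((Localization.Away (E c) ⧸ I.map (algebraMap R (Localization.Away (E c)))) ⊗[R ⧸ I] A₀))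
  [∀ c, Algebra R (pk c).A] [∀ c, IsScalarTower R (Localization.Away (E c)) (pk c).A]
  (pr : ∀ c, A →ₐ[R] (pk c).A)

include hE in
/-- assembling the lifts on the pieces -/
theorem assemble
    (hprco : ∀ c, IsCoalgMapOver (Localization.Away (E c)) (pr c).toLinearMap)
    (hprbc : ∀ c, IsBaseChange (Localization.Away (E c)) (pr c).toLinearMap) :
    SGA3b.IsQuasiIsotrivial R A ∧ Nonempty (((R ⧸ I) ⊗[R] A) ≃ₐc[R ⧸ I] A₀) := by
  classical
  have hS : ∀ c, IsPiece R (E c) (Localization.Away (E c)) := fun c => isPiece_away (hE.idem c)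
  have hS₀ : ∀ c, IsPiece (R ⧸ I) (Ideal.Quotient.mk I (E c))
      (Localization.Away (E c) ⧸ I.map (algebraMap R (Localization.Away (E c)))) :=
    fun c => isPiece_quotient I (hS c) (hE.idem c)
  have hē : CompleteOrthogonalIdempotents (fun c => Ideal.Quotient.mk I (E c)) :=
    hE.map (Ideal.Quotient.mk I)
  constructor
  · refine ⟨Set.range E, ?_, ?_⟩
    · rw [Ideal.eq_top_iff_one, ← hE.complete]
      exact Ideal.sum_mem _ (fun c _ => Ideal.subset_span ⟨c, rfl⟩)
    · rintro f ⟨c, rfl⟩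
      obtain ⟨e1⟩ := nonempty_bialgEquiv_of_chart (liftAlg (Localization.Away (E c)) (pr c))
        (isCoalgMapOver_liftAlg (Localization.Away (E c)) (hprco c))
        (isBaseChange_liftAlg (Localization.Away (E c)) (hprbc c))
      have h1 : HasDChart (Localization.Away (E c))
          (Localization.Away (E c) ⊗[R] A) (pk c).T (pk c).M :=
        hasDChart_of_bialgEquiv e1 (pk c).chart
      obtain ⟨e2⟩ := (h1.baseChange (pk c).T).nonempty_equiv
      exact ⟨(pk c).T, inferInstance, inferInstance, (pk c).etale, (pk c).ff, (pk c).M,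
        inferInstance, ⟨e2⟩⟩
  · have hp : ∀ c, ∃ p : (R ⧸ I) ⊗[R] A →ₐ[R ⧸ I]
        (Localization.Away (E c) ⧸ I.map (algebraMap R (Localization.Away (E c)))) ⊗[R ⧸ I] A₀,
        IsCoalgMapOver
          (Localization.Away (E c) ⧸ I.map (algebraMap R (Localization.Away (E c))))
          p.toLinearMap ∧
        IsBaseChange
          (Localization.Away (E c) ⧸ I.map (algebraMap R (Localization.Away (E c))))
          p.toLinearMap := by
      intro c
      exact exists_piece_map (pr c) (R ⧸ I) (pk c).red (hprco c) (hprbc c)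
    choose p hpco hpbc using hp
    let p' : ∀ c, A₀ →ₐ[R ⧸ I]
        (Localization.Away (E c) ⧸ I.map (algebraMap R (Localization.Away (E c)))) ⊗[R ⧸ I] A₀ :=
      fun c => Algebra.TensorProduct.includeRight
    have hp'bc : ∀ c, IsBaseChange
        (Localization.Away (E c) ⧸ I.map (algebraMap R (Localization.Away (E c))))
        (p' c).toLinearMap := fun c => TensorProduct.isBaseChange (R ⧸ I) A₀ _
    have hp'co : ∀ c, IsCoalgMapOver
        (Localization.Away (E c) ⧸ I.map (algebraMap R (Localization.Away (E c))))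
        (p' c).toLinearMap := fun c => isCoalgMapOver_inc _ A₀
    have hfin := nonempty_bialgEquiv_of_pieces (K := R ⧸ I) (B := (R ⧸ I) ⊗[R] A) (B' := A₀)
      (L := fun c => Localization.Away (E c) ⧸ I.map (algebraMap R (Localization.Away (E c))))
      (H := fun c =>
        (Localization.Away (E c) ⧸ I.map (algebraMap R (Localization.Away (E c)))) ⊗[R ⧸ I] A₀)
      hē hS₀ p p'
    exact hfin hpbc hpco hp'bc hp'co

end Assemble

section Pieces2

variable (R : Type u) [CommRing R] (I : Ideal R) (hI : ∀ x ∈ I, IsNilpotent x)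
  (A₀ : Type u) [CommRing A₀] [HopfAlgebra (R ⧸ I) A₀]
  {ι : Type u} [Fintype ι] (E : ι → R) (hE : CompleteOrthogonalIdempotents E)
  (T₀ : ι → Type u) [∀ c, CommRing (T₀ c)] [∀ c, Algebra (R ⧸ I) (T₀ c)]
  [∀ c, Algebra.Etale (R ⧸ I) (T₀ c)]
  (M : ι → Type u) [∀ c, CommGroup (M c)]

include hI hE in
/-- a group over `R/I` with constant type on the pieces of an idempotent decomposition lifts -/
theorem exists_lift_of_pieces
    (hT1 : ∀ c, algebraMap (R ⧸ I) (T₀ c) (Ideal.Quotient.mk I (E c)) = 1)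
    (hcov : ∀ c, ∀ 𝔭 : PrimeSpectrum (R ⧸ I), Ideal.Quotient.mk I (E c) ∉ 𝔭.asIdeal →
      ∃ 𝔮 : PrimeSpectrum (T₀ c), PrimeSpectrum.comap (algebraMap (R ⧸ I) (T₀ c)) 𝔮 = 𝔭)
    (hch : ∀ c, HasDChart (R ⧸ I) A₀ (T₀ c) (M c)) :
    ∃ (A : Type u) (_ : CommRing A) (_ : HopfAlgebra R A),
      SGA3b.IsQuasiIsotrivial R A ∧ Nonempty (((R ⧸ I) ⊗[R] A) ≃ₐc[R ⧸ I] A₀) := by
  classical
  have hS : ∀ c, IsPiece R (E c) (Localization.Away (E c)) := fun c => isPiece_away (hE.idem c)
  have hpk := exists_pack R I hI A₀ E hE T₀ M hT1 hcov hch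
  let pk := fun c => (hpk c).some
  letI : ∀ c, Algebra R (pk c).A := fun c =>
    ((algebraMap (Localization.Away (E c)) (pk c).A).comp
      (algebraMap R (Localization.Away (E c)))).toAlgebra
  haveI : ∀ c, IsScalarTower R (Localization.Away (E c)) (pk c).A := fun c =>
    IsScalarTower.of_algebraMap_eq (fun _ => rfl)
  letI hopfA : HopfAlgebra R (∀ c, (pk c).A) := prodHopf hE hS (fun c => (pk c).A)
  exact ⟨∀ c, (pk c).A, inferInstance, hopfA,
    assemble R I A₀ E hE (∀ c, (pk c).A) pk (fun c => Pi.evalAlgHom R (fun c => (pk c).A) c)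
      (fun c => (proj_chart hE hS (fun c => (pk c).A) c).1)
      (fun c => (proj_chart hE hS (fun c => (pk c).A) c).2)⟩

end Pieces2

end Groth.Agent.H3.QILift
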