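import Mathlib.RingTheory.Etale.Field
import Mathlib.FieldTheory.IsSepClosed
import Mathlib.RingTheory.LocalRing.ResidueField.Basic
import Mathlib.RingTheory.TensorProduct.Maps

set_option autoImplicit false
universe u

namespace Groth.Agent.H3

open IsLocalRing TensorProduct

/-- A point of an etale algebra over a local ring `R` with separably closed residue field `K`,
with values in a field extension `L` of `K`, takes values in `K`. -/
theorem exists_algebraMap_eq_of_etale (R : Type u) [CommRing R] [IsLocalRing R]
    [IsSepClosed (ResidueField R)] (E : Type u) [CommRing E] [Algebra R E] [Algebra.Etale R E]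
    (L : Type*) [Field L] [Algebra R L] [Algebra (ResidueField R) L]
    [IsScalarTower R (ResidueField R) L] (σ' : E →ₐ[R] L) (a : E) :
    ∃ k : ResidueField R, σ' a = algebraMap (ResidueField R) L k := by
  classical
  let K := ResidueField R
  let σK : K ⊗[R] E →ₐ[K] L :=
    Algebra.TensorProduct.lift (Algebra.ofId K L) σ' (fun _ _ => Commute.all _ _)
  have hσK : σK ((1 : K) ⊗ₜ[R] a) = σ' a := by
    simp [σK]
  obtain ⟨I, hI, Ai, hfield, halg, iso, hsep⟩ :=
    (Algebra.Etale.iff_exists_algEquiv_prod (K := K) (A := K ⊗[R] E)).mp inferInstance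
  have := Fintype.ofFinite I
  have hsurj : ∀ i, Function.Surjective (algebraMap K (Ai i)) := by
    intro i
    have := (hsep i).2
    exact IsSepClosed.algebraMap_surjective K (Ai i)
  set x := iso ((1 : K) ⊗ₜ[R] a) with hx
  choose k hk using fun i => hsurj i (x i)
  have hprod : ∏ i, (x - algebraMap K (∀ i, Ai i) (k i)) = 0 := by
    funext j
    rw [Finset.prod_apply]
    refine Finset.prod_eq_zero (Finset.mem_univ j) ?_
    simp [hk j]
  let ψ : (∀ i, Ai i) →ₐ[K] L := σK.comp iso.symm.toAlgHom
  have hψx : ψ x = σ' a := by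
    simp only [ψ, hx, AlgHom.comp_apply]
    rw [← hσK]
    congr 1
    exact iso.symm_apply_apply _
  have h2 := congrArg ψ hprod
  rw [map_prod, map_zero, Finset.prod_eq_zero_iff] at h2
  obtain ⟨i, -, hi⟩ := h2
  rw [map_sub, AlgHom.commutes, hψx, sub_eq_zero] at hi
  exact ⟨k i, hi⟩

/-- A point of an etale algebra over a local ring `R` with separably closed residue field `K`,
with values in a field extension `L` of `K`, comes from a `K`-valued point. -/
theorem exists_algHom_residueField_of_etale (R : Type u) [CommRing R] [IsLocalRing R]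
    [IsSepClosed (ResidueField R)] (E : Type u) [CommRing E] [Algebra R E] [Algebra.Etale R E]
    (L : Type*) [Field L] [Algebra R L] [Algebra (ResidueField R) L]
    [IsScalarTower R (ResidueField R) L] (σ' : E →ₐ[R] L) :
    ∃ σ : E →ₐ[R] ResidueField R, ∀ a, algebraMap (ResidueField R) L (σ a) = σ' a := by
  let ι : ResidueField R →ₐ[R] L := IsScalarTower.toAlgHom R (ResidueField R) L
  have hinj : Function.Injective ι := (algebraMap (ResidueField R) L).injective
  have h : ∀ a, σ' a ∈ ι.range := by
    intro a
    obtain ⟨k, hk⟩ := exists_algebraMap_eq_of_etale R E L σ' a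
    exact ⟨k, hk.symm⟩
  refine ⟨(AlgEquiv.ofInjective ι hinj).symm.toAlgHom.comp (σ'.codRestrict ι.range h), ?_⟩
  intro a
  set y : ι.range := σ'.codRestrict ι.range h a with hy
  have h1 : ((AlgEquiv.ofInjective ι hinj) ((AlgEquiv.ofInjective ι hinj).symm y) : L) = y := by
    rw [AlgEquiv.apply_symm_apply]
  rw [AlgEquiv.ofInjective_apply] at h1
  exact h1

end Groth.Agent.H3
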