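import Groth.Agent.H3.StrictHensTensorPrime
import Groth.Agent.H3.HensQFFinite

/-!
# The prime `Q` of `R^sh ⊗_R S` is maximal when the residue extension is algebraic
-/

set_option autoImplicit false
universe u

open TensorProduct IsLocalRing

namespace Groth.Agent.H3

namespace StrictHensClosedPt

open HensTensorPrime

variable (R : Type u) [CommRing R] (S : Type u) [CommRing S] [Algebra R S]
  (q : Ideal S) [q.IsPrime]
  (Rh : Type u) [CommRing Rh] [IsLocalRing Rh] [Algebra R Rh]
  (Sh : Type u) [CommRing Sh] [IsLocalRing Sh] [Algebra (Localization.AtPrime q) Sh]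
  [IsLocalHom (algebraMap (Localization.AtPrime q) Sh)] [Algebra S Sh]
  [IsScalarTower S (Localization.AtPrime q) Sh] [Algebra R Sh] [IsScalarTower R S Sh]
  [Algebra Rh Sh] [IsScalarTower R Rh Sh] [IsLocalHom (algebraMap Rh Sh)]

/-- the image of `R^sh ⊗_R S` in the residue field of `S^sh`, as a subalgebra over the residue
field of `R^sh` -/
noncomputable def imageSubalgebra : Subalgebra (ResidueField Rh) (ResidueField Sh) where
  carrier := Set.range fun d : Rh ⊗[R] S => residue Sh (phi R S Rh Sh d)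
  mul_mem' := by
    rintro _ _ ⟨a, rfl⟩ ⟨b, rfl⟩
    exact ⟨a * b, by simp only [map_mul]⟩
  one_mem' := ⟨1, by simp only [map_one]⟩
  add_mem' := by
    rintro _ _ ⟨a, rfl⟩ ⟨b, rfl⟩
    exact ⟨a + b, by simp only [map_add]⟩
  zero_mem' := ⟨0, by simp only [map_zero]⟩
  algebraMap_mem' := by
    intro x
    obtain ⟨r, rfl⟩ := residue_surjective x
    refine ⟨r ⊗ₜ 1, ?_⟩
    change residue Sh (phi R S Rh Sh (r ⊗ₜ 1)) = _
    rw [phi_tmul_one, ResidueField.algebraMap_residue]

theorem isMaximal_Q [Algebra.IsAlgebraic (ResidueField Rh) (ResidueField Sh)] :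
    (Q R S Rh Sh).IsMaximal := by
  rw [Ideal.isMaximal_iff]
  refine ⟨?_, ?_⟩
  · intro h1
    have : (1 : Sh) ∈ maximalIdeal Sh := by
      have h2 : phi R S Rh Sh 1 ∈ maximalIdeal Sh := h1
      rwa [map_one] at h2
    exact (Ideal.ne_top_iff_one _).mp (IsLocalRing.maximalIdeal.isMaximal Sh).ne_top this
  · intro J d hQJ hdQ hdJ
    set y : ResidueField Sh := residue Sh (phi R S Rh Sh d) with hy
    have hy0 : y ≠ 0 := by
      intro h0
      apply hdQ
      change phi R S Rh Sh d ∈ maximalIdeal Sh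
      exact (residue_eq_zero_iff _).mp h0
    have hymem : y ∈ imageSubalgebra R S Rh Sh := ⟨d, rfl⟩
    have hint : IsIntegral (ResidueField Rh) y :=
      (Algebra.IsAlgebraic.isAlgebraic (R := ResidueField Rh) y).isIntegral
    obtain ⟨d', hd'⟩ := hint.inv_mem hymem
    have h3 : d * d' - 1 ∈ Q R S Rh Sh := by
      change phi R S Rh Sh (d * d' - 1) ∈ maximalIdeal Sh
      rw [← residue_eq_zero_iff, map_sub, map_mul, map_sub, map_mul, map_one]
      change y * residue Sh (phi R S Rh Sh d') - 1 = 0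
      have h4 : residue Sh (phi R S Rh Sh d') = y⁻¹ := hd'
      rw [h4, mul_inv_cancel₀ hy0, sub_self]
    have h5 : d * d' - (d * d' - 1) ∈ J := J.sub_mem (J.mul_mem_right _ hdJ) (hQJ h3)
    have h6 : d * d' - (d * d' - 1) = 1 := by ring
    rwa [h6] at h5

end StrictHensClosedPt

end Groth.Agent.H3
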