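import Groth.Agent.H3.StrictHensTrBasis
import Groth.Agent.H3.StrictHensBaseEquiv
import Groth.Agent.H3.StrictHensMain
import Mathlib.RingTheory.LocalRing.ResidueField.Ideal
import Mathlib.RingTheory.Localization.Integral

/-!
# The strict henselization at a prime of an algebra over a local ring, as the strict henselization
at a closed point after a strictly henselian base change
-/

set_option autoImplicit false
universe u

open TensorProduct IsLocalRing

namespace Groth.Agent.H3

namespace StrictHensFTCore

section Beta

variable (R₀ : Type u) [CommRing R₀] [IsLocalRing R₀] (B : Type u) [CommRing B] [Algebra R₀ B]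
  (q : Ideal B) [q.IsPrime] [hlie : q.LiesOver (maximalIdeal R₀)]
  (A : Type u) [CommRing A] [IsLocalRing A] [Algebra (Localization.AtPrime q) A]
  [IsLocalHom (algebraMap (Localization.AtPrime q) A)]

/-- the map to the residue field of `A` -/
noncomputable def beta : B →+* ResidueField A :=
  (residue A).comp ((algebraMap (Localization.AtPrime q) A).comp
    (algebraMap B (Localization.AtPrime q)))

theorem mem_maximalIdeal_iff_of_isLocalHom {R S : Type*} [CommRing R] [CommRing S] [IsLocalRing R]
    [IsLocalRing S] (f : R →+* S) [hf : IsLocalHom f] (x : R) :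
    f x ∈ maximalIdeal S ↔ x ∈ maximalIdeal R := by
  have h04 := (local_hom_TFAE f).out 0 4
  have h := h04.mp hf
  rw [← h, Ideal.mem_comap]

theorem ker_beta : RingHom.ker (beta B q A) = q := by
  ext x
  rw [RingHom.mem_ker]
  change residue A (algebraMap (Localization.AtPrime q) A
    (algebraMap B (Localization.AtPrime q) x)) = 0 ↔ _
  rw [residue_eq_zero_iff, mem_maximalIdeal_iff_of_isLocalHom,
    IsLocalization.AtPrime.to_map_mem_maximal_iff (Localization.AtPrime q) q x]

include hlie in
theorem beta_eq_zero_of_mem {r : R₀} (hr : r ∈ maximalIdeal R₀) :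
    (beta B q A).comp (algebraMap R₀ B) r = 0 := by
  rw [RingHom.comp_apply, ← RingHom.mem_ker, ker_beta]
  have h := hlie.over
  rw [h] at hr
  exact hr

/-- the residue field of `A` as an algebra over the residue field of `R₀` -/
noncomputable def kappaAlg : Algebra (ResidueField R₀) (ResidueField A) :=
  (Ideal.Quotient.lift (maximalIdeal R₀) ((beta B q A).comp (algebraMap R₀ B))
    (fun _ hr => beta_eq_zero_of_mem R₀ B q A hr)).toAlgebra

theorem kappaAlg_residue (r : R₀) :
    letI := kappaAlg R₀ B q A
    algebraMap (ResidueField R₀) (ResidueField A) (residue R₀ r) =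
      beta B q A (algebraMap R₀ B r) := rfl

theorem beta_mem_adjoin (s : Set B) (hs : Algebra.adjoin R₀ s = ⊤) (b : B) :
    letI := kappaAlg R₀ B q A
    beta B q A b ∈ Algebra.adjoin (ResidueField R₀) (beta B q A '' s) := by
  letI := kappaAlg R₀ B q A
  have hb : b ∈ Algebra.adjoin R₀ s := by rw [hs]; exact Algebra.mem_top
  induction hb using Algebra.adjoin_induction with
  | mem x hx => exact Algebra.subset_adjoin ⟨x, hx, rfl⟩
  | algebraMap r =>
    rw [← kappaAlg_residue R₀ B q A r]
    exact Subalgebra.algebraMap_mem _ _
  | add x y _ _ hx hy => rw [map_add]; exact Subalgebra.add_mem _ hx hy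
  | mul x y _ _ hx hy => rw [map_mul]; exact Subalgebra.mul_mem _ hx hy

theorem algebraMap_quot_eq_beta (b : B) :
    algebraMap (ResidueField (Localization.AtPrime q)) (ResidueField A)
      (algebraMap (B ⧸ q) q.ResidueField (Ideal.Quotient.mk q b)) = beta B q A b := by
  rw [Ideal.algebraMap_quotient_residueField_mk]
  exact ResidueField.algebraMap_residue _

include hlie in
theorem isAlgebraic_adjoin [hA : Hensel.IsStrictHenselization (Localization.AtPrime q) A]
    (s : Set B) (hs : Algebra.adjoin R₀ s = ⊤) :
    letI := kappaAlg R₀ B q A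
    Algebra.IsAlgebraic (Algebra.adjoin (ResidueField R₀) (beta B q A '' s)) (ResidueField A) := by
  letI := kappaAlg R₀ B q A
  haveI := hA.isSepClosure.separable
  letI : Algebra (B ⧸ q) (ResidueField A) :=
    ((algebraMap (ResidueField (Localization.AtPrime q)) (ResidueField A)).comp
      (algebraMap (B ⧸ q) q.ResidueField)).toAlgebra
  haveI : IsScalarTower (B ⧸ q) q.ResidueField (ResidueField A) :=
    IsScalarTower.of_algebraMap_eq' rfl
  have hmem : ∀ x : B ⧸ q, algebraMap (B ⧸ q) (ResidueField A) x ∈
      Algebra.adjoin (ResidueField R₀) (beta B q A '' s) := by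
    intro x
    obtain ⟨b, rfl⟩ := Ideal.Quotient.mk_surjective x
    change algebraMap (ResidueField (Localization.AtPrime q)) (ResidueField A)
      (algebraMap (B ⧸ q) q.ResidueField (Ideal.Quotient.mk q b)) ∈ _
    rw [algebraMap_quot_eq_beta]
    exact beta_mem_adjoin R₀ B q A s hs b
  let γ : B ⧸ q →+* Algebra.adjoin (ResidueField R₀) (beta B q A '' s) :=
    RingHom.codRestrict (algebraMap (B ⧸ q) (ResidueField A)) _ hmem
  have hγinj : Function.Injective γ := by
    intro x y hxy
    have h1 : algebraMap (B ⧸ q) (ResidueField A) x = algebraMap (B ⧸ q) (ResidueField A) y :=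
      congrArg Subtype.val hxy
    have h2 : Function.Injective (algebraMap (B ⧸ q) (ResidueField A)) :=
      (algebraMap (ResidueField (Localization.AtPrime q)) (ResidueField A)).injective.comp
        (IsFractionRing.injective (B ⧸ q) q.ResidueField)
    exact h2 h1
  refine ⟨fun z => ?_⟩
  have hz : IsAlgebraic (ResidueField (Localization.AtPrime q)) z :=
    (Algebra.IsSeparable.isIntegral _ z).isAlgebraic
  have hz' : IsAlgebraic (B ⧸ q) z :=
    (IsFractionRing.isAlgebraic_iff (B ⧸ q) q.ResidueField (ResidueField A)).mpr hz
  exact hz'.ringHom_of_comp_eq γ (RingHom.id (ResidueField A)) hγinj (by ext x; rfl)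

end Beta

section Model

open HensTensorPrime

variable (R₀ : Type u) [CommRing R₀] [IsLocalRing R₀] (R : Type u) [CommRing R] [Algebra R₀ R]
  (B : Type u) [CommRing B] [Algebra R₀ B] [Algebra R B] [IsScalarTower R₀ R B]
  (p : Ideal R) [p.IsPrime]
  (q : Ideal B) [q.IsPrime] [hlie : q.LiesOver (maximalIdeal R₀)] [hqp : q.LiesOver p]
  (A : Type u) [CommRing A] [IsLocalRing A] [Algebra (Localization.AtPrime q) A]
  [IsLocalHom (algebraMap (Localization.AtPrime q) A)]
  [hA : Hensel.IsStrictHenselization (Localization.AtPrime q) A]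
  (Rh : Type u) [CommRing Rh] [IsLocalRing Rh] [Algebra (Localization.AtPrime p) Rh]
  [IsLocalHom (algebraMap (Localization.AtPrime p) Rh)]
  [hRh : Hensel.IsStrictHenselization (Localization.AtPrime p) Rh]
  [Algebra R Rh] [IsScalarTower R (Localization.AtPrime p) Rh]

include hlie hqp hA hRh in
/-- the strict henselization `A` of `B_q` is the strict henselization of `R^sh ⊗_R B` at a
maximal ideal over the closed point, when the residue field of `A` is algebraic over the field
generated by the images of a family of elements of `R` -/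
theorem exists_maximal_model {ι : Type u} (x : ι → R)
    (halg : letI := kappaAlg R₀ B q A
      Algebra.IsAlgebraic (Algebra.adjoin (ResidueField R₀)
        (Set.range fun i => beta B q A (algebraMap R B (x i)))) (ResidueField A)) :
    ∃ (Q : Ideal (Rh ⊗[R] B)) (_ : Q.IsMaximal) (_ : Q.LiesOver (maximalIdeal Rh))
      (_ : Algebra (Localization.AtPrime Q) A)
      (_ : IsLocalHom (algebraMap (Localization.AtPrime Q) A)),
      Hensel.IsStrictHenselization (Localization.AtPrime Q) A := by
  classical
  letI := kappaAlg R₀ B q A
  haveI hhA : HenselianLocalRing A := hA.henselian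
  haveI scA : IsSepClosed (ResidueField A) := hA.isSepClosure.sep_closed
  letI aBA : Algebra B A :=
    ((algebraMap (Localization.AtPrime q) A).comp (algebraMap B (Localization.AtPrime q))).toAlgebra
  haveI tBqA : IsScalarTower B (Localization.AtPrime q) A := IsScalarTower.of_algebraMap_eq' rfl
  letI aRA : Algebra R A := ((algebraMap B A).comp (algebraMap R B)).toAlgebra
  haveI tRBA : IsScalarTower R B A := IsScalarTower.of_algebraMap_eq' rfl
  letI aRpA : Algebra (Localization.AtPrime p) A :=
    ((algebraMap (Localization.AtPrime q) A).comp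
      (Localization.localRingHom p q (algebraMap R B) (Ideal.over_def q p))).toAlgebra
  haveI lRpA : IsLocalHom (algebraMap (Localization.AtPrime p) A) := by
    change IsLocalHom (RingHom.comp _ _)
    infer_instance
  haveI tRRpA : IsScalarTower R (Localization.AtPrime p) A := by
    refine IsScalarTower.of_algebraMap_eq fun r => ?_
    change _ = algebraMap (Localization.AtPrime q) A
      (Localization.localRingHom p q (algebraMap R B) _ (algebraMap R _ r))
    rw [Localization.localRingHom_to_map]
    rfl
  obtain ⟨g, hg, hgloc⟩ := StrictHensBaseEquiv.exists_local_map (Localization.AtPrime p) Rh A hRh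
  letI aRhA : Algebra Rh A := g.toAlgebra
  haveI lRhA : IsLocalHom (algebraMap Rh A) := hgloc
  haveI tRpRhA : IsScalarTower (Localization.AtPrime p) Rh A :=
    IsScalarTower.of_algebraMap_eq fun y => (congrArg (fun θ : _ →+* A => θ y) hg).symm
  haveI tRRhA : IsScalarTower R Rh A := by
    refine IsScalarTower.of_algebraMap_eq fun r => ?_
    rw [IsScalarTower.algebraMap_apply R (Localization.AtPrime p) A,
      IsScalarTower.algebraMap_apply (Localization.AtPrime p) Rh A,
      ← IsScalarTower.algebraMap_apply R (Localization.AtPrime p) Rh]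
  -- the residue field extension is algebraic
  haveI hresalg : Algebra.IsAlgebraic (ResidueField Rh) (ResidueField A) := by
    refine ⟨fun z => ?_⟩
    refine StrictHensTrBasis.isAlgebraic_of_le_range
      (Algebra.adjoin (ResidueField R₀) (Set.range fun i => beta B q A (algebraMap R B (x i))))
      ?_ (halg.isAlgebraic z)
    intro s hs
    induction hs using Algebra.adjoin_induction with
    | mem y hy =>
      obtain ⟨i, rfl⟩ := hy
      refine ⟨residue Rh (algebraMap R Rh (x i)), ?_⟩
      rw [ResidueField.algebraMap_residue, ← IsScalarTower.algebraMap_apply R Rh A]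
      rfl
    | algebraMap r =>
      obtain ⟨r, rfl⟩ := residue_surjective r
      refine ⟨residue Rh (algebraMap R Rh (algebraMap R₀ R r)), ?_⟩
      rw [ResidueField.algebraMap_residue, ← IsScalarTower.algebraMap_apply R Rh A,
        kappaAlg_residue R₀ B q A r, IsScalarTower.algebraMap_apply R₀ R B]
      rfl
    | add y z _ _ hy hz => exact Subring.add_mem _ hy hz
    | mul y z _ _ hy hz => exact Subring.mul_mem _ hy hz
  letI aQA : Algebra (Localization.AtPrime (Q R B Rh A)) A := (psi R B Rh A).toAlgebra
  haveI hmax : (Q R B Rh A).IsMaximal := StrictHensClosedPt.isMaximal_Q R B Rh A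
  exact ⟨Q R B Rh A, hmax, HensQFFinite.liesOver_Q R B Rh A,
    aQA, isLocalHom_psi R B Rh A, StrictHensTensorPrime.isStrictHenselization R B p q Rh A⟩

end Model

section Choice

variable (R₀ : Type u) [CommRing R₀] [IsLocalRing R₀] (B : Type u) [CommRing B] [Algebra R₀ B]
  [hft : Algebra.FiniteType R₀ B]
  (q : Ideal B) [q.IsPrime] [hlie : q.LiesOver (maximalIdeal R₀)]
  (A : Type u) [CommRing A] [IsLocalRing A] [Algebra (Localization.AtPrime q) A]
  [IsLocalHom (algebraMap (Localization.AtPrime q) A)]
  [hA : Hensel.IsStrictHenselization (Localization.AtPrime q) A]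

include hft hlie hA in
/-- a finite family of elements of `B` whose images form a transcendence basis of the residue
field of `A` over the residue field of `R₀` -/
theorem exists_transcendenceBasis :
    letI := kappaAlg R₀ B q A
    ∃ (ι : Type u) (_ : Finite ι) (t : ι → B),
      IsTranscendenceBasis (ResidueField R₀) (fun i => beta B q A (t i)) := by
  letI := kappaAlg R₀ B q A
  obtain ⟨s, hs⟩ := hft.out
  haveI := isAlgebraic_adjoin R₀ B q A (↑s) hs
  obtain ⟨u, hu, hub⟩ := exists_isTranscendenceBasis_subset (R := ResidueField R₀)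
    (A := ResidueField A) (beta B q A '' (↑s : Set B))
  have hfin : u.Finite := (s.finite_toSet.image _).subset hu
  have hch : ∀ i : u, ∃ b : B, beta B q A b = i.1 := fun i => by
    obtain ⟨b, -, hb⟩ := hu i.2
    exact ⟨b, hb⟩
  choose t ht using hch
  refine ⟨u, hfin.to_subtype, t, ?_⟩
  have : (fun i => beta B q A (t i)) = ((↑) : u → ResidueField A) := funext ht
  rw [this]
  exact hub

end Choice

section Main

variable (R₀ : Type u) [CommRing R₀] [IsLocalRing R₀]

/-- the extension of the maximal ideal to the polynomial ring -/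
noncomputable abbrev polyPrime (ι : Type u) : Ideal (MvPolynomial ι R₀) :=
  (maximalIdeal R₀).map (MvPolynomial.C : R₀ →+* MvPolynomial ι R₀)

variable (B : Type u) [CommRing B] [Algebra R₀ B]
  [hft : Algebra.FiniteType R₀ B]
  (q : Ideal B) [q.IsPrime] [hlie : q.LiesOver (maximalIdeal R₀)]
  (A : Type u) [CommRing A] [IsLocalRing A] [Algebra (Localization.AtPrime q) A]
  [IsLocalHom (algebraMap (Localization.AtPrime q) A)]
  [hA : Hensel.IsStrictHenselization (Localization.AtPrime q) A]

include hft hlie hA in
/-- the strict henselization of a finite type algebra over a local ring `R₀` at a prime over the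
closed point is the strict henselization at a maximal ideal over the closed point of a finite
type algebra over the strict henselization of `R₀[t_1, …, t_r]` at the extension of the maximal
ideal -/
theorem exists_model :
    ∃ (ι : Type u) (_ : Finite ι) (_ : (polyPrime R₀ ι).IsPrime)
      (D : Type u) (_ : CommRing D) (_ : Algebra (SH.S (Localization.AtPrime (polyPrime R₀ ι))) D)
      (_ : Algebra.FiniteType (SH.S (Localization.AtPrime (polyPrime R₀ ι))) D)
      (Q : Ideal D) (_ : Q.IsMaximal)
      (_ : Q.LiesOver (maximalIdeal (SH.S (Localization.AtPrime (polyPrime R₀ ι)))))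
      (_ : Algebra (Localization.AtPrime Q) A)
      (_ : IsLocalHom (algebraMap (Localization.AtPrime Q) A)),
      Hensel.IsStrictHenselization (Localization.AtPrime Q) A := by
  classical
  letI := kappaAlg R₀ B q A
  obtain ⟨ι, hfin, t, htb⟩ := exists_transcendenceBasis R₀ B q A
  letI aRB : Algebra (MvPolynomial ι R₀) B := (MvPolynomial.aeval t).toAlgebra
  haveI tow : IsScalarTower R₀ (MvPolynomial ι R₀) B := by
    refine IsScalarTower.of_algebraMap_eq fun r => ?_
    change _ = MvPolynomial.aeval t (MvPolynomial.C r)
    rw [MvPolynomial.aeval_C]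
  have hX : ∀ i, algebraMap (MvPolynomial ι R₀) B (MvPolynomial.X i) = t i :=
    fun i => MvPolynomial.aeval_X t i
  have hcomap : q.comap (algebraMap (MvPolynomial ι R₀) B) = polyPrime R₀ ι := by
    have h := StrictHensTrBasis.comap_ker_eq R₀ ι B (ResidueField A) (beta B q A)
      (kappaAlg_residue R₀ B q A) (by simp only [hX]; exact htb.1)
    rwa [ker_beta] at h
  haveI hp : (polyPrime R₀ ι).IsPrime := hcomap ▸ Ideal.comap_isPrime _ q
  haveI hqp : q.LiesOver (polyPrime R₀ ι) := ⟨hcomap.symm⟩
  letI aRRh : Algebra (MvPolynomial ι R₀) (SH.S (Localization.AtPrime (polyPrime R₀ ι))) :=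
    ((algebraMap (Localization.AtPrime (polyPrime R₀ ι))
      (SH.S (Localization.AtPrime (polyPrime R₀ ι)))).comp
        (algebraMap (MvPolynomial ι R₀) (Localization.AtPrime (polyPrime R₀ ι)))).toAlgebra
  haveI : IsScalarTower (MvPolynomial ι R₀) (Localization.AtPrime (polyPrime R₀ ι))
      (SH.S (Localization.AtPrime (polyPrime R₀ ι))) := IsScalarTower.of_algebraMap_eq' rfl
  haveI := SH.isStrictHenselization (Localization.AtPrime (polyPrime R₀ ι))
  have hfun : (fun i => beta B q A (t i)) =
      fun i => beta B q A (algebraMap (MvPolynomial ι R₀) B (MvPolynomial.X i)) :=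
    funext fun i => by rw [hX]
  have halg := htb.isAlgebraic
  rw [hfun] at halg
  obtain ⟨Q, hmax, hlieQ, aQ, lQ, hQ⟩ := exists_maximal_model R₀ (MvPolynomial ι R₀) B
    (polyPrime R₀ ι) q A (SH.S (Localization.AtPrime (polyPrime R₀ ι)))
    (fun i => (MvPolynomial.X i : MvPolynomial ι R₀)) halg
  haveI hftR : Algebra.FiniteType (MvPolynomial ι R₀) B :=
    Algebra.FiniteType.of_restrictScalars_finiteType R₀ (MvPolynomial ι R₀) B
  exact ⟨ι, hfin, hp, SH.S (Localization.AtPrime (polyPrime R₀ ι)) ⊗[MvPolynomial ι R₀] B,
    inferInstance, inferInstance, inferInstance, Q, hmax, hlieQ, aQ, lQ, hQ⟩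

end Main

end StrictHensFTCore

end Groth.Agent.H3
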