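import Groth.Agent.H3.StrictHensFTCore
import Groth.Agent.H3.StrictHensMaxIdeal2
import Groth.Agent.H3.StrictHensUnion
import Groth.Agent.H3.StrictHensUnique
import Groth.Agent.H3.HensUnion
import Groth.Agent.H14.HensProp.UnionNoeth
import Mathlib.RingTheory.DiscreteValuationRing.TFAE

/-!
# The strict henselization of a local ring of a finite type algebra over a discrete valuation ring
-/

set_option autoImplicit false
universe u

open TensorProduct IsLocalRing

namespace Groth.Agent.H3

namespace StrictHensFTDvr

open StrictHensFTCore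

/-- a Noetherian local domain whose maximal ideal is generated by one nonzero element is a discrete
valuation ring -/
theorem isDiscreteValuationRing_of_span {L : Type u} [CommRing L] [IsDomain L] [IsLocalRing L]
    [IsNoetherianRing L] (a : L) (ha : a ≠ 0) (hm : maximalIdeal L = Ideal.span {a}) :
    IsDiscreteValuationRing L := by
  have hnf : ¬ IsField L := by
    rw [IsLocalRing.isField_iff_maximalIdeal_eq, hm, Ideal.span_singleton_eq_bot]
    exact ha
  have h := (IsDiscreteValuationRing.TFAE L hnf).out 0 4
  rw [h]
  exact ⟨⟨a, hm⟩⟩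

/-- the strict henselization of a discrete valuation ring is a discrete valuation ring -/
theorem dvr_strictHenselization (L S : Type u) [CommRing L] [IsDomain L]
    [IsDiscreteValuationRing L] [CommRing S] [IsLocalRing S] [Algebra L S]
    [IsLocalHom (algebraMap L S)] (hS : Hensel.IsStrictHenselization L S) :
    ∃ _ : IsDomain S, IsDiscreteValuationRing S := by
  haveI hff : Module.FaithfullyFlat L S := SH.faithfullyFlat L hS
  have hm : (maximalIdeal L).map (algebraMap L S) = maximalIdeal S :=
    SH.map_maximalIdeal_eq_of_isStrictHenselization L hS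
  haveI hnoeth : IsNoetherianRing S :=
    Groth.Agent.H14.HensProp.isNoetherianRing_of_inEtImage hm
      (fun x => StrictHensUnion.isUnion (R := L) (S := S) x)
  obtain ⟨hdom, -⟩ := (HensUnion.normal_iff (Or.inr hS)).mpr ⟨inferInstance, inferInstance⟩
  obtain ⟨ϖ, hϖ⟩ := IsDiscreteValuationRing.exists_irreducible L
  have hmS : maximalIdeal S = Ideal.span {algebraMap L S ϖ} := by
    rw [← hm, hϖ.maximalIdeal_eq, Ideal.map_span, Set.image_singleton]
  have hne : algebraMap L S ϖ ≠ 0 := by
    intro h0
    exact hϖ.ne_zero (FaithfulSMul.algebraMap_injective L S (by rw [h0, map_zero]))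
  exact ⟨hdom, isDiscreteValuationRing_of_span _ hne hmS⟩

variable (R₀ : Type u) [CommRing R₀] [IsDomain R₀] [IsDiscreteValuationRing R₀]

/-- the localization of a polynomial ring over a discrete valuation ring at the extension of the
maximal ideal is a discrete valuation ring -/
theorem dvr_polyLocalization (ι : Type u) [Finite ι] [hp : (polyPrime R₀ ι).IsPrime] :
    IsDiscreteValuationRing (Localization.AtPrime (polyPrime R₀ ι)) := by
  haveI : IsDomain (Localization.AtPrime (polyPrime R₀ ι)) :=
    IsLocalization.isDomain_localization (Ideal.primeCompl_le_nonZeroDivisors _)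
  haveI : IsNoetherianRing (Localization.AtPrime (polyPrime R₀ ι)) :=
    IsLocalization.isNoetherianRing (polyPrime R₀ ι).primeCompl _ inferInstance
  obtain ⟨ϖ, hϖ⟩ := IsDiscreteValuationRing.exists_irreducible R₀
  have h1 : polyPrime R₀ ι = Ideal.span {(MvPolynomial.C ϖ : MvPolynomial ι R₀)} := by
    change (maximalIdeal R₀).map _ = _
    rw [hϖ.maximalIdeal_eq, Ideal.map_span, Set.image_singleton]
  have hm : maximalIdeal (Localization.AtPrime (polyPrime R₀ ι)) =
      Ideal.span {algebraMap (MvPolynomial ι R₀) (Localization.AtPrime (polyPrime R₀ ι))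
        (MvPolynomial.C ϖ)} := by
    rw [← IsLocalization.AtPrime.map_eq_maximalIdeal (polyPrime R₀ ι)
      (Localization.AtPrime (polyPrime R₀ ι)), ← Set.image_singleton, ← Ideal.map_span]
    exact congrArg _ h1
  refine isDiscreteValuationRing_of_span _ ?_ hm
  intro h0
  have hinj : Function.Injective (algebraMap (MvPolynomial ι R₀)
      (Localization.AtPrime (polyPrime R₀ ι))) :=
    IsLocalization.injective _ (Ideal.primeCompl_le_nonZeroDivisors (polyPrime R₀ ι))
  have h2 : (MvPolynomial.C ϖ : MvPolynomial ι R₀) = 0 := hinj (by rw [h0, map_zero])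
  exact hϖ.ne_zero (MvPolynomial.C_injective ι R₀ (by rw [h2, map_zero]))

variable (B : Type u) [CommRing B] [Algebra R₀ B]
  [hft : Algebra.FiniteType R₀ B]
  (q : Ideal B) [hq : q.IsPrime] [hlie : q.LiesOver (maximalIdeal R₀)]
  (A : Type u) [CommRing A] [IsLocalRing A] [Algebra (Localization.AtPrime q) A]
  [IsLocalHom (algebraMap (Localization.AtPrime q) A)]
  [hA : Hensel.IsStrictHenselization (Localization.AtPrime q) A]

include hft hq hlie hA in
theorem exists_model_dvr :
    ∃ (R' : Type u) (_ : CommRing R') (_ : IsDomain R') (_ : IsDiscreteValuationRing R')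
      (_ : HenselianLocalRing R') (_ : IsSepClosed (ResidueField R'))
      (D : Type u) (_ : CommRing D)
      (_ : Algebra R' D) (_ : Algebra.FiniteType R' D) (Q : Ideal D) (_ : Q.IsMaximal)
      (_ : Q.comap (algebraMap R' D) = maximalIdeal R')
      (_ : Algebra (Localization.AtPrime Q) A)
      (_ : IsLocalHom (algebraMap (Localization.AtPrime Q) A)),
      Hensel.IsStrictHenselization (Localization.AtPrime Q) A := by
  obtain ⟨ι, hfin, hp, D, cD, aD, fD, Q, hQ, hQlie, aQ, lQ, hQA⟩ := exists_model R₀ B q A
  haveI : IsDomain (Localization.AtPrime (polyPrime R₀ ι)) :=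
    IsLocalization.isDomain_localization (Ideal.primeCompl_le_nonZeroDivisors _)
  haveI := dvr_polyLocalization R₀ ι
  have hS := SH.isStrictHenselization (Localization.AtPrime (polyPrime R₀ ι))
  obtain ⟨hdom, hdvr⟩ := dvr_strictHenselization (Localization.AtPrime (polyPrime R₀ ι))
    (SH.S (Localization.AtPrime (polyPrime R₀ ι))) hS
  exact ⟨SH.S (Localization.AtPrime (polyPrime R₀ ι)), inferInstance, hdom, hdvr, hS.henselian,
    hS.isSepClosure.sep_closed, D, cD, aD, fD, Q, hQ, hQlie.over.symm, aQ, lQ, hQA⟩

end StrictHensFTDvr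

end Groth.Agent.H3
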