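import Groth.Agent.H3.StrictHensFTCore
import Groth.Agent.H3.StrictHensMaxIdeal2

/-!
# The strict henselization of a local ring of a finite type algebra over a field
-/

set_option autoImplicit false
universe u

open TensorProduct IsLocalRing

namespace Groth.Agent.H3

namespace StrictHensFTField

open StrictHensFTCore

/-- a local ring with zero maximal ideal is isomorphic to its residue field -/
noncomputable def residueEquiv (S : Type u) [CommRing S] [IsLocalRing S]
    (h : maximalIdeal S = ⊥) : S ≃+* ResidueField S :=
  RingEquiv.ofBijective (residue S) ⟨by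
    rw [injective_iff_map_eq_zero]
    intro a ha
    have h1 : a ∈ maximalIdeal S := (residue_eq_zero_iff a).mp ha
    rwa [h, Ideal.mem_bot] at h1, residue_surjective⟩

variable (k : Type u) [Field k] (B : Type u) [CommRing B] [Algebra k B]
  [hft : Algebra.FiniteType k B]
  (q : Ideal B) [hq : q.IsPrime]
  (A : Type u) [CommRing A] [IsLocalRing A] [Algebra (Localization.AtPrime q) A]
  [IsLocalHom (algebraMap (Localization.AtPrime q) A)]
  [hA : Hensel.IsStrictHenselization (Localization.AtPrime q) A]

include hft hq hA in
theorem exists_model_field :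
    ∃ (k' : Type u) (_ : Field k') (_ : IsSepClosed k') (D : Type u) (_ : CommRing D)
      (_ : Algebra k' D) (_ : Algebra.FiniteType k' D) (Q : Ideal D) (_ : Q.IsMaximal)
      (_ : Algebra (Localization.AtPrime Q) A)
      (_ : IsLocalHom (algebraMap (Localization.AtPrime Q) A)),
      Hensel.IsStrictHenselization (Localization.AtPrime Q) A := by
  have hmk : maximalIdeal k = ⊥ := IsLocalRing.maximalIdeal_eq_bot
  haveI hlie : q.LiesOver (maximalIdeal k) := by
    refine ⟨?_⟩
    rw [hmk]
    rcases Ideal.eq_bot_or_top (q.under k) with h | h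
    · exact h.symm
    · exact absurd h (Ideal.IsPrime.ne_top inferInstance)
  obtain ⟨ι, hfin, hp, D, cD, aD, fD, Q, hQ, hQlie, aQ, lQ, hQA⟩ := exists_model k B q A
  have hpbot : polyPrime k ι = ⊥ := by
    change (maximalIdeal k).map _ = ⊥
    rw [hmk, Ideal.map_bot]
  have hm1 : maximalIdeal (Localization.AtPrime (polyPrime k ι)) = ⊥ := by
    rw [← IsLocalization.AtPrime.map_eq_maximalIdeal (polyPrime k ι)
      (Localization.AtPrime (polyPrime k ι)), eq_bot_iff]
    calc Ideal.map _ (polyPrime k ι) ≤ Ideal.map _ ⊥ := Ideal.map_mono hpbot.le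
      _ = ⊥ := Ideal.map_bot
  have hm2 : maximalIdeal (SH.S (Localization.AtPrime (polyPrime k ι))) = ⊥ := by
    rw [← SH.map_maximalIdeal_eq_of_isStrictHenselization (Localization.AtPrime (polyPrime k ι))
      (SH.isStrictHenselization _), hm1, Ideal.map_bot]
  let e := residueEquiv _ hm2
  letI aD' : Algebra (ResidueField (SH.S (Localization.AtPrime (polyPrime k ι)))) D :=
    ((algebraMap (SH.S (Localization.AtPrime (polyPrime k ι))) D).comp
      e.symm.toRingHom).toAlgebra
  haveI tow : IsScalarTower (SH.S (Localization.AtPrime (polyPrime k ι)))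
      (ResidueField (SH.S (Localization.AtPrime (polyPrime k ι)))) D := by
    refine IsScalarTower.of_algebraMap_eq fun a => ?_
    change _ = algebraMap _ D (e.symm (e a))
    rw [e.symm_apply_apply]
  haveI fD' : Algebra.FiniteType (ResidueField (SH.S (Localization.AtPrime (polyPrime k ι)))) D :=
    Algebra.FiniteType.of_restrictScalars_finiteType
      (SH.S (Localization.AtPrime (polyPrime k ι))) _ D
  exact ⟨ResidueField (SH.S (Localization.AtPrime (polyPrime k ι))), inferInstance,
    (SH.isStrictHenselization (Localization.AtPrime (polyPrime k ι))).isSepClosure.sep_closed,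
    D, cD, aD', fD', Q, hQ, aQ, lQ, hQA⟩

end StrictHensFTField

end Groth.Agent.H3
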