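import Groth.Agent.H3.StrictHensBaseEquiv
import Mathlib.AlgebraicGeometry.Morphisms.FiniteType
import Mathlib.AlgebraicGeometry.Morphisms.QuasiCompact
import Mathlib.AlgebraicGeometry.Morphisms.Affine
import Mathlib.AlgebraicGeometry.Stalk

/-!
# Strict henselizations of local rings of schemes of finite type: passing between rings and schemes
-/

set_option autoImplicit false
universe u

open CategoryTheory AlgebraicGeometry IsLocalRing

namespace Groth.Agent.H3

namespace StrictHensFTScheme

section Output

variable (R' : Type u) [CommRing R'] (D : Type u) [CommRing D] [Algebra R' D]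
  [hft : Algebra.FiniteType R' D] (Q : Ideal D) [hQ : Q.IsMaximal]
  (A : Type u) [CommRing A] [IsLocalRing A]
  [Algebra (Localization.AtPrime Q) A] [IsLocalHom (algebraMap (Localization.AtPrime Q) A)]

include hft hQ in
/-- from a maximal ideal of a finite type algebra to a closed point of a scheme of finite type -/
theorem exists_scheme_model (h : Hensel.IsStrictHenselization (Localization.AtPrime Q) A) :
    ∃ (X' : Scheme.{u}) (f' : X' ⟶ Spec (CommRingCat.of R')) (_ : LocallyOfFiniteType f')
      (_ : QuasiCompact f') (x' : X') (_ : IsClosed ({x'} : Set X'))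
      (_ : f'.base x' = (⟨Q.comap (algebraMap R' D), inferInstance⟩ : PrimeSpectrum R'))
      (_ : Algebra (X'.presheaf.stalk x') A)
      (_ : IsLocalHom (algebraMap (X'.presheaf.stalk x') A)),
      Hensel.IsStrictHenselization (X'.presheaf.stalk x') A := by
  let x' : Spec (CommRingCat.of D) := (⟨Q, inferInstance⟩ : PrimeSpectrum D)
  let St := (Spec (CommRingCat.of D)).presheaf.stalk x'
  letI i1 : Algebra D St := StructureSheaf.stalkAlgebra (CommRingCat.of D) x'
  haveI i5 : IsLocalization.AtPrime St Q := StructureSheaf.IsLocalization.to_stalk (CommRingCat.of D) x'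
  let e : St ≃ₐ[D] Localization.AtPrime Q := IsLocalization.algEquiv Q.primeCompl _ _
  letI aSt : Algebra St A := ((algebraMap (Localization.AtPrime Q) A).comp e.toRingEquiv.toRingHom).toAlgebra
  haveI le : IsLocalHom e.toRingEquiv.toRingHom := by
    refine ⟨fun a ha => ?_⟩
    have h1 : IsUnit (e.symm (e a)) := ha.map e.symm
    rwa [e.symm_apply_apply] at h1
  haveI lSt : IsLocalHom (algebraMap St A) := by
    change IsLocalHom (RingHom.comp _ _)
    infer_instance
  refine ⟨Spec (CommRingCat.of D), Spec.map (CommRingCat.ofHom (algebraMap R' D)), ?_, inferInstance,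
    x', ?_, rfl, aSt, lSt, ?_⟩
  · rw [HasRingHomProperty.Spec_iff (P := @LocallyOfFiniteType)]
    exact RingHom.finiteType_algebraMap.mpr hft
  · exact (PrimeSpectrum.isClosed_singleton_iff_isMaximal _).mpr hQ
  · exact StrictHensBaseEquiv.isStrictHenselization_of_base_ringEquiv e.toRingEquiv (fun _ => rfl) h

end Output

section Input

variable (R₀ : Type u) [CommRing R₀] {X : Scheme.{u}} (f : X ⟶ Spec (CommRingCat.of R₀))
  [hf : LocallyOfFiniteType f] (x : X)
  (A : Type u) [CommRing A] [IsLocalRing A] [Algebra (X.presheaf.stalk x) A]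
  [IsLocalHom (algebraMap (X.presheaf.stalk x) A)]

include hf in
/-- from a point of a scheme locally of finite type to a prime of a finite type algebra -/
theorem exists_ring_model (h : Hensel.IsStrictHenselization (X.presheaf.stalk x) A) :
    ∃ (B : Type u) (_ : CommRing B) (_ : Algebra R₀ B) (_ : Algebra.FiniteType R₀ B) (q : Ideal B)
      (_ : q.IsPrime) (_ : q.comap (algebraMap R₀ B) = (f.base x : PrimeSpectrum R₀).asIdeal)
      (_ : Algebra (Localization.AtPrime q) A)
      (_ : IsLocalHom (algebraMap (Localization.AtPrime q) A)),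
      Hensel.IsStrictHenselization (Localization.AtPrime q) A := by
  obtain ⟨_, ⟨U, hU, rfl⟩, hxU, -⟩ :=
    X.isBasis_affineOpens.exists_subset_of_mem_open (Set.mem_univ x) isOpen_univ
  have hU' : IsAffineOpen U := hU
  have hx : x ∈ U := hxU
  let φ : R₀ →+* Γ(X, U) :=
    (f.appLE ⊤ U le_top).hom.comp (Scheme.ΓSpecIso (CommRingCat.of R₀)).inv.hom
  letI aB : Algebra R₀ Γ(X, U) := φ.toAlgebra
  have hft : Algebra.FiniteType R₀ Γ(X, U) := by
    have h1 : (f.appLE ⊤ U le_top).hom.FiniteType :=
      f.finiteType_appLE (isAffineOpen_top _) hU' le_top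
    have h2 : (Scheme.ΓSpecIso (CommRingCat.of R₀)).inv.hom.FiniteType := by
      apply RingHom.FiniteType.of_surjective
      exact (ConcreteCategory.bijective_of_isIso (Scheme.ΓSpecIso (CommRingCat.of R₀)).inv).2
    have h3 : φ.FiniteType := h1.comp h2
    exact h3
  let y := hU'.primeIdealOf ⟨x, hx⟩
  have hcomap : y.asIdeal.comap (algebraMap R₀ Γ(X, U)) = (f.base x : PrimeSpectrum R₀).asIdeal := by
    have h1 := IsAffineOpen.SpecMap_appLE_fromSpec f (isAffineOpen_top _) hU' le_top
    rw [IsAffineOpen.fromSpec_top, Scheme.isoSpec_Spec_inv] at h1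
    have h2 := congrArg (fun g => g.base y) h1
    simp only [Scheme.Hom.comp_base, TopCat.hom_comp, ContinuousMap.comp_apply] at h2
    rw [hU'.fromSpec_primeIdealOf] at h2
    rw [← h2]
    rfl
  letI aSt := X.presheaf.algebra_section_stalk ⟨x, hx⟩
  haveI iSt := hU'.isLocalization_stalk ⟨x, hx⟩
  let e : Localization.AtPrime y.asIdeal ≃ₐ[Γ(X, U)] X.presheaf.stalk x :=
    IsLocalization.algEquiv y.asIdeal.primeCompl _ _
  letI aLA : Algebra (Localization.AtPrime y.asIdeal) A :=
    ((algebraMap (X.presheaf.stalk x) A).comp e.toRingEquiv.toRingHom).toAlgebra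
  haveI le : IsLocalHom e.toRingEquiv.toRingHom := by
    refine ⟨fun a ha => ?_⟩
    have h1 : IsUnit (e.symm (e a)) := ha.map e.symm
    rwa [e.symm_apply_apply] at h1
  haveI lLA : IsLocalHom (algebraMap (Localization.AtPrime y.asIdeal) A) := by
    change IsLocalHom (RingHom.comp _ _)
    infer_instance
  exact ⟨Γ(X, U), inferInstance, aB, hft, y.asIdeal, inferInstance, hcomap, aLA, lLA,
    StrictHensBaseEquiv.isStrictHenselization_of_base_ringEquiv e.toRingEquiv (fun _ => rfl) h⟩

end Input

end StrictHensFTScheme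

end Groth.Agent.H3
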