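import Groth.Agent.H3.StrictHensBaseEquiv

/-!
# The strict henselization of a finite local algebra is a local ring of `B ⊗_A A^sh`
-/

set_option autoImplicit false
universe u

open TensorProduct IsLocalRing

namespace Groth.Agent.H3

namespace StrictHensFiniteLocal

open HensTensorPrime

/-- the localization of a local ring at its maximal ideal is the ring itself -/
noncomputable def locEquiv (A : Type u) [CommRing A] [IsLocalRing A] :
    A ≃ₐ[A] Localization.AtPrime (maximalIdeal A) :=
  IsLocalization.atUnits A (maximalIdeal A).primeCompl (by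
    intro x hx
    exact IsLocalRing.notMem_maximalIdeal.mp hx)

theorem main (A B S T : Type u) [CommRing A] [IsLocalRing A]
    [CommRing B] [IsLocalRing B] [Algebra A B] [Module.Finite A B]
    [CommRing S] [IsLocalRing S] [Algebra A S] [IsLocalHom (algebraMap A S)]
    [hS : Hensel.IsStrictHenselization A S]
    [CommRing T] [IsLocalRing T] [Algebra B T] [IsLocalHom (algebraMap B T)]
    [hT : Hensel.IsStrictHenselization B T] :
    ∃ (q : Ideal (B ⊗[A] S)) (_ : q.IsMaximal), Nonempty (Localization.AtPrime q ≃ₐ[B] T) := by
  classical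
  haveI : Algebra.IsIntegral A B := Algebra.IsIntegral.of_finite A B
  haveI hlie : (maximalIdeal B).LiesOver (maximalIdeal A) := by
    refine ⟨?_⟩
    have h1 : ((maximalIdeal B).comap (algebraMap A B)).IsMaximal :=
      Ideal.isMaximal_comap_of_isIntegral_of_isMaximal (maximalIdeal B)
    exact (IsLocalRing.eq_maximalIdeal h1).symm
  haveI lAB : IsLocalHom (algebraMap A B) := by
    refine ((local_hom_TFAE (algebraMap A B)).out 0 4).mpr ?_
    exact (Ideal.over_def (maximalIdeal B) (maximalIdeal A)).symm
  letI aAT : Algebra A T := ((algebraMap B T).comp (algebraMap A B)).toAlgebra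
  haveI tABT : IsScalarTower A B T := IsScalarTower.of_algebraMap_eq (fun _ => rfl)
  haveI lAT : IsLocalHom (algebraMap A T) := by
    change IsLocalHom ((algebraMap B T).comp (algebraMap A B))
    exact RingHom.isLocalHom_comp _ _
  haveI hhT : HenselianLocalRing T := hT.henselian
  haveI scT : IsSepClosed (ResidueField T) := hT.isSepClosure.sep_closed
  obtain ⟨g, hg, hgloc⟩ := StrictHensBaseEquiv.exists_local_map A S T hS
  letI aST : Algebra S T := g.toAlgebra
  haveI tAST : IsScalarTower A S T := IsScalarTower.of_algebraMap_eq (fun x =>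
    (congrArg (fun φ : A →+* T => φ x) hg).symm)
  haveI lST : IsLocalHom (algebraMap S T) := hgloc
  -- localizations
  letI aApS : Algebra (Localization.AtPrime (maximalIdeal A)) S :=
    ((algebraMap A S).comp ((locEquiv A).symm : Localization.AtPrime (maximalIdeal A) →+* A)).toAlgebra
  haveI tA : IsScalarTower A (Localization.AtPrime (maximalIdeal A)) S := by
    refine IsScalarTower.of_algebraMap_eq (fun x => ?_)
    change algebraMap A S x = algebraMap A S ((locEquiv A).symm (algebraMap A _ x))
    rw [AlgEquiv.commutes]
    rfl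
  haveI lApS : IsLocalHom (algebraMap (Localization.AtPrime (maximalIdeal A)) S) := by
    change IsLocalHom ((algebraMap A S).comp
      ((locEquiv A).symm : Localization.AtPrime (maximalIdeal A) →+* A))
    exact RingHom.isLocalHom_comp _ _
  haveI hS' : Hensel.IsStrictHenselization (Localization.AtPrime (maximalIdeal A)) S :=
    StrictHensBaseEquiv.isStrictHenselization_of_base_ringEquiv
      ((locEquiv A).symm.toRingEquiv) (fun _ => rfl) hS
  letI aBqT : Algebra (Localization.AtPrime (maximalIdeal B)) T :=
    ((algebraMap B T).comp ((locEquiv B).symm : Localization.AtPrime (maximalIdeal B) →+* B)).toAlgebra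
  haveI tB : IsScalarTower B (Localization.AtPrime (maximalIdeal B)) T := by
    refine IsScalarTower.of_algebraMap_eq (fun x => ?_)
    change algebraMap B T x = algebraMap B T ((locEquiv B).symm (algebraMap B _ x))
    rw [AlgEquiv.commutes]
    rfl
  haveI lBqT : IsLocalHom (algebraMap (Localization.AtPrime (maximalIdeal B)) T) := by
    change IsLocalHom ((algebraMap B T).comp
      ((locEquiv B).symm : Localization.AtPrime (maximalIdeal B) →+* B))
    exact RingHom.isLocalHom_comp _ _
  haveI hT' : Hensel.IsStrictHenselization (Localization.AtPrime (maximalIdeal B)) T :=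
    StrictHensBaseEquiv.isStrictHenselization_of_base_ringEquiv
      ((locEquiv B).symm.toRingEquiv) (fun _ => rfl) hT
  haveI : Algebra.FiniteType A B := inferInstance
  haveI : Algebra.QuasiFiniteAt A (maximalIdeal B) := inferInstance
  have hbij := StrictHensBaseEquiv.psi_bijective A B (maximalIdeal A) (maximalIdeal B) S T
  -- the prime `Q`
  haveI hQlie := HensQFFinite.liesOver_Q A B S T
  haveI : Algebra.IsIntegral S (S ⊗[A] B) := Algebra.IsIntegral.of_finite _ _
  haveI hQmax : (Q A B S T).IsMaximal := by
    apply Ideal.isMaximal_of_isIntegral_of_isMaximal_comap (R := S) (Q A B S T)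
    have := Ideal.over_def (Q A B S T) (maximalIdeal S)
    rw [Ideal.under_def] at this
    rw [← this]
    infer_instance
  let c : B ⊗[A] S ≃ₐ[A] S ⊗[A] B := Algebra.TensorProduct.comm A B S
  have hq'max : ((Q A B S T).comap c.toRingEquiv.toRingHom).IsMaximal :=
    Ideal.comap_isMaximal_of_surjective _ c.surjective
  refine ⟨(Q A B S T).comap c.toRingEquiv.toRingHom, hq'max, ?_⟩
  haveI := hq'max.isPrime
  let l₁ : Localization.AtPrime ((Q A B S T).comap c.toRingEquiv.toRingHom) →+*
      Localization.AtPrime (Q A B S T) :=
    Localization.localRingHom _ (Q A B S T) c.toRingEquiv.toRingHom rfl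
  have hq2 : Q A B S T = ((Q A B S T).comap c.toRingEquiv.toRingHom).comap
      c.symm.toRingEquiv.toRingHom := by
    rw [Ideal.comap_comap]
    have : (c.toRingEquiv.toRingHom).comp (c.symm.toRingEquiv.toRingHom) = RingHom.id _ :=
      RingHom.ext fun x => c.apply_symm_apply x
    rw [this, Ideal.comap_id]
  let l₂ : Localization.AtPrime (Q A B S T) →+*
      Localization.AtPrime ((Q A B S T).comap c.toRingEquiv.toRingHom) :=
    Localization.localRingHom (Q A B S T) _ c.symm.toRingEquiv.toRingHom hq2
  have h12 : ∀ x, l₁ (l₂ x) = x := by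
    intro x
    obtain ⟨a, s, rfl⟩ := IsLocalization.exists_mk'_eq (Q A B S T).primeCompl x
    simp only [l₁, l₂, Localization.localRingHom_mk']
    congr 1
    · exact c.apply_symm_apply a
    · ext
      exact c.apply_symm_apply _
  have h21 : ∀ x, l₂ (l₁ x) = x := by
    intro x
    obtain ⟨a, s, rfl⟩ := IsLocalization.exists_mk'_eq
      ((Q A B S T).comap c.toRingEquiv.toRingHom).primeCompl x
    simp only [l₁, l₂, Localization.localRingHom_mk']
    congr 1
    · exact c.symm_apply_apply a
    · ext
      exact c.symm_apply_apply _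
  let ρ : Localization.AtPrime ((Q A B S T).comap c.toRingEquiv.toRingHom) →+* T :=
    (psi A B S T).comp l₁
  have hρbij : Function.Bijective ρ := by
    refine hbij.comp ⟨?_, ?_⟩
    · intro x y hxy
      rw [← h21 x, ← h21 y, hxy]
    · intro y
      exact ⟨l₂ y, h12 y⟩
  have hρalg : ∀ b : B, ρ (algebraMap B _ b) = algebraMap B T b := by
    intro b
    rw [IsScalarTower.algebraMap_apply B (B ⊗[A] S)
      (Localization.AtPrime ((Q A B S T).comap c.toRingEquiv.toRingHom))]
    change psi A B S T (l₁ (algebraMap (B ⊗[A] S) _ (b ⊗ₜ 1))) = _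
    rw [Localization.localRingHom_to_map]
    change psi A B S T (algebraMap (S ⊗[A] B) _ (1 ⊗ₜ b)) = _
    rw [psi_algebraMap, phi_one_tmul]
  exact ⟨AlgEquiv.ofBijective ⟨ρ, hρalg⟩ hρbij⟩

end StrictHensFiniteLocal

end Groth.Agent.H3
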