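import Groth.Agent.H3.StrictHensTensorBij3

/-!
# Strict henselizations and localization of the base

Transfer of strict henselizations along a local epimorphism of the base, the local algebra structure
of a local ring over the localization at the contraction of its maximal ideal.
-/

set_option autoImplicit false
universe u

open TensorProduct IsLocalRing

namespace Groth.Agent.H3

namespace StrictHensLocalize

section Epi

variable {R R' S : Type u} [CommRing R] [IsLocalRing R] [CommRing R'] [IsLocalRing R']
  [CommRing S] [IsLocalRing S] [Algebra R S] [IsLocalHom (algebraMap R S)]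
  [Algebra R' S] [IsLocalHom (algebraMap R' S)]

/-- strict henselizations transfer along an epimorphism of the base -/
theorem isStrictHenselization_of_epi (f : R →+* R')
    (hf : ∀ x : R, algebraMap R' S (f x) = algebraMap R S x)
    (hepi : ∀ (T : Type u) [CommRing T] (g₁ g₂ : R' →+* T), g₁.comp f = g₂.comp f → g₁ = g₂)
    (h : Hensel.IsStrictHenselization R S) : Hensel.IsStrictHenselization R' S := by
  have hsc := h.isSepClosure
  haveI hfl : IsLocalHom f := by
    haveI : IsLocalHom ((algebraMap R' S).comp f) := by
      have : (algebraMap R' S).comp f = algebraMap R S := RingHom.ext hf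
      rw [this]
      infer_instance
    exact isLocalHom_of_comp f (algebraMap R' S)
  refine ⟨h.henselian, ?_, ?_⟩
  · refine ⟨hsc.sep_closed, ?_⟩
    haveI := hsc.separable
    letI : Algebra (ResidueField R) (ResidueField R') := (ResidueField.map f).toAlgebra
    haveI : IsScalarTower (ResidueField R) (ResidueField R') (ResidueField S) := by
      refine IsScalarTower.of_algebraMap_eq fun x => ?_
      obtain ⟨a, rfl⟩ := residue_surjective x
      change algebraMap (ResidueField R) (ResidueField S) (residue R a) =
        algebraMap (ResidueField R') (ResidueField S) (ResidueField.map f (residue R a))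
      rw [ResidueField.map_residue, ResidueField.algebraMap_residue,
        ResidueField.algebraMap_residue, hf]
    exact Algebra.isSeparable_tower_top_of_isSeparable (ResidueField R) (ResidueField R')
      (ResidueField S)
  · intro D _ _ f' hf' τ hτ
    haveI : IsLocalHom (f'.comp f) := RingHom.isLocalHom_comp _ _
    have hτ' : τ.comp (ResidueField.map (algebraMap R S)) = ResidueField.map (f'.comp f) := by
      ext x
      obtain ⟨a, rfl⟩ := residue_surjective x
      have h1 := congrArg (fun φ : ResidueField R' →+* ResidueField D =>
        φ (residue R' (f a))) hτ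
      simp only [RingHom.comp_apply] at h1
      rw [ResidueField.map_residue, ResidueField.map_residue, hf] at h1
      rw [RingHom.comp_apply, ResidueField.map_residue, ResidueField.map_residue]
      exact h1
    obtain ⟨g, ⟨hg, hgres⟩, huniq⟩ := h.universal D (f'.comp f) τ hτ'
    refine ⟨g, ⟨?_, hgres⟩, ?_⟩
    · apply hepi
      ext x
      have h1 := congrArg (fun φ : R →+* D => φ x) hg
      simp only [RingHom.comp_apply] at h1
      rw [RingHom.comp_apply, RingHom.comp_apply, hf, h1, RingHom.comp_apply]
    · rintro g' ⟨hg', hg'res⟩
      apply huniq
      refine ⟨?_, hg'res⟩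
      ext a
      have h1 := congrArg (fun φ : R' →+* D => φ (f a)) hg'
      simp only [RingHom.comp_apply] at h1
      rw [hf] at h1
      rw [RingHom.comp_apply, h1]
      rfl

end Epi

section LocLift

variable {X S : Type u} [CommRing X] [CommRing S] [IsLocalRing S] (φ : X →+* S)
  (q : Ideal X) [q.IsPrime] (hq : q = (maximalIdeal S).comap φ)

include hq in
theorem isUnit_of_primeCompl (y : q.primeCompl) : IsUnit (φ y) := by
  have h1 : (y : X) ∉ q := y.2
  by_contra h2
  apply h1
  have h3 : (y : X) ∈ (maximalIdeal S).comap φ := (IsLocalRing.mem_maximalIdeal _).mpr h2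
  exact hq ▸ h3

/-- the map from the localization at the contraction of the maximal ideal -/
noncomputable def locLift : Localization.AtPrime q →+* S :=
  IsLocalization.lift (M := q.primeCompl) (g := φ) (isUnit_of_primeCompl φ q hq)

theorem locLift_algebraMap (x : X) :
    locLift φ q hq (algebraMap X (Localization.AtPrime q) x) = φ x :=
  IsLocalization.lift_eq _ x

theorem isLocalHom_locLift : IsLocalHom (locLift φ q hq) := by
  refine ⟨fun a ha => ?_⟩
  obtain ⟨x, s, rfl⟩ := IsLocalization.exists_mk'_eq q.primeCompl a
  have h1 : locLift φ q hq (IsLocalization.mk' (Localization.AtPrime q) x s) * φ s = φ x := by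
    rw [← locLift_algebraMap φ q hq (s : X), ← map_mul, IsLocalization.mk'_spec,
      locLift_algebraMap]
  have h2 : IsUnit (φ x) := by
    rw [← h1]
    exact ha.mul (isUnit_of_primeCompl φ q hq s)
  have h3 : x ∉ q := by
    intro h4
    have h4' : x ∈ (maximalIdeal S).comap φ := hq ▸ h4
    exact (IsLocalRing.mem_maximalIdeal _).mp h4' h2
  have h5 : IsUnit (algebraMap X (Localization.AtPrime q) x) :=
    IsLocalization.map_units (Localization.AtPrime q) (⟨x, h3⟩ : q.primeCompl)
  have h6 : IsLocalization.mk' (Localization.AtPrime q) x s *
      algebraMap X (Localization.AtPrime q) s = algebraMap X (Localization.AtPrime q) x :=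
    IsLocalization.mk'_spec _ x s
  exact isUnit_of_mul_isUnit_left (h6 ▸ h5)

end LocLift

end StrictHensLocalize

end Groth.Agent.H3
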