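import Groth.Agent.S9467
import Groth.Agent.H3.StrictHensLocalize

/-!
# `B^sh ⊗_{A^sh} C^sh → (B ⊗_A C)^sh` is bijective when `B_{p_B}` is ind-quasi-finite over `A_{p_A}`

Reduction to the global ind-quasi-finite case applied to the local rings.
-/

set_option autoImplicit false
universe u

open TensorProduct IsLocalRing

namespace Groth.Agent.H3

namespace StrictHensLocalize2

open StrictHensLocalize HensTensorPrime

/-- two composites out of a localization agree -/
theorem comp_eq_of_isLocalization {A : Type u} [CommRing A] (M : Submonoid A) (A' : Type u)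
    [CommRing A'] [Algebra A A'] [IsLocalization M A'] (X Y Z : Type u) [CommRing X] [CommRing Y]
    [CommRing Z] [Algebra A' X] [Algebra A X] [IsScalarTower A A' X] [Algebra X Z] [Algebra A Z]
    [IsScalarTower A X Z] [Algebra A' Y] [Algebra A Y] [IsScalarTower A A' Y] [Algebra Y Z]
    [IsScalarTower A Y Z] (x : A') :
    algebraMap Y Z (algebraMap A' Y x) = algebraMap X Z (algebraMap A' X x) := by
  have : (algebraMap Y Z).comp (algebraMap A' Y) = (algebraMap X Z).comp (algebraMap A' X) := by
    apply IsLocalization.ringHom_ext M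
    ext a
    simp only [RingHom.comp_apply]
    rw [← IsScalarTower.algebraMap_apply A A' Y, ← IsScalarTower.algebraMap_apply A Y Z,
      ← IsScalarTower.algebraMap_apply A A' X, ← IsScalarTower.algebraMap_apply A X Z]
  exact congrArg (fun φ : A' →+* Z => φ x) this

/-- a strict henselization of a local ring is one of its localization at the maximal ideal -/
theorem strictHens_atMaximal (R S : Type u) [CommRing R] [IsLocalRing R] [CommRing S]
    [IsLocalRing S] [Algebra R S] [IsLocalHom (algebraMap R S)]
    [hS : Hensel.IsStrictHenselization R S] :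
    ∃ (_ : Algebra (Localization.AtPrime (maximalIdeal R)) S)
      (_ : IsLocalHom (algebraMap (Localization.AtPrime (maximalIdeal R)) S)),
      IsScalarTower R (Localization.AtPrime (maximalIdeal R)) S ∧
        Hensel.IsStrictHenselization (Localization.AtPrime (maximalIdeal R)) S := by
  have h04 := (local_hom_TFAE (algebraMap R S)).out 0 4
  have hq : maximalIdeal R = (maximalIdeal S).comap (algebraMap R S) :=
    (h04.mp inferInstance).symm
  letI alg : Algebra (Localization.AtPrime (maximalIdeal R)) S :=
    (locLift (algebraMap R S) (maximalIdeal R) hq).toAlgebra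
  haveI hl : IsLocalHom (algebraMap (Localization.AtPrime (maximalIdeal R)) S) :=
    isLocalHom_locLift _ _ hq
  refine ⟨alg, hl, ?_, ?_⟩
  · exact IsScalarTower.of_algebraMap_eq fun x => (locLift_algebraMap _ _ hq x).symm
  · exact isStrictHenselization_of_epi (algebraMap R (Localization.AtPrime (maximalIdeal R)))
      (fun x => locLift_algebraMap _ _ hq x)
      (fun T _ g₁ g₂ h => IsLocalization.ringHom_ext (maximalIdeal R).primeCompl h) hS

section Main

variable (A B C : Type u) [CommRing A] [CommRing B]
    [CommRing C] [Algebra A B] [Algebra A C]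
    (pA : Ideal A) [pA.IsPrime] (pB : Ideal B) [pB.IsPrime] [pB.LiesOver pA]
    (pC : Ideal C) [pC.IsPrime] [pC.LiesOver pA]
    (pD : Ideal (B ⊗[A] C)) [pD.IsPrime] [pD.LiesOver pB]
    (hDC : pD.comap (Algebra.TensorProduct.includeRight : C →ₐ[A] B ⊗[A] C).toRingHom = pC)
    (Ash : Type u) [CommRing Ash] [IsLocalRing Ash] [Algebra (Localization.AtPrime pA) Ash]
    [IsLocalHom (algebraMap (Localization.AtPrime pA) Ash)]
    [hAsh : Hensel.IsStrictHenselization (Localization.AtPrime pA) Ash] [Algebra A Ash]
    [IsScalarTower A (Localization.AtPrime pA) Ash]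
    (Bsh : Type u) [CommRing Bsh] [IsLocalRing Bsh] [Algebra (Localization.AtPrime pB) Bsh]
    [IsLocalHom (algebraMap (Localization.AtPrime pB) Bsh)]
    [hBsh : Hensel.IsStrictHenselization (Localization.AtPrime pB) Bsh] [Algebra B Bsh]
    [IsScalarTower B (Localization.AtPrime pB) Bsh] [Algebra A Bsh] [IsScalarTower A B Bsh]
    [Algebra Ash Bsh] [IsScalarTower A Ash Bsh] [IsLocalHom (algebraMap Ash Bsh)]
    (Csh : Type u) [CommRing Csh] [IsLocalRing Csh] [Algebra (Localization.AtPrime pC) Csh]
    [IsLocalHom (algebraMap (Localization.AtPrime pC) Csh)]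
    [hCsh : Hensel.IsStrictHenselization (Localization.AtPrime pC) Csh] [Algebra C Csh]
    [IsScalarTower C (Localization.AtPrime pC) Csh] [Algebra A Csh] [IsScalarTower A C Csh]
    [Algebra Ash Csh] [IsScalarTower A Ash Csh] [IsLocalHom (algebraMap Ash Csh)]
    (Dsh : Type u) [CommRing Dsh] [IsLocalRing Dsh] [Algebra (Localization.AtPrime pD) Dsh]
    [IsLocalHom (algebraMap (Localization.AtPrime pD) Dsh)]
    [hDsh : Hensel.IsStrictHenselization (Localization.AtPrime pD) Dsh] [Algebra (B ⊗[A] C) Dsh]
    [IsScalarTower (B ⊗[A] C) (Localization.AtPrime pD) Dsh]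
    [Algebra Bsh Dsh] [IsLocalHom (algebraMap Bsh Dsh)] [Algebra B Dsh] [IsScalarTower B Bsh Dsh]
    [IsScalarTower B (B ⊗[A] C) Dsh]
    [Algebra Csh Dsh] [IsLocalHom (algebraMap Csh Dsh)]
    (hC : ∀ c : C, algebraMap Csh Dsh (algebraMap C Csh c) = algebraMap (B ⊗[A] C) Dsh (1 ⊗ₜ[A] c))
    [Algebra Ash Dsh] [IsScalarTower Ash Bsh Dsh] [IsScalarTower Ash Csh Dsh]
    [Algebra (Localization.AtPrime pA) (Localization.AtPrime pB)]
    [IsScalarTower A (Localization.AtPrime pA) (Localization.AtPrime pB)]

include pA pB pC pD hDC hAsh hBsh hCsh hDsh hC in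
theorem main
    (hB : ∀ s : Finset (Localization.AtPrime pB),
      ∃ B₀ : Subalgebra (Localization.AtPrime pA) (Localization.AtPrime pB),
        (↑s : Set (Localization.AtPrime pB)) ⊆ ↑B₀ ∧
          Algebra.FiniteType (Localization.AtPrime pA) ↥B₀ ∧
            Algebra.QuasiFinite (Localization.AtPrime pA) ↥B₀) :
    Function.Bijective (Algebra.TensorProduct.lift (IsScalarTower.toAlgHom Ash Bsh Dsh)
      (IsScalarTower.toAlgHom Ash Csh Dsh) (fun _ _ => Commute.all _ _)) := by
  classical
  -- the algebra structure `A_{p_A} → C_{p_C}`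
  letI aAC' : Algebra (Localization.AtPrime pA) (Localization.AtPrime pC) :=
    (Localization.localRingHom pA pC (algebraMap A C) (Ideal.over_def pC pA)).toAlgebra
  haveI tAAC' : IsScalarTower A (Localization.AtPrime pA) (Localization.AtPrime pC) := by
    refine IsScalarTower.of_algebraMap_eq fun a => ?_
    change _ = Localization.localRingHom pA pC (algebraMap A C) _ (algebraMap A _ a)
    rw [Localization.localRingHom_to_map]
    exact IsScalarTower.algebraMap_apply A C (Localization.AtPrime pC) a
  have hAB' : algebraMap (Localization.AtPrime pA) (Localization.AtPrime pB) =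
      Localization.localRingHom pA pB (algebraMap A B) (Ideal.over_def pB pA) := by
    apply IsLocalization.ringHom_ext pA.primeCompl
    ext a
    rw [RingHom.comp_apply, RingHom.comp_apply, Localization.localRingHom_to_map,
      ← IsScalarTower.algebraMap_apply A (Localization.AtPrime pA) (Localization.AtPrime pB),
      ← IsScalarTower.algebraMap_apply A B (Localization.AtPrime pB)]
  haveI lAB' : IsLocalHom (algebraMap (Localization.AtPrime pA) (Localization.AtPrime pB)) := by
    rw [hAB']
    infer_instance
  haveI lAC' : IsLocalHom (algebraMap (Localization.AtPrime pA) (Localization.AtPrime pC)) := by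
    change IsLocalHom (Localization.localRingHom pA pC (algebraMap A C) _)
    infer_instance
  have hcm : ∀ {R S : Type u} [CommRing R] [CommRing S] [IsLocalRing R] [IsLocalRing S]
      (f : R →+* S) [IsLocalHom f], (maximalIdeal S).comap f = maximalIdeal R := by
    intro R S _ _ _ _ f hf
    have h04 := (local_hom_TFAE f).out 0 4
    exact h04.mp hf
  haveI lieB' : (maximalIdeal (Localization.AtPrime pB)).LiesOver
      (maximalIdeal (Localization.AtPrime pA)) := ⟨(hcm _).symm⟩
  haveI lieC' : (maximalIdeal (Localization.AtPrime pC)).LiesOver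
      (maximalIdeal (Localization.AtPrime pA)) := ⟨(hcm _).symm⟩
  -- strict henselizations of the localizations at the maximal ideals
  obtain ⟨aA'', lA'', tA'', sA''⟩ := strictHens_atMaximal (Localization.AtPrime pA) Ash
  obtain ⟨aB'', lB'', tB'', sB''⟩ := strictHens_atMaximal (Localization.AtPrime pB) Bsh
  obtain ⟨aC'', lC'', tC'', sC''⟩ := strictHens_atMaximal (Localization.AtPrime pC) Csh
  -- algebra structures over `A_{p_A}`
  letI aA'Bsh : Algebra (Localization.AtPrime pA) Bsh :=
    ((algebraMap Ash Bsh).comp (algebraMap (Localization.AtPrime pA) Ash)).toAlgebra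
  haveI tA'AshBsh : IsScalarTower (Localization.AtPrime pA) Ash Bsh :=
    IsScalarTower.of_algebraMap_eq' rfl
  haveI tAB'Bsh : IsScalarTower A (Localization.AtPrime pB) Bsh := by
    refine IsScalarTower.of_algebraMap_eq fun a => ?_
    rw [IsScalarTower.algebraMap_apply A B Bsh,
      IsScalarTower.algebraMap_apply B (Localization.AtPrime pB) Bsh,
      ← IsScalarTower.algebraMap_apply A B (Localization.AtPrime pB)]
  haveI tA'B'Bsh : IsScalarTower (Localization.AtPrime pA) (Localization.AtPrime pB) Bsh :=
    IsScalarTower.of_algebraMap_eq fun x =>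
      comp_eq_of_isLocalization pA.primeCompl (Localization.AtPrime pA)
        (Localization.AtPrime pB) Ash Bsh x
  letI aA'Csh : Algebra (Localization.AtPrime pA) Csh :=
    ((algebraMap Ash Csh).comp (algebraMap (Localization.AtPrime pA) Ash)).toAlgebra
  haveI tA'AshCsh : IsScalarTower (Localization.AtPrime pA) Ash Csh :=
    IsScalarTower.of_algebraMap_eq' rfl
  haveI tAC'Csh : IsScalarTower A (Localization.AtPrime pC) Csh := by
    refine IsScalarTower.of_algebraMap_eq fun a => ?_
    rw [IsScalarTower.algebraMap_apply A C Csh,
      IsScalarTower.algebraMap_apply C (Localization.AtPrime pC) Csh,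
      ← IsScalarTower.algebraMap_apply A C (Localization.AtPrime pC)]
  haveI tA'C'Csh : IsScalarTower (Localization.AtPrime pA) (Localization.AtPrime pC) Csh :=
    IsScalarTower.of_algebraMap_eq fun x =>
      comp_eq_of_isLocalization pA.primeCompl (Localization.AtPrime pA)
        (Localization.AtPrime pC) Ash Csh x
  -- the `D` side
  letI aA'D : Algebra (Localization.AtPrime pA) Dsh :=
    ((algebraMap Ash Dsh).comp (algebraMap (Localization.AtPrime pA) Ash)).toAlgebra
  haveI tA'AshD : IsScalarTower (Localization.AtPrime pA) Ash Dsh :=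
    IsScalarTower.of_algebraMap_eq' rfl
  letI aB'D : Algebra (Localization.AtPrime pB) Dsh :=
    ((algebraMap Bsh Dsh).comp (algebraMap (Localization.AtPrime pB) Bsh)).toAlgebra
  haveI tB'BshD : IsScalarTower (Localization.AtPrime pB) Bsh Dsh :=
    IsScalarTower.of_algebraMap_eq' rfl
  letI aC'D : Algebra (Localization.AtPrime pC) Dsh :=
    ((algebraMap Csh Dsh).comp (algebraMap (Localization.AtPrime pC) Csh)).toAlgebra
  haveI tC'CshD : IsScalarTower (Localization.AtPrime pC) Csh Dsh :=
    IsScalarTower.of_algebraMap_eq' rfl
  haveI tA'B'D : IsScalarTower (Localization.AtPrime pA) (Localization.AtPrime pB) Dsh := by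
    refine IsScalarTower.of_algebraMap_eq fun x => ?_
    change algebraMap Ash Dsh (algebraMap (Localization.AtPrime pA) Ash x) =
      algebraMap Bsh Dsh (algebraMap (Localization.AtPrime pB) Bsh
        (algebraMap (Localization.AtPrime pA) (Localization.AtPrime pB) x))
    rw [← IsScalarTower.algebraMap_apply (Localization.AtPrime pA) (Localization.AtPrime pB) Bsh,
      IsScalarTower.algebraMap_apply (Localization.AtPrime pA) Ash Bsh,
      ← IsScalarTower.algebraMap_apply Ash Bsh Dsh]
  haveI tA'C'D : IsScalarTower (Localization.AtPrime pA) (Localization.AtPrime pC) Dsh := by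
    refine IsScalarTower.of_algebraMap_eq fun x => ?_
    change algebraMap Ash Dsh (algebraMap (Localization.AtPrime pA) Ash x) =
      algebraMap Csh Dsh (algebraMap (Localization.AtPrime pC) Csh
        (algebraMap (Localization.AtPrime pA) (Localization.AtPrime pC) x))
    rw [← IsScalarTower.algebraMap_apply (Localization.AtPrime pA) (Localization.AtPrime pC) Csh,
      IsScalarTower.algebraMap_apply (Localization.AtPrime pA) Ash Csh,
      ← IsScalarTower.algebraMap_apply Ash Csh Dsh]
  let φD : (Localization.AtPrime pB) ⊗[Localization.AtPrime pA] (Localization.AtPrime pC)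
      →ₐ[Localization.AtPrime pA] Dsh :=
    Algebra.TensorProduct.lift
      (IsScalarTower.toAlgHom (Localization.AtPrime pA) (Localization.AtPrime pB) Dsh)
      (IsScalarTower.toAlgHom (Localization.AtPrime pA) (Localization.AtPrime pC) Dsh)
      (fun _ _ => Commute.all _ _)
  letI aD'D : Algebra ((Localization.AtPrime pB) ⊗[Localization.AtPrime pA]
      (Localization.AtPrime pC)) Dsh := φD.toRingHom.toAlgebra
  have hφ1 : ∀ b' : Localization.AtPrime pB,
      algebraMap ((Localization.AtPrime pB) ⊗[Localization.AtPrime pA]
        (Localization.AtPrime pC)) Dsh (b' ⊗ₜ 1) = algebraMap (Localization.AtPrime pB) Dsh b' := by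
    intro b'
    change φD (b' ⊗ₜ 1) = _
    rw [Algebra.TensorProduct.lift_tmul, map_one, mul_one]
    rfl
  have hφ2 : ∀ c' : Localization.AtPrime pC,
      algebraMap ((Localization.AtPrime pB) ⊗[Localization.AtPrime pA]
        (Localization.AtPrime pC)) Dsh (1 ⊗ₜ c') = algebraMap (Localization.AtPrime pC) Dsh c' := by
    intro c'
    change φD (1 ⊗ₜ c') = _
    rw [Algebra.TensorProduct.lift_tmul, map_one, one_mul]
    rfl
  haveI tB'D'D : IsScalarTower (Localization.AtPrime pB)
      ((Localization.AtPrime pB) ⊗[Localization.AtPrime pA] (Localization.AtPrime pC)) Dsh :=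
    IsScalarTower.of_algebraMap_eq fun b' => (hφ1 b').symm
  have hBD : ∀ b' : Localization.AtPrime pB, algebraMap (Localization.AtPrime pB) Dsh b' =
      algebraMap Bsh Dsh (algebraMap (Localization.AtPrime pB) Bsh b') := fun _ => rfl
  have hCD : ∀ c' : Localization.AtPrime pC, algebraMap (Localization.AtPrime pC) Dsh c' =
      algebraMap Csh Dsh (algebraMap (Localization.AtPrime pC) Csh c') := fun _ => rfl
  haveI lB'D : IsLocalHom (algebraMap (Localization.AtPrime pB) Dsh) := by
    change IsLocalHom ((algebraMap Bsh Dsh).comp (algebraMap (Localization.AtPrime pB) Bsh))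
    exact RingHom.isLocalHom_comp _ _
  haveI lC'D : IsLocalHom (algebraMap (Localization.AtPrime pC) Dsh) := by
    change IsLocalHom ((algebraMap Csh Dsh).comp (algebraMap (Localization.AtPrime pC) Csh))
    exact RingHom.isLocalHom_comp _ _
  let pD' : Ideal ((Localization.AtPrime pB) ⊗[Localization.AtPrime pA]
      (Localization.AtPrime pC)) := (maximalIdeal Dsh).comap (algebraMap _ Dsh)
  haveI ppD' : pD'.IsPrime := Ideal.comap_isPrime _ _
  haveI lieD' : pD'.LiesOver (maximalIdeal (Localization.AtPrime pB)) := by
    refine ⟨?_⟩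
    change _ = ((maximalIdeal Dsh).comap (algebraMap _ Dsh)).comap (algebraMap _ _)
    rw [Ideal.comap_comap, ← IsScalarTower.algebraMap_eq, hcm]
  have hDC' : pD'.comap (Algebra.TensorProduct.includeRight : Localization.AtPrime pC →ₐ[
      Localization.AtPrime pA] (Localization.AtPrime pB) ⊗[Localization.AtPrime pA]
        (Localization.AtPrime pC)).toRingHom = maximalIdeal (Localization.AtPrime pC) := by
    change ((maximalIdeal Dsh).comap (algebraMap _ Dsh)).comap _ = _
    rw [Ideal.comap_comap]
    have : (algebraMap ((Localization.AtPrime pB) ⊗[Localization.AtPrime pA]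
        (Localization.AtPrime pC)) Dsh).comp (Algebra.TensorProduct.includeRight :
          Localization.AtPrime pC →ₐ[Localization.AtPrime pA] (Localization.AtPrime pB)
            ⊗[Localization.AtPrime pA] (Localization.AtPrime pC)).toRingHom =
        algebraMap (Localization.AtPrime pC) Dsh := RingHom.ext fun c' => hφ2 c'
    rw [this, hcm]
  letI aLD' : Algebra (Localization.AtPrime pD') Dsh :=
    (locLift (algebraMap _ Dsh) pD' rfl).toAlgebra
  haveI lLD' : IsLocalHom (algebraMap (Localization.AtPrime pD') Dsh) :=
    isLocalHom_locLift _ _ rfl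
  haveI tLD' : IsScalarTower ((Localization.AtPrime pB) ⊗[Localization.AtPrime pA]
      (Localization.AtPrime pC)) (Localization.AtPrime pD') Dsh :=
    IsScalarTower.of_algebraMap_eq (R := (Localization.AtPrime pB) ⊗[Localization.AtPrime pA]
      (Localization.AtPrime pC)) (S := Localization.AtPrime pD') (A := Dsh)
      fun x => (locLift_algebraMap _ _ rfl x).symm
  -- the comparison map `B ⊗_A C → B_{p_B} ⊗_{A_{p_A}} C_{p_C}`
  let jB : B →ₐ[A] (Localization.AtPrime pB) ⊗[Localization.AtPrime pA]
      (Localization.AtPrime pC) :=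
    { toRingHom := (Algebra.TensorProduct.includeLeftRingHom).comp
        (algebraMap B (Localization.AtPrime pB))
      commutes' := by
        intro a
        change (algebraMap B (Localization.AtPrime pB) (algebraMap A B a)) ⊗ₜ 1 =
          (algebraMap A (Localization.AtPrime pB) a) ⊗ₜ 1
        rw [← IsScalarTower.algebraMap_apply A B (Localization.AtPrime pB)] }
  let jC : C →ₐ[A] (Localization.AtPrime pB) ⊗[Localization.AtPrime pA]
      (Localization.AtPrime pC) :=
    { toRingHom := (Algebra.TensorProduct.includeRight : Localization.AtPrime pC →ₐ[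
        Localization.AtPrime pA] (Localization.AtPrime pB) ⊗[Localization.AtPrime pA]
          (Localization.AtPrime pC)).toRingHom.comp (algebraMap C (Localization.AtPrime pC))
      commutes' := by
        intro a
        change (1 : Localization.AtPrime pB) ⊗ₜ[Localization.AtPrime pA]
            (algebraMap C (Localization.AtPrime pC) (algebraMap A C a)) =
          (algebraMap A (Localization.AtPrime pB) a) ⊗ₜ 1
        rw [← IsScalarTower.algebraMap_apply A C (Localization.AtPrime pC),
          IsScalarTower.algebraMap_apply A (Localization.AtPrime pA) (Localization.AtPrime pC),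
          IsScalarTower.algebraMap_apply A (Localization.AtPrime pA) (Localization.AtPrime pB),
          Algebra.algebraMap_eq_smul_one, Algebra.algebraMap_eq_smul_one
            (algebraMap A (Localization.AtPrime pA) a), TensorProduct.tmul_smul,
          TensorProduct.smul_tmul'] }
  let j : B ⊗[A] C →+* (Localization.AtPrime pB) ⊗[Localization.AtPrime pA]
      (Localization.AtPrime pC) :=
    (Algebra.TensorProduct.lift jB jC (fun _ _ => Commute.all _ _)).toRingHom
  have hj1 : ∀ b : B, j (b ⊗ₜ 1) = (algebraMap B (Localization.AtPrime pB) b) ⊗ₜ 1 := by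
    intro b
    change Algebra.TensorProduct.lift jB jC (fun _ _ => Commute.all _ _) (b ⊗ₜ 1) = _
    rw [Algebra.TensorProduct.lift_tmul, map_one, mul_one]
    rfl
  have hj2 : ∀ c : C, j (1 ⊗ₜ c) = 1 ⊗ₜ (algebraMap C (Localization.AtPrime pC) c) := by
    intro c
    change Algebra.TensorProduct.lift jB jC (fun _ _ => Commute.all _ _) (1 ⊗ₜ c) = _
    rw [Algebra.TensorProduct.lift_tmul, map_one, one_mul]
    rfl
  have hjD : (algebraMap ((Localization.AtPrime pB) ⊗[Localization.AtPrime pA]
      (Localization.AtPrime pC)) Dsh).comp j = algebraMap (B ⊗[A] C) Dsh := by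
    apply ringHom_ext_tensor
    · intro b
      change algebraMap _ Dsh (j (b ⊗ₜ 1)) = _
      rw [hj1, hφ1, hBD, ← IsScalarTower.algebraMap_apply B (Localization.AtPrime pB) Bsh,
        ← IsScalarTower.algebraMap_apply B Bsh Dsh,
        IsScalarTower.algebraMap_apply B (B ⊗[A] C) Dsh]
      rfl
    · intro c
      change algebraMap _ Dsh (j (1 ⊗ₜ c)) = _
      rw [hj2, hφ2, hCD, ← IsScalarTower.algebraMap_apply C (Localization.AtPrime pC) Csh, hC]
  have hcomap : pD = pD'.comap j := by
    change pD = ((maximalIdeal Dsh).comap (algebraMap _ Dsh)).comap j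
    rw [Ideal.comap_comap, hjD, IsScalarTower.algebraMap_eq (B ⊗[A] C) (Localization.AtPrime pD) Dsh,
      ← Ideal.comap_comap, hcm (algebraMap (Localization.AtPrime pD) Dsh)]
    exact (Localization.AtPrime.under_maximalIdeal (I := pD)).symm
  let f : Localization.AtPrime pD →+* Localization.AtPrime pD' :=
    Localization.localRingHom pD pD' j hcomap
  have hf : ∀ x, algebraMap (Localization.AtPrime pD') Dsh (f x) =
      algebraMap (Localization.AtPrime pD) Dsh x := by
    have h1 : (algebraMap (Localization.AtPrime pD') Dsh).comp f =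
        algebraMap (Localization.AtPrime pD) Dsh := by
      apply IsLocalization.ringHom_ext pD.primeCompl
      refine RingHom.ext fun d => ?_
      rw [RingHom.comp_apply, RingHom.comp_apply, RingHom.comp_apply,
        Localization.localRingHom_to_map, ← IsScalarTower.algebraMap_apply,
        ← IsScalarTower.algebraMap_apply]
      exact congrArg (fun χ : B ⊗[A] C →+* Dsh => χ d) hjD
    exact fun x => congrArg (fun χ : Localization.AtPrime pD →+* Dsh => χ x) h1
  have hepi : ∀ (T : Type u) [CommRing T] (g₁ g₂ : Localization.AtPrime pD' →+* T),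
      g₁.comp f = g₂.comp f → g₁ = g₂ := by
    intro T _ g₁ g₂ h
    have hd : ∀ d : B ⊗[A] C, g₁ (algebraMap _ _ (j d)) = g₂ (algebraMap _ _ (j d)) := by
      intro d
      have h1 := congrArg (fun χ : Localization.AtPrime pD →+* T =>
        χ (algebraMap (B ⊗[A] C) _ d)) h
      simp only [RingHom.comp_apply] at h1
      rw [Localization.localRingHom_to_map] at h1
      exact h1
    apply IsLocalization.ringHom_ext pD'.primeCompl
    apply ringHom_ext_tensor
    · intro b'
      have h2 : (g₁.comp (algebraMap _ (Localization.AtPrime pD'))).comp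
          ((Algebra.TensorProduct.includeLeftRingHom : Localization.AtPrime pB →+*
            (Localization.AtPrime pB) ⊗[Localization.AtPrime pA] (Localization.AtPrime pC))) =
          (g₂.comp (algebraMap _ (Localization.AtPrime pD'))).comp
          ((Algebra.TensorProduct.includeLeftRingHom : Localization.AtPrime pB →+*
            (Localization.AtPrime pB) ⊗[Localization.AtPrime pA] (Localization.AtPrime pC))) := by
        apply IsLocalization.ringHom_ext pB.primeCompl
        ext b
        have h3 := hd (b ⊗ₜ 1)
        rw [hj1] at h3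
        exact h3
      exact congrArg (fun χ : Localization.AtPrime pB →+* T => χ b') h2
    · intro c'
      have h2 : (g₁.comp (algebraMap _ (Localization.AtPrime pD'))).comp
          ((Algebra.TensorProduct.includeRight : Localization.AtPrime pC →ₐ[
            Localization.AtPrime pA] (Localization.AtPrime pB) ⊗[Localization.AtPrime pA]
              (Localization.AtPrime pC)).toRingHom) =
          (g₂.comp (algebraMap _ (Localization.AtPrime pD'))).comp
          ((Algebra.TensorProduct.includeRight : Localization.AtPrime pC →ₐ[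
            Localization.AtPrime pA] (Localization.AtPrime pB) ⊗[Localization.AtPrime pA]
              (Localization.AtPrime pC)).toRingHom) := by
        apply IsLocalization.ringHom_ext pC.primeCompl
        ext c
        have h3 := hd (1 ⊗ₜ c)
        rw [hj2] at h3
        exact h3
      exact congrArg (fun χ : Localization.AtPrime pC →+* T => χ c') h2
  have sD' : Hensel.IsStrictHenselization (Localization.AtPrime pD') Dsh :=
    isStrictHenselization_of_epi f hf hepi hDsh
  have hC' : ∀ c' : Localization.AtPrime pC,
      algebraMap Csh Dsh (algebraMap (Localization.AtPrime pC) Csh c') =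
        algebraMap ((Localization.AtPrime pB) ⊗[Localization.AtPrime pA]
          (Localization.AtPrime pC)) Dsh (1 ⊗ₜ c') := fun c' => (hφ2 c').symm
  exact Groth.Agent.S9467.result (Localization.AtPrime pA) (Localization.AtPrime pB)
    (Localization.AtPrime pC) (maximalIdeal (Localization.AtPrime pA))
    (maximalIdeal (Localization.AtPrime pB)) (maximalIdeal (Localization.AtPrime pC)) pD' hDC'
    Ash Bsh Csh Dsh hC' hB

end Main

end StrictHensLocalize2

end Groth.Agent.H3
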