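import Groth.Agent.H3.StrictHensUnique
import Groth.Agent.H3.PrimitivePair

/-!
# The maximal ideal of the strict henselization is generated by the maximal ideal of the ring
-/

set_option autoImplicit false
universe u

namespace Groth.Agent.H3

namespace SH

open IsLocalRing Polynomial

variable (R : Type u) [CommRing R] [IsLocalRing R]

/-- the extension of the maximal ideal to `A₀` -/
noncomputable def nn : Ideal (A₀ R) := (maximalIdeal R).map (algebraMap R (A₀ R))

theorem π_comp_algebraMap : (π R).comp (algebraMap R (A₀ R)) = toKs R :=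
  RingHom.ext fun r => π_algebraMap R r

theorem π_aeval (x : A₀ R) (P : R[X]) : π R (aeval x P) = P.eval₂ (toKs R) (π R x) := by
  rw [Polynomial.aeval_def, Polynomial.hom_eval₂, π_comp_algebraMap]

theorem aeval_X₀_F (γ : ks R) : aeval (X₀ R γ) (F R γ) = 0 :=
  MonicQuot.aeval_mk_X (F := F R) (S := Set.univ) (Set.mem_univ γ)

theorem aeval_mem_of_map_eq_zero {P : R[X]} (hP : P.map (residue R) = 0) (x : A₀ R) :
    aeval x P ∈ nn R := by
  rw [Polynomial.aeval_eq_sum_range]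
  refine Ideal.sum_mem _ fun i _ => ?_
  rw [Algebra.smul_def]
  refine Ideal.mul_mem_right _ _ (Ideal.mem_map_of_mem _ ?_)
  rw [← residue_eq_zero_iff, ← Polynomial.coeff_map, hP, Polynomial.coeff_zero]

theorem eval₂_toKs (P : R[X]) (γ : ks R) :
    P.eval₂ (toKs R) γ = aeval γ (P.map (residue R)) := by
  rw [Polynomial.aeval_def, Polynomial.eval₂_map]
  rfl

theorem aeval_X₀_mem {γ : ks R} {P : R[X]} (hP : P.eval₂ (toKs R) γ = 0) :
    aeval (X₀ R γ) P ∈ nn R := by
  rw [eval₂_toKs] at hP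
  obtain ⟨Qb, hQb⟩ := minpoly.dvd (ResidueField R) γ hP
  obtain ⟨Q, rfl⟩ := Polynomial.map_surjective _ (residue_surjective (R := R)) Qb
  have h1 : (P - F R γ * Q).map (residue R) = 0 := by
    rw [Polynomial.map_sub, Polynomial.map_mul, F_map, hQb, sub_self]
  have h2 := aeval_mem_of_map_eq_zero R h1 (X₀ R γ)
  rw [map_sub, map_mul, aeval_X₀_F, zero_mul, sub_zero] at h2
  exact h2

/-- the kernel of `A₀ → A₁ / m A₁` -/
noncomputable def Z : Ideal (A₀ R) :=
  ((nn R).map (algebraMap (A₀ R) (A₁ R))).comap (algebraMap (A₀ R) (A₁ R))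

theorem nn_le_Z : nn R ≤ Z R := Ideal.le_comap_map

theorem nn_le_M : nn R ≤ M R := by
  rw [nn, Ideal.map_le_iff_le_comap]
  intro r hr
  rw [Ideal.mem_comap]
  apply (RingHom.mem_ker).mpr
  rw [π_algebraMap, toKs_eq_zero_iff]
  exact hr

theorem Z_le_M : Z R ≤ M R := by
  intro a ha
  rw [Z, Ideal.mem_comap] at ha
  have h1 : (nn R).map (algebraMap (A₀ R) (A₁ R)) ≤ maximalIdeal (A₁ R) := by
    rw [← IsLocalization.AtPrime.map_eq_maximalIdeal (p := M R)]
    exact Ideal.map_mono (nn_le_M R)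
  exact (IsLocalization.AtPrime.to_map_mem_maximal_iff (A₁ R) (M R) a).mp (h1 ha)

theorem mem_Z_of {a u : A₀ R} (hu : u ∉ M R) (h : u * a ∈ nn R) : a ∈ Z R := by
  rw [Z, Ideal.mem_comap]
  have hunit : IsUnit (algebraMap (A₀ R) (A₁ R) u) :=
    (IsLocalization.AtPrime.isUnit_to_map_iff (A₁ R) (M R) u).mpr hu
  have h1 := Ideal.mem_map_of_mem (algebraMap (A₀ R) (A₁ R)) h
  rw [map_mul, mul_comm] at h1
  exact (Ideal.mul_unit_mem_iff_mem _ hunit).mp h1

theorem X₀_sub_mem_Z (γ : ks R) (P : R[X]) :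
    X₀ R (P.eval₂ (toKs R) γ) - aeval (X₀ R γ) P ∈ Z R := by
  obtain ⟨α, hα⟩ : ∃ α, α = P.eval₂ (toKs R) γ := ⟨_, rfl⟩
  rw [← hα]
  obtain ⟨y, hy⟩ : ∃ y, y = X₀ R α := ⟨_, rfl⟩
  obtain ⟨z, hz⟩ : ∃ z, z = aeval (X₀ R γ) P := ⟨_, rfl⟩
  rw [← hy, ← hz]
  have hπy : π R y = α := by rw [hy, π_X₀]
  have hπz : π R z = α := by rw [hz, π_aeval, π_X₀, hα]
  have h1 : aeval y (F R α) = 0 := by rw [hy]; exact aeval_X₀_F R α
  have h2 : aeval z (F R α) ∈ nn R := by
    rw [hz, ← Polynomial.aeval_comp]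
    apply aeval_X₀_mem
    rw [Polynomial.eval₂_comp, ← hα, F_eval₂]
  obtain ⟨c, hc⟩ := exists_mul_sq_add_linear_part_eq_eval_add
    ((F R α).map (algebraMap R (A₀ R))) z (y - z)
  rw [add_sub_cancel] at hc
  simp only [Polynomial.derivative_map, Polynomial.eval_map_algebraMap] at hc
  rw [h1] at hc
  obtain ⟨u, hu⟩ : ∃ u, u = aeval z (derivative (F R α)) + c * (y - z) := ⟨_, rfl⟩
  have h3 : u * (y - z) = - aeval z (F R α) := by
    rw [hu]; linear_combination hc
  have h4 : u ∉ M R := by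
    intro hmem
    have h5 : π R u = 0 := (RingHom.mem_ker).mp hmem
    rw [hu, map_add, map_mul, map_sub, hπy, hπz, sub_self, mul_zero, add_zero, π_aeval,
      hπz] at h5
    exact derivative_F_ne_zero R α h5
  exact mem_Z_of R h4 (by rw [h3]; exact Ideal.neg_mem_iff _ |>.mpr h2)

end SH

end Groth.Agent.H3
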