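import Groth.Agent.H3.MonicQuotFlat
import Groth.Agent.H3.HensLocal
import Groth.Agent.H3.HensFlatMain
import Mathlib.FieldTheory.IsSepClosed
import Mathlib.RingTheory.Localization.AtPrime.Basic

/-!
# A model of the strict henselization of a local ring
-/

set_option autoImplicit false
universe u

namespace Groth.Agent.H3

namespace SH

open IsLocalRing Polynomial

variable (R : Type u) [CommRing R] [IsLocalRing R]

/-- the separable closure of the residue field -/
abbrev ks : Type u := SeparableClosure (ResidueField R)

/-- the map `R → k → kˢ` -/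
noncomputable def toKs : R →+* ks R := (algebraMap (ResidueField R) (ks R)).comp (residue R)

theorem exists_lift (α : ks R) :
    ∃ F : R[X], F.Monic ∧ F.map (residue R) = minpoly (ResidueField R) α := by
  have hm : (minpoly (ResidueField R) α).Monic :=
    minpoly.monic (Algebra.IsIntegral.isIntegral α)
  obtain ⟨g, hg, -, hgm⟩ := lifts_and_natDegree_eq_and_monic
    ((Polynomial.mem_lifts _).mpr
      (Polynomial.map_surjective _ (residue_surjective) (minpoly (ResidueField R) α))) hm
  exact ⟨g, hgm, hg⟩

/-- a monic lift of the minimal polynomial of `α` -/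
noncomputable def F (α : ks R) : R[X] := (exists_lift R α).choose

theorem F_monic (α : ks R) : (F R α).Monic := (exists_lift R α).choose_spec.1

theorem F_map (α : ks R) : (F R α).map (residue R) = minpoly (ResidueField R) α :=
  (exists_lift R α).choose_spec.2

theorem F_eval₂ (α : ks R) : (F R α).eval₂ (toKs R) α = 0 := by
  rw [toKs, ← Polynomial.eval₂_map, F_map]
  exact minpoly.aeval _ α

/-- the integral `R`-algebra `R[X_α]/(F_α(X_α))` -/
def A₀ : Type u := MvPolynomial (ks R) R ⧸ MonicQuot.K (ks R) R (F R) Set.univ

noncomputable instance : CommRing (A₀ R) :=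
  inferInstanceAs (CommRing (MvPolynomial (ks R) R ⧸ MonicQuot.K (ks R) R (F R) Set.univ))

noncomputable instance : Algebra R (A₀ R) :=
  inferInstanceAs (Algebra R (MvPolynomial (ks R) R ⧸ MonicQuot.K (ks R) R (F R) Set.univ))

theorem flat_A₀ : Module.Flat R (A₀ R) := MonicQuot.flat_univ (F_monic R)

/-- the generators -/
noncomputable def X₀ (α : ks R) : A₀ R :=
  Ideal.Quotient.mk (MonicQuot.K (ks R) R (F R) Set.univ) (MvPolynomial.X α)

/-- the map `A₀ → kˢ` -/
noncomputable def π : A₀ R →+* ks R :=
  MonicQuot.liftRingHom (toKs R) (fun α => α) (fun α _ => F_eval₂ R α)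

theorem π_X₀ (α : ks R) : π R (X₀ R α) = α := MonicQuot.liftRingHom_mk_X _ _ _ α

theorem π_algebraMap (r : R) : π R (algebraMap R (A₀ R) r) = toKs R r :=
  MonicQuot.liftRingHom_algebraMap _ _ _ r

theorem π_surjective : Function.Surjective (π R) := fun α => ⟨X₀ R α, π_X₀ R α⟩

/-- the maximal ideal of `A₀` -/
noncomputable def M : Ideal (A₀ R) := RingHom.ker (π R)

instance : (M R).IsMaximal := RingHom.ker_isMaximal_of_surjective (π R) (π_surjective R)

/-- the localization -/
abbrev A₁ : Type u := Localization.AtPrime (M R)

/-- the strict henselization -/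
abbrev S : Type u := HensTower.Lim (A₁ R) (maximalIdeal (A₁ R))

theorem hS : Hens2.IsPairHenselization (A₁ R) (maximalIdeal (A₁ R)) (S R) :=
  HensLocal.isPairHenselization_Lim (A₁ R)

noncomputable instance : IsLocalRing (S R) := HensLocal.isLocalRing (hS R)

instance : IsLocalHom (algebraMap (A₁ R) (S R)) := HensLocal.isLocalHom (hS R)

instance : Hensel.IsHenselization (A₁ R) (S R) := HensLocal.isHenselization (hS R)

/-- the map `A₀ → S` -/
noncomputable def ι : A₀ R →+* S R := (algebraMap (A₁ R) (S R)).comp (algebraMap (A₀ R) (A₁ R))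

noncomputable instance : Algebra R (S R) := ((ι R).comp (algebraMap R (A₀ R))).toAlgebra

theorem algebraMap_S (r : R) : algebraMap R (S R) r = ι R (algebraMap R (A₀ R) r) := rfl

end SH

end Groth.Agent.H3
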