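import Groth.Agent.H3.StrictHensModel
import Mathlib.RingTheory.LocalRing.ResidueField.Basic

/-!
# The residue field of the model of the strict henselization
-/

set_option autoImplicit false
universe u

namespace Groth.Agent.H3

namespace SH

open IsLocalRing Polynomial

variable (R : Type u) [CommRing R] [IsLocalRing R]

theorem maximalIdeal_S :
    maximalIdeal (S R) = (maximalIdeal (A₁ R)).map (algebraMap (A₁ R) (S R)) :=
  HensLocal.maximalIdeal_eq (hS R)

theorem ι_mem_maximalIdeal {a : A₀ R} (ha : a ∈ M R) : ι R a ∈ maximalIdeal (S R) := by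
  rw [maximalIdeal_S, ι, RingHom.comp_apply]
  apply Ideal.mem_map_of_mem
  exact (IsLocalization.AtPrime.to_map_mem_maximal_iff (A₁ R) (M R) a).mpr ha

theorem isUnit_ι {a : A₀ R} (ha : a ∉ M R) : IsUnit (ι R a) := by
  rw [ι, RingHom.comp_apply]
  apply IsUnit.map
  exact (IsLocalization.AtPrime.isUnit_to_map_iff (A₁ R) (M R) a).mpr ha

theorem ι_mem_maximalIdeal_iff {a : A₀ R} : ι R a ∈ maximalIdeal (S R) ↔ a ∈ M R := by
  refine ⟨fun h => ?_, ι_mem_maximalIdeal R⟩
  by_contra ha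
  exact (IsLocalRing.mem_maximalIdeal _).mp h (isUnit_ι R ha)

theorem toKs_eq_zero_iff (r : R) : toKs R r = 0 ↔ r ∈ maximalIdeal R := by
  rw [toKs, RingHom.comp_apply, map_eq_zero_iff _ (algebraMap (ResidueField R) (ks R)).injective,
    residue_eq_zero_iff]

instance : IsLocalHom (algebraMap R (S R)) := by
  refine ⟨fun r hr => ?_⟩
  rw [algebraMap_S] at hr
  by_contra hnr
  have h1 : r ∈ maximalIdeal R := (IsLocalRing.mem_maximalIdeal r).mpr hnr
  have h2 : algebraMap R (A₀ R) r ∈ M R := by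
    rw [M, RingHom.mem_ker, π_algebraMap, toKs_eq_zero_iff]
    exact h1
  exact (IsLocalRing.mem_maximalIdeal _).mp (ι_mem_maximalIdeal R h2) hr

/-- the map `A₀ → S → κ(S)` -/
noncomputable def ρ : A₀ R →+* ResidueField (S R) := (residue (S R)).comp (ι R)

theorem ker_π_le_ker_ρ : RingHom.ker (π R) ≤ RingHom.ker (ρ R) := by
  intro a ha
  rw [RingHom.mem_ker, ρ, RingHom.comp_apply, residue_eq_zero_iff]
  exact ι_mem_maximalIdeal R ha

/-- the identification of `kˢ` with the residue field of `S` -/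
noncomputable def e' : ks R →+* ResidueField (S R) :=
  (π R).liftOfSurjective (π_surjective R) ⟨ρ R, ker_π_le_ker_ρ R⟩

theorem e'_π (a : A₀ R) : e' R (π R a) = ρ R a :=
  RingHom.liftOfSurjective_comp_apply (π R) (π_surjective R) ⟨ρ R, ker_π_le_ker_ρ R⟩ a

theorem e'_apply (α : ks R) : e' R α = residue (S R) (ι R (X₀ R α)) := by
  rw [← π_X₀ R α, e'_π, π_X₀]
  rfl

theorem ρ_surjective : Function.Surjective (ρ R) := by
  intro y
  obtain ⟨s, rfl⟩ := residue_surjective y
  obtain ⟨a₁, ha₁⟩ := PairHens.exists_sub_mem (hS R) s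
  obtain ⟨a, u, rfl⟩ := IsLocalization.exists_mk'_eq (M R).primeCompl a₁
  -- `π u ≠ 0`, so choose `b` with `π b = π a / π u`
  have hu : π R u ≠ 0 := fun h => u.2 ((RingHom.mem_ker).mpr h)
  obtain ⟨b, hb⟩ := π_surjective R (π R a / π R u)
  have h1 : b * u - a ∈ M R := by
    apply (RingHom.mem_ker).mpr
    rw [map_sub, map_mul, hb, div_mul_cancel₀ _ hu, sub_self]
  refine ⟨b, ?_⟩
  rw [ρ, RingHom.comp_apply]
  apply Ideal.Quotient.eq.mpr
  -- `ι b - s = (ι b - alg (mk' a u)) + (alg (mk' a u) - s)`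
  have h2 : ι R b - s = (ι R b - algebraMap (A₁ R) (S R) (IsLocalization.mk' (A₁ R) a u)) -
      (s - algebraMap (A₁ R) (S R) (IsLocalization.mk' (A₁ R) a u)) := by ring
  rw [h2]
  refine Ideal.sub_mem _ ?_ (by rw [maximalIdeal_S]; exact ha₁)
  rw [ι, RingHom.comp_apply, ← map_sub, maximalIdeal_S]
  apply Ideal.mem_map_of_mem
  have hunit : IsUnit (algebraMap (A₀ R) (A₁ R) u) := IsLocalization.map_units _ u
  have h4 : (algebraMap (A₀ R) (A₁ R) b - IsLocalization.mk' (A₁ R) a u) *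
      algebraMap (A₀ R) (A₁ R) u = algebraMap (A₀ R) (A₁ R) (b * u - a) := by
    rw [sub_mul, IsLocalization.mk'_spec, map_sub, map_mul]
  have h5 : algebraMap (A₀ R) (A₁ R) (b * u - a) ∈ maximalIdeal (A₁ R) :=
    (IsLocalization.AtPrime.to_map_mem_maximal_iff (A₁ R) (M R) _).mpr h1
  rw [← h4] at h5
  exact (Ideal.mul_unit_mem_iff_mem _ hunit).mp h5

end SH

end Groth.Agent.H3
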