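import Groth.Agent.H3.StrictHensResidue
import Mathlib.FieldTheory.Separable

/-!
# The residue field of the model is a separable closure
-/

set_option autoImplicit false
universe u

namespace Groth.Agent.H3

namespace SH

open IsLocalRing Polynomial

/-- separably closed fields transported along a ring isomorphism -/
theorem isSepClosed_of_ringEquiv {K K' : Type*} [Field K] [Field K'] (e : K ≃+* K')
    [IsSepClosed K] : IsSepClosed K' := by
  refine ⟨fun p hp => ?_⟩
  have h1 : (p.map (e.symm : K' →+* K)).Separable := hp.map
  have h2 := (IsSepClosed.splits_of_separable _ h1).map (e : K →+* K')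
  rw [Polynomial.map_map] at h2
  have h3 : ((e : K →+* K').comp (e.symm : K' →+* K)) = RingHom.id K' := by ext x; simp
  rwa [h3, Polynomial.map_id] at h2

variable (R : Type u) [CommRing R] [IsLocalRing R]

theorem e'_bijective : Function.Bijective (e' R) := by
  refine ⟨(e' R).injective, fun y => ?_⟩
  obtain ⟨a, rfl⟩ := ρ_surjective R y
  exact ⟨π R a, e'_π R a⟩

theorem e'_algebraMap (x : ResidueField R) :
    e' R (algebraMap (ResidueField R) (ks R) x) =
      algebraMap (ResidueField R) (ResidueField (S R)) x := by
  obtain ⟨r, rfl⟩ := residue_surjective x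
  have h1 : algebraMap (ResidueField R) (ks R) (residue R r) = π R (algebraMap R (A₀ R) r) := by
    rw [π_algebraMap]; rfl
  rw [h1, e'_π, IsLocalRing.ResidueField.algebraMap_residue]
  rfl

/-- the identification as an isomorphism of algebras over the residue field of `R` -/
noncomputable def eAlg : ks R ≃ₐ[ResidueField R] ResidueField (S R) :=
  AlgEquiv.ofBijective { e' R with commutes' := e'_algebraMap R } (e'_bijective R)

theorem isSepClosure : IsSepClosure (ResidueField R) (ResidueField (S R)) := by
  refine ⟨?_, ?_⟩
  · exact isSepClosed_of_ringEquiv (eAlg R).toRingEquiv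
  · exact AlgEquiv.Algebra.isSeparable (eAlg R)

end SH

end Groth.Agent.H3
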