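import Groth.Agent.H3.StrictHensTensorBij2
import Groth.Agent.H3.HensIndQFLocal

/-!
# `B^sh ⊗_{A^sh} C^sh → (B ⊗_A C)^sh` is bijective: quasi-finite, integral or ind-quasi-finite case
-/

set_option autoImplicit false
universe u

open TensorProduct IsLocalRing

namespace Groth.Agent.H3

namespace StrictHensTensorBij3

open HensTensorPrime StrictHensTensorBij HensIndQFLocal

/-- quasi-finite at the prime, or integral, or a directed union of quasi-finite subalgebras -/
def Mode3 (R S : Type u) [CommRing R] [CommRing S] [Algebra R S] (q : Ideal S) [q.IsPrime] : Prop :=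
  StrictHensTensorBij2.Mode R S q ∨ IndQF R S

section Psi

open HensTensorPrime

variable (R : Type u) [CommRing R] (S : Type u) [CommRing S] [Algebra R S]
  (p : Ideal R) [p.IsPrime] (q : Ideal S) [q.IsPrime] [q.LiesOver p]
  (Rh : Type u) [CommRing Rh] [IsLocalRing Rh] [Algebra (Localization.AtPrime p) Rh]
  [IsLocalHom (algebraMap (Localization.AtPrime p) Rh)]
  [hRh : Hensel.IsStrictHenselization (Localization.AtPrime p) Rh] [Algebra R Rh]
  [IsScalarTower R (Localization.AtPrime p) Rh]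
  (Sh : Type u) [CommRing Sh] [IsLocalRing Sh] [Algebra (Localization.AtPrime q) Sh]
  [IsLocalHom (algebraMap (Localization.AtPrime q) Sh)]
  [hSh : Hensel.IsStrictHenselization (Localization.AtPrime q) Sh] [Algebra S Sh]
  [IsScalarTower S (Localization.AtPrime q) Sh] [Algebra R Sh] [IsScalarTower R S Sh]
  [Algebra Rh Sh] [IsScalarTower R Rh Sh] [IsLocalHom (algebraMap Rh Sh)]

include q in
/-- the local ring `T` is henselian and integral over `R^h`, in both modes -/
theorem T_props [HenselianLocalRing Rh] (hmode : Mode3 R S q) :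
    HenselianLocalRing (Localization.AtPrime (Q R S Rh Sh)) ∧
      Algebra.IsIntegral Rh (Localization.AtPrime (Q R S Rh Sh)) := by
  rcases hmode with (⟨hft, hqf⟩ | hint) | hind
  rotate_left 2
  · haveI := HensQFFinite.liesOver_Q R S Rh Sh
    have hC := hind.baseChange Rh
    exact ⟨HensIndQFLocal.henselianLocalRing_localization Rh (Rh ⊗[R] S) hC (Q R S Rh Sh),
      HensIndQFLocal.isIntegral_localization Rh (Rh ⊗[R] S) hC (Q R S Rh Sh)⟩
  · haveI := hft
    haveI := hqf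
    haveI := HensQFFinite.finite_T R S q Rh Sh
    exact ⟨HensQFFinite.henselian_T R S q Rh Sh, Algebra.IsIntegral.of_finite _ _⟩
  · haveI := hint
    haveI := HensQFFinite.liesOver_Q R S Rh Sh
    haveI : Algebra.IsIntegral Rh (Rh ⊗[R] S) := inferInstance
    exact ⟨HensIntegralLocal.henselianLocalRing_localization Rh (Rh ⊗[R] S) (Q R S Rh Sh),
      HensIntegralLocal.isIntegral_localization Rh (Rh ⊗[R] S) (Q R S Rh Sh)⟩

include p q hRh hSh in
/-- in the quasi-finite, integral or ind-quasi-finite case the strict henselization of `S_q` is the local ring of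
`R^sh ⊗_R S` at `Q` -/
theorem psi_bijective_of_mode (hmode : Mode3 R S q) : Function.Bijective (psi R S Rh Sh) := by
  classical
  haveI hhRh : HenselianLocalRing Rh := hRh.henselian
  haveI scRh : IsSepClosed (IsLocalRing.ResidueField Rh) := hRh.isSepClosure.sep_closed
  have hH := StrictHensTensorPrime.isStrictHenselization R S p q Rh Sh
  obtain ⟨hT, iT⟩ := T_props R S q Rh Sh hmode
  haveI lRT : IsLocalHom (algebraMap Rh (Localization.AtPrime (Q R S Rh Sh))) := by
    haveI : IsLocalHom ((psi R S Rh Sh).comp (algebraMap Rh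
        (Localization.AtPrime (Q R S Rh Sh)))) := by
      have : (psi R S Rh Sh).comp (algebraMap Rh
        (Localization.AtPrime (Q R S Rh Sh))) = algebraMap Rh Sh := by
        ext r
        exact HensQFFinite.psi_algebraMap_left R S Rh Sh r
      rw [this]
      infer_instance
    exact isLocalHom_of_comp _ (psi R S Rh Sh)
  haveI iT' : Algebra.IsIntegral (IsLocalRing.ResidueField Rh) (IsLocalRing.ResidueField
      (Localization.AtPrime (Q R S Rh Sh))) := StrictHensTensorBij2.isIntegral_residueField _ _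
  haveI aT : Algebra.IsAlgebraic (IsLocalRing.ResidueField Rh) (IsLocalRing.ResidueField
      (Localization.AtPrime (Q R S Rh Sh))) := inferInstance
  haveI scT : IsSepClosed (IsLocalRing.ResidueField
      (Localization.AtPrime (Q R S Rh Sh))) :=
    Algebra.IsAlgebraic.isSepClosed (F := IsLocalRing.ResidueField Rh)
  have hself := HensQFFinite.isStrictHenselization_self
    (Localization.AtPrime (Q R S Rh Sh))
  letI algT : Algebra (Localization.AtPrime (Q R S Rh Sh)) Sh :=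
    (psi R S Rh Sh).toAlgebra
  haveI lT : IsLocalHom (algebraMap (Localization.AtPrime (Q R S Rh Sh)) Sh) :=
    isLocalHom_psi R S Rh Sh
  obtain ⟨e⟩ := SH.exists_algEquiv hself hH
  have hfun : ∀ x, psi R S Rh Sh x = e x := fun x => (e.commutes x).symm
  constructor
  · intro x y hxy
    rw [hfun, hfun] at hxy
    exact e.injective hxy
  · intro y
    obtain ⟨x, rfl⟩ := e.surjective y
    exact ⟨x, hfun x⟩

end Psi

section Main

variable (A B C : Type u) [CommRing A] [CommRing B]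
    [CommRing C] [Algebra A B] [Algebra A C]
    (pA : Ideal A) [pA.IsPrime] (pB : Ideal B) [pB.IsPrime] [pB.LiesOver pA]
    (pC : Ideal C) [pC.IsPrime] [pC.LiesOver pA]
    (pD : Ideal (B ⊗[A] C)) [pD.IsPrime] [pD.LiesOver pB]
    (hDC : pD.comap (Algebra.TensorProduct.includeRight : C →ₐ[A] B ⊗[A] C).toRingHom = pC)
    (Ash : Type u) [CommRing Ash] [IsLocalRing Ash] [Algebra (Localization.AtPrime pA) Ash]
    [IsLocalHom (algebraMap (Localization.AtPrime pA) Ash)]
    [hAsh : Hensel.IsStrictHenselization (Localization.AtPrime pA) Ash] [Algebra A Ash]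
    [IsScalarTower A (Localization.AtPrime pA) Ash]
    (Bsh : Type u) [CommRing Bsh] [IsLocalRing Bsh] [Algebra (Localization.AtPrime pB) Bsh]
    [IsLocalHom (algebraMap (Localization.AtPrime pB) Bsh)]
    [hBsh : Hensel.IsStrictHenselization (Localization.AtPrime pB) Bsh] [Algebra B Bsh]
    [IsScalarTower B (Localization.AtPrime pB) Bsh] [Algebra A Bsh] [IsScalarTower A B Bsh]
    [Algebra Ash Bsh] [IsScalarTower A Ash Bsh] [IsLocalHom (algebraMap Ash Bsh)]
    (Csh : Type u) [CommRing Csh] [IsLocalRing Csh] [Algebra (Localization.AtPrime pC) Csh]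
    [IsLocalHom (algebraMap (Localization.AtPrime pC) Csh)]
    [hCsh : Hensel.IsStrictHenselization (Localization.AtPrime pC) Csh] [Algebra C Csh]
    [IsScalarTower C (Localization.AtPrime pC) Csh] [Algebra A Csh] [IsScalarTower A C Csh]
    [Algebra Ash Csh] [IsScalarTower A Ash Csh] [IsLocalHom (algebraMap Ash Csh)]
    (Dsh : Type u) [CommRing Dsh] [IsLocalRing Dsh] [Algebra (Localization.AtPrime pD) Dsh]
    [IsLocalHom (algebraMap (Localization.AtPrime pD) Dsh)]
    [hDsh : Hensel.IsStrictHenselization (Localization.AtPrime pD) Dsh] [Algebra (B ⊗[A] C) Dsh]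
    [IsScalarTower (B ⊗[A] C) (Localization.AtPrime pD) Dsh]
    [Algebra Bsh Dsh] [IsLocalHom (algebraMap Bsh Dsh)] [Algebra B Dsh] [IsScalarTower B Bsh Dsh]
    [IsScalarTower B (B ⊗[A] C) Dsh]
    [Algebra Csh Dsh] [IsLocalHom (algebraMap Csh Dsh)]
    (hC : ∀ c : C, algebraMap Csh Dsh (algebraMap C Csh c) = algebraMap (B ⊗[A] C) Dsh (1 ⊗ₜ[A] c))
    [Algebra Ash Dsh] [IsScalarTower Ash Bsh Dsh] [IsScalarTower Ash Csh Dsh]

include pA pB pC pD hDC hAsh hBsh hCsh hDsh hC in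
theorem bijective_swapped_of_mode (hmode : Mode3 A B pB) :
    Function.Bijective (Algebra.TensorProduct.lift (IsScalarTower.toAlgHom Ash Csh Dsh)
      (IsScalarTower.toAlgHom Ash Bsh Dsh) (fun _ _ => Commute.all _ _)) := by
  classical
  -- `B^sh` over `A^sh`
  have hψB := psi_bijective_of_mode A B pA pB Ash Bsh hmode
  haveI hhAsh : HenselianLocalRing Ash := hAsh.henselian
  haveI scAsh : IsSepClosed (ResidueField Ash) := hAsh.isSepClosure.sep_closed
  haveI intB : Algebra.IsIntegral Ash Bsh := by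
    obtain ⟨-, iT⟩ := T_props A B pB Ash Bsh hmode
    exact Algebra.IsIntegral.of_surjective
      (⟨psi A B Ash Bsh, HensQFFinite.psi_algebraMap_left A B Ash Bsh⟩ :
        Localization.AtPrime (Q A B Ash Bsh) →ₐ[Ash] Bsh) hψB.2
  haveI intB' : Algebra.IsIntegral (ResidueField Ash) (ResidueField Bsh) :=
    StrictHensTensorBij2.isIntegral_residueField _ _
  haveI algB : Algebra.IsAlgebraic (ResidueField Ash) (ResidueField Bsh) := inferInstance
  haveI piB : IsPurelyInseparable (ResidueField Ash) (ResidueField Bsh) := inferInstance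
  -- the swapped tensor product `D' = C ⊗ B`
  let cm : C ⊗[A] B ≃ₐ[A] B ⊗[A] C := Algebra.TensorProduct.comm A C B
  let pD' : Ideal (C ⊗[A] B) := pD.comap cm.toRingEquiv.toRingHom
  haveI hpD' : pD'.IsPrime := Ideal.comap_isPrime _ pD
  haveI hlieC : pD'.LiesOver pC := by
    refine ⟨?_⟩
    rw [← hDC]
    ext c
    rfl
  have hq2 : pD = pD'.comap cm.symm.toRingEquiv.toRingHom := by
    change pD = (pD.comap cm.toRingEquiv.toRingHom).comap cm.symm.toRingEquiv.toRingHom
    rw [Ideal.comap_comap]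
    have : (cm.toRingEquiv.toRingHom).comp (cm.symm.toRingEquiv.toRingHom) = RingHom.id _ :=
      RingHom.ext fun x => cm.apply_symm_apply x
    rw [this, Ideal.comap_id]
  let l₁ : Localization.AtPrime pD' →+* Localization.AtPrime pD :=
    Localization.localRingHom pD' pD cm.toRingEquiv.toRingHom rfl
  let l₂ : Localization.AtPrime pD →+* Localization.AtPrime pD' :=
    Localization.localRingHom pD pD' cm.symm.toRingEquiv.toRingHom hq2
  have h12 : ∀ x, l₁ (l₂ x) = x := by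
    intro x
    obtain ⟨a, s, rfl⟩ := IsLocalization.exists_mk'_eq pD.primeCompl x
    simp only [l₁, l₂, Localization.localRingHom_mk']
    congr 1
    · exact cm.apply_symm_apply a
    · ext
      exact cm.apply_symm_apply _
  have h21 : ∀ x, l₂ (l₁ x) = x := by
    intro x
    obtain ⟨a, s, rfl⟩ := IsLocalization.exists_mk'_eq pD'.primeCompl x
    simp only [l₁, l₂, Localization.localRingHom_mk']
    congr 1
    · exact cm.symm_apply_apply a
    · ext
      exact cm.symm_apply_apply _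
  let eloc : Localization.AtPrime pD' ≃+* Localization.AtPrime pD :=
    RingEquiv.ofRingHom l₁ l₂ (RingHom.ext h12) (RingHom.ext h21)
  letI aLD : Algebra (Localization.AtPrime pD') Dsh :=
    ((algebraMap (Localization.AtPrime pD) Dsh).comp (eloc : Localization.AtPrime pD' →+* Localization.AtPrime pD)).toAlgebra
  haveI lLD : IsLocalHom (algebraMap (Localization.AtPrime pD') Dsh) := by
    change IsLocalHom ((algebraMap (Localization.AtPrime pD) Dsh).comp (eloc : Localization.AtPrime pD' →+* Localization.AtPrime pD))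
    exact RingHom.isLocalHom_comp _ _
  haveI hDsh' : Hensel.IsStrictHenselization (Localization.AtPrime pD') Dsh :=
    StrictHensBaseEquiv.isStrictHenselization_of_base_ringEquiv eloc (fun _ => rfl) hDsh
  letI aD'D : Algebra (C ⊗[A] B) Dsh :=
    ((algebraMap (B ⊗[A] C) Dsh).comp cm.toRingEquiv.toRingHom).toAlgebra
  have haD' : ∀ d' : C ⊗[A] B, algebraMap (C ⊗[A] B) Dsh d' = algebraMap (B ⊗[A] C) Dsh (cm d') :=
    fun _ => rfl
  haveI tD' : IsScalarTower (C ⊗[A] B) (Localization.AtPrime pD') Dsh := by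
    refine IsScalarTower.of_algebraMap_eq fun d' => ?_
    change _ = algebraMap (Localization.AtPrime pD) Dsh (l₁ (algebraMap (C ⊗[A] B) _ d'))
    rw [Localization.localRingHom_to_map, ← IsScalarTower.algebraMap_apply]
    rfl
  letI aCD : Algebra C Dsh := ((algebraMap Csh Dsh).comp (algebraMap C Csh)).toAlgebra
  haveI tCCshD : IsScalarTower C Csh Dsh := IsScalarTower.of_algebraMap_eq' rfl
  haveI tCD'D : IsScalarTower C (C ⊗[A] B) Dsh := by
    refine IsScalarTower.of_algebraMap_eq fun c => ?_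
    change algebraMap Csh Dsh (algebraMap C Csh c) = algebraMap (B ⊗[A] C) Dsh (cm (c ⊗ₜ 1))
    rw [hC]
    rfl
  have hmodeD : Mode3 C (C ⊗[A] B) pD' := by
    rcases hmode with (⟨hft, hqf⟩ | hint) | hind
    · haveI := hft
      haveI := hqf
      refine Or.inl (Or.inl ⟨inferInstance, ?_⟩)
      refine Algebra.QuasiFiniteAt.baseChange pB pD' ?_
      rw [Ideal.over_def pD pB]
      ext b
      rfl
    · haveI := hint
      exact Or.inl (Or.inr inferInstance)
    · exact Or.inr (hind.baseChange C)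
  have hψD := psi_bijective_of_mode C (C ⊗[A] B) pC pD' Csh Dsh hmodeD
  -- the maps
  let μ' : Csh ⊗[Ash] Bsh →ₐ[Ash] Dsh :=
    Algebra.TensorProduct.lift (IsScalarTower.toAlgHom Ash Csh Dsh)
      (IsScalarTower.toAlgHom Ash Bsh Dsh) (fun _ _ => Commute.all _ _)
  have hμ1 : ∀ c' : Csh, μ' (c' ⊗ₜ 1) = algebraMap Csh Dsh c' := by
    intro c'
    rw [Algebra.TensorProduct.lift_tmul, map_one, mul_one]
    rfl
  have hμ2 : ∀ b' : Bsh, μ' (1 ⊗ₜ b') = algebraMap Bsh Dsh b' := by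
    intro b'
    rw [Algebra.TensorProduct.lift_tmul, map_one, one_mul]
    rfl
  let gB : B →ₐ[A] Csh ⊗[Ash] Bsh :=
    ((Algebra.TensorProduct.includeRight : Bsh →ₐ[Ash] Csh ⊗[Ash] Bsh).restrictScalars A).comp
      (IsScalarTower.toAlgHom A B Bsh)
  have hgB : ∀ b : B, gB b = (1 : Csh) ⊗ₜ[Ash] (algebraMap B Bsh b) := fun b => rfl
  let g : C ⊗[A] B →ₐ[C] Csh ⊗[Ash] Bsh :=
    Algebra.TensorProduct.lift (Algebra.ofId C (Csh ⊗[Ash] Bsh)) gB (fun _ _ => Commute.all _ _)
  have hg1 : ∀ c : C, g (c ⊗ₜ 1) = (algebraMap C Csh c) ⊗ₜ[Ash] (1 : Bsh) := by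
    intro c
    rw [Algebra.TensorProduct.lift_tmul, map_one, mul_one]
    rfl
  have hg2 : ∀ b : B, g (1 ⊗ₜ b) = (1 : Csh) ⊗ₜ[Ash] (algebraMap B Bsh b) := by
    intro b
    rw [Algebra.TensorProduct.lift_tmul, map_one, one_mul, hgB]
  let θ : Csh ⊗[C] (C ⊗[A] B) →ₐ[C] Csh ⊗[Ash] Bsh :=
    Algebra.TensorProduct.lift (IsScalarTower.toAlgHom C Csh (Csh ⊗[Ash] Bsh)) g
      (fun _ _ => Commute.all _ _)
  have hθ : ∀ (c' : Csh) (d' : C ⊗[A] B), θ (c' ⊗ₜ d') = (c' ⊗ₜ[Ash] (1 : Bsh)) * g d' := by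
    intro c' d'
    rw [Algebra.TensorProduct.lift_tmul]
    rfl
  have hcompg : (μ' : Csh ⊗[Ash] Bsh →+* Dsh).comp (g : C ⊗[A] B →+* Csh ⊗[Ash] Bsh) =
      algebraMap (C ⊗[A] B) Dsh := by
    apply ringHom_ext_tensor
    · intro c
      change μ' (g (c ⊗ₜ 1)) = algebraMap (C ⊗[A] B) Dsh (c ⊗ₜ 1)
      rw [hg1, hμ1, hC, haD']
      rfl
    · intro b
      change μ' (g (1 ⊗ₜ b)) = algebraMap (C ⊗[A] B) Dsh (1 ⊗ₜ b)
      rw [hg2, hμ2, ← IsScalarTower.algebraMap_apply B Bsh Dsh,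
        IsScalarTower.algebraMap_apply B (B ⊗[A] C) Dsh, haD']
      rfl
  have hcomp : ∀ w : Csh ⊗[C] (C ⊗[A] B), μ' (θ w) = phi C (C ⊗[A] B) Csh Dsh w := by
    intro w
    have h1 : (μ' : Csh ⊗[Ash] Bsh →+* Dsh).comp (θ : Csh ⊗[C] (C ⊗[A] B) →+* Csh ⊗[Ash] Bsh) =
        (phi C (C ⊗[A] B) Csh Dsh : Csh ⊗[C] (C ⊗[A] B) →+* Dsh) := by
      apply ringHom_ext_tensor
      · intro c'
        change μ' (θ (c' ⊗ₜ 1)) = phi C (C ⊗[A] B) Csh Dsh (c' ⊗ₜ 1)
        rw [hθ, map_one, mul_one, hμ1, phi_tmul_one]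
      · intro d'
        change μ' (θ (1 ⊗ₜ d')) = phi C (C ⊗[A] B) Csh Dsh (1 ⊗ₜ d')
        rw [hθ, phi_one_tmul]
        have : ((1 : Csh) ⊗ₜ[Ash] (1 : Bsh)) = 1 := rfl
        rw [this, one_mul]
        exact congrArg (fun χ : C ⊗[A] B →+* Dsh => χ d') hcompg
    exact congrArg (fun χ : Csh ⊗[C] (C ⊗[A] B) →+* Dsh => χ w) h1
  -- units
  have hunit : ∀ e : Csh ⊗[Ash] Bsh, IsUnit (μ' e) → IsUnit e := by
    intro e he
    refine PurelyInsepTensorLocal.isUnit_of_isUnit_map (P := Ash) (X := Csh) (Y := Bsh)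
      (μ' : Csh ⊗[Ash] Bsh →+* Dsh) ?_ ?_ e he
    · intro x hx
      change μ' (x ⊗ₜ 1) ∈ _
      rw [hμ1]
      have h1 := ((local_hom_TFAE (algebraMap Csh Dsh)).out 0 3).mp
        (inferInstance : IsLocalHom (algebraMap Csh Dsh))
      exact h1 hx
    · intro y hy
      change μ' (1 ⊗ₜ y) ∈ _
      rw [hμ2]
      have h1 := ((local_hom_TFAE (algebraMap Bsh Dsh)).out 0 3).mp
        (inferInstance : IsLocalHom (algebraMap Bsh Dsh))
      exact h1 hy
  -- localization properties of `D^sh`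
  have hloc : ∀ d : Dsh, ∃ y t : Csh ⊗[C] (C ⊗[A] B),
      IsUnit (μ' (θ t)) ∧ d * μ' (θ t) = μ' (θ y) := by
    intro d
    obtain ⟨w, rfl⟩ := hψD.2 d
    obtain ⟨y, ⟨t, ht⟩, rfl⟩ :=
      IsLocalization.exists_mk'_eq (Q C (C ⊗[A] B) Csh Dsh).primeCompl w
    refine ⟨y, t, ?_, ?_⟩
    · rw [hcomp]
      exact isUnit_phi C (C ⊗[A] B) Csh Dsh ⟨t, ht⟩
    · rw [hcomp, hcomp, ← psi_algebraMap, ← psi_algebraMap, ← map_mul]
      congr 1
      exact IsLocalization.mk'_spec _ y ⟨t, ht⟩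
  have hinj : ∀ y : Csh ⊗[C] (C ⊗[A] B), μ' (θ y) = 0 →
      ∃ t : Csh ⊗[C] (C ⊗[A] B), IsUnit (μ' (θ t)) ∧ t * y = 0 := by
    intro y hy
    rw [hcomp, ← psi_algebraMap] at hy
    have h1 : algebraMap (Csh ⊗[C] (C ⊗[A] B))
        (Localization.AtPrime (Q C (C ⊗[A] B) Csh Dsh)) y = 0 := by
      apply hψD.1
      rw [hy, map_zero]
    obtain ⟨⟨t, ht⟩, hty⟩ :=
      (IsLocalization.map_eq_zero_iff (Q C (C ⊗[A] B) Csh Dsh).primeCompl _ y).mp h1
    refine ⟨t, ?_, hty⟩
    rw [hcomp]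
    exact isUnit_phi C (C ⊗[A] B) Csh Dsh ⟨t, ht⟩
  -- decomposition
  have hR1 : ∀ (x : Ash ⊗[A] B) (c' : Csh),
      c' ⊗ₜ[Ash] (phi A B Ash Bsh x) ∈ (θ : Csh ⊗[C] (C ⊗[A] B) →+* Csh ⊗[Ash] Bsh).range := by
    intro x
    induction x using TensorProduct.induction_on with
    | zero =>
      intro c'
      rw [map_zero, TensorProduct.tmul_zero]
      exact Subring.zero_mem _
    | tmul a b =>
      intro c'
      refine ⟨(a • c') ⊗ₜ ((1 : C) ⊗ₜ b), ?_⟩
      change θ ((a • c') ⊗ₜ ((1 : C) ⊗ₜ b)) = _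
      rw [hθ, hg2, Algebra.TensorProduct.tmul_mul_tmul, mul_one, one_mul,
        Algebra.TensorProduct.lift_tmul, TensorProduct.smul_tmul, Algebra.smul_def]
      rfl
    | add x y hx hy =>
      intro c'
      rw [map_add, TensorProduct.tmul_add]
      exact Subring.add_mem _ (hx c') (hy c')
  have hR2 : ∀ e : Csh ⊗[Ash] Bsh,
      ∃ u ∈ (θ : Csh ⊗[C] (C ⊗[A] B) →+* Csh ⊗[Ash] Bsh).range, IsUnit u ∧
        u * e ∈ (θ : Csh ⊗[C] (C ⊗[A] B) →+* Csh ⊗[Ash] Bsh).range := by
    intro e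
    induction e using TensorProduct.induction_on with
    | zero =>
      refine ⟨1, Subring.one_mem _, isUnit_one, ?_⟩
      rw [mul_zero]
      exact Subring.zero_mem _
    | tmul c' b' =>
      obtain ⟨w, rfl⟩ := hψB.2 b'
      obtain ⟨x, ⟨s, hs⟩, rfl⟩ := IsLocalization.exists_mk'_eq (Q A B Ash Bsh).primeCompl w
      have hsp : phi A B Ash Bsh s * psi A B Ash Bsh
          (IsLocalization.mk' (Localization.AtPrime (Q A B Ash Bsh)) x
            (⟨s, hs⟩ : (Q A B Ash Bsh).primeCompl)) = phi A B Ash Bsh x := by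
        rw [← psi_algebraMap, ← psi_algebraMap, ← map_mul, mul_comm]
        congr 1
        exact IsLocalization.mk'_spec _ x ⟨s, hs⟩
      refine ⟨(1 : Csh) ⊗ₜ[Ash] (phi A B Ash Bsh s), hR1 s 1, ?_, ?_⟩
      · exact (isUnit_phi A B Ash Bsh ⟨s, hs⟩).map
          (Algebra.TensorProduct.includeRight : Bsh →ₐ[Ash] Csh ⊗[Ash] Bsh)
      · rw [Algebra.TensorProduct.tmul_mul_tmul, one_mul, hsp]
        exact hR1 x c'
    | add e₁ e₂ h₁ h₂ =>
      obtain ⟨u₁, hu₁Θ, hu₁, h₁⟩ := h₁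
      obtain ⟨u₂, hu₂Θ, hu₂, h₂⟩ := h₂
      refine ⟨u₁ * u₂, Subring.mul_mem _ hu₁Θ hu₂Θ, hu₁.mul hu₂, ?_⟩
      have h3 : u₁ * u₂ * (e₁ + e₂) = u₂ * (u₁ * e₁) + u₁ * (u₂ * e₂) := by ring
      rw [h3]
      exact Subring.add_mem _ (Subring.mul_mem _ hu₂Θ h₁) (Subring.mul_mem _ hu₁Θ h₂)
  have hdec : ∀ e : Csh ⊗[Ash] Bsh, ∃ u : Csh ⊗[Ash] Bsh, IsUnit u ∧
      u * e ∈ (θ : Csh ⊗[C] (C ⊗[A] B) →+* Csh ⊗[Ash] Bsh).range := by
    intro e
    obtain ⟨u, -, hu, h⟩ := hR2 e
    exact ⟨u, hu, h⟩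
  exact bijective_of_core (μ' : Csh ⊗[Ash] Bsh →+* Dsh)
    (θ : Csh ⊗[C] (C ⊗[A] B) →+* Csh ⊗[Ash] Bsh) hunit hdec hloc hinj

end Main

end StrictHensTensorBij3

end Groth.Agent.H3
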