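import Groth.Agent.H3.StrictHensClosedPt
import Mathlib.RingTheory.AlgebraicIndependent.TranscendenceBasis
import Mathlib.RingTheory.MvPolynomial.Ideal
import Mathlib.RingTheory.Polynomial.Basic

/-!
# Polynomial rings on a transcendence basis of the residue field
-/

set_option autoImplicit false
universe u

open TensorProduct IsLocalRing

namespace Groth.Agent.H3

namespace StrictHensTrBasis

section KerComap

variable (R₀ : Type u) [CommRing R₀] [IsLocalRing R₀] (ι : Type u)
  (B : Type u) [CommRing B] [Algebra R₀ B] [Algebra (MvPolynomial ι R₀) B]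
  [IsScalarTower R₀ (MvPolynomial ι R₀) B]
  (L : Type u) [Field L] (β : B →+* L) [Algebra (ResidueField R₀) L]

theorem map_algebraMap_eq
    (hcompat : ∀ r : R₀, algebraMap (ResidueField R₀) L (residue R₀ r) = β (algebraMap R₀ B r))
    (P : MvPolynomial ι R₀) :
    β (algebraMap (MvPolynomial ι R₀) B P) =
      MvPolynomial.aeval (fun i : ι => β (algebraMap (MvPolynomial ι R₀) B (MvPolynomial.X i)))
        (MvPolynomial.map (residue R₀) P) := by
  have h : β.comp (algebraMap (MvPolynomial ι R₀) B) =
      ((MvPolynomial.aeval (R := ResidueField R₀)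
        (fun i : ι => β (algebraMap (MvPolynomial ι R₀) B (MvPolynomial.X i)))) :
          MvPolynomial ι (ResidueField R₀) →+* L).comp (MvPolynomial.map (residue R₀)) := by
    apply MvPolynomial.ringHom_ext
    · intro r
      rw [RingHom.comp_apply, RingHom.comp_apply, MvPolynomial.map_C]
      have h1 : (MvPolynomial.C r : MvPolynomial ι R₀) = algebraMap R₀ (MvPolynomial ι R₀) r := rfl
      rw [h1, ← IsScalarTower.algebraMap_apply R₀ (MvPolynomial ι R₀) B, ← hcompat]
      change _ = MvPolynomial.aeval _ (MvPolynomial.C (residue R₀ r))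
      rw [MvPolynomial.aeval_C]
    · intro i
      rw [RingHom.comp_apply, RingHom.comp_apply, MvPolynomial.map_X]
      change _ = MvPolynomial.aeval _ (MvPolynomial.X i)
      rw [MvPolynomial.aeval_X]
  exact congrArg (fun φ : MvPolynomial ι R₀ →+* L => φ P) h

theorem comap_ker_eq
    (hcompat : ∀ r : R₀, algebraMap (ResidueField R₀) L (residue R₀ r) = β (algebraMap R₀ B r))
    (hind : AlgebraicIndependent (ResidueField R₀)
      (fun i : ι => β (algebraMap (MvPolynomial ι R₀) B (MvPolynomial.X i)))) :
    (RingHom.ker β).comap (algebraMap (MvPolynomial ι R₀) B) =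
      (maximalIdeal R₀).map (MvPolynomial.C : R₀ →+* MvPolynomial ι R₀) := by
  ext P
  rw [Ideal.mem_comap, RingHom.mem_ker, map_algebraMap_eq R₀ ι B L β hcompat P,
    MvPolynomial.mem_map_C_iff]
  have hinj : Function.Injective (MvPolynomial.aeval (R := ResidueField R₀)
      (fun i : ι => β (algebraMap (MvPolynomial ι R₀) B (MvPolynomial.X i)))) := hind
  constructor
  · intro h m
    have h1 : MvPolynomial.map (residue R₀) P = 0 := by
      apply hinj
      rw [h, map_zero]
    have h2 := congrArg (MvPolynomial.coeff m) h1
    rw [MvPolynomial.coeff_map, MvPolynomial.coeff_zero] at h2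
    exact (residue_eq_zero_iff _).mp h2
  · intro h
    have h1 : MvPolynomial.map (residue R₀) P = 0 := by
      ext m
      rw [MvPolynomial.coeff_map, MvPolynomial.coeff_zero]
      exact (residue_eq_zero_iff _).mpr (h m)
    rw [h1, map_zero]

end KerComap

section Algebraic

open Polynomial in
/-- an element algebraic over a subalgebra contained in the range of a field map is algebraic over
the source field -/
theorem isAlgebraic_of_le_range {κ₀ K L : Type u} [Field κ₀] [Field K] [Field L] [Algebra κ₀ L]
    [Algebra K L] (S₀ : Subalgebra κ₀ L) (hS : ∀ s ∈ S₀, s ∈ (algebraMap K L).range)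
    {z : L} (hz : IsAlgebraic S₀ z) : IsAlgebraic K z := by
  obtain ⟨P, hP0, hPz⟩ := hz
  have hlift : P.map (S₀.val : S₀ →+* L) ∈ Polynomial.lifts (algebraMap K L) := by
    rw [Polynomial.lifts_iff_coeff_lifts]
    intro n
    rw [Polynomial.coeff_map]
    exact hS _ (P.coeff n).2
  obtain ⟨P', hP''⟩ := hlift
  have hP' : P'.map (algebraMap K L) = P.map (S₀.val : S₀ →+* L) := hP''
  refine ⟨P', ?_, ?_⟩
  · intro h0
    rw [h0, Polynomial.map_zero] at hP'
    apply hP0
    have hinj : Function.Injective (S₀.val : S₀ →+* L) := Subtype.val_injective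
    exact Polynomial.map_injective _ hinj (by rw [← hP', Polynomial.map_zero])
  · rw [Polynomial.aeval_def, Polynomial.eval₂_eq_eval_map, hP', Polynomial.eval_map]
    rw [Polynomial.aeval_def] at hPz
    exact hPz

end Algebraic

end StrictHensTrBasis

end Groth.Agent.H3
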