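import Groth.Agent.H3.StrictHensSepClosure
import Groth.Prelude.Def_Hensel

/-!
# The universal property of the model of the strict henselization
-/

set_option autoImplicit false
universe u

namespace Groth.Agent.H3

namespace SH

open IsLocalRing Polynomial

variable (R : Type u) [CommRing R] [IsLocalRing R]
  (T : Type u) [CommRing T] [HenselianLocalRing T] (f : R →+* T) [IsLocalHom f]
  (τ : ResidueField (S R) →+* ResidueField T)
  (hτ : τ.comp (ResidueField.map (algebraMap R (S R))) = ResidueField.map f)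

/-- the induced map `kˢ → κ(T)` -/
noncomputable def κ : ks R →+* ResidueField T := τ.comp (e' R)

include hτ in
theorem κ_comp_toKs : (κ R T τ).comp (toKs R) = (residue T).comp f := by
  ext r
  change τ (e' R (algebraMap (ResidueField R) (ks R) (residue R r))) = residue T (f r)
  rw [e'_algebraMap, IsLocalRing.ResidueField.algebraMap_residue,
    ← ResidueField.map_residue (algebraMap R (S R)), ← RingHom.comp_apply, hτ,
    ResidueField.map_residue]

include hτ in
theorem residue_eval₂ (p : R[X]) (α : ks R) (t : T) (ht : residue T t = κ R T τ α) :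
    residue T (p.eval₂ f t) = κ R T τ (p.eval₂ (toKs R) α) := by
  rw [Polynomial.hom_eval₂, Polynomial.hom_eval₂, κ_comp_toKs R T f τ hτ, ht]

theorem derivative_F_ne_zero (α : ks R) : (F R α).derivative.eval₂ (toKs R) α ≠ 0 := by
  have hsep : (minpoly (ResidueField R) α).Separable :=
    Algebra.IsSeparable.isSeparable (ResidueField R) α
  have h1 := hsep.aeval_derivative_ne_zero (minpoly.aeval (ResidueField R) α)
  rw [← F_map, Polynomial.derivative_map, Polynomial.aeval_def, Polynomial.eval₂_map] at h1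
  exact h1

include hτ in
theorem eval₂_mem (α : ks R) (t : T) (ht : residue T t = κ R T τ α) :
    (F R α).eval₂ f t ∈ maximalIdeal T := by
  rw [← residue_eq_zero_iff, residue_eval₂ R T f τ hτ _ α t ht, F_eval₂, map_zero]

include hτ in
theorem isUnit_derivative (α : ks R) (t : T) (ht : residue T t = κ R T τ α) :
    IsUnit ((F R α).derivative.eval₂ f t) := by
  rw [← IsLocalRing.notMem_maximalIdeal, ← residue_eq_zero_iff,
    residue_eval₂ R T f τ hτ _ α t ht]
  exact (_root_.map_ne_zero _).mpr (derivative_F_ne_zero R α)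

include hτ in
theorem exists_root (α : ks R) :
    ∃ t : T, (F R α).eval₂ f t = 0 ∧ residue T t = κ R T τ α := by
  obtain ⟨a₀, ha₀⟩ := residue_surjective (κ R T τ α)
  have h₁ : ((F R α).map f).eval a₀ ∈ maximalIdeal T := by
    rw [Polynomial.eval_map]
    exact eval₂_mem R T f τ hτ α a₀ ha₀
  have h₂ : IsUnit (((F R α).map f).derivative.eval a₀) := by
    rw [Polynomial.derivative_map, Polynomial.eval_map]
    exact isUnit_derivative R T f τ hτ α a₀ ha₀
  obtain ⟨t, ht, hta⟩ := HenselianLocalRing.is_henselian ((F R α).map f)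
    ((F_monic R α).map f) a₀ h₁ h₂
  refine ⟨t, ?_, ?_⟩
  · rw [← Polynomial.eval_map]
    exact ht
  · rw [← ha₀]
    exact Ideal.Quotient.eq.mpr hta

/-- the chosen roots -/
noncomputable def root (α : ks R) : T := (exists_root R T f τ hτ α).choose

theorem root_eval₂ (α : ks R) : (F R α).eval₂ f (root R T f τ hτ α) = 0 :=
  (exists_root R T f τ hτ α).choose_spec.1

theorem residue_root (α : ks R) : residue T (root R T f τ hτ α) = κ R T τ α :=
  (exists_root R T f τ hτ α).choose_spec.2

/-- the map `A₀ → T` -/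
noncomputable def φ₀ : A₀ R →+* T :=
  MonicQuot.liftRingHom f (root R T f τ hτ) (fun α _ => root_eval₂ R T f τ hτ α)

theorem φ₀_X₀ (α : ks R) : φ₀ R T f τ hτ (X₀ R α) = root R T f τ hτ α :=
  MonicQuot.liftRingHom_mk_X _ _ _ α

theorem φ₀_algebraMap (r : R) : φ₀ R T f τ hτ (algebraMap R (A₀ R) r) = f r :=
  MonicQuot.liftRingHom_algebraMap _ _ _ r

theorem ρ_algebraMap (r : R) :
    ρ R (algebraMap R (A₀ R) r) = algebraMap (ResidueField R) (ResidueField (S R)) (residue R r) :=
  rfl

theorem residue_comp_φ₀ : (residue T).comp (φ₀ R T f τ hτ) = τ.comp (ρ R) := by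
  apply MonicQuot.ringHom_ext
  · intro r
    change residue T (φ₀ R T f τ hτ (algebraMap R (A₀ R) r)) = τ (ρ R (algebraMap R (A₀ R) r))
    rw [φ₀_algebraMap, ρ_algebraMap, ← e'_algebraMap]
    exact (congrArg (fun θ : R →+* ResidueField T => θ r) (κ_comp_toKs R T f τ hτ)).symm
  · intro α
    change residue T (φ₀ R T f τ hτ (X₀ R α)) = τ (ρ R (X₀ R α))
    rw [φ₀_X₀, residue_root, κ, RingHom.comp_apply, e'_apply]
    rfl

theorem ρ_ne_zero {a : A₀ R} (ha : a ∉ M R) : ρ R a ≠ 0 := by
  rw [ρ, RingHom.comp_apply, Ne, residue_eq_zero_iff]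
  exact (IsLocalRing.notMem_maximalIdeal).mpr (isUnit_ι R ha)

theorem isUnit_φ₀_iff (a : A₀ R) : IsUnit (φ₀ R T f τ hτ a) ↔ a ∉ M R := by
  have h1 : residue T (φ₀ R T f τ hτ a) = τ (ρ R a) :=
    congrArg (fun θ : A₀ R →+* ResidueField T => θ a) (residue_comp_φ₀ R T f τ hτ)
  rw [← IsLocalRing.notMem_maximalIdeal, ← residue_eq_zero_iff, h1, map_eq_zero]
  constructor
  · intro h ha
    apply h
    rw [ρ, RingHom.comp_apply, residue_eq_zero_iff]
    exact ι_mem_maximalIdeal R ha
  · exact ρ_ne_zero R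

/-- the map `A₁ → T` -/
noncomputable def φ₁ : A₁ R →+* T :=
  IsLocalization.lift (M := (M R).primeCompl) (g := φ₀ R T f τ hτ)
    (fun y => (isUnit_φ₀_iff R T f τ hτ y).mpr y.2)

theorem φ₁_comp : (φ₁ R T f τ hτ).comp (algebraMap (A₀ R) (A₁ R)) = φ₀ R T f τ hτ :=
  IsLocalization.lift_comp _

instance : IsLocalHom (φ₁ R T f τ hτ) := by
  refine ⟨fun x hx => ?_⟩
  obtain ⟨a, u, rfl⟩ := IsLocalization.exists_mk'_eq (M R).primeCompl x
  have h1 : φ₁ R T f τ hτ (IsLocalization.mk' (A₁ R) a u) * φ₀ R T f τ hτ u =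
      φ₀ R T f τ hτ a := by
    rw [← φ₁_comp R T f τ hτ, RingHom.comp_apply, RingHom.comp_apply, ← map_mul,
      IsLocalization.mk'_spec]
  have h2 : IsUnit (φ₀ R T f τ hτ a) := by
    rw [← h1]
    exact hx.mul ((isUnit_φ₀_iff R T f τ hτ u).mpr u.2)
  have h3 : a ∉ M R := (isUnit_φ₀_iff R T f τ hτ a).mp h2
  have h4 : IsUnit (algebraMap (A₀ R) (A₁ R) a) :=
    (IsLocalization.AtPrime.isUnit_to_map_iff (A₁ R) (M R) a).mpr h3
  have h5 : IsLocalization.mk' (A₁ R) a u * algebraMap (A₀ R) (A₁ R) u =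
      algebraMap (A₀ R) (A₁ R) a := IsLocalization.mk'_spec _ _ _
  rw [← h5] at h4
  exact isUnit_of_mul_isUnit_left h4

end SH

end Groth.Agent.H3
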