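import Groth.Agent.H3.GLLift
import Groth.Agent.H50.DescentRing
import Mathlib.RingTheory.TensorProduct.MonoidAlgebra
import Mathlib.RingTheory.Bialgebra.MonoidAlgebra

/-!
# Descent data on a group algebra `T[M]` given by group-like elements

For a ring map `R → T` and a commutative group `M`, a descent datum on the `T`-Hopf algebra `T[M]`
relative to `R → T` is a family of group-like elements `g m` of `(T ⊗[R] T)[M]`, multiplicative in
`m`, normalised along the diagonal and satisfying the cocycle condition over `T ⊗ T ⊗ T`.  When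
`R → T` is flat the descended algebra `A ⊆ T[M]` satisfies `A ⊗[R] T ≃ T[M]`.
-/

set_option autoImplicit false
set_option linter.unusedSectionVars false
universe u
open scoped TensorProduct

namespace Groth.Agent.H3.TwDesc

open MonoidAlgebra

section Maps

variable (R : Type u) [CommRing R] (T : Type u) [CommRing T] [Algebra R T]

/-- `a ⊗ b ↦ (a ⊗ b) ⊗ 1` -/
noncomputable abbrev q12 : T ⊗[R] T →ₐ[R] (T ⊗[R] T) ⊗[R] T :=
  Algebra.TensorProduct.includeLeft

/-- `a ⊗ b ↦ (a ⊗ 1) ⊗ b` -/
noncomputable abbrev q13 : T ⊗[R] T →ₐ[R] (T ⊗[R] T) ⊗[R] T :=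
  Algebra.TensorProduct.map (Algebra.TensorProduct.includeLeft : T →ₐ[R] T ⊗[R] T)
    (AlgHom.id R T)

/-- `a ⊗ b ↦ (1 ⊗ a) ⊗ b` -/
noncomputable abbrev q23 : T ⊗[R] T →ₐ[R] (T ⊗[R] T) ⊗[R] T :=
  Algebra.TensorProduct.map (Algebra.TensorProduct.includeRight : T →ₐ[R] T ⊗[R] T)
    (AlgHom.id R T)

/-- the multiplication `T ⊗ T → T` -/
noncomputable abbrev mulT : T ⊗[R] T →ₐ[R] T := Algebra.TensorProduct.lmul' R

/-- `q12` as a ring map -/
noncomputable abbrev q12r : T ⊗[R] T →+* (T ⊗[R] T) ⊗[R] T := (q12 R T : _ →+* _)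

/-- `q13` as a ring map -/
noncomputable abbrev q13r : T ⊗[R] T →+* (T ⊗[R] T) ⊗[R] T := (q13 R T : _ →+* _)

/-- `q23` as a ring map -/
noncomputable abbrev q23r : T ⊗[R] T →+* (T ⊗[R] T) ⊗[R] T := (q23 R T : _ →+* _)

/-- `mulT` as a ring map -/
noncomputable abbrev mulTr : T ⊗[R] T →+* T := (mulT R T : _ →+* _)

end Maps

section Datum

variable {R : Type u} [CommRing R] {T : Type u} [CommRing T] [Algebra R T]
  {M : Type u} [CommGroup M]

/-- the ring map `(T ⊗ T)[M] → (T ⊗ T ⊗ T)[M]` which is `q23` on coefficients and sends `m` to the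
pullback of `g m` along `q12` -/
noncomputable def Lam (g : M →* MonoidAlgebra (T ⊗[R] T) M) :
    MonoidAlgebra (T ⊗[R] T) M →+* MonoidAlgebra ((T ⊗[R] T) ⊗[R] T) M :=
  liftNCRingHom ((singleOneRingHom).comp (q23r R T))
    ((mapRingHom M (q12r R T) :
      MonoidAlgebra (T ⊗[R] T) M →* MonoidAlgebra ((T ⊗[R] T) ⊗[R] T) M).comp g)
    (fun _ _ => Commute.all (S := MonoidAlgebra ((T ⊗[R] T) ⊗[R] T) M) _ _)

theorem Lam_single (g : M →* MonoidAlgebra (T ⊗[R] T) M) (m : M) (s : T ⊗[R] T) :
    Lam g (single m s) = single 1 (q23 R T s) * mapRingHom M (q12r R T) (g m) := by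
  simp [Lam]

variable (R T M) in
/-- a descent datum on `T[M]` relative to `R → T` -/
structure Datum where
  /-- the images of the group elements -/
  g : M →* MonoidAlgebra (T ⊗[R] T) M
  gl : ∀ m, IsGroupLikeElem (T ⊗[R] T) (g m)
  c1 : ∀ m, mapRingHom M (mulTr R T) (g m) = single m 1
  c2 : ∀ m, Lam g (g m) = mapRingHom M (q13r R T) (g m)

variable (g : M →* MonoidAlgebra (T ⊗[R] T) M)

/-- the twisted coaction with values in `(T ⊗ T)[M]` -/
noncomputable def rho' : MonoidAlgebra T M →ₐ[R] MonoidAlgebra (T ⊗[R] T) M :=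
  liftNCAlgHom ((singleOneAlgHom : T ⊗[R] T →ₐ[R] MonoidAlgebra (T ⊗[R] T) M).comp
    (Algebra.TensorProduct.includeRight : T →ₐ[R] T ⊗[R] T)) g
    (fun _ _ => Commute.all (S := MonoidAlgebra (T ⊗[R] T) M) _ _)

theorem rho'_single (m : M) (t : T) : rho' g (single m t) = single 1 ((1 : T) ⊗ₜ[R] t) * g m := by
  simp [rho']

theorem rho'_single_one (m : M) : rho' g (single m 1) = g m := by
  rw [rho'_single, ← Algebra.TensorProduct.one_def, ← one_def, one_mul]

theorem rho'_single_one_left (t : T) :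
    rho' g (single 1 t) = single 1 ((1 : T) ⊗ₜ[R] t) := by
  rw [rho'_single, map_one, mul_one]

/-- the canonical isomorphism `T[M] ⊗ T ≃ (T ⊗ T)[M]` -/
noncomputable abbrev kap2 : MonoidAlgebra T M ⊗[R] T ≃ₐ[R] MonoidAlgebra (T ⊗[R] T) M :=
  lTensorAlgEquiv R T T

/-- the twisted coaction in the form used for descent -/
noncomputable def rho : MonoidAlgebra T M →ₐ[R] MonoidAlgebra T M ⊗[R] T :=
  ((kap2 (R := R) (T := T) (M := M)).symm : _ →ₐ[R] _).comp (rho' g)

theorem rho_apply (x : MonoidAlgebra T M) :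
    rho g x = (kap2 (R := R) (T := T) (M := M)).symm (rho' g x) := rfl

theorem kap2_rho (x : MonoidAlgebra T M) : kap2 (rho g x) = rho' g x := by
  rw [rho_apply, AlgEquiv.apply_symm_apply]

end Datum

section Descent

variable {R : Type u} [CommRing R] {T : Type u} [CommRing T] [Algebra R T]
  {M : Type u} [CommGroup M]

open Groth.Agent.H50.DescentRing

theorem algebraMap_eq_single (b : T) :
    algebraMap T (MonoidAlgebra T M) b = single 1 b := by
  rw [coe_algebraMap]; rfl

/-- two ring maps out of `(A ⊗ B)[M]` agreeing on the generators are equal -/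
theorem ringHom_ext_tensor {A B : Type u} [CommRing A] [CommRing B] [Algebra R A] [Algebra R B]
    {W : Type*} [Semiring W] {f f' : MonoidAlgebra (A ⊗[R] B) M →+* W}
    (h : ∀ (m : M) (a : A) (b : B), f (single m (a ⊗ₜ[R] b)) = f' (single m (a ⊗ₜ[R] b))) :
    f = f' := by
  apply ringHom_ext
  · intro s
    induction s using TensorProduct.induction_on with
    | zero => simp
    | tmul a b => exact h 1 a b
    | add x y hx hy => rw [single_add, map_add, map_add, hx, hy]
  · intro m
    rw [Algebra.TensorProduct.one_def]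
    exact h m 1 1

variable (g : M →* MonoidAlgebra (T ⊗[R] T) M)

theorem rho_algebraMap (b : T) :
    rho g (algebraMap T (MonoidAlgebra T M) b) = (1 : MonoidAlgebra T M) ⊗ₜ[R] b := by
  rw [rho_apply, algebraMap_eq_single, rho'_single_one_left]
  exact lTensorAlgEquiv_symm_single (R := R) (1 : M) (1 : T) b

theorem rho_hB (b : T) (c : MonoidAlgebra T M) :
    rho g (c * algebraMap T (MonoidAlgebra T M) b) =
      rho g c * ((1 : MonoidAlgebra T M) ⊗ₜ[R] b) := by
  rw [map_mul, rho_algebraMap]

theorem mu_kap2_symm (y : MonoidAlgebra (T ⊗[R] T) M) :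
    mu (A := R) (B := T) (C' := MonoidAlgebra T M)
      ((kap2 (R := R) (T := T) (M := M)).symm y) = mapRingHom M (mulTr R T) y := by
  have h : ((mu (A := R) (B := T) (C' := MonoidAlgebra T M)).toRingHom.comp
      ((kap2 (R := R) (T := T) (M := M)).symm : _ →ₐ[R] _).toRingHom) =
      mapRingHom M (mulTr R T) := by
    apply ringHom_ext_tensor
    intro m a b
    simp only [AlgHom.toRingHom_eq_coe, RingHom.coe_comp, RingHom.coe_coe, Function.comp_apply,
      AlgEquiv.coe_algHom, mapRingHom_single]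
    rw [lTensorAlgEquiv_symm_single, mu_tmul, algebraMap_eq_single, single_mul_single, mul_one]
    simp
  exact DFunLike.congr_fun h y

theorem rho_counit (hc1 : ∀ m, mapRingHom M (mulTr R T) (g m) = single m 1)
    (c : MonoidAlgebra T M) :
    mu (A := R) (B := T) (C' := MonoidAlgebra T M) (rho g c) = c := by
  rw [rho_apply, mu_kap2_symm]
  have h : (mapRingHom M (mulTr R T)).comp (rho' g).toRingHom =
      RingHom.id (MonoidAlgebra T M) := by
    apply ringHom_ext
    · intro t
      simp only [AlgHom.toRingHom_eq_coe, RingHom.coe_comp, RingHom.coe_coe, Function.comp_apply,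
        RingHom.id_apply]
      rw [rho'_single_one_left, mapRingHom_single]
      simp
    · intro m
      simp only [AlgHom.toRingHom_eq_coe, RingHom.coe_comp, RingHom.coe_coe, Function.comp_apply,
        RingHom.id_apply]
      rw [rho'_single_one]
      exact hc1 m
  exact DFunLike.congr_fun h c

/-- the canonical isomorphism `(T[M] ⊗ T) ⊗ T ≃ (T ⊗ T ⊗ T)[M]` -/
noncomputable def kap3 :
    (MonoidAlgebra T M ⊗[R] T) ⊗[R] T ≃ₐ[R] MonoidAlgebra ((T ⊗[R] T) ⊗[R] T) M :=
  (Algebra.TensorProduct.congr (kap2 (R := R) (T := T) (M := M)) AlgEquiv.refl).trans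
    (lTensorAlgEquiv R (T ⊗[R] T) T)

theorem kap3_symm_single (m : M) (a b c : T) :
    (kap3 (R := R) (T := T) (M := M)).symm (single m ((a ⊗ₜ[R] b) ⊗ₜ[R] c)) =
      (single m a ⊗ₜ[R] b) ⊗ₜ[R] c := by
  rw [kap3, AlgEquiv.symm_trans_apply, lTensorAlgEquiv_symm_single]
  rw [Algebra.TensorProduct.congr_symm_apply, Algebra.TensorProduct.map_tmul]
  simp

/-- `kap2.symm` as a ring map -/
noncomputable abbrev k2s : MonoidAlgebra (T ⊗[R] T) M →+* MonoidAlgebra T M ⊗[R] T :=
  ((kap2 (R := R) (T := T) (M := M)).symm.toAlgHom).toRingHom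

/-- `kap3.symm` as a ring map -/
noncomputable abbrev k3s :
    MonoidAlgebra ((T ⊗[R] T) ⊗[R] T) M →+* (MonoidAlgebra T M ⊗[R] T) ⊗[R] T :=
  ((kap3 (R := R) (T := T) (M := M)).symm.toAlgHom).toRingHom

theorem k2s_apply (y : MonoidAlgebra (T ⊗[R] T) M) :
    k2s (R := R) (T := T) (M := M) y = (kap2 (R := R) (T := T) (M := M)).symm y := rfl

theorem k3s_apply (y : MonoidAlgebra ((T ⊗[R] T) ⊗[R] T) M) :
    k3s (R := R) (T := T) (M := M) y = (kap3 (R := R) (T := T) (M := M)).symm y := rfl

theorem kap_q12 (y : MonoidAlgebra (T ⊗[R] T) M) :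
    (kap2 (R := R) (T := T) (M := M)).symm y ⊗ₜ[R] (1 : T) =
      (kap3 (R := R) (T := T) (M := M)).symm (mapRingHom M (q12r R T) y) := by
  have h : ((Algebra.TensorProduct.includeLeft :
        MonoidAlgebra T M ⊗[R] T →ₐ[R] (MonoidAlgebra T M ⊗[R] T) ⊗[R] T).toRingHom).comp
      (k2s (R := R) (T := T) (M := M)) =
      (k3s (R := R) (T := T) (M := M)).comp (mapRingHom M (q12r R T)) := by
    apply ringHom_ext_tensor
    intro m a b
    change (kap2 (R := R) (T := T) (M := M)).symm (single m (a ⊗ₜ[R] b)) ⊗ₜ[R] (1 : T) =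
      (kap3 (R := R) (T := T) (M := M)).symm (mapRingHom M (q12r R T) (single m (a ⊗ₜ[R] b)))
    rw [lTensorAlgEquiv_symm_single, mapRingHom_single]
    change _ = (kap3 (R := R) (T := T) (M := M)).symm (single m ((a ⊗ₜ[R] b) ⊗ₜ[R] (1 : T)))
    rw [kap3_symm_single]
  exact DFunLike.congr_fun h y

theorem kap_q13 (y : MonoidAlgebra (T ⊗[R] T) M) :
    Algebra.TensorProduct.map
      (Algebra.TensorProduct.includeLeft : MonoidAlgebra T M →ₐ[R] MonoidAlgebra T M ⊗[R] T)
      (AlgHom.id R T) ((kap2 (R := R) (T := T) (M := M)).symm y) =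
      (kap3 (R := R) (T := T) (M := M)).symm (mapRingHom M (q13r R T) y) := by
  have h : ((Algebra.TensorProduct.map
      (Algebra.TensorProduct.includeLeft : MonoidAlgebra T M →ₐ[R] MonoidAlgebra T M ⊗[R] T)
      (AlgHom.id R T)).toRingHom).comp (k2s (R := R) (T := T) (M := M)) =
      (k3s (R := R) (T := T) (M := M)).comp (mapRingHom M (q13r R T)) := by
    apply ringHom_ext_tensor
    intro m a b
    change Algebra.TensorProduct.map
      (Algebra.TensorProduct.includeLeft : MonoidAlgebra T M →ₐ[R] MonoidAlgebra T M ⊗[R] T)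
      (AlgHom.id R T) ((kap2 (R := R) (T := T) (M := M)).symm (single m (a ⊗ₜ[R] b))) =
      (kap3 (R := R) (T := T) (M := M)).symm (mapRingHom M (q13r R T) (single m (a ⊗ₜ[R] b)))
    rw [lTensorAlgEquiv_symm_single, Algebra.TensorProduct.map_tmul, mapRingHom_single]
    change _ = (kap3 (R := R) (T := T) (M := M)).symm (single m ((a ⊗ₜ[R] (1 : T)) ⊗ₜ[R] b))
    rw [kap3_symm_single]
    rfl
  exact DFunLike.congr_fun h y

theorem kap_Lam (y : MonoidAlgebra (T ⊗[R] T) M) :
    Algebra.TensorProduct.map (rho g) (AlgHom.id R T)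
      ((kap2 (R := R) (T := T) (M := M)).symm y) =
      (kap3 (R := R) (T := T) (M := M)).symm (Lam g y) := by
  have h : ((Algebra.TensorProduct.map (rho g) (AlgHom.id R T)).toRingHom).comp
      (k2s (R := R) (T := T) (M := M)) =
      (k3s (R := R) (T := T) (M := M)).comp (Lam g) := by
    apply ringHom_ext_tensor
    intro m a b
    change Algebra.TensorProduct.map (rho g) (AlgHom.id R T)
      ((kap2 (R := R) (T := T) (M := M)).symm (single m (a ⊗ₜ[R] b))) =
      (kap3 (R := R) (T := T) (M := M)).symm (Lam g (single m (a ⊗ₜ[R] b)))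
    rw [lTensorAlgEquiv_symm_single, Algebra.TensorProduct.map_tmul, Lam_single, map_mul,
      ← kap_q12, rho_apply, rho'_single, map_mul]
    change ((kap2 (R := R) (T := T) (M := M)).symm (single 1 ((1 : T) ⊗ₜ[R] a)) *
      (kap2 (R := R) (T := T) (M := M)).symm (g m)) ⊗ₜ[R] b =
      (kap3 (R := R) (T := T) (M := M)).symm (single 1 (((1 : T) ⊗ₜ[R] a) ⊗ₜ[R] b)) * _
    rw [kap3_symm_single, lTensorAlgEquiv_symm_single, Algebra.TensorProduct.tmul_mul_tmul, mul_one]
  exact DFunLike.congr_fun h y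

theorem rho_coassoc (hc2 : ∀ m, Lam g (g m) = mapRingHom M (q13r R T) (g m))
    (c : MonoidAlgebra T M) :
    Algebra.TensorProduct.map (rho g) (AlgHom.id R T) (rho g c) =
      Algebra.TensorProduct.map
        (Algebra.TensorProduct.includeLeft : MonoidAlgebra T M →ₐ[R] MonoidAlgebra T M ⊗[R] T)
        (AlgHom.id R T) (rho g c) := by
  rw [rho_apply, kap_Lam, kap_q13]
  congr 1
  have h : (Lam g).comp (rho' g).toRingHom =
      (mapRingHom M (q13r R T)).comp (rho' g).toRingHom := by
    apply ringHom_ext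
    · intro t
      change Lam g (rho' g (single 1 t)) = mapRingHom M (q13r R T) (rho' g (single 1 t))
      rw [rho'_single_one_left, Lam_single, map_one, map_one, mul_one, mapRingHom_single]
      rfl
    · intro m
      change Lam g (rho' g (single m 1)) = mapRingHom M (q13r R T) (rho' g (single m 1))
      rw [rho'_single_one]
      exact hc2 m
  exact DFunLike.congr_fun h c

end Descent

section Form

variable {R : Type u} [CommRing R] {T : Type u} [CommRing T] [Algebra R T]
  {M : Type u} [CommGroup M]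

open Groth.Agent.H50.DescentRing

/-- `t ↦ t ⊗ 1` as a ring map -/
noncomputable abbrev incLr : T →+* T ⊗[R] T :=
  ((Algebra.TensorProduct.includeLeft : T →ₐ[R] T ⊗[R] T) : T →+* T ⊗[R] T)

theorem kap2_symm_mapRingHom_incL (x : MonoidAlgebra T M) :
    (kap2 (R := R) (T := T) (M := M)).symm (mapRingHom M (incLr (R := R) (T := T)) x) =
      x ⊗ₜ[R] (1 : T) := by
  have h : (k2s (R := R) (T := T) (M := M)).comp (mapRingHom M (incLr (R := R) (T := T))) =
      (Algebra.TensorProduct.includeLeft : MonoidAlgebra T M →ₐ[R] MonoidAlgebra T M ⊗[R] T).toRingHom := by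
    apply ringHom_ext
    · intro t
      change (kap2 (R := R) (T := T) (M := M)).symm
        (mapRingHom M (incLr (R := R) (T := T)) (single 1 t)) = single 1 t ⊗ₜ[R] (1 : T)
      rw [mapRingHom_single]
      exact lTensorAlgEquiv_symm_single (R := R) (1 : M) t (1 : T)
    · intro m
      change (kap2 (R := R) (T := T) (M := M)).symm
        (mapRingHom M (incLr (R := R) (T := T)) (single m 1)) = single m 1 ⊗ₜ[R] (1 : T)
      rw [mapRingHom_single]
      exact lTensorAlgEquiv_symm_single (R := R) m (1 : T) (1 : T)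
  exact DFunLike.congr_fun h x

variable (D : Datum R T M)

/-- the descended algebra -/
noncomputable abbrev descAlg : Subalgebra R (MonoidAlgebra T M) := desc (rho D.g)

theorem mem_descAlg_iff (x : MonoidAlgebra T M) :
    x ∈ descAlg D ↔ rho' D.g x = mapRingHom M (incLr (R := R) (T := T)) x := by
  rw [mem_desc_iff, rho_apply, ← kap2_symm_mapRingHom_incL]
  exact (kap2 (R := R) (T := T) (M := M)).symm.injective.eq_iff

/-- the comparison map -/
noncomputable def thetaAlg : T ⊗[R] descAlg D →ₐ[T] MonoidAlgebra T M :=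
  Algebra.TensorProduct.lift (Algebra.ofId T (MonoidAlgebra T M)) (descAlg D).val
    (fun _ _ => Commute.all (S := MonoidAlgebra T M) _ _)

theorem thetaAlg_tmul (t : T) (a : descAlg D) :
    thetaAlg D (t ⊗ₜ[R] a) = t • (a : MonoidAlgebra T M) := by
  rw [thetaAlg, Algebra.TensorProduct.lift_tmul, Algebra.ofId_apply, Algebra.smul_def]
  rfl

theorem thetaAlg_eq (z : T ⊗[R] descAlg D) :
    thetaAlg D z = theta (rho D.g) (Algebra.TensorProduct.comm R T (descAlg D) z) := by
  induction z using TensorProduct.induction_on with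
  | zero => simp
  | add x y hx hy => rw [map_add, map_add, map_add, hx, hy]
  | tmul t a =>
    rw [thetaAlg_tmul, Algebra.TensorProduct.comm_tmul, theta_tmul, Algebra.smul_def, mul_comm]

theorem thetaAlg_bijective [Module.Flat R T] : Function.Bijective (thetaAlg D) := by
  have h1 := theta_bijective (rho D.g) (rho_hB D.g) (rho_counit D.g D.c1) (rho_coassoc D.g D.c2)
  have h2 : ⇑(thetaAlg D) = ⇑(theta (rho D.g)) ∘ ⇑(Algebra.TensorProduct.comm R T (descAlg D)) := by
    funext z
    exact thetaAlg_eq D z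
  rw [h2]
  exact h1.comp (Algebra.TensorProduct.comm R T (descAlg D)).bijective

/-- the descended algebra as a type of its own (this keeps the instance paths canonical) -/
def DA : Type u := ↥(descAlg D)

noncomputable instance : CommRing (DA D) := Subalgebra.toCommRing (descAlg D)

noncomputable instance : Algebra R (DA D) := Subalgebra.algebra (descAlg D)

/-- the identification of `DA D` with the subalgebra -/
noncomputable def DA.equiv : DA D ≃ₐ[R] ↥(descAlg D) where
  toFun a := a
  invFun a := a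
  left_inv _ := rfl
  right_inv _ := rfl
  map_mul' _ _ := rfl
  map_add' _ _ := rfl
  commutes' _ := rfl

/-- the inclusion of the descended algebra into `T[M]` -/
noncomputable def DA.incl : DA D →ₐ[R] MonoidAlgebra T M :=
  (descAlg D).val.comp (DA.equiv D : DA D →ₐ[R] ↥(descAlg D))

theorem DA.incl_injective : Function.Injective (DA.incl D) := by
  intro a b h
  exact (DA.equiv D).injective (Subtype.val_injective h)

theorem DA.rho'_incl (a : DA D) :
    rho' D.g (DA.incl D a) = mapRingHom M (incLr (R := R) (T := T)) (DA.incl D a) :=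
  (mem_descAlg_iff D _).mp (DA.equiv D a).2

theorem DA.exists_of_eq (x : MonoidAlgebra T M)
    (h : rho' D.g x = mapRingHom M (incLr (R := R) (T := T)) x) : ∃ a : DA D, DA.incl D a = x :=
  ⟨(DA.equiv D).symm ⟨x, (mem_descAlg_iff D x).mpr h⟩, rfl⟩

/-- the comparison map -/
noncomputable def thetaDA : T ⊗[R] DA D →ₐ[T] MonoidAlgebra T M :=
  Algebra.TensorProduct.lift (Algebra.ofId T (MonoidAlgebra T M)) (DA.incl D)
    (fun _ _ => Commute.all (S := MonoidAlgebra T M) _ _)

theorem thetaDA_tmul (t : T) (a : DA D) :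
    thetaDA D (t ⊗ₜ[R] a) = t • DA.incl D a := by
  rw [thetaDA, Algebra.TensorProduct.lift_tmul, Algebra.ofId_apply, Algebra.smul_def]

theorem thetaDA_eq (z : T ⊗[R] DA D) :
    thetaDA D z = thetaAlg D (Algebra.TensorProduct.map (AlgHom.id R T)
      (DA.equiv D : DA D →ₐ[R] ↥(descAlg D)) z) := by
  induction z using TensorProduct.induction_on with
  | zero => simp
  | add x y hx hy => rw [map_add, map_add, map_add, hx, hy]
  | tmul t a =>
    rw [thetaDA_tmul, Algebra.TensorProduct.map_tmul, thetaAlg_tmul]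
    rfl

theorem thetaDA_bijective [Module.Flat R T] : Function.Bijective (thetaDA D) := by
  have h2 : ⇑(thetaDA D) = ⇑(thetaAlg D) ∘
      ⇑(Algebra.TensorProduct.congr (AlgEquiv.refl : T ≃ₐ[R] T) (DA.equiv D)) := by
    funext z
    exact thetaDA_eq D z
  rw [h2]
  exact (thetaAlg_bijective D).comp
    (Algebra.TensorProduct.congr (AlgEquiv.refl : T ≃ₐ[R] T) (DA.equiv D)).bijective

/-- the comparison isomorphism `T ⊗ A ≃ T[M]` -/
noncomputable def thetaEquiv [Module.Flat R T] : T ⊗[R] DA D ≃ₐ[T] MonoidAlgebra T M :=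
  AlgEquiv.ofBijective (thetaDA D) (thetaDA_bijective D)

theorem thetaEquiv_tmul [Module.Flat R T] (t : T) (a : DA D) :
    thetaEquiv D (t ⊗ₜ[R] a) = t • DA.incl D a := thetaDA_tmul D t a

theorem thetaEquiv_symm_incl [Module.Flat R T] (a : DA D) :
    (thetaEquiv D).symm (DA.incl D a) = (1 : T) ⊗ₜ[R] a := by
  rw [AlgEquiv.symm_apply_eq, thetaEquiv_tmul, one_smul]

end Form

end Groth.Agent.H3.TwDesc
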