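import Groth.Agent.H3.TwDescForm
import Mathlib.RingTheory.Flat.FaithfullyFlat.Basic

/-!
# Two forms of a group algebra with compatible charts are isomorphic

`B`, `B'` Hopf algebras over `K` with charts `l : B → L[M]`, `l' : B' → L[M]` over a faithfully flat
`K`-algebra `L`, and an algebra map `θ : B' → B` with `l ∘ θ = l'`.  Then `θ` is an isomorphism of
bialgebras.
-/

set_option autoImplicit false
set_option linter.unusedSectionVars false
set_option linter.style.haveILetI false
universe u
open scoped TensorProduct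

namespace Groth.Agent.H3.TwDesc

open MonoidAlgebra Groth.Agent.H26 Groth.Agent.H15.MTC

section Compare

variable {K : Type u} [CommRing K] {B : Type u} [CommRing B] [HopfAlgebra K B]
  {B' : Type u} [CommRing B'] [HopfAlgebra K B']
  {L : Type u} [CommRing L] [Algebra K L] {M : Type u} [CommGroup M]
  (l : B →ₐ[K] MonoidAlgebra L M)
  (hco : IsCoalgMapOver L l.toLinearMap) (hbc : IsBaseChange L l.toLinearMap)
  (l' : B' →ₐ[K] MonoidAlgebra L M)
  (hco' : IsCoalgMapOver L l'.toLinearMap) (hbc' : IsBaseChange L l'.toLinearMap)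
  (θ : B' →ₐ[K] B) (h : ∀ b', l (θ b') = l' b')

theorem tmul₂_comp_map' {S : Type*} [CommRing S] [Algebra K S]
    {T : Type*} [AddCommGroup T] [Module K T] [Module S T] [IsScalarTower K S T]
    (g : B →ₗ[K] T) (f : B' →ₗ[K] B) (x : B' ⊗[K] B') :
    tmul₂ S (g ∘ₗ f) x = tmul₂ S g (TensorProduct.map f f x) := by
  induction x using TensorProduct.induction_on with
  | zero => simp
  | add x y hx hy => rw [map_add, map_add, map_add, hx, hy]
  | tmul a b => simp

theorem tmul₂_self (f : B' →ₗ[K] B) (x : B' ⊗[K] B') :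
    tmul₂ K f x = TensorProduct.map f f x := by
  induction x using TensorProduct.induction_on with
  | zero => simp
  | add x y hx hy => rw [map_add, map_add, hx, hy]
  | tmul a b => simp

theorem tmul₂_inc_injective [Module.FaithfullyFlat K L] :
    Function.Injective (tmul₂ L (TensorProduct.mk K L B 1)) := by
  intro x y hxy
  rw [tmul₂_inc_eq, tmul₂_inc_eq] at hxy
  have h1 := (TensorProduct.AlgebraTensorModule.distribBaseChange K L B B).injective hxy
  exact Module.FaithfullyFlat.tensorProduct_mk_injective (A := K) (B := L) (B ⊗[K] B) h1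

include h in
theorem E_lTensor (z : L ⊗[K] B') :
    E l (AlgHom.id K L) hco hbc (θ.toLinearMap.lTensor L z) =
      E l' (AlgHom.id K L) hco' hbc' z := by
  induction z using TensorProduct.induction_on with
  | zero => simp
  | add x y hx hy => rw [map_add, map_add, map_add, hx, hy]
  | tmul t b =>
    rw [LinearMap.lTensor_tmul, E_tmul, E_tmul]
    change t • mapRingHom M _ (l (θ b)) = _
    rw [h]

include hco hbc hco' hbc' h in
theorem bijective_of_charts [Module.FaithfullyFlat K L] : Function.Bijective θ := by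
  have h1 : Function.Bijective (θ.toLinearMap.lTensor L) := by
    have h2 : ⇑(θ.toLinearMap.lTensor L) =
        ⇑(E l (AlgHom.id K L) hco hbc).symm ∘ ⇑(E l' (AlgHom.id K L) hco' hbc') := by
      funext z
      rw [Function.comp_apply, ← E_lTensor l hco hbc l' hco' hbc' θ h z,
        BialgEquiv.symm_apply_apply]
    rw [h2]
    exact (E l (AlgHom.id K L) hco hbc).symm.bijective.comp
      (E l' (AlgHom.id K L) hco' hbc').bijective
  exact (Module.FaithfullyFlat.lTensor_bijective_iff_bijective K L θ.toLinearMap).mp h1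

include hco hbc hco' hbc' h in
theorem isCoalgMapOver_of_charts [Module.FaithfullyFlat K L] :
    IsCoalgMapOver K θ.toLinearMap := by
  -- the composite `B' → B → L ⊗ B` is a coalgebra map along `K → L`
  let Ψ : L ⊗[K] B' ≃ₐc[L] L ⊗[K] B :=
    (E l' (AlgHom.id K L) hco' hbc').trans (E l (AlgHom.id K L) hco hbc).symm
  have hΨ : ∀ b', Ψ ((1 : L) ⊗ₜ[K] b') = (1 : L) ⊗ₜ[K] θ b' := by
    intro b'
    change (E l (AlgHom.id K L) hco hbc).symm (E l' (AlgHom.id K L) hco' hbc' _) = _
    rw [← E_lTensor l hco hbc l' hco' hbc' θ h, BialgEquiv.symm_apply_apply,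
      LinearMap.lTensor_tmul]
    rfl
  have h1 : IsCoalgMapOver L
      (((Ψ : L ⊗[K] B' →ₗc[L] L ⊗[K] B) : L ⊗[K] B' →ₗ[L] L ⊗[K] B).restrictScalars K ∘ₗ
        TensorProduct.mk K L B' 1) :=
    IsCoalgMapOver.comp (S₂ := L)
      (isCoalgMapOver_of_coalgHom (Ψ : L ⊗[K] B' →ₗc[L] L ⊗[K] B))
      (isCoalgMapOver_inc (R := K) L B')
  have h2 : (((Ψ : L ⊗[K] B' →ₗc[L] L ⊗[K] B) : L ⊗[K] B' →ₗ[L] L ⊗[K] B).restrictScalars K ∘ₗ
        TensorProduct.mk K L B' 1) = (TensorProduct.mk K L B 1) ∘ₗ θ.toLinearMap := by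
    apply LinearMap.ext
    intro b'
    exact hΨ b'
  rw [h2] at h1
  constructor
  · intro c
    apply tmul₂_inc_injective (K := K) (B := B) (L := L)
    have h3 := h1.comul c
    have h4 := (isCoalgMapOver_inc (R := K) L B).comul (θ c)
    rw [tmul₂_comp_map'] at h3
    rw [tmul₂_self]
    exact h4.symm.trans h3
  · intro c
    have h3 := h1.counit c
    have h4 := (isCoalgMapOver_inc (R := K) L B).counit (θ c)
    have h5 : algebraMap K L (Coalgebra.counit (R := K) (θ c)) =
        algebraMap K L (Coalgebra.counit (R := K) c) := h4.symm.trans h3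
    exact FaithfulSMul.algebraMap_injective K L h5

include hco hbc hco' hbc' h in
/-- two forms with compatible charts are isomorphic -/
theorem nonempty_bialgEquiv_of_charts [Module.FaithfullyFlat K L] :
    Nonempty (B' ≃ₐc[K] B) :=
  ⟨BialgEquiv.ofBijective
    (bialgHomOfCoalg θ (isCoalgMapOver_of_charts l hco hbc l' hco' hbc' θ h))
    (bijective_of_charts l hco hbc l' hco' hbc' θ h)⟩

end Compare

end Groth.Agent.H3.TwDesc
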