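import Groth.Agent.H3.TwDesc
import Groth.Agent.H15.MTMono
import Groth.Agent.H15.FFDescElem

/-!
# The descent datum of a twisted form of a group algebra

`B` a Hopf algebra over `K`, `L` a `K`-algebra and `l : B → L[M]` a chart (an algebra map which is a
coalgebra map along `K → L` and exhibits `L[M]` as `L ⊗ B`).  For every `K`-algebra map `j : L → S`
we get an isomorphism of bialgebras `E j : S ⊗ B ≃ S[M]`, natural in `S`; the transition
automorphisms `phi j j' = E j ∘ (E j')⁻¹` give a descent datum on `L[M]` in the sense of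
`H3/TwDesc`, whose fixed points are the image of `l` when `L` is faithfully flat over `K`.
-/

set_option autoImplicit false
set_option linter.unusedSectionVars false
set_option linter.style.haveILetI false
universe u
open scoped TensorProduct

namespace Groth.Agent.H3.TwDesc

open MonoidAlgebra Groth.Agent.H26 Groth.Agent.H15.MTC

section General

variable {K : Type u} [CommRing K] {B : Type u} [CommRing B] [HopfAlgebra K B]
  {L : Type u} [CommRing L] [Algebra K L] {M : Type u} [CommGroup M]
  (l : B →ₐ[K] MonoidAlgebra L M)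
  {S : Type u} [CommRing S] [Algebra K S] (j : L →ₐ[K] S)

theorem mapRingHom_smul {S' : Type u} [CommRing S'] (ν : S →+* S') (s : S)
    (y : MonoidAlgebra S M) :
    mapRingHom M ν (s • y) = ν s • mapRingHom M ν y := by
  rw [Algebra.smul_def, Algebra.smul_def, map_mul, algebraMap_eq_single, algebraMap_eq_single,
    mapRingHom_single]

/-- the chart pushed forward along `j` -/
noncomputable def chartS : B →ₐ[K] MonoidAlgebra S M := (mapAlgHom M j).comp l

theorem chartS_apply (b : B) : chartS l j b = mapRingHom M (j : L →+* S) (l b) := rfl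

theorem chartS_coalg (hco : IsCoalgMapOver L l.toLinearMap) :
    IsCoalgMapOver S (chartS l j).toLinearMap := by
  letI : Algebra L S := j.toRingHom.toAlgebra
  haveI : IsScalarTower K L S := IsScalarTower.of_algebraMap_eq fun r => (j.commutes r).symm
  have h := IsCoalgMapOver.comp (isCoalgMapOver_mapCoeff (S := L) (S' := S) M) hco
  have h1 : (chartS l j).toLinearMap =
      ((mapCoeff (S := L) (S' := S) M).toLinearMap.restrictScalars K).comp l.toLinearMap :=
    LinearMap.ext fun _ => rfl
  rw [h1]
  exact h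

theorem chartS_bc (hbc : IsBaseChange L l.toLinearMap) :
    IsBaseChange S (chartS l j).toLinearMap := by
  letI : Algebra L S := j.toRingHom.toAlgebra
  haveI : IsScalarTower K L S := IsScalarTower.of_algebraMap_eq fun r => (j.commutes r).symm
  have h0 := hbc.comp (isBaseChange_mapCoeff (S := L) (S' := S) M)
  have h1 : (chartS l j).toLinearMap =
      ((mapCoeff (S := L) (S' := S) M).toLinearMap.restrictScalars K).comp l.toLinearMap :=
    LinearMap.ext fun _ => rfl
  rw [h1]
  exact h0

/-- the `S`-linear extension of the pushed chart -/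
noncomputable def Ealg : S ⊗[K] B →ₐ[S] MonoidAlgebra S M := liftAlg S (chartS l j)

theorem Ealg_tmul (s : S) (b : B) :
    Ealg l j (s ⊗ₜ[K] b) = s • mapRingHom M (j : L →+* S) (l b) := by
  rw [Ealg, liftAlg_tmul, chartS_apply]

theorem Ealg_coalg (hco : IsCoalgMapOver L l.toLinearMap) :
    IsCoalgMapOver S (Ealg l j).toLinearMap :=
  isCoalgMapOver_liftAlg S (chartS_coalg l j hco)

theorem Ealg_bijective (hbc : IsBaseChange L l.toLinearMap) :
    Function.Bijective (Ealg l j) := by
  have hbc' : IsBaseChange S (Ealg l j).toLinearMap := isBaseChange_liftAlg S (chartS_bc l j hbc)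
  have h1 : ∀ b, Ealg l j b = hbc'.equiv ((TensorProduct.lid S (S ⊗[K] B)).symm b) := by
    intro b
    rw [TensorProduct.lid_symm_apply, IsBaseChange.equiv_tmul, one_smul]
    rfl
  have h2 : (Ealg l j : S ⊗[K] B → MonoidAlgebra S M) =
      hbc'.equiv ∘ (TensorProduct.lid S (S ⊗[K] B)).symm := funext h1
  rw [h2]
  exact hbc'.equiv.bijective.comp (TensorProduct.lid S (S ⊗[K] B)).symm.bijective

variable (hco : IsCoalgMapOver L l.toLinearMap) (hbc : IsBaseChange L l.toLinearMap)

/-- the trivialisation of `S ⊗ B` induced by the chart and `j` -/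
noncomputable def E : S ⊗[K] B ≃ₐc[S] MonoidAlgebra S M :=
  BialgEquiv.ofBijective (bialgHomOfCoalg (Ealg l j) (Ealg_coalg l j hco)) (Ealg_bijective l j hbc)

theorem E_apply (z : S ⊗[K] B) : E l j hco hbc z = Ealg l j z := rfl

theorem E_tmul (s : S) (b : B) :
    E l j hco hbc (s ⊗ₜ[K] b) = s • mapRingHom M (j : L →+* S) (l b) := Ealg_tmul l j s b

theorem map_E {S' : Type u} [CommRing S'] [Algebra K S'] (ν : S →ₐ[K] S') (z : S ⊗[K] B) :
    mapRingHom M (ν : S →+* S') (E l j hco hbc z) =
      E l (ν.comp j) hco hbc (Algebra.TensorProduct.map ν (AlgHom.id K B) z) := by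
  induction z using TensorProduct.induction_on with
  | zero => simp
  | add x y hx hy => rw [map_add, map_add, map_add, map_add, hx, hy]
  | tmul s b =>
    rw [E_tmul, Algebra.TensorProduct.map_tmul, E_tmul, mapRingHom_smul]
    congr 1
    rw [← RingHom.comp_apply, ← mapRingHom_comp]
    rfl

/-- the transition automorphism between the trivialisations attached to `j` and `j'` -/
noncomputable def phi (j j' : L →ₐ[K] S) : MonoidAlgebra S M ≃ₐc[S] MonoidAlgebra S M :=
  (E l j' hco hbc).symm.trans (E l j hco hbc)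

theorem phi_apply (j j' : L →ₐ[K] S) (x : MonoidAlgebra S M) :
    phi l hco hbc j j' x = E l j hco hbc ((E l j' hco hbc).symm x) := rfl

theorem phi_E (j j' : L →ₐ[K] S) (z : S ⊗[K] B) :
    phi l hco hbc j j' (E l j' hco hbc z) = E l j hco hbc z := by
  rw [phi_apply, BialgEquiv.symm_apply_apply]

theorem phi_self (x : MonoidAlgebra S M) : phi l hco hbc j j x = x := by
  rw [phi_apply, BialgEquiv.apply_symm_apply]

theorem phi_trans (j j' j'' : L →ₐ[K] S) (x : MonoidAlgebra S M) :
    phi l hco hbc j j' (phi l hco hbc j' j'' x) = phi l hco hbc j j'' x := by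
  rw [phi_apply, phi_apply, phi_apply, BialgEquiv.symm_apply_apply]

theorem map_phi {S' : Type u} [CommRing S'] [Algebra K S'] (ν : S →ₐ[K] S')
    (j j' : L →ₐ[K] S) (x : MonoidAlgebra S M) :
    mapRingHom M (ν : S →+* S') (phi l hco hbc j j' x) =
      phi l hco hbc (ν.comp j) (ν.comp j') (mapRingHom M (ν : S →+* S') x) := by
  obtain ⟨z, rfl⟩ : ∃ z, E l j' hco hbc z = x :=
    ⟨(E l j' hco hbc).symm x, BialgEquiv.apply_symm_apply _ x⟩
  rw [phi_E, map_E, map_E, phi_E]

theorem phi_single_one_left (j j' : L →ₐ[K] S) (s : S) :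
    phi l hco hbc j j' (single 1 s) = single 1 s := by
  rw [← algebraMap_eq_single]
  exact (phi l hco hbc j j' : MonoidAlgebra S M ≃ₐ[S] MonoidAlgebra S M).commutes s

theorem phi_isGroupLikeElem (j j' : L →ₐ[K] S) (m : M) :
    IsGroupLikeElem S (phi l hco hbc j j' (single m 1)) :=
  (isGroupLikeElem_single_one (R := S) (A := S) m).map (phi l hco hbc j j')

end General

section FormDatum

variable {K : Type u} [CommRing K] {B : Type u} [CommRing B] [HopfAlgebra K B]
  {L : Type u} [CommRing L] [Algebra K L] {M : Type u} [CommGroup M]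
  (l : B →ₐ[K] MonoidAlgebra L M)
  (hco : IsCoalgMapOver L l.toLinearMap) (hbc : IsBaseChange L l.toLinearMap)

variable (K L) in
/-- `a ↦ a ⊗ 1` -/
noncomputable abbrev jL : L →ₐ[K] L ⊗[K] L := Algebra.TensorProduct.includeLeft

variable (K L) in
/-- `a ↦ 1 ⊗ a` -/
noncomputable abbrev jR : L →ₐ[K] L ⊗[K] L := Algebra.TensorProduct.includeRight

variable (K L) in
/-- `a ↦ (a ⊗ 1) ⊗ 1` -/
noncomputable abbrev i1 : L →ₐ[K] (L ⊗[K] L) ⊗[K] L := (q12 K L).comp (jL K L)

variable (K L) in
/-- `a ↦ (1 ⊗ a) ⊗ 1` -/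
noncomputable abbrev i2 : L →ₐ[K] (L ⊗[K] L) ⊗[K] L := (q12 K L).comp (jR K L)

variable (K L) in
/-- `a ↦ (1 ⊗ 1) ⊗ a` -/
noncomputable abbrev i3 : L →ₐ[K] (L ⊗[K] L) ⊗[K] L := Algebra.TensorProduct.includeRight

theorem q13_jL : (q13 K L).comp (jL K L) = i1 K L := by
  apply AlgHom.ext; intro a; rfl

theorem q13_jR : (q13 K L).comp (jR K L) = i3 K L := by
  apply AlgHom.ext; intro a
  change Algebra.TensorProduct.map (Algebra.TensorProduct.includeLeft : L →ₐ[K] L ⊗[K] L)
    (AlgHom.id K L) ((1 : L) ⊗ₜ[K] a) = (1 : L ⊗[K] L) ⊗ₜ[K] a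
  rw [Algebra.TensorProduct.map_tmul, map_one]; rfl

theorem q23_jL : (q23 K L).comp (jL K L) = i2 K L := by
  apply AlgHom.ext; intro a; rfl

theorem q23_jR : (q23 K L).comp (jR K L) = i3 K L := by
  apply AlgHom.ext; intro a
  change Algebra.TensorProduct.map (Algebra.TensorProduct.includeRight : L →ₐ[K] L ⊗[K] L)
    (AlgHom.id K L) ((1 : L) ⊗ₜ[K] a) = (1 : L ⊗[K] L) ⊗ₜ[K] a
  rw [Algebra.TensorProduct.map_tmul, map_one]; rfl

theorem mulT_jL : (mulT K L).comp (jL K L) = AlgHom.id K L := by
  apply AlgHom.ext; intro a; simp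

theorem mulT_jR : (mulT K L).comp (jR K L) = AlgHom.id K L := by
  apply AlgHom.ext; intro a; simp

/-- the descent datum of the form `B` -/
noncomputable def formG : M →* MonoidAlgebra (L ⊗[K] L) M where
  toFun m := phi l hco hbc (jL K L) (jR K L) (single m 1)
  map_one' := by rw [← one_def, map_one]
  map_mul' m n := by rw [← map_mul, single_mul_single, one_mul]

theorem formG_apply (m : M) :
    formG l hco hbc m = phi l hco hbc (jL K L) (jR K L) (single m 1) := rfl

theorem formG_gl (m : M) : IsGroupLikeElem (L ⊗[K] L) (formG l hco hbc m) :=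
  phi_isGroupLikeElem l hco hbc _ _ m

theorem formG_c1 (m : M) :
    mapRingHom M (mulTr K L) (formG l hco hbc m) = single m 1 := by
  rw [formG_apply]
  have h := map_phi l hco hbc (mulT K L) (jL K L) (jR K L) (single m 1)
  rw [mulT_jL, mulT_jR, phi_self, mapRingHom_single, map_one] at h
  exact h

theorem Lam_formG (y : MonoidAlgebra (L ⊗[K] L) M) :
    Lam (formG l hco hbc) y =
      phi l hco hbc (i1 K L) (i2 K L) (mapRingHom M (q23r K L) y) := by
  have h : Lam (formG l hco hbc) =
      ((phi l hco hbc (i1 K L) (i2 K L) :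
        MonoidAlgebra ((L ⊗[K] L) ⊗[K] L) M ≃ₐ[(L ⊗[K] L) ⊗[K] L] _).toAlgHom.toRingHom).comp
        (mapRingHom M (q23r K L)) := by
    apply ringHom_ext
    · intro s
      change Lam (formG l hco hbc) (single 1 s) =
        phi l hco hbc (i1 K L) (i2 K L) (mapRingHom M (q23r K L) (single 1 s))
      rw [Lam_single, map_one, map_one, mul_one, mapRingHom_single, phi_single_one_left]
      rfl
    · intro m
      change Lam (formG l hco hbc) (single m 1) =
        phi l hco hbc (i1 K L) (i2 K L) (mapRingHom M (q23r K L) (single m 1))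
      rw [Lam_single, map_one, ← one_def, one_mul, mapRingHom_single, map_one, formG_apply]
      have h := map_phi l hco hbc (q12 K L) (jL K L) (jR K L) (single m 1)
      rw [mapRingHom_single, map_one] at h
      exact h
  exact DFunLike.congr_fun h y

theorem formG_c2 (m : M) :
    Lam (formG l hco hbc) (formG l hco hbc m) =
      mapRingHom M (q13r K L) (formG l hco hbc m) := by
  rw [Lam_formG, formG_apply]
  have h1 := map_phi l hco hbc (q23 K L) (jL K L) (jR K L) (single m 1)
  have h2 := map_phi l hco hbc (q13 K L) (jL K L) (jR K L) (single m 1)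
  rw [mapRingHom_single, map_one, q23_jL, q23_jR] at h1
  rw [mapRingHom_single, map_one, q13_jL, q13_jR] at h2
  change phi l hco hbc (i1 K L) (i2 K L) (mapRingHom M ((q23 K L : L ⊗[K] L →ₐ[K] _) : _ →+* _)
    (phi l hco hbc (jL K L) (jR K L) (single m 1))) =
    mapRingHom M ((q13 K L : L ⊗[K] L →ₐ[K] _) : _ →+* _)
      (phi l hco hbc (jL K L) (jR K L) (single m 1))
  rw [h1, h2, phi_trans]

/-- the descent datum attached to a chart -/
noncomputable def formDatum : Datum K L M where
  g := formG l hco hbc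
  gl := formG_gl l hco hbc
  c1 := formG_c1 l hco hbc
  c2 := formG_c2 l hco hbc

theorem rho'_form (x : MonoidAlgebra L M) :
    rho' (formG l hco hbc) x =
      phi l hco hbc (jL K L) (jR K L) (mapRingHom M ((jR K L : L →ₐ[K] L ⊗[K] L) : L →+* _) x) := by
  have h : (rho' (formG l hco hbc)).toRingHom =
      ((phi l hco hbc (jL K L) (jR K L) :
        MonoidAlgebra (L ⊗[K] L) M ≃ₐ[L ⊗[K] L] _).toAlgHom.toRingHom).comp
        (mapRingHom M ((jR K L : L →ₐ[K] L ⊗[K] L) : L →+* _)) := by
    apply ringHom_ext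
    · intro t
      change rho' (formG l hco hbc) (single 1 t) = phi l hco hbc (jL K L) (jR K L)
        (mapRingHom M ((jR K L : L →ₐ[K] L ⊗[K] L) : L →+* _) (single 1 t))
      rw [rho'_single_one_left, mapRingHom_single, phi_single_one_left]
      rfl
    · intro m
      change rho' (formG l hco hbc) (single m 1) = phi l hco hbc (jL K L) (jR K L)
        (mapRingHom M ((jR K L : L →ₐ[K] L ⊗[K] L) : L →+* _) (single m 1))
      rw [rho'_single_one, mapRingHom_single, map_one, formG_apply]
  exact DFunLike.congr_fun h x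

theorem assoc_map_jR (z : L ⊗[K] B) :
    TensorProduct.assoc K L L B (Algebra.TensorProduct.map (jR K L) (AlgHom.id K B) z) =
      (1 : L) ⊗ₜ[K] z := by
  induction z using TensorProduct.induction_on with
  | zero => simp
  | add x y hx hy => rw [map_add, map_add, hx, hy, TensorProduct.tmul_add]
  | tmul t b => rfl

theorem assoc_map_jL (z : L ⊗[K] B) :
    TensorProduct.assoc K L L B (Algebra.TensorProduct.map (jL K L) (AlgHom.id K B) z) =
      Groth.Agent.H15.FFD.d₂ K L B z := by
  induction z using TensorProduct.induction_on with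
  | zero => simp
  | add x y hx hy => rw [map_add, map_add, map_add, hx, hy]
  | tmul t b => rw [Groth.Agent.H15.FFD.d₂_tmul]; rfl

/-- the fixed points of the descent datum of a form are the image of the chart -/
theorem exists_of_fixed [Module.FaithfullyFlat K L] (x : MonoidAlgebra L M)
    (h : rho' (formG l hco hbc) x = mapRingHom M (incLr (R := K) (T := L)) x) :
    ∃ b : B, l b = x := by
  set E0 := E l (AlgHom.id K L) hco hbc with hE0
  set z := E0.symm x with hz
  have hx : E0 z = x := BialgEquiv.apply_symm_apply _ x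
  have h1 : rho' (formG l hco hbc) x =
      E l (jL K L) hco hbc (Algebra.TensorProduct.map (jR K L) (AlgHom.id K B) z) := by
    rw [rho'_form, ← hx, hE0, map_E, AlgHom.comp_id, phi_E]
  have h2 : mapRingHom M (incLr (R := K) (T := L)) x =
      E l (jL K L) hco hbc (Algebra.TensorProduct.map (jL K L) (AlgHom.id K B) z) := by
    rw [← hx, hE0]
    have := map_E l (AlgHom.id K L) hco hbc (jL K L) z
    rw [AlgHom.comp_id] at this
    exact this
  rw [h1, h2] at h
  have h3 := (E l (jL K L) hco hbc).injective h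
  have h4 : (1 : L) ⊗ₜ[K] z = Groth.Agent.H15.FFD.d₂ K L B z := by
    rw [← assoc_map_jR, ← assoc_map_jL, h3]
  obtain ⟨b, hb⟩ := Groth.Agent.H15.FFD.exists_of_eq K L B z h4
  refine ⟨b, ?_⟩
  rw [← hx, ← hb, hE0, E_tmul, one_smul]
  change l b = mapRingHom M (RingHom.id L) (l b)
  rw [mapRingHom_id]
  rfl

/-- the image of the chart consists of fixed points -/
theorem fixed_of_chart (b : B) :
    rho' (formG l hco hbc) (l b) = mapRingHom M (incLr (R := K) (T := L)) (l b) := by
  have hx : E l (AlgHom.id K L) hco hbc ((1 : L) ⊗ₜ[K] b) = l b := by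
    rw [E_tmul, one_smul]
    change mapRingHom M (RingHom.id L) (l b) = l b
    rw [mapRingHom_id]
    rfl
  have h1 := map_E l (AlgHom.id K L) hco hbc (jR K L) ((1 : L) ⊗ₜ[K] b)
  have h2 := map_E l (AlgHom.id K L) hco hbc (jL K L) ((1 : L) ⊗ₜ[K] b)
  rw [AlgHom.comp_id, hx, Algebra.TensorProduct.map_tmul, map_one] at h1 h2
  rw [rho'_form, h1, phi_E]
  exact h2.symm

end FormDatum

end Groth.Agent.H3.TwDesc
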