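import Groth.Agent.H3.TwDesc
import Groth.Agent.H3.HopfTransferEquiv
import Groth.Agent.H15.FFDescElem
import Mathlib.RingTheory.HopfAlgebra.MonoidAlgebra
import Mathlib.RingTheory.HopfAlgebra.Convolution

/-!
# The Hopf algebra structure on a descended group algebra

For a descent datum `D` on `T[M]` relative to a faithfully flat `R → T`, the descended algebra
`A = DA D` carries a unique Hopf algebra structure for which `T ⊗ A ≃ T[M]` is an isomorphism of
bialgebras.  The structure is obtained by the Yoneda-type transfer of `H3/HopfTransfer`: an algebra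
map `T[M] → T ⊗ Y` comes from `A → Y` iff it is compatible with the descent datum, and the compatible
maps form a subgroup for convolution because the `D.g m` are group-like.
-/

set_option autoImplicit false
set_option linter.unusedSectionVars false
set_option linter.style.haveILetI false
universe u
open scoped TensorProduct

namespace Groth.Agent.H3.TwDesc

open MonoidAlgebra Groth.Agent.H15.GLD

section GroupLikeLift

variable {S : Type*} [CommRing S] {W : Type*} [CommRing W] {M : Type*} [CommMonoid M]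

theorem liftNC_eq_sum (ε : S →+* W) (χ : M →* W) (x : MonoidAlgebra S M) :
    liftNCRingHom ε χ (fun _ _ => Commute.all (S := W) _ _) x =
      ∑ n ∈ x.coeff.support, ε (x.coeff n) * χ n := by
  conv_lhs => rw [← sum_coeff_single x]
  rw [Finsupp.sum, map_sum]
  apply Finset.sum_congr rfl
  intro n _
  rw [liftNCRingHom_single]

theorem liftNC_mul_groupLike (ε : S →+* W) (χ₁ χ₂ : M →* W) {x : MonoidAlgebra S M}
    (hx : IsGroupLikeElem S x) :
    liftNCRingHom ε (χ₁ * χ₂) (fun _ _ => Commute.all (S := W) _ _) x =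
      liftNCRingHom ε χ₁ (fun _ _ => Commute.all (S := W) _ _) x *
        liftNCRingHom ε χ₂ (fun _ _ => Commute.all (S := W) _ _) x := by
  classical
  rw [liftNC_eq_sum, liftNC_eq_sum, liftNC_eq_sum, Finset.sum_mul]
  apply Finset.sum_congr rfl
  intro n hn
  rw [Finset.mul_sum, Finset.sum_eq_single n]
  · rw [MonoidHom.mul_apply]
    have h := coeff_idem hx n
    calc ε (x.coeff n) * (χ₁ n * χ₂ n) = ε (x.coeff n * x.coeff n) * (χ₁ n * χ₂ n) := by rw [h]
      _ = ε (x.coeff n) * χ₁ n * (ε (x.coeff n) * χ₂ n) := by rw [map_mul]; ring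
  · intro k _ hkn
    have h := coeff_orth hx (Ne.symm hkn)
    calc ε (x.coeff n) * χ₁ n * (ε (x.coeff k) * χ₂ k)
        = ε (x.coeff n * x.coeff k) * (χ₁ n * χ₂ k) := by rw [map_mul]; ring
      _ = 0 := by rw [h, map_zero, zero_mul]
  · intro h
    exact absurd hn h

theorem liftNC_one_groupLike (ε : S →+* W) {x : MonoidAlgebra S M}
    (hx : IsGroupLikeElem S x) :
    liftNCRingHom ε (1 : M →* W) (fun _ _ => Commute.all (S := W) _ _) x = 1 := by
  rw [liftNC_eq_sum]
  simp only [MonoidHom.one_apply, mul_one]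
  rw [← map_sum]
  have := sum_coeff hx
  rw [Finsupp.sum] at this
  rw [this, map_one]

end GroupLikeLift

section Compat

variable {R : Type u} [CommRing R] {T : Type u} [CommRing T] [Algebra R T]
  {M : Type u} [CommGroup M] (D : Datum R T M)
  (Y : Type u) [CommRing Y] [Algebra R Y]

/-- `a ⊗ b ↦ a ⊗ (b ⊗ 1)` -/
noncomputable def eps : T ⊗[R] T →ₐ[R] T ⊗[R] (T ⊗[R] Y) :=
  Algebra.TensorProduct.map (AlgHom.id R T)
    (Algebra.TensorProduct.includeLeft : T →ₐ[R] T ⊗[R] Y)

/-- `s ⊗ y ↦ s ⊗ (1 ⊗ y)` -/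
noncomputable def d2 : T ⊗[R] Y →ₐ[R] T ⊗[R] (T ⊗[R] Y) :=
  Algebra.TensorProduct.map (AlgHom.id R T)
    (Algebra.TensorProduct.includeRight : Y →ₐ[R] T ⊗[R] Y)

/-- `z ↦ 1 ⊗ z` -/
noncomputable def d1 : T ⊗[R] Y →ₐ[R] T ⊗[R] (T ⊗[R] Y) :=
  Algebra.TensorProduct.includeRight

theorem eps_tmul (a b : T) : eps (R := R) Y (a ⊗ₜ[R] b) = a ⊗ₜ[R] (b ⊗ₜ[R] (1 : Y)) := rfl

theorem d2_tmul (s : T) (y : Y) : d2 (R := R) (T := T) Y (s ⊗ₜ[R] y) = s ⊗ₜ[R] ((1 : T) ⊗ₜ[R] y) :=
  rfl

theorem d1_apply (z : T ⊗[R] Y) : d1 (R := R) (T := T) Y z = (1 : T) ⊗ₜ[R] z := rfl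

theorem d2_eq_FFD (z : T ⊗[R] Y) :
    d2 (R := R) (T := T) Y z = Groth.Agent.H15.FFD.d₂ R T Y z := by
  induction z using TensorProduct.induction_on with
  | zero => simp
  | add x y hx hy => rw [map_add, map_add, hx, hy]
  | tmul s y => rw [d2_tmul, Groth.Agent.H15.FFD.d₂_tmul]

variable {Y}

/-- the character of `M` with values in `T ⊗ T ⊗ Y` attached to `f` -/
noncomputable def chi (f : MonoidAlgebra T M →ₐ[T] T ⊗[R] Y) : M →* T ⊗[R] (T ⊗[R] Y) where
  toFun m := d2 Y (f (single m 1))
  map_one' := by rw [← one_def, map_one, map_one]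
  map_mul' m n := by rw [← map_mul, ← map_mul, single_mul_single, one_mul]

theorem chi_apply (f : MonoidAlgebra T M →ₐ[T] T ⊗[R] Y) (m : M) :
    chi f m = d2 Y (f (single m 1)) := rfl

/-- the extension of `f` to `(T ⊗ T)[M]` along `eps` -/
noncomputable def Q (f : MonoidAlgebra T M →ₐ[T] T ⊗[R] Y) :
    MonoidAlgebra (T ⊗[R] T) M →+* T ⊗[R] (T ⊗[R] Y) :=
  liftNCRingHom (eps (R := R) (T := T) Y).toRingHom (chi f)
    (fun _ _ => Commute.all (S := T ⊗[R] (T ⊗[R] Y)) _ _)

theorem Q_single (f : MonoidAlgebra T M →ₐ[T] T ⊗[R] Y) (m : M) (s : T ⊗[R] T) :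
    Q f (single m s) = eps Y s * d2 Y (f (single m 1)) := by
  rw [Q, liftNCRingHom_single]
  rfl

/-- compatibility of `f` with the descent datum -/
def Compat (f : MonoidAlgebra T M →ₐ[T] T ⊗[R] Y) : Prop :=
  ∀ m, Q f (D.g m) = d1 Y (f (single m 1))

theorem f_single_one_left (f : MonoidAlgebra T M →ₐ[T] T ⊗[R] Y) (t : T) :
    f (single 1 t) = t ⊗ₜ[R] (1 : Y) := by
  rw [← algebraMap_eq_single, AlgHom.commutes, Algebra.TensorProduct.algebraMap_apply]
  rfl

variable {D}

theorem Q_rho' {f : MonoidAlgebra T M →ₐ[T] T ⊗[R] Y} (hf : Compat D f)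
    (x : MonoidAlgebra T M) : Q f (rho' D.g x) = d1 Y (f x) := by
  have h : (Q f).comp (rho' D.g).toRingHom = (d1 (R := R) (T := T) Y).toRingHom.comp f.toRingHom := by
    apply ringHom_ext
    · intro t
      change Q f (rho' D.g (single 1 t)) = d1 Y (f (single 1 t))
      rw [rho'_single_one_left, Q_single, ← one_def, map_one, map_one, mul_one,
        f_single_one_left, eps_tmul, d1_apply]
    · intro m
      change Q f (rho' D.g (single m 1)) = d1 Y (f (single m 1))
      rw [rho'_single_one]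
      exact hf m
  exact DFunLike.congr_fun h x

theorem Q_incL (f : MonoidAlgebra T M →ₐ[T] T ⊗[R] Y) (x : MonoidAlgebra T M) :
    Q f (mapRingHom M (incLr (R := R) (T := T)) x) = d2 Y (f x) := by
  have h : (Q f).comp (mapRingHom M (incLr (R := R) (T := T))) =
      (d2 (R := R) (T := T) Y).toRingHom.comp f.toRingHom := by
    apply ringHom_ext
    · intro t
      change Q f (mapRingHom M (incLr (R := R) (T := T)) (single 1 t)) = d2 Y (f (single 1 t))
      rw [mapRingHom_single, Q_single, ← one_def, map_one, map_one, mul_one,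
        f_single_one_left, d2_tmul]
      rfl
    · intro m
      change Q f (mapRingHom M (incLr (R := R) (T := T)) (single m 1)) = d2 Y (f (single m 1))
      rw [mapRingHom_single, Q_single, map_one, map_one, one_mul]
  exact DFunLike.congr_fun h x

theorem exists_eq_of_compat [Module.FaithfullyFlat R T]
    {f : MonoidAlgebra T M →ₐ[T] T ⊗[R] Y} (hf : Compat D f) (a : DA D) :
    ∃ y : Y, (1 : T) ⊗ₜ[R] y = f (DA.incl D a) := by
  have h1 : d1 Y (f (DA.incl D a)) = d2 Y (f (DA.incl D a)) := by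
    rw [← Q_rho' hf, ← Q_incL, DA.rho'_incl D a]
  apply Groth.Agent.H15.FFD.exists_of_eq R T Y (f (DA.incl D a))
  rw [← d2_eq_FFD]
  exact h1

/-- a compatible map descends to an algebra map out of the descended algebra -/
theorem exists_of_compat [Module.FaithfullyFlat R T]
    {f : MonoidAlgebra T M →ₐ[T] T ⊗[R] Y} (hf : Compat D f) :
    ∃ u : DA D →ₐ[R] Y, ∀ a : DA D, (1 : T) ⊗ₜ[R] u a = f (DA.incl D a) := by
  let ιY : Y →ₐ[R] T ⊗[R] Y := Algebra.TensorProduct.includeRight
  have hinj : Function.Injective ιY :=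
    Module.FaithfullyFlat.tensorProduct_mk_injective (A := R) (B := T) Y
  let f' : DA D →ₐ[R] T ⊗[R] Y := (f.restrictScalars R).comp (DA.incl D)
  have hrange : ∀ a, f' a ∈ ιY.range := by
    intro a
    obtain ⟨y, hy⟩ := exists_eq_of_compat hf a
    exact ⟨y, hy⟩
  refine ⟨((AlgEquiv.ofInjective ιY hinj).symm : ιY.range →ₐ[R] Y).comp
    (f'.codRestrict ιY.range hrange), ?_⟩
  intro a
  have h1 : ιY ((AlgEquiv.ofInjective ιY hinj).symm (f'.codRestrict ιY.range hrange a)) =
      f' a := by
    have := (AlgEquiv.ofInjective ιY hinj).apply_symm_apply (f'.codRestrict ιY.range hrange a)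
    exact congrArg Subtype.val this
  exact h1

open Groth.Agent.H3.HopfTransfer WithConv

theorem Φ_eq_of [Module.Flat R T] {f : MonoidAlgebra T M →ₐ[T] T ⊗[R] Y}
    (u : DA D →ₐ[R] Y) (hu : ∀ a : DA D, (1 : T) ⊗ₜ[R] u a = f (DA.incl D a)) :
    Φ T (DA D) (MonoidAlgebra T M) (thetaEquiv D) u = toConv f := by
  apply WithConv.ofConv_injective
  apply AlgHom.ext
  intro x
  obtain ⟨z, rfl⟩ := (thetaEquiv D).surjective x
  rw [Φ_apply, AlgEquiv.symm_apply_apply]
  induction z using TensorProduct.induction_on with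
  | zero => simp
  | add x y hx hy => rw [map_add, map_add, map_add, hx, hy]
  | tmul t a =>
    rw [bc_tmul, thetaEquiv_tmul]
    rw [map_smul, ← hu, TensorProduct.smul_tmul', smul_eq_mul, mul_one]

theorem Φ_apply_coe [Module.Flat R T] (u : DA D →ₐ[R] Y) (a : DA D) :
    (Φ T (DA D) (MonoidAlgebra T M) (thetaEquiv D) u).ofConv (DA.incl D a) =
      (1 : T) ⊗ₜ[R] u a := by
  rw [Φ_apply, thetaEquiv_symm_incl, bc_tmul]

theorem compat_Φ [Module.Flat R T] (u : DA D →ₐ[R] Y) :
    Compat D (Φ T (DA D) (MonoidAlgebra T M) (thetaEquiv D) u).ofConv := by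
  set f := (Φ T (DA D) (MonoidAlgebra T M) (thetaEquiv D) u).ofConv with hf
  have key : ∀ z : T ⊗[R] DA D,
      Q f (rho' D.g (thetaEquiv D z)) = d1 Y (f (thetaEquiv D z)) := by
    intro z
    induction z using TensorProduct.induction_on with
    | zero => simp
    | add x y hx hy => rw [map_add, map_add, map_add, map_add, map_add, hx, hy]
    | tmul t a =>
      have h1 : thetaEquiv D (t ⊗ₜ[R] a) = single 1 t * DA.incl D a := by
        rw [thetaEquiv_tmul, Algebra.smul_def, algebraMap_eq_single]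
      rw [h1, map_mul, map_mul, map_mul, map_mul, rho'_single_one_left,
        DA.rho'_incl D a, Q_incL, Q_single, ← one_def, map_one, map_one, mul_one,
        f_single_one_left, hf, Φ_apply_coe, eps_tmul, d2_tmul, d1_apply, d1_apply]
  intro m
  have h := key ((thetaEquiv D).symm (single m 1))
  rw [AlgEquiv.apply_symm_apply, rho'_single_one] at h
  exact h

theorem Q_eq_of_chi_eq (f : MonoidAlgebra T M →ₐ[T] T ⊗[R] Y) (χ : M →* T ⊗[R] (T ⊗[R] Y))
    (h : chi f = χ) :
    Q f = liftNCRingHom (eps (R := R) (T := T) Y).toRingHom χ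
      (fun _ _ => Commute.all (S := T ⊗[R] (T ⊗[R] Y)) _ _) := by
  subst h
  rfl

theorem chi_mul (F₁ F₂ : WithConv (MonoidAlgebra T M →ₐ[T] T ⊗[R] Y)) :
    chi (F₁ * F₂).ofConv = chi F₁.ofConv * chi F₂.ofConv := by
  ext m
  rw [chi_apply, MonoidHom.mul_apply, chi_apply, chi_apply, ← map_mul]
  congr 1
  exact MonoidAlgebra.convMul_algHom_single_one F₁ F₂ m

theorem chi_one : chi (1 : WithConv (MonoidAlgebra T M →ₐ[T] T ⊗[R] Y)).ofConv = 1 := by
  ext m
  rw [chi_apply, MonoidHom.one_apply]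
  have h : (1 : WithConv (MonoidAlgebra T M →ₐ[T] T ⊗[R] Y)).ofConv (single m 1) = 1 := by
    change algebraMap T (T ⊗[R] Y) (Coalgebra.counit (R := T) (single m (1 : T))) = 1
    rw [MonoidAlgebra.counit_single, CommSemiring.counit_apply, map_one]
  rw [h, map_one]

theorem compat_mul {F₁ F₂ : WithConv (MonoidAlgebra T M →ₐ[T] T ⊗[R] Y)}
    (h₁ : Compat D F₁.ofConv) (h₂ : Compat D F₂.ofConv) : Compat D (F₁ * F₂).ofConv := by
  intro m
  have hQ : Q (F₁ * F₂).ofConv (D.g m) = Q F₁.ofConv (D.g m) * Q F₂.ofConv (D.g m) := by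
    rw [Q_eq_of_chi_eq _ _ (chi_mul F₁ F₂)]
    exact liftNC_mul_groupLike _ _ _ (D.gl m)
  rw [hQ, h₁ m, h₂ m, ← map_mul]
  congr 1
  exact (MonoidAlgebra.convMul_algHom_single_one F₁ F₂ m).symm

theorem compat_one : Compat D (1 : WithConv (MonoidAlgebra T M →ₐ[T] T ⊗[R] Y)).ofConv := by
  intro m
  have hQ : Q (1 : WithConv (MonoidAlgebra T M →ₐ[T] T ⊗[R] Y)).ofConv (D.g m) = 1 := by
    rw [Q_eq_of_chi_eq _ _ chi_one]
    exact liftNC_one_groupLike _ (D.gl m)
  have h : (1 : WithConv (MonoidAlgebra T M →ₐ[T] T ⊗[R] Y)).ofConv (single m 1) = 1 := by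
    change algebraMap T (T ⊗[R] Y) (Coalgebra.counit (R := T) (single m (1 : T))) = 1
    rw [MonoidAlgebra.counit_single, CommSemiring.counit_apply, map_one]
  rw [hQ, h, map_one]

theorem single_inv_mul (f : MonoidAlgebra T M →ₐ[T] T ⊗[R] Y) (m : M) :
    f (single m⁻¹ 1) * f (single m 1) = 1 := by
  rw [← map_mul, single_mul_single, inv_mul_cancel, one_mul, ← one_def, map_one]

theorem comp_antipode_single (f : MonoidAlgebra T M →ₐ[T] T ⊗[R] Y) (m : M) :
    (f.comp (HopfAlgebra.antipodeAlgHom T (MonoidAlgebra T M))) (single m 1) =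
      f (single m⁻¹ 1) := by
  change f (HopfAlgebra.antipode T (single m (1 : T))) = _
  rw [MonoidAlgebra.antipode_single, HopfAlgebra.antipode_one]

theorem compat_inv {f : MonoidAlgebra T M →ₐ[T] T ⊗[R] Y}
    (h : Compat D f) :
    Compat D (f.comp (HopfAlgebra.antipodeAlgHom T (MonoidAlgebra T M))) := by
  intro m
  set f' := f.comp (HopfAlgebra.antipodeAlgHom T (MonoidAlgebra T M)) with hf'
  have hchi : chi f' * chi f = 1 := by
    ext k
    rw [MonoidHom.mul_apply, chi_apply, chi_apply, MonoidHom.one_apply, ← map_mul, hf',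
      comp_antipode_single, single_inv_mul, map_one]
  have h1 : Q f' (D.g m) * Q f (D.g m) = 1 := by
    rw [Q_eq_of_chi_eq f' _ rfl, Q_eq_of_chi_eq f _ rfl, ← liftNC_mul_groupLike _ _ _ (D.gl m),
      hchi]
    exact liftNC_one_groupLike _ (D.gl m)
  have h2 : d1 Y (f' (single m 1)) * d1 Y (f (single m 1)) = 1 := by
    rw [← map_mul, hf', comp_antipode_single, single_inv_mul, map_one]
  rw [h m] at h1
  calc Q f' (D.g m)
      = Q f' (D.g m) * (d1 Y (f (single m 1)) * d1 Y (f' (single m 1))) := by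
        rw [mul_comm (d1 Y (f (single m 1))), h2, mul_one]
    _ = d1 Y (f' (single m 1)) := by rw [← mul_assoc, h1, one_mul]

theorem Φ_injective [Module.FaithfullyFlat R T] :
    Function.Injective (Φ T (DA D) (MonoidAlgebra T M) (thetaEquiv D) (Y := Y)) := by
  intro u v huv
  apply AlgHom.ext
  intro a
  have h1 := Φ_apply_coe (D := D) u a
  have h2 := Φ_apply_coe (D := D) v a
  rw [huv] at h1
  have h : TensorProduct.mk R T Y 1 (u a) = TensorProduct.mk R T Y 1 (v a) := h1.symm.trans h2
  have hinj := Module.FaithfullyFlat.tensorProduct_mk_injective (A := R) (B := T) Y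
  exact hinj h

end Compat

section Main

variable {R : Type u} [CommRing R] {T : Type u} [CommRing T] [Algebra R T]
  {M : Type u} [CommGroup M] (D : Datum R T M) [Module.FaithfullyFlat R T]

open Groth.Agent.H3.HopfTransfer WithConv

theorem exists_Φ_eq {Y : Type u} [CommRing Y] [Algebra R Y]
    (F : WithConv (MonoidAlgebra T M →ₐ[T] T ⊗[R] Y)) (hF : Compat D F.ofConv) :
    ∃ u : DA D →ₐ[R] Y,
      Φ T (DA D) (MonoidAlgebra T M) (thetaEquiv D) u = F := by
  obtain ⟨u, hu⟩ := exists_of_compat hF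
  exact ⟨u, Φ_eq_of u hu⟩

theorem exists_comul :
    ∃ u : DA D →ₐ[R] DA D ⊗[R] DA D,
      Φ T (DA D) (MonoidAlgebra T M) (thetaEquiv D) u =
        Φ T (DA D) (MonoidAlgebra T M) (thetaEquiv D)
          (Algebra.TensorProduct.includeLeft : DA D →ₐ[R] DA D ⊗[R] DA D) *
        Φ T (DA D) (MonoidAlgebra T M) (thetaEquiv D)
          (Algebra.TensorProduct.includeRight : DA D →ₐ[R] DA D ⊗[R] DA D) :=
  exists_Φ_eq D _ (compat_mul (compat_Φ _) (compat_Φ _))

theorem exists_counit :
    ∃ u : DA D →ₐ[R] R,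
      Φ T (DA D) (MonoidAlgebra T M) (thetaEquiv D) u = 1 :=
  exists_Φ_eq D _ compat_one

theorem exists_antipode :
    ∃ u : DA D →ₐ[R] DA D,
      Φ T (DA D) (MonoidAlgebra T M) (thetaEquiv D) u =
        toConv ((Φ T (DA D) (MonoidAlgebra T M) (thetaEquiv D)
          (AlgHom.id R (DA D))).ofConv.comp
            (HopfAlgebra.antipodeAlgHom T (MonoidAlgebra T M))) :=
  exists_Φ_eq D _ (compat_inv (compat_Φ _))

/-- the comultiplication of the descended algebra -/
noncomputable def comulD : DA D →ₐ[R] DA D ⊗[R] DA D :=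
  Classical.choose (exists_comul D)

/-- the counit of the descended algebra -/
noncomputable def counitD : DA D →ₐ[R] R := Classical.choose (exists_counit D)

/-- the antipode of the descended algebra -/
noncomputable def antipodeD : DA D →ₐ[R] DA D := Classical.choose (exists_antipode D)

theorem comulD_spec :
    Φ T (DA D) (MonoidAlgebra T M) (thetaEquiv D) (comulD D) =
        Φ T (DA D) (MonoidAlgebra T M) (thetaEquiv D)
          (Algebra.TensorProduct.includeLeft : DA D →ₐ[R] DA D ⊗[R] DA D) *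
        Φ T (DA D) (MonoidAlgebra T M) (thetaEquiv D)
          (Algebra.TensorProduct.includeRight : DA D →ₐ[R] DA D ⊗[R] DA D) :=
  Classical.choose_spec (exists_comul D)

theorem counitD_spec :
    Φ T (DA D) (MonoidAlgebra T M) (thetaEquiv D) (counitD D) = 1 :=
  Classical.choose_spec (exists_counit D)

theorem antipodeD_spec :
    Φ T (DA D) (MonoidAlgebra T M) (thetaEquiv D) (antipodeD D) =
        toConv ((Φ T (DA D) (MonoidAlgebra T M) (thetaEquiv D)
          (AlgHom.id R (DA D))).ofConv.comp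
            (HopfAlgebra.antipodeAlgHom T (MonoidAlgebra T M))) :=
  Classical.choose_spec (exists_antipode D)

theorem Φ_injective' (Y : Type u) [CommRing Y] [Algebra R Y] :
    Function.Injective (Φ T (DA D) (MonoidAlgebra T M) (thetaEquiv D) (Y := Y)) :=
  Φ_injective

/-- the transfer data for the descended algebra -/
noncomputable def descData :
    Data T (DA D) (MonoidAlgebra T M) (thetaEquiv D) where
  inj := Φ_injective' D
  comul := comulD D
  comul_spec := comulD_spec D
  counit := counitD D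
  counit_spec := counitD_spec D
  antipode := antipodeD D
  antipode_spec := antipodeD_spec D

/-- the Hopf algebra structure on the descended algebra -/
noncomputable abbrev descHopf : HopfAlgebra R (DA D) := hopfT (descData D)

/-- the comparison isomorphism as an isomorphism of bialgebras -/
noncomputable def descEquiv :
    letI := descHopf D
    T ⊗[R] DA D ≃ₐc[T] MonoidAlgebra T M :=
  thetaBialgT (descData D)

theorem descEquiv_tmul (t : T) (a : DA D) :
    letI := descHopf D
    descEquiv D (t ⊗ₜ[R] a) = t • DA.incl D a :=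
  thetaEquiv_tmul D t a

end Main

end Groth.Agent.H3.TwDesc
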