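import Groth.Agent.H3.TwDescHopf

/-!
# Lifting descent data on group algebras along a reduction

Given compatible reduction maps `T → T₀`, `T ⊗ T → T₀ ⊗ T₀`, `T ⊗ T ⊗ T → T₀ ⊗ T₀ ⊗ T₀` whose kernels
lie in the Jacobson radicals, and along the second of which idempotents lift, every descent datum on
`T₀[M]` lifts to a descent datum on `T[M]`.
-/

set_option autoImplicit false
set_option linter.unusedSectionVars false
set_option linter.style.haveILetI false
universe u
open scoped TensorProduct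

namespace Groth.Agent.H3.TwDesc

open MonoidAlgebra Groth.Agent.H15.GLD Groth.Agent.H3.GLLift

section Convex

variable {S : Type*} [CommRing S] {S' : Type*} [CommRing S'] {M : Type*} [CommMonoid M]

/-- a combination of group-like elements with a complete family of orthogonal idempotents as
coefficients is group-like -/
theorem isGroupLikeElem_liftNC (ε : S →+* S') (χ : M →* MonoidAlgebra S' M)
    (hχ : ∀ n, IsGroupLikeElem S' (χ n)) {x : MonoidAlgebra S M} (hx : IsGroupLikeElem S x) :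
    IsGroupLikeElem S' (liftNCRingHom ((singleOneRingHom : S' →+* MonoidAlgebra S' M).comp ε) χ
      (fun _ _ => Commute.all (S := MonoidAlgebra S' M) _ _) x) := by
  classical
  rw [liftNC_eq_sum]
  have hsm : ∀ n, ((singleOneRingHom : S' →+* MonoidAlgebra S' M).comp ε) (x.coeff n) * χ n =
      ε (x.coeff n) • χ n := by
    intro n
    rw [Algebra.smul_def]
    rfl
  simp only [hsm]
  have horth : ∀ n k, ε (x.coeff n) * ε (x.coeff k) = if n = k then ε (x.coeff n) else 0 := by
    intro n k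
    rw [← map_mul, coeff_mul_coeff hx]
    split_ifs <;> simp
  have hsum : ∑ n ∈ x.coeff.support, ε (x.coeff n) = 1 := by
    rw [← map_sum]
    have := sum_coeff hx
    rw [Finsupp.sum] at this
    rw [this, map_one]
  constructor
  · rw [map_sum]
    have : ∀ n ∈ x.coeff.support,
        Coalgebra.counit (R := S') (ε (x.coeff n) • χ n) = ε (x.coeff n) := by
      intro n _
      rw [map_smul, (hχ n).counit_eq_one, smul_eq_mul, mul_one]
    rw [Finset.sum_congr rfl this, hsum]
  · rw [map_sum, TensorProduct.sum_tmul]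
    apply Finset.sum_congr rfl
    intro n hn
    rw [map_smul, (hχ n).comul_eq_tmul_self, TensorProduct.tmul_sum, Finset.sum_eq_single n]
    · rw [TensorProduct.smul_tmul_smul, horth, if_pos rfl]
    · intro k _ hkn
      rw [TensorProduct.smul_tmul_smul, horth, if_neg (Ne.symm hkn), zero_smul]
    · intro h
      exact absurd hn h

end Convex

section Lift

variable (R : Type u) [CommRing R] (T : Type u) [CommRing T] [Algebra R T]
  (R₀ : Type u) [CommRing R₀] (T₀ : Type u) [CommRing T₀] [Algebra R₀ T₀]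

/-- `t ↦ 1 ⊗ t` as a ring map -/
noncomputable abbrev incRr : T →+* T ⊗[R] T :=
  ((Algebra.TensorProduct.includeRight : T →ₐ[R] T ⊗[R] T) : T →+* T ⊗[R] T)

/-- compatible reduction maps between the two-fold and three-fold tensor powers of two covers -/
structure RedData where
  /-- reduction on `T` -/
  r1 : T →+* T₀
  /-- reduction on `T ⊗ T` -/
  r2 : T ⊗[R] T →+* T₀ ⊗[R₀] T₀
  /-- reduction on `T ⊗ T ⊗ T` -/
  r3 : (T ⊗[R] T) ⊗[R] T →+* (T₀ ⊗[R₀] T₀) ⊗[R₀] T₀
  mul_comm : r1.comp (mulTr R T) = (mulTr R₀ T₀).comp r2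
  incL_comm : r2.comp (incLr (R := R) (T := T)) = (incLr (R := R₀) (T := T₀)).comp r1
  incR_comm : r2.comp (incRr R T) = (incRr R₀ T₀).comp r1
  q12_comm : r3.comp (q12r R T) = (q12r R₀ T₀).comp r2
  q13_comm : r3.comp (q13r R T) = (q13r R₀ T₀).comp r2
  q23_comm : r3.comp (q23r R T) = (q23r R₀ T₀).comp r2
  jac1 : RingHom.ker r1 ≤ Ideal.jacobson ⊥
  jac2 : RingHom.ker r2 ≤ Ideal.jacobson ⊥
  jac3 : RingHom.ker r3 ≤ Ideal.jacobson ⊥
  idem2 : ∀ e' : T₀ ⊗[R₀] T₀, IsIdempotentElem e' → ∃ e, IsIdempotentElem e ∧ r2 e = e'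

variable {R T R₀ T₀} {M : Type u} [CommGroup M]

theorem mapRingHom_mapRingHom {A B C : Type*} [CommRing A] [CommRing B] [CommRing C]
    (f : B →+* C) (g : A →+* B) (x : MonoidAlgebra A M) :
    mapRingHom M f (mapRingHom M g x) = mapRingHom M (f.comp g) x := by
  rw [mapRingHom_comp]; rfl

theorem map_Lam (ρ : RedData R T R₀ T₀) (g : M →* MonoidAlgebra (T ⊗[R] T) M)
    (g₀ : M →* MonoidAlgebra (T₀ ⊗[R₀] T₀) M) (hg : ∀ m, mapRingHom M ρ.r2 (g m) = g₀ m)
    (y : MonoidAlgebra (T ⊗[R] T) M) :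
    mapRingHom M ρ.r3 (Lam g y) = Lam g₀ (mapRingHom M ρ.r2 y) := by
  have h : (mapRingHom M ρ.r3).comp (Lam g) = (Lam g₀).comp (mapRingHom M ρ.r2) := by
    apply ringHom_ext
    · intro s
      change mapRingHom M ρ.r3 (Lam g (single 1 s)) = Lam g₀ (mapRingHom M ρ.r2 (single 1 s))
      rw [Lam_single, map_one, map_one, mul_one, mapRingHom_single, mapRingHom_single, Lam_single,
        map_one, map_one, mul_one]
      congr 1
      exact DFunLike.congr_fun ρ.q23_comm s
    · intro m
      change mapRingHom M ρ.r3 (Lam g (single m 1)) = Lam g₀ (mapRingHom M ρ.r2 (single m 1))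
      rw [Lam_single, map_one, ← one_def, one_mul, mapRingHom_single, map_one, Lam_single,
        map_one, ← one_def, one_mul, mapRingHom_mapRingHom, ρ.q12_comm, ← mapRingHom_mapRingHom,
        hg]
  exact DFunLike.congr_fun h y

theorem map_rho' (ρ : RedData R T R₀ T₀) (g : M →* MonoidAlgebra (T ⊗[R] T) M)
    (g₀ : M →* MonoidAlgebra (T₀ ⊗[R₀] T₀) M) (hg : ∀ m, mapRingHom M ρ.r2 (g m) = g₀ m)
    (x : MonoidAlgebra T M) :
    mapRingHom M ρ.r2 (rho' g x) = rho' g₀ (mapRingHom M ρ.r1 x) := by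
  have h : (mapRingHom M ρ.r2).comp (rho' g).toRingHom =
      (rho' g₀).toRingHom.comp (mapRingHom M ρ.r1) := by
    apply ringHom_ext
    · intro t
      change mapRingHom M ρ.r2 (rho' g (single 1 t)) = rho' g₀ (mapRingHom M ρ.r1 (single 1 t))
      rw [rho'_single_one_left, mapRingHom_single, mapRingHom_single, rho'_single_one_left]
      congr 1
      exact DFunLike.congr_fun ρ.incR_comm t
    · intro m
      change mapRingHom M ρ.r2 (rho' g (single m 1)) = rho' g₀ (mapRingHom M ρ.r1 (single m 1))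
      rw [rho'_single_one, mapRingHom_single, map_one, rho'_single_one, hg]
  exact DFunLike.congr_fun h x

/-- descent data lift along a reduction -/
theorem exists_lift_datum (ρ : RedData R T R₀ T₀) (D₀ : Datum R₀ T₀ M) :
    ∃ D : Datum R T M, ∀ m, mapRingHom M ρ.r2 (D.g m) = D₀.g m := by
  have hex : ∀ m, ∃ x : MonoidAlgebra (T ⊗[R] T) M,
      IsGroupLikeElem (T ⊗[R] T) x ∧ mapRingHom M ρ.r2 x = D₀.g m :=
    fun m => exists_groupLike_lift ρ.r2 ρ.jac2 ρ.idem2 (D₀.gl m)
  choose g hgl hg using hex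
  let gm : M →* MonoidAlgebra (T ⊗[R] T) M :=
    { toFun := g
      map_one' := groupLike_eq_of_map_eq ρ.r2 ρ.jac2 (hgl 1) IsGroupLikeElem.one
        (by rw [hg, map_one, map_one])
      map_mul' := fun m n => groupLike_eq_of_map_eq ρ.r2 ρ.jac2 (hgl (m * n))
        ((hgl m).mul (hgl n)) (by rw [hg, map_mul, map_mul, hg, hg]) }
  have hgm : ∀ m, gm m = g m := fun _ => rfl
  refine ⟨⟨gm, hgl, ?_, ?_⟩, hg⟩
  · intro m
    apply groupLike_eq_of_map_eq ρ.r1 ρ.jac1 (isGroupLikeElem_mapRingHom _ (hgl m))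
      (isGroupLikeElem_single_one m)
    change mapRingHom M ρ.r1 (mapRingHom M (mulTr R T) (g m)) = _
    rw [mapRingHom_mapRingHom, ρ.mul_comm, ← mapRingHom_mapRingHom, hg, D₀.c1,
      mapRingHom_single, map_one]
  · intro m
    have hLam : IsGroupLikeElem ((T ⊗[R] T) ⊗[R] T) (Lam gm (gm m)) :=
      isGroupLikeElem_liftNC (q23r R T)
        ((mapRingHom M (q12r R T) :
          MonoidAlgebra (T ⊗[R] T) M →* MonoidAlgebra ((T ⊗[R] T) ⊗[R] T) M).comp gm)
        (fun n => isGroupLikeElem_mapRingHom _ (hgl n)) (hgl m)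
    apply groupLike_eq_of_map_eq ρ.r3 ρ.jac3 hLam (isGroupLikeElem_mapRingHom _ (hgl m))
    change mapRingHom M ρ.r3 (Lam gm (g m)) = mapRingHom M ρ.r3 (mapRingHom M (q13r R T) (g m))
    rw [map_Lam ρ gm D₀.g hg, hg, D₀.c2, mapRingHom_mapRingHom, ρ.q13_comm,
      ← mapRingHom_mapRingHom, hg]

end Lift

end Groth.Agent.H3.TwDesc
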