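import Groth.Agent.H3.TwDescRed
import Groth.Agent.H3.TwDescCompare
import Groth.Agent.S0532
import Mathlib.RingTheory.Smooth.Flat
import Mathlib.RingTheory.Henselian

/-!
# Isotrivial groups of multiplicative type lift along a complete (henselian) pair

`(R, I)` henselian, `A₀` an isotrivial Hopf algebra over `R/I`.  We lift the splitting cover `T₀` to a
finite etale `R`-algebra `T`, lift the descent datum on `T₀[M]` to one on `T[M]` (group-like elements
lift uniquely), descend `T[M]` to a Hopf algebra `A` over `R` and compare `(R/I) ⊗ A` with `A₀`.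
-/

set_option autoImplicit false
set_option linter.unusedSectionVars false
set_option linter.style.haveILetI false
universe u
open scoped TensorProduct

namespace Groth.Agent.H3.TwDesc

open MonoidAlgebra Groth.Agent.H26 Groth.Agent.H15.MTC

section ff

variable {A : Type*} [CommRing A] (I : Ideal A) {A' : Type*} [CommRing A'] [Algebra A A']

/-- a flat algebra whose reduction modulo an ideal in the radical maps to a faithfully flat
`A/I`-algebra is faithfully flat (same argument as `H15.MTI.faithfullyFlat_of_quotient`) -/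
theorem faithfullyFlat_of_quot [Module.Flat A A'] (hI : I ≤ Ideal.jacobson ⊥)
    {B₀ : Type*} [CommRing B₀] [Algebra (A ⧸ I) B₀] [Algebra A B₀] [IsScalarTower A (A ⧸ I) B₀]
    [Module.FaithfullyFlat (A ⧸ I) B₀] (g : A' →ₐ[A] B₀) : Module.FaithfullyFlat A A' := by
  refine ⟨?_⟩
  intro m hm htop
  have hIm : I ≤ m := by
    refine hI.trans ?_
    intro x hx
    rw [Ideal.jacobson, Ideal.mem_sInf] at hx
    exact hx ⟨bot_le, hm⟩
  have hmbar : (m.map (Ideal.Quotient.mk I)).IsMaximal := by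
    rcases Ideal.map_eq_top_or_isMaximal_of_surjective (Ideal.Quotient.mk I)
      Ideal.Quotient.mk_surjective hm with h | h
    · exfalso
      have h1 : Ideal.comap (Ideal.Quotient.mk I) (m.map (Ideal.Quotient.mk I)) = m := by
        rw [Ideal.comap_map_of_surjective _ Ideal.Quotient.mk_surjective,
          ← RingHom.ker_eq_comap_bot, Ideal.mk_ker, sup_eq_left.mpr hIm]
      rw [h, Ideal.comap_top] at h1
      exact hm.ne_top h1.symm
    · exact h
  apply Module.FaithfullyFlat.submodule_ne_top (R := A ⧸ I) (M := B₀) hmbar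
  have h1 : (1 : A') ∈ (m • ⊤ : Submodule A A') := by rw [htop]; trivial
  have h2 : g 1 ∈ (m • ⊤ : Submodule A B₀) := map_mem_smul_top m g.toLinearMap h1
  rw [map_one] at h2
  have h3 : ∀ x ∈ (m • ⊤ : Submodule A B₀),
      x ∈ (m.map (Ideal.Quotient.mk I) • ⊤ : Submodule (A ⧸ I) B₀) := by
    intro x hx
    refine Submodule.smul_induction_on hx ?_ ?_
    · intro a ha b _
      have : a • b = (Ideal.Quotient.mk I a) • b := by
        rw [← Ideal.Quotient.algebraMap_eq, algebraMap_smul]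
      rw [this]
      exact Submodule.smul_mem_smul (Ideal.mem_map_of_mem _ ha) trivial
    · intro x y hx hy
      exact add_mem hx hy
  have h4 := h3 1 h2
  rw [Ideal.smul_top_eq_map] at h4 ⊢
  have h5 : Ideal.map (algebraMap (A ⧸ I) B₀) (m.map (Ideal.Quotient.mk I)) = ⊤ :=
    (Ideal.eq_top_iff_one _).mpr h4
  rw [h5]
  rfl

end ff

section Chart

variable {R : Type u} [CommRing R] {A : Type u} [CommRing A] [HopfAlgebra R A]
  {K : Type u} [CommRing K] [Algebra R K] {M : Type u} [CommGroup M]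

/-- the chart attached to a trivialisation, in the form where the chart map is prescribed -/
theorem chart_of_equiv' (e : K ⊗[R] A ≃ₐc[K] MonoidAlgebra K M) (l : A →ₐ[R] MonoidAlgebra K M)
    (hl : ∀ a, l a = e ((1 : K) ⊗ₜ[R] a)) :
    IsCoalgMapOver K l.toLinearMap ∧ IsBaseChange K l.toLinearMap := by
  have h : l = ((e : K ⊗[R] A →ₐ[K] MonoidAlgebra K M).restrictScalars R).comp
      Algebra.TensorProduct.includeRight := AlgHom.ext hl
  subst h
  constructor
  · have h1 := IsCoalgMapOver.comp (S₂ := K)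
      (isCoalgMapOver_of_coalgHom (e : K ⊗[R] A →ₗc[K] MonoidAlgebra K M))
      (isCoalgMapOver_inc (R := R) K A)
    exact h1
  · have h1 := (TensorProduct.isBaseChange R A K).comp (IsBaseChange.ofEquiv e.toLinearEquiv)
    exact h1

/-- a chart over a faithfully flat cover is injective -/
theorem chart_injective [Module.FaithfullyFlat R K] (l : A →ₐ[R] MonoidAlgebra K M)
    (hbc : IsBaseChange K l.toLinearMap) : Function.Injective l := by
  intro a b hab
  apply Module.FaithfullyFlat.tensorProduct_mk_injective (A := R) (B := K) A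
  apply hbc.equiv.injective
  change hbc.equiv ((1 : K) ⊗ₜ[R] a) = hbc.equiv ((1 : K) ⊗ₜ[R] b)
  rw [hbc.equiv_tmul, hbc.equiv_tmul]
  exact congrArg _ hab

end Chart

section Main

variable {R : Type u} [CommRing R] (I : Ideal R)
  {T : Type u} [CommRing T] [Algebra R T] [Module.Finite R T]
  {T₀ : Type u} [CommRing T₀] [Algebra (R ⧸ I) T₀] [Algebra R T₀] [IsScalarTower R (R ⧸ I) T₀]
  (ψ : (R ⧸ I) ⊗[R] T ≃ₐ[R ⧸ I] T₀) (hH : HenselianRing R I)
  {M : Type u} [CommGroup M]
  {A₀ : Type u} [CommRing A₀] [HopfAlgebra (R ⧸ I) A₀]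
  (l₀ : A₀ →ₐ[R ⧸ I] MonoidAlgebra T₀ M) (hco₀ : IsCoalgMapOver T₀ l₀.toLinearMap)
  (hbc₀ : IsBaseChange T₀ l₀.toLinearMap)
  (D : Datum R T M)
  (hD : ∀ m, mapRingHom M (redData I ψ hH).r2 (D.g m) = formG l₀ hco₀ hbc₀ m)
  {A : Type u} [CommRing A] [HopfAlgebra R A]
  (l : A →ₐ[R] MonoidAlgebra T M) (hco : IsCoalgMapOver T l.toLinearMap)
  (hbc : IsBaseChange T l.toLinearMap)
  (hfix : ∀ a, rho' D.g (l a) = mapRingHom M (incLr (R := R) (T := T)) (l a))

include hD hfix in
/-- the reduction of a fixed point of the lifted datum is a fixed point of the datum of the form -/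
theorem red_fixed (a : A) :
    rho' (formG l₀ hco₀ hbc₀) (mapRingHom M (redData I ψ hH).r1 (l a)) =
      mapRingHom M (incLr (R := R ⧸ I) (T := T₀)) (mapRingHom M (redData I ψ hH).r1 (l a)) := by
  rw [← map_rho' (redData I ψ hH) D.g (formG l₀ hco₀ hbc₀) hD (l a), hfix a,
    mapRingHom_mapRingHom, (redData I ψ hH).incL_comm, ← mapRingHom_mapRingHom]

include hD hfix hco hbc in
/-- comparison: the reduction of the descended Hopf algebra is the form we started with -/
theorem compare [Module.FaithfullyFlat (R ⧸ I) T₀] :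
    Nonempty (((R ⧸ I) ⊗[R] A) ≃ₐc[R ⧸ I] A₀) := by
  set c : A →ₐ[R] MonoidAlgebra T₀ M := chartS l (red1 I ψ) with hc
  have hcco : IsCoalgMapOver T₀ c.toLinearMap := chartS_coalg l (red1 I ψ) hco
  have hcbc : IsBaseChange T₀ c.toLinearMap := chartS_bc l (red1 I ψ) hbc
  set c' : (R ⧸ I) ⊗[R] A →ₐ[R ⧸ I] MonoidAlgebra T₀ M := liftAlg (R ⧸ I) c with hc'
  have hco' : IsCoalgMapOver T₀ c'.toLinearMap := isCoalgMapOver_liftAlg (R ⧸ I) hcco
  have hbc' : IsBaseChange T₀ c'.toLinearMap := isBaseChange_liftAlg (R ⧸ I) hcbc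
  have hmem : ∀ a : A, c a ∈ l₀.range := by
    intro a
    obtain ⟨b, hb⟩ := exists_of_fixed l₀ hco₀ hbc₀ _
      (red_fixed I ψ hH l₀ hco₀ hbc₀ D hD l hfix a)
    exact ⟨b, hb⟩
  have hmem' : ∀ z : (R ⧸ I) ⊗[R] A, c' z ∈ l₀.range := by
    intro z
    induction z using TensorProduct.induction_on with
    | zero => rw [map_zero]; exact zero_mem _
    | add x y hx hy => rw [map_add]; exact add_mem hx hy
    | tmul t a =>
      rw [hc', liftAlg_tmul]
      exact Subalgebra.smul_mem _ (hmem a) t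
  have hinj : Function.Injective l₀ := chart_injective l₀ hbc₀
  let θ : (R ⧸ I) ⊗[R] A →ₐ[R ⧸ I] A₀ :=
    ((AlgEquiv.ofInjective l₀ hinj).symm : l₀.range →ₐ[R ⧸ I] A₀).comp
      (c'.codRestrict l₀.range hmem')
  have hθ : ∀ z, l₀ (θ z) = c' z := by
    intro z
    change l₀ ((AlgEquiv.ofInjective l₀ hinj).symm (c'.codRestrict l₀.range hmem' z)) = c' z
    have h1 := (AlgEquiv.ofInjective l₀ hinj).apply_symm_apply (c'.codRestrict l₀.range hmem' z)
    have h2 := congrArg Subtype.val h1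
    rw [AlgEquiv.ofInjective_apply] at h2
    exact h2
  exact nonempty_bialgEquiv_of_charts l₀ hco₀ hbc₀ c' hco' hbc' θ hθ

end Main

section Final

/-- isotrivial groups of multiplicative type lift along a henselian pair -/
theorem exists_isotrivial_lift (R : Type u) [CommRing R] (I : Ideal R) (hH : HenselianRing R I)
    (A₀ : Type u) [CommRing A₀] [HopfAlgebra (R ⧸ I) A₀] (h0 : SGA3b.IsIsotrivial (R ⧸ I) A₀) :
    ∃ (A : Type u) (_ : CommRing A) (_ : HopfAlgebra R A), SGA3b.IsIsotrivial R A ∧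
      Nonempty (((R ⧸ I) ⊗[R] A) ≃ₐc[R ⧸ I] A₀) := by
  obtain ⟨T₀, _, _, het₀, hfin₀, hff₀, M, _, ⟨e₀⟩⟩ := h0
  haveI := het₀
  haveI := hfin₀
  haveI := hff₀
  haveI : HenselianRing R I := hH
  obtain ⟨T, _, _, hfinT, hetT, ⟨ψ⟩⟩ := Groth.Agent.S0532.result R I T₀
  haveI := hfinT
  haveI := hetT
  letI : Algebra R T₀ := ((algebraMap (R ⧸ I) T₀).comp (algebraMap R (R ⧸ I))).toAlgebra
  haveI : IsScalarTower R (R ⧸ I) T₀ := IsScalarTower.of_algebraMap_eq (fun _ => rfl)
  haveI : Module.Flat R T := inferInstance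
  haveI hffT : Module.FaithfullyFlat R T := faithfullyFlat_of_quot I hH.jac (red1 I ψ)
  obtain ⟨l₀, hco₀, hbc₀⟩ := HasDChart.of_equiv e₀
  obtain ⟨D, hD⟩ := exists_lift_datum (redData I ψ hH) (formDatum l₀ hco₀ hbc₀)
  letI : HopfAlgebra R (DA D) := descHopf D
  obtain ⟨hco, hbc⟩ := chart_of_equiv' (descEquiv D) (DA.incl D)
    (fun a => by rw [descEquiv_tmul, one_smul])
  refine ⟨DA D, inferInstance, descHopf D,
    ⟨T, inferInstance, inferInstance, hetT, hfinT, hffT, M, inferInstance, ⟨descEquiv D⟩⟩, ?_⟩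
  exact compare I ψ hH l₀ hco₀ hbc₀ D hD (DA.incl D) hco hbc (DA.rho'_incl D)

end Final

end Groth.Agent.H3.TwDesc
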