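import Groth.Agent.H3.TwDescMain
import Groth.Agent.H47.EtaleLift
import Groth.Agent.H15.MTProd

/-!
# Twisted forms of group algebras lift along nil thickenings

`I` a nil ideal of `R`, `A₀` a Hopf algebra over `R/I` which becomes a group algebra `T₀[M]` over an
etale faithfully flat `R/I`-algebra `T₀`.  Then `A₀` lifts to a Hopf algebra over `R` which becomes
`T[M]` over an etale faithfully flat `R`-algebra `T` lifting `T₀`.
-/

set_option autoImplicit false
set_option linter.unusedSectionVars false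
set_option linter.style.haveILetI false
universe u
open scoped TensorProduct

namespace Groth.Agent.H3.TwDesc

open MonoidAlgebra Groth.Agent.H26 Groth.Agent.H15.MTC

section NilRed

theorem nil_le_jacobson_bot {B : Type*} [CommRing B] (J : Ideal B) (hJ : ∀ x ∈ J, IsNilpotent x) :
    J ≤ Ideal.jacobson ⊥ := by
  intro x hx
  have h1 : x ∈ nilradical B := mem_nilradical.mpr (hJ x hx)
  have h2 := nilradical_le_jacobson B h1
  rw [Ideal.jacobson_bot]
  exact h2

variable {R : Type u} [CommRing R] (I : Ideal R)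
  {T : Type u} [CommRing T] [Algebra R T]
  {T₀ : Type u} [CommRing T₀] [Algebra (R ⧸ I) T₀] [Algebra R T₀] [IsScalarTower R (R ⧸ I) T₀]
  (ψ : (R ⧸ I) ⊗[R] T ≃ₐ[R ⧸ I] T₀)

/-- the reduction data of a lifted cover modulo a nil ideal -/
noncomputable def redDataNil (hI : ∀ x ∈ I, IsNilpotent x) : RedData R T (R ⧸ I) T₀ where
  r1 := (red1 I ψ : T →+* T₀)
  r2 := (red2 I ψ : T ⊗[R] T →+* T₀ ⊗[R ⧸ I] T₀)
  r3 := (red3 I ψ : (T ⊗[R] T) ⊗[R] T →+* (T₀ ⊗[R ⧸ I] T₀) ⊗[R ⧸ I] T₀)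
  mul_comm := red_mul_comm I ψ
  incL_comm := red_incL_comm I ψ
  incR_comm := red_incR_comm I ψ
  q12_comm := red_q12_comm I ψ
  q13_comm := red_q13_comm I ψ
  q23_comm := red_q23_comm I ψ
  jac1 := by
    rw [ker_red1]
    exact nil_le_jacobson_bot _ (map_nil _ I hI)
  jac2 := by
    rw [ker_red2]
    exact nil_le_jacobson_bot _ (map_nil _ I hI)
  jac3 := by
    rw [ker_red3]
    exact nil_le_jacobson_bot _ (map_nil _ I hI)
  idem2 := by
    intro e' he'
    refine exists_isIdempotentElem_eq_of_ker_isNilpotent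
      (red2 I ψ : T ⊗[R] T →+* T₀ ⊗[R ⧸ I] T₀) ?_ e' ?_ he'
    · rw [ker_red2]
      exact map_nil _ I hI
    · obtain ⟨x, hx⟩ := red2_surjective I ψ e'
      exact ⟨x, hx⟩

end NilRed

section MainGen

variable {R : Type u} [CommRing R] (I : Ideal R)
  {T : Type u} [CommRing T] [Algebra R T]
  {T₀ : Type u} [CommRing T₀] [Algebra (R ⧸ I) T₀] [Algebra R T₀] [IsScalarTower R (R ⧸ I) T₀]
  (ψ : (R ⧸ I) ⊗[R] T ≃ₐ[R ⧸ I] T₀) (ρ : RedData R T (R ⧸ I) T₀)
  (hρ : ρ.r1 = (red1 I ψ : T →+* T₀))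
  {M : Type u} [CommGroup M]
  {A₀ : Type u} [CommRing A₀] [HopfAlgebra (R ⧸ I) A₀]
  (l₀ : A₀ →ₐ[R ⧸ I] MonoidAlgebra T₀ M) (hco₀ : IsCoalgMapOver T₀ l₀.toLinearMap)
  (hbc₀ : IsBaseChange T₀ l₀.toLinearMap)
  (D : Datum R T M)
  (hD : ∀ m, mapRingHom M ρ.r2 (D.g m) = formG l₀ hco₀ hbc₀ m)
  {A : Type u} [CommRing A] [HopfAlgebra R A]
  (l : A →ₐ[R] MonoidAlgebra T M) (hco : IsCoalgMapOver T l.toLinearMap)
  (hbc : IsBaseChange T l.toLinearMap)
  (hfix : ∀ a, rho' D.g (l a) = mapRingHom M (incLr (R := R) (T := T)) (l a))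

include hD hfix in
/-- the reduction of a fixed point of the lifted datum is a fixed point of the datum of the form
(general reduction data) -/
theorem red_fixed' (a : A) :
    rho' (formG l₀ hco₀ hbc₀) (mapRingHom M ρ.r1 (l a)) =
      mapRingHom M (incLr (R := R ⧸ I) (T := T₀)) (mapRingHom M ρ.r1 (l a)) := by
  rw [← map_rho' ρ D.g (formG l₀ hco₀ hbc₀) hD (l a), hfix a,
    mapRingHom_mapRingHom, ρ.incL_comm, ← mapRingHom_mapRingHom]

include hD hfix hco hbc hρ in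
/-- comparison for general reduction data whose first component is the reduction of the cover -/
theorem compare' [Module.FaithfullyFlat (R ⧸ I) T₀] :
    Nonempty (((R ⧸ I) ⊗[R] A) ≃ₐc[R ⧸ I] A₀) := by
  set c : A →ₐ[R] MonoidAlgebra T₀ M := chartS l (red1 I ψ) with hc
  have hcco : IsCoalgMapOver T₀ c.toLinearMap := chartS_coalg l (red1 I ψ) hco
  have hcbc : IsBaseChange T₀ c.toLinearMap := chartS_bc l (red1 I ψ) hbc
  set c' : (R ⧸ I) ⊗[R] A →ₐ[R ⧸ I] MonoidAlgebra T₀ M := liftAlg (R ⧸ I) c with hc'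
  have hco' : IsCoalgMapOver T₀ c'.toLinearMap := isCoalgMapOver_liftAlg (R ⧸ I) hcco
  have hbc' : IsBaseChange T₀ c'.toLinearMap := isBaseChange_liftAlg (R ⧸ I) hcbc
  have hmem : ∀ a : A, c a ∈ l₀.range := by
    intro a
    have h1 := red_fixed' I ρ l₀ hco₀ hbc₀ D hD l hfix a
    rw [hρ] at h1
    obtain ⟨b, hb⟩ := exists_of_fixed l₀ hco₀ hbc₀ _ h1
    exact ⟨b, hb⟩
  have hmem' : ∀ z : (R ⧸ I) ⊗[R] A, c' z ∈ l₀.range := by
    intro z
    induction z using TensorProduct.induction_on with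
    | zero => rw [map_zero]; exact zero_mem _
    | add x y hx hy => rw [map_add]; exact add_mem hx hy
    | tmul t a =>
      rw [hc', liftAlg_tmul]
      exact Subalgebra.smul_mem _ (hmem a) t
  have hinj : Function.Injective l₀ := chart_injective l₀ hbc₀
  let θ : (R ⧸ I) ⊗[R] A →ₐ[R ⧸ I] A₀ :=
    ((AlgEquiv.ofInjective l₀ hinj).symm : l₀.range →ₐ[R ⧸ I] A₀).comp
      (c'.codRestrict l₀.range hmem')
  have hθ : ∀ z, l₀ (θ z) = c' z := by
    intro z
    change l₀ ((AlgEquiv.ofInjective l₀ hinj).symm (c'.codRestrict l₀.range hmem' z)) = c' z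
    have h1 := (AlgEquiv.ofInjective l₀ hinj).apply_symm_apply (c'.codRestrict l₀.range hmem' z)
    have h2 := congrArg Subtype.val h1
    rw [AlgEquiv.ofInjective_apply] at h2
    exact h2
  exact nonempty_bialgEquiv_of_charts l₀ hco₀ hbc₀ c' hco' hbc' θ hθ

end MainGen

section NilMain

/-- single-type lifting: a form of `T₀[M]` over `R/I` (`I` nil, `T₀` etale faithfully flat) lifts -/
theorem exists_lift_of_nil (R : Type u) [CommRing R] (I : Ideal R) (hI : ∀ x ∈ I, IsNilpotent x)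
    (A₀ : Type u) [CommRing A₀] [HopfAlgebra (R ⧸ I) A₀]
    (T₀ : Type u) [CommRing T₀] [Algebra (R ⧸ I) T₀] [Algebra.Etale (R ⧸ I) T₀]
    [Module.FaithfullyFlat (R ⧸ I) T₀] (M : Type u) [CommGroup M]
    (h₀ : HasDChart (R ⧸ I) A₀ T₀ M) :
    ∃ (A : Type u) (_ : CommRing A) (_ : HopfAlgebra R A) (T : Type u) (_ : CommRing T)
      (_ : Algebra R T), Algebra.Etale R T ∧ Module.FaithfullyFlat R T ∧
      HasDChart R A T M ∧ Nonempty (((R ⧸ I) ⊗[R] A) ≃ₐc[R ⧸ I] A₀) := by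
  obtain ⟨T, _, _, hetT, ⟨ψ⟩⟩ := Groth.Agent.H47.exists_etale_lift_quotient R I T₀
  haveI := hetT
  letI : Algebra R T₀ := ((algebraMap (R ⧸ I) T₀).comp (algebraMap R (R ⧸ I))).toAlgebra
  haveI : IsScalarTower R (R ⧸ I) T₀ := IsScalarTower.of_algebraMap_eq (fun _ => rfl)
  haveI : Module.Flat R T := inferInstance
  have hjac : I ≤ Ideal.jacobson ⊥ := nil_le_jacobson_bot I hI
  haveI hffT : Module.FaithfullyFlat R T := faithfullyFlat_of_quot I hjac (red1 I ψ)
  obtain ⟨l₀, hco₀, hbc₀⟩ := h₀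
  obtain ⟨D, hD⟩ := exists_lift_datum (redDataNil I ψ hI) (formDatum l₀ hco₀ hbc₀)
  letI : HopfAlgebra R (DA D) := descHopf D
  obtain ⟨hco, hbc⟩ := chart_of_equiv' (descEquiv D) (DA.incl D)
    (fun a => by rw [descEquiv_tmul, one_smul])
  refine ⟨DA D, inferInstance, descHopf D, T, inferInstance, inferInstance, hetT, hffT,
    ⟨DA.incl D, hco, hbc⟩, ?_⟩
  exact compare' I ψ (redDataNil I ψ hI) rfl l₀ hco₀ hbc₀ D hD (DA.incl D) hco hbc
    (DA.rho'_incl D)

end NilMain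

end Groth.Agent.H3.TwDesc
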