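import Groth.Agent.H3.TwDescLift
import Groth.Agent.H26.AdicSepDiag

/-!
# Reduction data for a lifted finite cover of a henselian pair

`(R, I)` a henselian pair, `T` a finite `R`-algebra and `T₀` an `R/I`-algebra with
`(R/I) ⊗ T ≃ T₀`.  We build the reduction maps `T^{⊗k} → T₀^{⊗k}` (`k = 1, 2, 3`), identify their
kernels with `I T^{⊗k}` and assemble the `RedData` needed to lift descent data on group algebras.
-/

set_option autoImplicit false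
set_option linter.unusedSectionVars false
set_option linter.style.haveILetI false
universe u
open scoped TensorProduct

namespace Groth.Agent.H3.TwDesc

section Quot

variable {R : Type u} [CommRing R] (I : Ideal R)
  {N : Type u} [CommRing N] [Algebra R N] {N₀ : Type u} [CommRing N₀]

theorem one_tmul_eq_zero_of_mem {x : N} (hx : x ∈ (I • ⊤ : Submodule R N)) :
    (1 : R ⧸ I) ⊗ₜ[R] x = 0 := by
  refine Submodule.smul_induction_on hx ?_ ?_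
  · intro i hi n _
    have h0 : i • (1 : R ⧸ I) = 0 := by
      rw [Algebra.smul_def, mul_one, Ideal.Quotient.algebraMap_eq]
      exact Ideal.Quotient.eq_zero_iff_mem.mpr hi
    have h1 : i • ((1 : R ⧸ I) ⊗ₜ[R] n) = 0 := by
      rw [TensorProduct.smul_tmul', h0, TensorProduct.zero_tmul]
    first
      | exact h1
      | (rw [TensorProduct.tmul_smul]; exact h1)
  · intro x y hx hy
    rw [TensorProduct.tmul_add, hx, hy, add_zero]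

variable (π : N →+* N₀) (Ξ : (R ⧸ I) ⊗[R] N → N₀) (hΞ : Function.Bijective Ξ) (hΞ0 : Ξ 0 = 0)
  (h : ∀ x, π x = Ξ ((1 : R ⧸ I) ⊗ₜ[R] x))

include hΞ h in
theorem surjective_of_quot : Function.Surjective π := by
  intro y
  obtain ⟨z, rfl⟩ := hΞ.2 y
  obtain ⟨x, rfl⟩ := TensorProduct.mk_surjective R N (R ⧸ I) Ideal.Quotient.mk_surjective z
  exact ⟨x, h x⟩

include hΞ hΞ0 h in
theorem ker_eq_of_quot : RingHom.ker π = I.map (algebraMap R N) := by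
  ext x
  have hmem : x ∈ I.map (algebraMap R N) ↔ x ∈ (I • ⊤ : Submodule R N) := by
    rw [Ideal.smul_top_eq_map]; rfl
  rw [RingHom.mem_ker, h, hmem]
  constructor
  · intro hx
    rw [← hΞ0] at hx
    exact Groth.Agent.H26.mem_smul_top_of_one_tmul_eq_zero I x (hΞ.1 hx)
  · intro hx
    rw [one_tmul_eq_zero_of_mem I hx, hΞ0]

end Quot

section Maps

variable {R : Type u} [CommRing R] (I : Ideal R)
  {T : Type u} [CommRing T] [Algebra R T]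
  {T₀ : Type u} [CommRing T₀] [Algebra (R ⧸ I) T₀] [Algebra R T₀] [IsScalarTower R (R ⧸ I) T₀]
  (ψ : (R ⧸ I) ⊗[R] T ≃ₐ[R ⧸ I] T₀)

instance smulCommClass_quot : SMulCommClass (R ⧸ I) R T₀ :=
  ⟨fun a b x => by rw [Algebra.smul_def, Algebra.smul_def, Algebra.smul_def, Algebra.smul_def,
    mul_left_comm]⟩

/-- the reduction `T → T₀` -/
noncomputable def red1 : T →ₐ[R] T₀ :=
  ((ψ : (R ⧸ I) ⊗[R] T →ₐ[R ⧸ I] T₀).restrictScalars R).comp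
    (Algebra.TensorProduct.includeRight : T →ₐ[R] (R ⧸ I) ⊗[R] T)

theorem red1_apply (t : T) : red1 I ψ t = ψ ((1 : R ⧸ I) ⊗ₜ[R] t) := rfl

/-- the reduction `T ⊗ T → T₀ ⊗ T₀` -/
noncomputable def red2 : T ⊗[R] T →ₐ[R] T₀ ⊗[R ⧸ I] T₀ :=
  Algebra.TensorProduct.lift
    ((Algebra.TensorProduct.includeLeft : T₀ →ₐ[R] T₀ ⊗[R ⧸ I] T₀).comp (red1 I ψ))
    (((Algebra.TensorProduct.includeRight : T₀ →ₐ[R ⧸ I] T₀ ⊗[R ⧸ I] T₀).restrictScalars R).comp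
      (red1 I ψ))
    (fun _ _ => Commute.all (S := T₀ ⊗[R ⧸ I] T₀) _ _)

theorem red2_tmul (a b : T) : red2 I ψ (a ⊗ₜ[R] b) = red1 I ψ a ⊗ₜ[R ⧸ I] red1 I ψ b := by
  rw [red2, Algebra.TensorProduct.lift_tmul]
  change (red1 I ψ a ⊗ₜ[R ⧸ I] (1 : T₀)) * ((1 : T₀) ⊗ₜ[R ⧸ I] red1 I ψ b) = _
  rw [Algebra.TensorProduct.tmul_mul_tmul, mul_one, one_mul]

/-- the reduction `T ⊗ T ⊗ T → T₀ ⊗ T₀ ⊗ T₀` -/
noncomputable def red3 : (T ⊗[R] T) ⊗[R] T →ₐ[R] (T₀ ⊗[R ⧸ I] T₀) ⊗[R ⧸ I] T₀ :=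
  Algebra.TensorProduct.lift
    ((Algebra.TensorProduct.includeLeft :
      T₀ ⊗[R ⧸ I] T₀ →ₐ[R] (T₀ ⊗[R ⧸ I] T₀) ⊗[R ⧸ I] T₀).comp (red2 I ψ))
    (((Algebra.TensorProduct.includeRight :
      T₀ →ₐ[R ⧸ I] (T₀ ⊗[R ⧸ I] T₀) ⊗[R ⧸ I] T₀).restrictScalars R).comp (red1 I ψ))
    (fun _ _ => Commute.all (S := (T₀ ⊗[R ⧸ I] T₀) ⊗[R ⧸ I] T₀) _ _)

theorem red3_tmul (x : T ⊗[R] T) (c : T) :
    red3 I ψ (x ⊗ₜ[R] c) = red2 I ψ x ⊗ₜ[R ⧸ I] red1 I ψ c := by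
  rw [red3, Algebra.TensorProduct.lift_tmul]
  change (red2 I ψ x ⊗ₜ[R ⧸ I] (1 : T₀)) * ((1 : T₀ ⊗[R ⧸ I] T₀) ⊗ₜ[R ⧸ I] red1 I ψ c) = _
  rw [Algebra.TensorProduct.tmul_mul_tmul, mul_one, one_mul]

/-- `(R/I) ⊗ (T ⊗ T) ≃ T₀ ⊗ T₀` -/
noncomputable def Xi2 : (R ⧸ I) ⊗[R] (T ⊗[R] T) ≃ₗ[R ⧸ I] T₀ ⊗[R ⧸ I] T₀ :=
  (TensorProduct.AlgebraTensorModule.distribBaseChange R (R ⧸ I) T T) ≪≫ₗ
    (TensorProduct.congr ψ.toLinearEquiv ψ.toLinearEquiv)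

/-- `(R/I) ⊗ (T ⊗ T ⊗ T) ≃ T₀ ⊗ T₀ ⊗ T₀` -/
noncomputable def Xi3 :
    (R ⧸ I) ⊗[R] ((T ⊗[R] T) ⊗[R] T) ≃ₗ[R ⧸ I] (T₀ ⊗[R ⧸ I] T₀) ⊗[R ⧸ I] T₀ :=
  (TensorProduct.AlgebraTensorModule.distribBaseChange R (R ⧸ I) (T ⊗[R] T) T) ≪≫ₗ
    (TensorProduct.congr (Xi2 I ψ) ψ.toLinearEquiv)

theorem red2_eq (x : T ⊗[R] T) : red2 I ψ x = Xi2 I ψ ((1 : R ⧸ I) ⊗ₜ[R] x) := by
  induction x using TensorProduct.induction_on with
  | zero => simp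
  | add x y hx hy => rw [map_add, TensorProduct.tmul_add, map_add, hx, hy]
  | tmul a b =>
    rw [red2_tmul, Xi2, LinearEquiv.trans_apply,
      TensorProduct.AlgebraTensorModule.distribBaseChange_tmul, TensorProduct.congr_tmul]
    rfl

theorem red3_eq (y : (T ⊗[R] T) ⊗[R] T) : red3 I ψ y = Xi3 I ψ ((1 : R ⧸ I) ⊗ₜ[R] y) := by
  induction y using TensorProduct.induction_on with
  | zero => simp
  | add x y hx hy => rw [map_add, TensorProduct.tmul_add, map_add, hx, hy]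
  | tmul x c =>
    rw [red3_tmul, Xi3, LinearEquiv.trans_apply,
      TensorProduct.AlgebraTensorModule.distribBaseChange_tmul, TensorProduct.congr_tmul,
      ← red2_eq]
    rfl

theorem red1_surjective : Function.Surjective (red1 I ψ) :=
  surjective_of_quot I (red1 I ψ : T →+* T₀) ψ ψ.bijective (fun _ => rfl)

theorem red2_surjective : Function.Surjective (red2 I ψ) :=
  surjective_of_quot I (red2 I ψ : T ⊗[R] T →+* T₀ ⊗[R ⧸ I] T₀) (Xi2 I ψ) (Xi2 I ψ).bijective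
    (red2_eq I ψ)

theorem ker_red1 : RingHom.ker (red1 I ψ : T →+* T₀) = I.map (algebraMap R T) :=
  ker_eq_of_quot I (red1 I ψ : T →+* T₀) ψ ψ.bijective (map_zero ψ) (fun _ => rfl)

theorem ker_red2 :
    RingHom.ker (red2 I ψ : T ⊗[R] T →+* T₀ ⊗[R ⧸ I] T₀) = I.map (algebraMap R (T ⊗[R] T)) :=
  ker_eq_of_quot I (red2 I ψ : T ⊗[R] T →+* T₀ ⊗[R ⧸ I] T₀) (Xi2 I ψ) (Xi2 I ψ).bijective
    (map_zero _) (red2_eq I ψ)

theorem ker_red3 :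
    RingHom.ker (red3 I ψ : (T ⊗[R] T) ⊗[R] T →+* (T₀ ⊗[R ⧸ I] T₀) ⊗[R ⧸ I] T₀) =
      I.map (algebraMap R ((T ⊗[R] T) ⊗[R] T)) :=
  ker_eq_of_quot I (red3 I ψ : (T ⊗[R] T) ⊗[R] T →+* (T₀ ⊗[R ⧸ I] T₀) ⊗[R ⧸ I] T₀) (Xi3 I ψ)
    (Xi3 I ψ).bijective (map_zero _) (red3_eq I ψ)

theorem red_mul_comm :
    (red1 I ψ : T →+* T₀).comp (mulTr R T) =
      (mulTr (R ⧸ I) T₀).comp (red2 I ψ : T ⊗[R] T →+* T₀ ⊗[R ⧸ I] T₀) := by
  apply RingHom.ext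
  intro x
  change red1 I ψ (mulT R T x) = mulT (R ⧸ I) T₀ (red2 I ψ x)
  induction x using TensorProduct.induction_on with
  | zero => simp
  | add x y hx hy => rw [map_add, map_add, map_add, map_add, hx, hy]
  | tmul a b =>
    rw [red2_tmul, Algebra.TensorProduct.lmul'_apply_tmul, Algebra.TensorProduct.lmul'_apply_tmul,
      map_mul]

theorem red_incL_comm :
    (red2 I ψ : T ⊗[R] T →+* T₀ ⊗[R ⧸ I] T₀).comp (incLr (R := R) (T := T)) =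
      (incLr (R := R ⧸ I) (T := T₀)).comp (red1 I ψ : T →+* T₀) := by
  apply RingHom.ext
  intro t
  change red2 I ψ (t ⊗ₜ[R] (1 : T)) = red1 I ψ t ⊗ₜ[R ⧸ I] (1 : T₀)
  rw [red2_tmul, map_one]

theorem red_incR_comm :
    (red2 I ψ : T ⊗[R] T →+* T₀ ⊗[R ⧸ I] T₀).comp (incRr R T) =
      (incRr (R ⧸ I) T₀).comp (red1 I ψ : T →+* T₀) := by
  apply RingHom.ext
  intro t
  change red2 I ψ ((1 : T) ⊗ₜ[R] t) = (1 : T₀) ⊗ₜ[R ⧸ I] red1 I ψ t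
  rw [red2_tmul, map_one]

theorem red_q12_comm :
    (red3 I ψ : (T ⊗[R] T) ⊗[R] T →+* (T₀ ⊗[R ⧸ I] T₀) ⊗[R ⧸ I] T₀).comp (q12r R T) =
      (q12r (R ⧸ I) T₀).comp (red2 I ψ : T ⊗[R] T →+* T₀ ⊗[R ⧸ I] T₀) := by
  apply RingHom.ext
  intro x
  change red3 I ψ (x ⊗ₜ[R] (1 : T)) = red2 I ψ x ⊗ₜ[R ⧸ I] (1 : T₀)
  rw [red3_tmul, map_one]

theorem red_q13_comm :
    (red3 I ψ : (T ⊗[R] T) ⊗[R] T →+* (T₀ ⊗[R ⧸ I] T₀) ⊗[R ⧸ I] T₀).comp (q13r R T) =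
      (q13r (R ⧸ I) T₀).comp (red2 I ψ : T ⊗[R] T →+* T₀ ⊗[R ⧸ I] T₀) := by
  apply RingHom.ext
  intro x
  change red3 I ψ (q13 R T x) = q13 (R ⧸ I) T₀ (red2 I ψ x)
  induction x using TensorProduct.induction_on with
  | zero => simp
  | add x y hx hy => rw [map_add, map_add, map_add, map_add, hx, hy]
  | tmul a b =>
    rw [red2_tmul, Algebra.TensorProduct.map_tmul, Algebra.TensorProduct.map_tmul]
    change red3 I ψ ((a ⊗ₜ[R] (1 : T)) ⊗ₜ[R] b) =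
      (red1 I ψ a ⊗ₜ[R ⧸ I] (1 : T₀)) ⊗ₜ[R ⧸ I] red1 I ψ b
    rw [red3_tmul, red2_tmul, map_one]

theorem red_q23_comm :
    (red3 I ψ : (T ⊗[R] T) ⊗[R] T →+* (T₀ ⊗[R ⧸ I] T₀) ⊗[R ⧸ I] T₀).comp (q23r R T) =
      (q23r (R ⧸ I) T₀).comp (red2 I ψ : T ⊗[R] T →+* T₀ ⊗[R ⧸ I] T₀) := by
  apply RingHom.ext
  intro x
  change red3 I ψ (q23 R T x) = q23 (R ⧸ I) T₀ (red2 I ψ x)
  induction x using TensorProduct.induction_on with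
  | zero => simp
  | add x y hx hy => rw [map_add, map_add, map_add, map_add, hx, hy]
  | tmul a b =>
    rw [red2_tmul, Algebra.TensorProduct.map_tmul, Algebra.TensorProduct.map_tmul]
    change red3 I ψ (((1 : T) ⊗ₜ[R] a) ⊗ₜ[R] b) =
      ((1 : T₀) ⊗ₜ[R ⧸ I] red1 I ψ a) ⊗ₜ[R ⧸ I] red1 I ψ b
    rw [red3_tmul, red2_tmul, map_one]

variable [Module.Finite R T]

theorem red_jac1 (hjac : I ≤ Ideal.jacobson ⊥) :
    RingHom.ker (red1 I ψ : T →+* T₀) ≤ Ideal.jacobson ⊥ :=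
  Groth.Agent.H3.GLLift.ker_le_jacobson_of_isIntegral hjac _ (ker_red1 I ψ).le

theorem red_jac2 (hjac : I ≤ Ideal.jacobson ⊥) :
    RingHom.ker (red2 I ψ : T ⊗[R] T →+* T₀ ⊗[R ⧸ I] T₀) ≤ Ideal.jacobson ⊥ :=
  Groth.Agent.H3.GLLift.ker_le_jacobson_of_isIntegral hjac _ (ker_red2 I ψ).le

theorem red_jac3 (hjac : I ≤ Ideal.jacobson ⊥) :
    RingHom.ker (red3 I ψ : (T ⊗[R] T) ⊗[R] T →+* (T₀ ⊗[R ⧸ I] T₀) ⊗[R ⧸ I] T₀) ≤
      Ideal.jacobson ⊥ :=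
  Groth.Agent.H3.GLLift.ker_le_jacobson_of_isIntegral hjac _ (ker_red3 I ψ).le

theorem red_idem2 (h : HenselianRing R I) (e' : T₀ ⊗[R ⧸ I] T₀) (he' : IsIdempotentElem e') :
    ∃ e : T ⊗[R] T, IsIdempotentElem e ∧
      (red2 I ψ : T ⊗[R] T →+* T₀ ⊗[R ⧸ I] T₀) e = e' :=
  Groth.Agent.H3.GLLift.exists_idem_lift_of_henselianRing h
    (red2 I ψ : T ⊗[R] T →+* T₀ ⊗[R ⧸ I] T₀) (red2_surjective I ψ) (ker_red2 I ψ) e' he'

/-- the reduction data of a lifted finite cover -/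
noncomputable def redData (h : HenselianRing R I) : RedData R T (R ⧸ I) T₀ where
  r1 := (red1 I ψ : T →+* T₀)
  r2 := (red2 I ψ : T ⊗[R] T →+* T₀ ⊗[R ⧸ I] T₀)
  r3 := (red3 I ψ : (T ⊗[R] T) ⊗[R] T →+* (T₀ ⊗[R ⧸ I] T₀) ⊗[R ⧸ I] T₀)
  mul_comm := red_mul_comm I ψ
  incL_comm := red_incL_comm I ψ
  incR_comm := red_incR_comm I ψ
  q12_comm := red_q12_comm I ψ
  q13_comm := red_q13_comm I ψ
  q23_comm := red_q23_comm I ψ
  jac1 := red_jac1 I ψ h.jac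
  jac2 := red_jac2 I ψ h.jac
  jac3 := red_jac3 I ψ h.jac
  idem2 := red_idem2 I ψ h

end Maps

end Groth.Agent.H3.TwDesc
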