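import Groth.Agent.H3.UnionEtale
import Groth.Agent.H7.EtaleFlat

/-!
# Modules over a union of étale images which are flat over the base are flat
-/

set_option autoImplicit false
universe u

namespace Groth.Agent.H3

namespace UnionEtale

open TensorProduct

variable {A : Type u} [CommRing A] {B : Type u} [CommRing B] [Algebra A B]

/-- A `B`-module which is flat over `A` is flat over `B`. -/
theorem IsUnion.flat_module_of_flat (h : IsUnion A B) (M : Type u) [AddCommGroup M] [Module A M]
    [Module B M] [IsScalarTower A B M] [Module.Flat A M] : Module.Flat B M := by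
  classical
  rw [Module.Flat.iff_forall_isTrivialRelation]
  intro l f x hfx
  obtain ⟨A', _, _, hN, φ, hφ⟩ := h.finset (Finset.univ.image f)
  have hf' : ∀ i, ∃ a' : A', φ a' = f i := fun i =>
    hφ (by simp)
  choose f' hf' using hf'
  let _ : Module A' M := Module.compHom M φ.toRingHom
  have hA'M : ∀ (a' : A') (m : M), a' • m = φ a' • m := fun _ _ => rfl
  have hT : IsScalarTower A A' M := by
    refine ⟨fun a a' m => ?_⟩
    rw [hA'M, hA'M, map_smul, smul_assoc]
  have hflat : Module.Flat A' M := Groth.Agent.H7.flat_of_flat_of_formallyUnramified (R := A) M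
  have hrel : ∑ i, f' i • x i = 0 := by
    rw [← hfx]
    refine Finset.sum_congr rfl fun i _ => ?_
    rw [hA'M, hf']
  obtain ⟨k, a, y, h1, h2⟩ := Module.Flat.isTrivialRelation_of_sum_smul_eq_zero hrel
  refine ⟨k, fun i j => φ (a i j), y, ?_, ?_⟩
  · intro i
    rw [h1 i]
    exact Finset.sum_congr rfl fun j _ => hA'M _ _
  · intro j
    have := congrArg φ (h2 j)
    rw [map_sum, map_zero] at this
    rw [← this]
    refine Finset.sum_congr rfl fun i _ => ?_
    rw [map_mul, hf']

end UnionEtale

end Groth.Agent.H3
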