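import Mathlib.RingTheory.Unramified.LocalRing
import Mathlib.FieldTheory.IsSepClosed
import Mathlib.RingTheory.Nakayama
import Mathlib.RingTheory.Ideal.GoingUp
import Mathlib.Tactic.LinearCombination
import Mathlib.Tactic.Ring

set_option autoImplicit false
universe u

namespace Groth.Agent.H3

open IsLocalRing

/-- A nontrivial local ring that is integral over a local ring receives a local homomorphism. -/
theorem isLocalHom_of_isIntegral (R : Type*) [CommRing R] [IsLocalRing R]
    (A : Type*) [CommRing A] [IsLocalRing A] [Algebra R A] [Algebra.IsIntegral R A] :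
    IsLocalHom (algebraMap R A) := by
  have hQm : (maximalIdeal A).comap (algebraMap R A) = maximalIdeal R :=
    eq_maximalIdeal (Ideal.isMaximal_comap_of_isIntegral_of_isMaximal (maximalIdeal A))
  refine ⟨fun r hr => ?_⟩
  by_contra hnu
  have h1 : r ∈ maximalIdeal R := (mem_maximalIdeal r).mpr hnu
  rw [← hQm, Ideal.mem_comap, mem_maximalIdeal] at h1
  exact h1 hr

/-- A local algebra that is finite and unramified over a local ring with separably closed residue
field is a quotient of that ring. -/
theorem surjective_of_unramified_local (R : Type*) [CommRing R] [IsLocalRing R]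
    [IsSepClosed (ResidueField R)]
    (A : Type*) [CommRing A] [IsLocalRing A] [Algebra R A] [Module.Finite R A]
    [Algebra.FormallyUnramified R A] : Function.Surjective (algebraMap R A) := by
  have hInt : Algebra.IsIntegral R A := Algebra.IsIntegral.of_finite R A
  have hloc : IsLocalHom (algebraMap R A) := isLocalHom_of_isIntegral R A
  have hmap : (maximalIdeal R).map (algebraMap R A) = maximalIdeal A :=
    Algebra.FormallyUnramified.map_maximalIdeal
  have hres : Function.Surjective (algebraMap (ResidueField R) (ResidueField A)) :=
    IsSepClosed.algebraMap_surjective _ _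
  have hN : (⊤ : Submodule R A) ≤ LinearMap.range (Algebra.linearMap R A) := by
    refine Submodule.le_of_le_smul_of_le_jacobson_bot Module.Finite.fg_top
      (maximalIdeal_le_jacobson _) ?_
    intro x _
    obtain ⟨rb, hrb⟩ := hres (residue A x)
    obtain ⟨r, rfl⟩ := residue_surjective rb
    have h1 : residue A (x - algebraMap R A r) = 0 := by
      rw [map_sub, ← hrb, sub_eq_zero]
      rfl
    rw [residue_eq_zero_iff, ← hmap] at h1
    have h2 : x = algebraMap R A r + (x - algebraMap R A r) := by ring
    rw [h2]
    refine Submodule.add_mem_sup ⟨r, rfl⟩ ?_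
    rw [Ideal.smul_top_eq_map]
    exact h1
  intro x
  obtain ⟨r, hr⟩ := hN (Submodule.mem_top (x := x))
  exact ⟨r, hr⟩

end Groth.Agent.H3
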