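import Groth.Agent.H3.ValEtContent
import Mathlib.FieldTheory.Minpoly.Field
import Mathlib.Algebra.Polynomial.Derivative
import Mathlib.RingTheory.Polynomial.Basic

/-!
# The approximate idempotent of the closed fibre

Let `A` be a valuation ring, `W` a local `A`-algebra with local structure map, and `x : W` a root
of a monic polynomial `f` over `A` with `f'(x)` a unit.  There is a nonunit `a₁ : A` such that
every polynomial expression `c(x)` is either divisible by `a₁` in `W`, or a unit of `W` times the
image of an element of `A`.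
-/

set_option autoImplicit false
universe u

namespace Groth.Agent.H3

namespace ValEt

open Polynomial IsLocalRing

variable {A : Type u} [CommRing A] [IsDomain A] [ValuationRing A]
variable {W : Type u} [CommRing W] [IsLocalRing W] [Algebra A W] [IsLocalHom (algebraMap A W)]

/-- evaluation commutes with reduction to the residue fields -/
theorem residue_aeval (x : W) (P : A[X]) :
    residue W (aeval x P) = aeval (residue W x) (P.map (residue A)) :=
  Polynomial.map_aeval_eq_aeval_map (φ := residue A) (ψ := residue W) (by ext a; rfl) P x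

theorem exists_approx (f : A[X]) (hf : f.Monic) (x : W) (hx : aeval x f = 0)
    (hx' : IsUnit (aeval x (derivative f))) :
    ∃ a₁ ∈ maximalIdeal A, ∀ c : A[X],
      (∃ v : W, aeval x c = algebraMap A W a₁ * v) ∨
      (∃ (a : A) (u : Wˣ), aeval x c = u * algebraMap A W a) := by
  classical
  let k := ResidueField A
  let κ := ResidueField W
  obtain ⟨fb, hfbdef⟩ : ∃ fb : k[X], fb = f.map (residue A) := ⟨_, rfl⟩
  obtain ⟨xb, hxbdef⟩ : ∃ xb : κ, xb = residue W x := ⟨_, rfl⟩
  have hfb : fb.Monic := by rw [hfbdef]; exact hf.map _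
  have hxb : aeval xb fb = 0 := by rw [hfbdef, hxbdef, ← residue_aeval, hx, map_zero]
  have hxb' : aeval xb (derivative fb) ≠ 0 := by
    rw [hfbdef, hxbdef, Polynomial.derivative_map, ← residue_aeval]
    exact (residue_ne_zero_iff_isUnit _).mpr hx'
  have hint : IsIntegral k xb := ⟨fb, hfb, by rwa [← aeval_def]⟩
  obtain ⟨π, hπdef⟩ : ∃ π : k[X], π = minpoly k xb := ⟨_, rfl⟩
  have hπirr : Irreducible π := by rw [hπdef]; exact minpoly.irreducible hint
  have hπx : aeval xb π = 0 := by rw [hπdef]; exact minpoly.aeval k xb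
  have hπdvd : ∀ Z : k[X], aeval xb Z = 0 → π ∣ Z := by
    intro Z hZ
    rw [hπdef]
    exact minpoly.dvd k xb hZ
  obtain ⟨ρ, hρ⟩ : π ∣ fb := hπdvd fb hxb
  have hcop : IsCoprime π ρ := by
    rw [hπirr.coprime_iff_not_dvd]
    rintro ⟨ρ', hρ'⟩
    apply hxb'
    rw [hρ, hρ', derivative_mul, derivative_mul]
    simp only [map_add, map_mul, hπx]
    ring
  obtain ⟨α, β, hαβ⟩ := hcop
  obtain ⟨E, hE⟩ := Polynomial.map_surjective (residue A) residue_surjective (β * ρ)
  obtain ⟨G, hG⟩ := Polynomial.map_surjective (residue A) residue_surjective (α * β)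
  -- (i) `E(x)` is a unit
  have hEunit : IsUnit (aeval x E) := by
    rw [← residue_ne_zero_iff_isUnit, residue_aeval, hE, ← hxbdef]
    have h1 := congrArg (aeval xb) hαβ
    simp only [map_add, map_mul, hπx, mul_zero, zero_add, map_one] at h1
    rw [map_mul, h1]
    exact one_ne_zero
  -- (ii) `E² - E` is divisible by a nonunit constant modulo `f`
  have hE2 : (E ^ 2 - E + G * f).map (residue A) = 0 := by
    rw [Polynomial.map_add, Polynomial.map_sub, Polynomial.map_pow, Polynomial.map_mul, hE, hG,
      ← hfbdef, hρ]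
    linear_combination (β * ρ) * hαβ
  obtain ⟨a₁, D, ha₁, hD⟩ := exists_content_of_map_eq_zero _ hE2
  refine ⟨a₁, ha₁, fun c => ?_⟩
  -- (iii) nonunits reduce to multiples of `π`
  have hiii : ∀ Z : A[X], ¬ IsUnit (aeval x Z) → ∃ Z₁ : k[X], Z.map (residue A) = π * Z₁ := by
    intro Z hZ
    apply hπdvd
    rw [hxbdef, ← residue_aeval]
    by_contra h
    exact hZ ((residue_ne_zero_iff_isUnit _).mp h)
  obtain ⟨q, hqdef⟩ : ∃ q : A[X], q = (c * E) /ₘ f := ⟨_, rfl⟩
  obtain ⟨R, hRdef⟩ : ∃ R : A[X], R = (c * E) %ₘ f := ⟨_, rfl⟩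
  have hRq : R + f * q = c * E := by
    rw [hRdef, hqdef]
    exact Polynomial.modByMonic_add_div (c * E) f
  have hR : aeval x R = aeval x c * aeval x E := by
    have h2 := congrArg (aeval x) hRq
    rw [map_add, map_mul, hx, zero_mul, add_zero, map_mul] at h2
    exact h2
  have hc : aeval x c = aeval x R * ↑hEunit.unit⁻¹ := by
    rw [hR, mul_assoc, IsUnit.mul_val_inv, mul_one]
  by_cases hR0 : R = 0
  · right
    refine ⟨0, 1, ?_⟩
    rw [hc, hR0]
    simp
  obtain ⟨a, R', ha0, hRR', i, hi⟩ := exists_primitive R hR0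
  by_cases hdvd : a₁ ∣ a
  · left
    obtain ⟨t, rfl⟩ := hdvd
    refine ⟨algebraMap A W t * aeval x R' * ↑hEunit.unit⁻¹, ?_⟩
    rw [hc, hRR', map_mul, aeval_C, map_mul]
    ring
  · right
    obtain ⟨t, ht⟩ : a ∣ a₁ := (ValuationRing.dvd_total a a₁).resolve_right hdvd
    have htm : t ∈ maximalIdeal A := by
      rw [mem_maximalIdeal, mem_nonunits_iff]
      intro htu
      apply hdvd
      refine ⟨↑htu.unit⁻¹, ?_⟩
      rw [ht, mul_assoc, IsUnit.mul_val_inv, mul_one]
    have hdiv : f ∣ R' * E - R' - C t * (c * D) := by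
      have h1 : f ∣ C a * (R' * E - R' - C t * (c * D)) := by
        refine ⟨-q * E + q - c * G, ?_⟩
        have h3 : C a * (R' * E - R' - C t * (c * D)) =
            R * E - R - c * (C a₁ * D) := by
          rw [hRR', ht, C_mul]
          ring
        rw [h3, ← hD]
        linear_combination (E - 1) * hRq
      rw [← Polynomial.modByMonic_eq_zero_iff_dvd hf] at h1 ⊢
      rw [← Polynomial.smul_eq_C_mul, Polynomial.smul_modByMonic] at h1
      exact (smul_eq_zero.mp h1).resolve_left ha0
    have hunit : IsUnit (aeval x R') := by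
      by_contra hnu
      obtain ⟨Z₁, hZ₁⟩ := hiii R' hnu
      obtain ⟨Y, hY⟩ := hdiv
      have h1 := congrArg (Polynomial.map (residue A)) hY
      simp only [Polynomial.map_sub, Polynomial.map_mul,
        Polynomial.map_C, (residue_eq_zero_iff t).mpr htm, C_0, zero_mul, sub_zero,
        hE, hZ₁, ← hfbdef] at h1
      have h2 : fb ∣ R'.map (residue A) := by
        rw [hZ₁]
        refine ⟨Z₁ * β - Y.map (residue A), ?_⟩
        rw [hρ] at h1 ⊢
        linear_combination -h1
      have hdeg : (R'.map (residue A)).degree < fb.degree := by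
        calc (R'.map (residue A)).degree ≤ R'.degree := degree_map_le
          _ = R.degree := by rw [hRR', degree_C_mul ha0]
          _ < f.degree := by rw [hRdef]; exact degree_modByMonic_lt _ hf
          _ = fb.degree := by rw [hfbdef, hf.degree_map]
      have h0 := Polynomial.eq_zero_of_dvd_of_degree_lt h2 hdeg
      have h4 : (R'.map (residue A)).coeff i = 1 := by rw [coeff_map, hi, map_one]
      rw [h0, coeff_zero] at h4
      exact zero_ne_one h4
    refine ⟨a, hunit.unit * hEunit.unit⁻¹, ?_⟩
    rw [hc, hRR', map_mul, aeval_C, Units.val_mul, IsUnit.unit_spec]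
    ring

end ValEt

end Groth.Agent.H3
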