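import Mathlib.RingTheory.Valuation.ValuationRing
import Mathlib.RingTheory.LocalRing.ResidueField.Basic
import Mathlib.RingTheory.Polynomial.Content
import Mathlib.Algebra.Polynomial.Div

/-!
# Contents of polynomials over a valuation ring

Over a valuation ring every nonzero polynomial is a constant times a polynomial one of whose
coefficients is `1`, and a polynomial which vanishes in the residue field is a nonunit constant
times a polynomial.
-/

set_option autoImplicit false
universe u

namespace Groth.Agent.H3

namespace ValEt

open Polynomial IsLocalRing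

variable {A : Type u} [CommRing A] [IsDomain A] [ValuationRing A]

/-- a nonempty finite set of elements of a valuation ring contains an element dividing all the
others -/
theorem exists_dvd_all (s : Finset A) (hs : s.Nonempty) : ∃ a ∈ s, ∀ b ∈ s, a ∣ b := by
  classical
  induction hs using Finset.Nonempty.cons_induction with
  | singleton a => exact ⟨a, Finset.mem_singleton_self a, fun b hb => by
      rw [Finset.mem_singleton.mp hb]⟩
  | cons x s hx hs ih =>
    obtain ⟨a, has, ha⟩ := ih
    rcases ValuationRing.dvd_total a x with h | h
    · refine ⟨a, Finset.mem_cons.mpr (Or.inr has), fun b hb => ?_⟩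
      rcases Finset.mem_cons.mp hb with rfl | hb
      · exact h
      · exact ha b hb
    · refine ⟨x, Finset.mem_cons_self x s, fun b hb => ?_⟩
      rcases Finset.mem_cons.mp hb with rfl | hb
      · exact dvd_rfl
      · exact h.trans (ha b hb)

/-- a nonzero polynomial over a valuation ring is a nonzero constant times a polynomial with a
coefficient equal to `1` -/
theorem exists_primitive (P : A[X]) (hP : P ≠ 0) :
    ∃ (a : A) (P' : A[X]), a ≠ 0 ∧ P = C a * P' ∧ ∃ i, P'.coeff i = 1 := by
  classical
  have hne : (P.support.image P.coeff).Nonempty :=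
    (Polynomial.nonempty_support_iff.mpr hP).image _
  obtain ⟨a, ha, hdiv⟩ := exists_dvd_all _ hne
  obtain ⟨i, hi, rfl⟩ := Finset.mem_image.mp ha
  have ha0 : P.coeff i ≠ 0 := Polynomial.mem_support_iff.mp hi
  have hdvd : C (P.coeff i) ∣ P := by
    rw [Polynomial.C_dvd_iff_dvd_coeff]
    intro j
    by_cases hj : j ∈ P.support
    · exact hdiv _ (Finset.mem_image_of_mem _ hj)
    · rw [Polynomial.notMem_support_iff.mp hj]
      exact dvd_zero _
  obtain ⟨P', hP'⟩ := hdvd
  refine ⟨P.coeff i, P', ha0, hP', i, ?_⟩
  have h1 : P.coeff i = P.coeff i * P'.coeff i := by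
    conv_lhs => rw [hP', Polynomial.coeff_C_mul]
  exact (mul_right_cancel₀ ha0 (by rw [one_mul, mul_comm]; exact h1)).symm

/-- a polynomial over a valuation ring all of whose coefficients lie in the maximal ideal is a
nonunit constant times a polynomial -/
theorem exists_content_of_map_eq_zero (P : A[X]) (hP : P.map (residue A) = 0) :
    ∃ (a : A) (P' : A[X]), a ∈ maximalIdeal A ∧ P = C a * P' := by
  by_cases h0 : P = 0
  · exact ⟨0, 0, zero_mem _, by simp [h0]⟩
  obtain ⟨a, P', ha0, hP', i, hi⟩ := exists_primitive P h0
  refine ⟨a, P', ?_, hP'⟩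
  have h1 : (P.map (residue A)).coeff i = 0 := by rw [hP]; simp
  rw [Polynomial.coeff_map, hP', Polynomial.coeff_C_mul, hi, mul_one] at h1
  exact (IsLocalRing.residue_eq_zero_iff a).mp h1

end ValEt

end Groth.Agent.H3
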