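import Groth.Agent.H3.ValEtApprox
import Mathlib.RingTheory.Etale.StandardEtale
import Mathlib.RingTheory.Unramified.LocalStructure
import Mathlib.RingTheory.Etale.Locus
import Mathlib.RingTheory.Algebraic.Integral

/-!
# Standard étale data for a local ring

`StdData A W`: `W` contains a root `x` of a monic polynomial over `A` with invertible derivative,
and every element of `W` is a fraction of polynomial expressions in `x`.
-/

set_option autoImplicit false
universe u

namespace Groth.Agent.H3

namespace ValEt

open Polynomial IsLocalRing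

/-- standard étale data -/
def StdData (A W : Type u) [CommRing A] [CommRing W] [Algebra A W] : Prop :=
  ∃ (f : A[X]) (x : W), f.Monic ∧ aeval x f = 0 ∧ IsUnit (aeval x (derivative f)) ∧
    ∀ w : W, ∃ P S : A[X], IsUnit (aeval x S) ∧ w * aeval x S = aeval x P

/-- the local rings of an étale algebra carry standard étale data -/
theorem stdData_of_etale (A B : Type u) [CommRing A] [CommRing B] [Algebra A B]
    [Algebra.Etale A B] (m : Ideal B) [m.IsPrime] : StdData A (Localization.AtPrime m) := by
  have hfe : Algebra.FormallyEtale B (Localization.AtPrime m) :=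
    Algebra.FormallyEtale.of_isLocalization m.primeCompl
  have hat : Algebra.IsEtaleAt A m := Algebra.FormallyEtale.comp A B _
  obtain ⟨g₀, hg₀, hstd⟩ := Algebra.IsEtaleAt.exists_isStandardEtale (R := A) m
  obtain ⟨P⟩ := hstd.nonempty_standardEtalePresentation
  have hunit : ∀ y : Submonoid.powers g₀,
      IsUnit ((IsScalarTower.toAlgHom A B (Localization.AtPrime m)) y) := by
    rintro ⟨_, n, rfl⟩
    have h1 : IsUnit (algebraMap B (Localization.AtPrime m) g₀) :=
      IsLocalization.map_units (Localization.AtPrime m) (⟨g₀, hg₀⟩ : m.primeCompl)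
    simpa using h1.pow n
  let ι : Localization.Away g₀ →ₐ[A] Localization.AtPrime m :=
    IsLocalization.liftAlgHom (M := Submonoid.powers g₀)
      (f := IsScalarTower.toAlgHom A B (Localization.AtPrime m)) hunit
  have hι : ∀ b : B, ι (algebraMap B (Localization.Away g₀) b) =
      algebraMap B (Localization.AtPrime m) b := by
    intro b
    change IsLocalization.lift hunit (algebraMap B (Localization.Away g₀) b) = _
    rw [IsLocalization.lift_eq]
    rfl
  have hmap := P.hasMap.map ι
  have hgx : IsUnit (aeval (ι P.x) P.g) := hmap.2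
  refine ⟨P.f, ι P.x, P.monic_f, hmap.1, hmap.isUnit_derivative_f, fun w => ?_⟩
  obtain ⟨⟨b, s⟩, hbs⟩ := IsLocalization.surj m.primeCompl w
  obtain ⟨Pb, nb, hPb⟩ :=
    P.exists_mul_aeval_x_g_pow_eq_aeval_x (algebraMap B (Localization.Away g₀) b)
  obtain ⟨Ps, ns, hPs⟩ :=
    P.exists_mul_aeval_x_g_pow_eq_aeval_x (algebraMap B (Localization.Away g₀) (s : B))
  have hPb' : algebraMap B (Localization.AtPrime m) b * aeval (ι P.x) P.g ^ nb =
      aeval (ι P.x) Pb := by
    have := congrArg ι hPb
    rwa [map_mul, map_pow, hι, ← Polynomial.aeval_algHom_apply,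
      ← Polynomial.aeval_algHom_apply] at this
  have hPs' : algebraMap B (Localization.AtPrime m) (s : B) * aeval (ι P.x) P.g ^ ns =
      aeval (ι P.x) Ps := by
    have := congrArg ι hPs
    rwa [map_mul, map_pow, hι, ← Polynomial.aeval_algHom_apply,
      ← Polynomial.aeval_algHom_apply] at this
  have hsu : IsUnit (algebraMap B (Localization.AtPrime m) (s : B)) :=
    IsLocalization.map_units (Localization.AtPrime m) s
  refine ⟨Pb * P.g ^ ns, Ps * P.g ^ nb, ?_, ?_⟩
  · rw [map_mul, map_pow, ← hPs']
    exact (hsu.mul (hgx.pow ns)).mul (hgx.pow nb)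
  · rw [map_mul, map_pow, map_mul, map_pow, ← hPs', ← hPb']
    change w * algebraMap B (Localization.AtPrime m) (s : B) = _ at hbs
    calc w * (algebraMap B (Localization.AtPrime m) (s : B) * aeval (ι P.x) P.g ^ ns *
          aeval (ι P.x) P.g ^ nb)
        = (w * algebraMap B (Localization.AtPrime m) (s : B)) * aeval (ι P.x) P.g ^ ns *
          aeval (ι P.x) P.g ^ nb := by ring
      _ = _ := by rw [hbs]; ring

/-- standard étale data pass to localizations -/
theorem StdData.of_tower {A W A' W' : Type u} [CommRing A] [CommRing W] [CommRing A']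
    [CommRing W'] [Algebra A W] [Algebra A A'] [Algebra A' W'] [Algebra W W'] [Algebra A W']
    [IsScalarTower A A' W'] [IsScalarTower A W W'] (h : StdData A W)
    (hloc : ∀ w' : W', ∃ w s : W, IsUnit (algebraMap W W' s) ∧
      w' * algebraMap W W' s = algebraMap W W' w) : StdData A' W' := by
  obtain ⟨f, x, hf, hx, hx', hfrac⟩ := h
  have key : ∀ Q : A[X], aeval (algebraMap W W' x) (Q.map (algebraMap A A')) =
      algebraMap W W' (aeval x Q) := by
    intro Q
    rw [Polynomial.aeval_map_algebraMap, Polynomial.aeval_algebraMap_apply]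
  refine ⟨f.map (algebraMap A A'), algebraMap W W' x, hf.map _, ?_, ?_, fun w' => ?_⟩
  · rw [key, hx, map_zero]
  · rw [Polynomial.derivative_map, key]
    exact hx'.map _
  · obtain ⟨w, s, hs, hws⟩ := hloc w'
    obtain ⟨Pw, Sw, hSw, hw⟩ := hfrac w
    obtain ⟨Ps, Ss, hSs, hs'⟩ := hfrac s
    have e1 : aeval x (Ps * Sw) = s * aeval x Ss * aeval x Sw := by rw [map_mul, hs']
    have e2 : aeval x (Pw * Ss) = w * aeval x Sw * aeval x Ss := by rw [map_mul, hw]
    refine ⟨(Pw * Ss).map (algebraMap A A'), (Ps * Sw).map (algebraMap A A'), ?_, ?_⟩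
    · rw [key, e1, map_mul, map_mul]
      exact (hs.mul (hSs.map _)).mul (hSw.map _)
    · rw [key, key, e1, e2, map_mul, map_mul, map_mul, map_mul]
      calc w' * (algebraMap W W' s * algebraMap W W' (aeval x Ss) * algebraMap W W' (aeval x Sw))
          = (w' * algebraMap W W' s) * algebraMap W W' (aeval x Ss) *
            algebraMap W W' (aeval x Sw) := by ring
        _ = _ := by rw [hws]; ring

/-- with standard étale data, every element is algebraic over the base -/
theorem StdData.isAlgebraic {A W : Type u} [CommRing A] [IsDomain A] [CommRing W] [Algebra A W]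
    (h : StdData A W) (w : W) : IsAlgebraic A w := by
  obtain ⟨f, x, hf, hx, -, hfrac⟩ := h
  have hxalg : IsAlgebraic A x := IsIntegral.isAlgebraic ⟨f, hf, by rwa [← aeval_def]⟩
  have hpoly : ∀ Q : A[X], IsAlgebraic A (aeval x Q) := by
    intro Q
    have h1 : Algebra.adjoin A {x} ≤ Subalgebra.algebraicClosure A W :=
      Algebra.adjoin_le (Set.singleton_subset_iff.mpr hxalg)
    exact h1 (Polynomial.aeval_mem_adjoin_singleton A x)
  obtain ⟨P, S, hS, hw⟩ := hfrac w
  let _ := hS.invertible
  have h2 : w = aeval x P * ⅟(aeval x S) := by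
    rw [← hw, mul_assoc, mul_invOf_self, mul_one]
  rw [h2]
  exact (Subalgebra.algebraicClosure A W).mul_mem (hpoly P) (hpoly S).invOf

/-- a localization of a valuation ring which is a domain is a valuation ring -/
theorem valuationRing_of_isLocalization {A : Type u} [CommRing A] [IsDomain A] [ValuationRing A]
    (M : Submonoid A) (S : Type u) [CommRing S] [IsDomain S] [Algebra A S] [IsLocalization M S] :
    ValuationRing S := by
  rw [ValuationRing.iff_dvd_total]
  refine ⟨fun x y => ?_⟩
  obtain ⟨⟨a, s⟩, hx⟩ := IsLocalization.surj M x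
  obtain ⟨⟨b, t⟩, hy⟩ := IsLocalization.surj M y
  have hs : IsUnit (algebraMap A S s) := IsLocalization.map_units S s
  have ht : IsUnit (algebraMap A S t) := IsLocalization.map_units S t
  have key : ∀ (x y : S) (a b : A) (s t : A), IsUnit (algebraMap A S s) →
      IsUnit (algebraMap A S t) → x * algebraMap A S s = algebraMap A S a →
      y * algebraMap A S t = algebraMap A S b → a ∣ b → x ∣ y := by
    rintro x y a b s t hs ht hx hy ⟨c, rfl⟩
    obtain ⟨t', ht'⟩ := ht.exists_right_inv
    refine ⟨algebraMap A S s * algebraMap A S c * t', ?_⟩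
    calc y = y * (algebraMap A S t * t') := by rw [ht', mul_one]
      _ = (y * algebraMap A S t) * t' := by ring
      _ = x * (algebraMap A S s * algebraMap A S c * t') := by
        rw [hy, map_mul, ← hx]; ring
  rcases ValuationRing.dvd_total a b with h | h
  · exact Or.inl (key x y a b s t hs ht hx hy h)
  · exact Or.inr (key y x b a t s ht hs hy hx h)

end ValEt

end Groth.Agent.H3
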