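import Groth.Agent.H3.ValEtMain
import Mathlib.RingTheory.Polynomial.Basic
import Mathlib.RingTheory.PrincipalIdealDomain
import Mathlib.Algebra.GCDMonoid.IntegrallyClosed

/-!
# The Gauss valuation ring `V[T]_(m V[T])`
-/

set_option autoImplicit false
universe u

namespace Groth.Agent.H3

namespace ValEt

open IsLocalRing

/-- valuation rings are integrally closed -/
theorem isIntegrallyClosed_of_valuationRing (A : Type u) [CommRing A] [IsDomain A]
    [ValuationRing A] : IsIntegrallyClosed A := by
  classical
  let _ : GCDMonoid A := IsBezout.toGCDDomain A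
  exact GCDMonoid.toIsIntegrallyClosed

/-- a domain all of whose nonzero elements are unit multiples of elements of a valuation ring is a
valuation ring -/
theorem valuationRing_of_isUA {A W : Type u} [CommRing A] [IsDomain A] [ValuationRing A]
    [CommRing W] [IsDomain W] [Algebra A W]
    (h : ∀ w : W, w ≠ 0 → ∃ (a : A) (u : Wˣ), w = u * algebraMap A W a) : ValuationRing W := by
  rw [ValuationRing.iff_dvd_total]
  refine ⟨fun x y => ?_⟩
  by_cases hx : x = 0
  · right
    rw [hx]
    exact dvd_zero y
  by_cases hy : y = 0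
  · left
    rw [hy]
    exact dvd_zero x
  obtain ⟨a, u, rfl⟩ := h x hx
  obtain ⟨b, v, rfl⟩ := h y hy
  have key : ∀ (a b : A) (u v : Wˣ), a ∣ b →
      (u : W) * algebraMap A W a ∣ (v : W) * algebraMap A W b := by
    rintro a _ u v ⟨c, rfl⟩
    refine ⟨↑u⁻¹ * ↑v * algebraMap A W c, ?_⟩
    rw [map_mul]
    calc (v : W) * (algebraMap A W a * algebraMap A W c)
        = ((u : W) * ↑u⁻¹) * (↑v * (algebraMap A W a * algebraMap A W c)) := by
          rw [Units.mul_inv, one_mul]
      _ = _ := by ring
  rcases ValuationRing.dvd_total a b with hab | hab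
  · exact Or.inl (key a b u v hab)
  · exact Or.inr (key b a v u hab)

variable {V : Type u} [CommRing V] [IsDomain V] [ValuationRing V] {σ : Type*}

/-- a nonzero multivariate polynomial over a valuation ring is a nonzero constant times a
polynomial with a coefficient equal to `1` -/
theorem exists_primitive_mv (F : MvPolynomial σ V) (hF : F ≠ 0) :
    ∃ (c : V) (F' : MvPolynomial σ V), c ≠ 0 ∧ F = MvPolynomial.C c * F' ∧
      ∃ m, F'.coeff m = 1 := by
  classical
  have hne : (F.support.image fun m => F.coeff m).Nonempty :=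
    (MvPolynomial.support_nonempty.mpr hF).image _
  obtain ⟨a, ha, hdiv⟩ := exists_dvd_all _ hne
  obtain ⟨i, hi, rfl⟩ := Finset.mem_image.mp ha
  have ha0 : F.coeff i ≠ 0 := MvPolynomial.mem_support_iff.mp hi
  have hdvd : MvPolynomial.C (F.coeff i) ∣ F := by
    rw [MvPolynomial.C_dvd_iff_dvd_coeff]
    intro j
    by_cases hj : j ∈ F.support
    · exact hdiv _ (Finset.mem_image_of_mem _ hj)
    · rw [MvPolynomial.notMem_support_iff.mp hj]
      exact dvd_zero _
  obtain ⟨F', hF'⟩ := hdvd
  refine ⟨F.coeff i, F', ha0, hF', i, ?_⟩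
  have h1 : F.coeff i = F.coeff i * F'.coeff i := by
    conv_lhs => rw [hF', MvPolynomial.coeff_C_mul]
  exact (mul_right_cancel₀ ha0 (by rw [one_mul, mul_comm]; exact h1)).symm

/-- the ideal `m_V V[T]` is prime -/
theorem isPrime_map_C_maximalIdeal :
    (Ideal.map (MvPolynomial.C : V →+* MvPolynomial σ V) (maximalIdeal V)).IsPrime := by
  rw [← IsLocalRing.ker_residue (R := V), ← MvPolynomial.ker_map]
  exact RingHom.ker_isPrime _

/-- Gauss: every nonzero element of `V[T]_(m V[T])` is a unit times an element of `V` -/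
theorem gauss (q : Ideal (MvPolynomial σ V)) [q.IsPrime]
    (hq : q = Ideal.map MvPolynomial.C (maximalIdeal V)) (w : Localization.AtPrime q)
    (hw : w ≠ 0) :
    ∃ (v : V) (u : (Localization.AtPrime q)ˣ), w = u * algebraMap V (Localization.AtPrime q) v := by
  obtain ⟨⟨F, G⟩, h⟩ := IsLocalization.surj q.primeCompl w
  change w * algebraMap _ _ (G : MvPolynomial σ V) = algebraMap _ _ F at h
  have hGu : IsUnit (algebraMap (MvPolynomial σ V) (Localization.AtPrime q) G) :=
    IsLocalization.map_units _ G
  have hF0 : F ≠ 0 := by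
    rintro rfl
    rw [map_zero] at h
    exact hw ((hGu.mul_left_eq_zero).mp h)
  obtain ⟨c, F', hc0, hFF', m, hm⟩ := exists_primitive_mv F hF0
  have hF'q : F' ∉ q := by
    rw [hq, MvPolynomial.mem_map_C_iff]
    intro hall
    have := hall m
    rw [hm] at this
    exact (Ideal.ne_top_iff_one _).mp (maximalIdeal.isMaximal V).ne_top this
  have hF'u : IsUnit (algebraMap (MvPolynomial σ V) (Localization.AtPrime q) F') :=
    IsLocalization.map_units _ (⟨F', hF'q⟩ : q.primeCompl)
  refine ⟨c, hF'u.unit * hGu.unit⁻¹, ?_⟩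
  have hc : algebraMap V (Localization.AtPrime q) c =
      algebraMap (MvPolynomial σ V) (Localization.AtPrime q) (MvPolynomial.C c) := by
    rw [IsScalarTower.algebraMap_apply V (MvPolynomial σ V) (Localization.AtPrime q),
      MvPolynomial.algebraMap_eq]
  have hw' : w = algebraMap _ _ F * ↑hGu.unit⁻¹ := by
    rw [← h, mul_assoc, IsUnit.mul_val_inv, mul_one]
  rw [hw', hFF', map_mul, hc, Units.val_mul, IsUnit.unit_spec]
  ring

end ValEt

end Groth.Agent.H3
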