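import Groth.Agent.H3.UnionEtaleProps

/-!
# A variant of `UnionEtale.exists_local` remembering the algebra structure
-/

set_option autoImplicit false
universe u

namespace Groth.Agent.H3

namespace ValEt

open IsLocalRing UnionEtale

variable {A : Type u} [CommRing A] {B : Type u} [CommRing B] [Algebra A B]

/-- every finite subset of a flat local union of étale images lies in the image of an injective
map, compatible with the structure maps, from the local ring of an étale algebra -/
theorem exists_local_alg [IsLocalRing A] [IsLocalRing B] [IsLocalHom (algebraMap A B)]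
    (h : IsUnion A B) [Module.Flat A B] (s : Finset B) :
    ∃ (A' : Type u) (_ : CommRing A') (_ : Algebra A A') (_ : Algebra.Etale A A') (Q : Ideal A')
      (_ : Q.IsPrime) (_ : Q.LiesOver (maximalIdeal A)) (ψ : Localization.AtPrime Q →+* B),
      Function.Injective ψ ∧ (∀ a : A, ψ (algebraMap A (Localization.AtPrime Q) a) =
        algebraMap A B a) ∧ (s : Set B) ⊆ Set.range ψ := by
  obtain ⟨A', _, _, _, φ, hφ⟩ := h.finset s
  let Q : Ideal A' := (maximalIdeal B).comap φ.toRingHom
  have hQ : Q.IsPrime := Ideal.comap_isPrime _ _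
  have hQo : Q.LiesOver (maximalIdeal A) := by
    constructor
    ext r
    rw [Ideal.under_def, Ideal.mem_comap, Ideal.mem_comap]
    change r ∈ maximalIdeal A ↔ φ (algebraMap A A' r) ∈ maximalIdeal B
    rw [φ.commutes, ← Ideal.mem_comap, IsLocalRing.maximalIdeal_comap]
  have hunit : ∀ y : Q.primeCompl, IsUnit (φ.toRingHom y) := by
    intro y
    by_contra hy
    exact y.2 ((IsLocalRing.mem_maximalIdeal _).mpr hy)
  let ψ : Localization.AtPrime Q →+* B := IsLocalization.lift hunit
  refine ⟨A', inferInstance, inferInstance, inferInstance, Q, hQ, hQo, ψ, ?_, ?_, ?_⟩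
  · rw [injective_iff_map_eq_zero]
    intro x hx
    obtain ⟨y, t, rfl⟩ := IsLocalization.exists_mk'_eq Q.primeCompl x
    rw [IsLocalization.lift_mk'_spec, mul_zero] at hx
    obtain ⟨k, hk, hk0⟩ := exists_mul_eq_zero_of_local φ y hx
    have hkQ : k ∉ Q := fun hkQ => (IsLocalRing.mem_maximalIdeal _).mp hkQ hk
    rw [IsLocalization.mk'_eq_zero_iff]
    exact ⟨⟨k, hkQ⟩, hk0⟩
  · intro a
    rw [IsScalarTower.algebraMap_apply A A' (Localization.AtPrime Q)]
    change IsLocalization.lift hunit (algebraMap A' _ (algebraMap A A' a)) = _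
    rw [IsLocalization.lift_eq]
    exact φ.commutes a
  · intro x hx
    obtain ⟨x', rfl⟩ := hφ hx
    exact ⟨algebraMap A' _ x', IsLocalization.lift_eq hunit x'⟩

end ValEt

end Groth.Agent.H3
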