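import Groth.Agent.H3.ValEtContent
import Mathlib.RingTheory.IntegralClosure.IntegrallyClosed
import Mathlib.RingTheory.Algebraic.Integral
import Mathlib.RingTheory.Localization.FractionRing

/-!
# A normal local domain algebraic over a valuation ring is a valuation ring
-/

set_option autoImplicit false
universe u

namespace Groth.Agent.H3

namespace ValEt

open Polynomial IsLocalRing

section Integral

variable {R S : Type u} [CommRing R] [CommRing S] [Algebra R S]

/-- if `u y ^ m + ∑_{l < m} c_l y ^ l = 0` with `u` integral, then `u y` is integral -/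
theorem isIntegral_mul_of_relation (u y : S) (hu : IsIntegral R u) (m : ℕ) (c : ℕ → R)
    (h : u * y ^ m + ∑ l ∈ Finset.range m, algebraMap R S (c l) * y ^ l = 0) :
    IsIntegral R (u * y) := by
  by_cases hu0 : u = 0
  · rw [hu0, zero_mul]
    exact isIntegral_zero
  let R' := integralClosure R S
  let u' : R' := ⟨u, hu⟩
  have hu'0 : u' ≠ 0 := fun h0 => hu0 (congrArg Subtype.val h0)
  let r : R'[X] := ∑ l ∈ Finset.range m, C (algebraMap R R' (c l)) * X ^ l
  let q : R'[X] := r + C u' * X ^ m
  have hr : r.degree < m := by
    rw [← Polynomial.mem_degreeLT]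
    refine Submodule.sum_mem _ fun l hl => ?_
    rw [Polynomial.mem_degreeLT]
    exact (Polynomial.degree_C_mul_X_pow_le l _).trans_lt
      (by exact_mod_cast Finset.mem_range.mp hl)
  have hq : q.leadingCoeff = u' := by
    have hd : (C u' * X ^ m : R'[X]).degree = m := Polynomial.degree_C_mul_X_pow m hu'0
    rw [Polynomial.leadingCoeff_add_of_degree_lt (by rw [hd]; exact hr),
      Polynomial.leadingCoeff_C_mul_X_pow]
  have hev : aeval y q = 0 := by
    have h1 : aeval y r = ∑ l ∈ Finset.range m, algebraMap R S (c l) * y ^ l := by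
      simp only [r, map_sum, map_mul, map_pow, aeval_X, aeval_C]
      refine Finset.sum_congr rfl fun l _ => ?_
      rfl
    have h2 : aeval y (C u' * X ^ m : R'[X]) = u * y ^ m := by
      simp only [map_mul, map_pow, aeval_X, aeval_C]
      rfl
    rw [map_add, h1, h2, add_comm]
    exact h
  have h3 : IsIntegral R' (q.leadingCoeff • y) := isIntegral_leadingCoeff_smul q y hev
  rw [hq] at h3
  have h4 : u' • y = u * y := rfl
  rw [h4] at h3
  exact isIntegral_trans _ h3

end Integral

variable {A : Type u} [CommRing A] [IsDomain A] [ValuationRing A]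
variable {V : Type u} [CommRing V] [IsDomain V] [IsLocalRing V] [IsIntegrallyClosed V]
  [Algebra A V]

/-- a normal local domain containing a valuation ring and algebraic over it is a valuation ring -/
theorem valuationRing_of_isIntegrallyClosed (hinj : Function.Injective (algebraMap A V))
    (halg : ∀ v : V, IsAlgebraic A v) : ValuationRing V := by
  classical
  let L := FractionRing V
  have hinjL : Function.Injective (algebraMap A L) := by
    rw [IsScalarTower.algebraMap_eq A V L]
    exact (IsFractionRing.injective V L).comp hinj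
  -- integral elements of `L` lie in `V`
  have hmemV : ∀ z : L, IsIntegral A z → ∃ v : V, algebraMap V L v = z := by
    intro z hz
    exact IsIntegrallyClosed.algebraMap_eq_of_integral (hz.tower_top (A := V))
  rw [ValuationRing.iff_isInteger_or_isInteger V L]
  intro y
  by_cases hy0 : y = 0
  · left
    exact ⟨0, by rw [hy0, map_zero]⟩
  -- `y` is algebraic over `A`
  have hyalg : IsAlgebraic A y := by
    obtain ⟨v, s, hs, rfl⟩ := IsFractionRing.div_surjective (A := V) y
    have hv : IsAlgebraic A (algebraMap V L v) := (halg v).algebraMap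
    have hs' : IsAlgebraic A (algebraMap V L s) := (halg s).algebraMap
    rw [div_eq_mul_inv]
    exact (Subalgebra.algebraicClosure A L).mul_mem hv hs'.inv
  obtain ⟨p, hp0, hp⟩ := hyalg
  obtain ⟨a, p', ha0, hpp', j, hj⟩ := exists_primitive p hp0
  have hp' : aeval y p' = 0 := by
    rw [hpp', map_mul, aeval_C] at hp
    rcases mul_eq_zero.mp hp with h | h
    · exact absurd ((map_eq_zero_iff _ hinjL).mp h) ha0
    · exact h
  set n := p'.natDegree with hn
  have hjn : j ≤ n := Polynomial.le_natDegree_of_ne_zero (by rw [hj]; exact one_ne_zero)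
  let c : ℕ → A := p'.coeff
  -- the Horner sequence
  let u : ℕ → L := fun k => Nat.rec (algebraMap A L (c n))
    (fun k uk => y * uk + algebraMap A L (c (n - (k + 1)))) k
  have hu0 : u 0 = algebraMap A L (c n) := rfl
  have hus : ∀ k, u (k + 1) = y * u k + algebraMap A L (c (n - (k + 1))) := fun k => rfl
  have hinv : ∀ k, k ≤ n →
      u k * y ^ (n - k) + ∑ l ∈ Finset.range (n - k), algebraMap A L (c l) * y ^ l = 0 := by
    intro k
    induction k with
    | zero =>
      intro _
      rw [hu0, Nat.sub_zero, add_comm, ← Finset.sum_range_succ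
        (fun l => algebraMap A L (c l) * y ^ l) n]
      rw [Polynomial.aeval_eq_sum_range] at hp'
      simpa [Algebra.smul_def] using hp'
    | succ k ih =>
      intro hk
      have h1 := ih (by omega)
      have h2 : n - k = (n - (k + 1)) + 1 := by omega
      rw [h2, Finset.sum_range_succ, pow_succ] at h1
      rw [hus, ← h1]
      ring
  have hint : ∀ k, k ≤ n → IsIntegral A (u k) := by
    intro k
    induction k with
    | zero =>
      intro _
      rw [hu0]
      exact isIntegral_algebraMap
    | succ k ih =>
      intro hk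
      rw [hus]
      have h1 := isIntegral_mul_of_relation (u k) y (ih (by omega)) (n - k) c (hinv k (by omega))
      rw [mul_comm] at h1
      exact h1.add isIntegral_algebraMap
  have hun : u n = 0 := by
    have := hinv n le_rfl
    simpa using this
  -- the case `j = n`: `y` is integral
  rcases Nat.eq_or_lt_of_le hjn with hjn' | hjn'
  · left
    have hmonic : p'.Monic := by
      rw [Polynomial.Monic, Polynomial.leadingCoeff, ← hn, ← hjn', hj]
    obtain ⟨v, hv⟩ := hmemV y ⟨p', hmonic, by rw [← Polynomial.aeval_def]; exact hp'⟩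
    exact ⟨v, hv⟩
  -- the case `j < n`
  obtain ⟨k, hk⟩ : ∃ k, k + 1 + j = n := ⟨n - j - 1, by omega⟩
  have hk1 : k + 1 ≤ n := by omega
  have hcj : c (n - (k + 1)) = 1 := by
    have : n - (k + 1) = j := by omega
    rw [this]
    exact hj
  obtain ⟨v₁, hv₁⟩ := hmemV (u (k + 1)) (hint (k + 1) hk1)
  obtain ⟨v₃, hv₃⟩ := hmemV (u k) (hint k (by omega))
  have hyu : y * u k = algebraMap V L (v₁ - 1) := by
    have := hus k
    rw [hcj, map_one] at this
    rw [map_sub, map_one, hv₁, this]
    ring
  rcases IsLocalRing.isUnit_or_isUnit_of_add_one (a := v₁) (b := -(v₁ - 1)) (by ring) with h | h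
  · -- `u (k+1)` is a unit of `V`
    left
    have hk2 : k + 2 ≤ n := by
      by_contra hcon
      have hkn : k + 1 = n := by omega
      rw [hkn, hun] at hv₁
      have : v₁ = 0 := (map_eq_zero_iff _ (IsFractionRing.injective V L)).mp hv₁
      rw [this] at h
      exact not_isUnit_zero h
    obtain ⟨v₄, hv₄⟩ := hmemV (u (k + 2)) (hint (k + 2) hk2)
    obtain ⟨w, hw⟩ := h.exists_right_inv
    refine ⟨(v₄ - algebraMap A V (c (n - (k + 2)))) * w, ?_⟩
    have h5 := hus (k + 1)
    have h6 : algebraMap V L v₁ * algebraMap V L w = 1 := by rw [← map_mul, hw, map_one]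
    rw [map_mul, map_sub, hv₄, ← IsScalarTower.algebraMap_apply A V L, h5, ← hv₁]
    calc (y * algebraMap V L v₁ + algebraMap A L (c (n - (k + 1 + 1)))
          - algebraMap A L (c (n - (k + 2)))) * algebraMap V L w
        = y * (algebraMap V L v₁ * algebraMap V L w) := by ring
      _ = y := by rw [h6, mul_one]
  · -- `y * u k` is a unit of `V`
    right
    have h' : IsUnit (v₁ - 1) := by
      have := h.neg
      rwa [neg_neg] at this
    obtain ⟨w, hw⟩ := h'.exists_right_inv
    refine ⟨v₃ * w, ?_⟩
    have h6 : algebraMap V L (v₁ - 1) * algebraMap V L w = 1 := by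
      rw [← map_mul, hw, map_one]
    rw [map_mul, hv₃]
    have h7 : y * (u k * algebraMap V L w) = 1 := by
      rw [← mul_assoc, hyu, h6]
    exact (eq_inv_of_mul_eq_one_right h7)

end ValEt

end Groth.Agent.H3
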