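import Groth.Agent.H3.ValEtData
import Groth.Agent.H3.ValEtSeidenberg
import Mathlib.RingTheory.Localization.AtPrime.Basic
import Mathlib.RingTheory.Ideal.Maximal

/-!
# Local rings with standard étale data over a valuation ring are weakly unramified
-/

set_option autoImplicit false
universe u

namespace Groth.Agent.H3

namespace ValEt

open Polynomial IsLocalRing

/-- in a valuation ring, the intersection of the powers of a nonunit principal ideal is prime -/
theorem iInf_span_pow_isPrime {V : Type u} [CommRing V] [IsDomain V] [ValuationRing V] (t : V)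
    (ht : ¬ IsUnit t) : (⨅ N : ℕ, Ideal.span {t ^ N}).IsPrime := by
  constructor
  · intro htop
    have h1 : (1 : V) ∈ ⨅ N : ℕ, Ideal.span {t ^ N} := by rw [htop]; trivial
    have h2 := (Ideal.mem_iInf.mp h1) 1
    rw [pow_one, Ideal.mem_span_singleton] at h2
    exact ht (isUnit_of_dvd_one h2)
  · intro x y hxy
    by_contra hcon
    push Not at hcon
    obtain ⟨hx, hy⟩ := hcon
    rw [Ideal.mem_iInf] at hx hy
    push Not at hx hy
    obtain ⟨N, hN⟩ := hx
    obtain ⟨M, hM⟩ := hy
    rw [Ideal.mem_span_singleton] at hN hM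
    obtain ⟨z, hz⟩ : x ∣ t ^ N := (ValuationRing.dvd_total x (t ^ N)).resolve_right hN
    have hx0 : x ≠ 0 := by
      rintro rfl
      exact hN (dvd_zero _)
    have h3 := (Ideal.mem_iInf.mp hxy) (N + M)
    rw [Ideal.mem_span_singleton] at h3
    obtain ⟨q, hq⟩ := h3
    apply hM
    refine ⟨z * q, ?_⟩
    have : x * y = x * (t ^ M * (z * q)) := by
      rw [hq, pow_add, hz]
      ring
    exact mul_left_cancel₀ hx0 this

variable {A : Type u} [CommRing A] [IsDomain A] [ValuationRing A]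
variable {V : Type u} [CommRing V] [IsDomain V] [IsLocalRing V] [Algebra A V]
  [IsLocalHom (algebraMap A V)]

variable (A) in
/-- unit multiples of elements of the base ring -/
def IsUA (w : V) : Prop := ∃ (a : A) (u : Vˣ), w = u * algebraMap A V a

theorem isUA_of_mul (hinj : Function.Injective (algebraMap A V)) {w : V} {b a : A} (hb : b ≠ 0)
    (u : Vˣ) (h : w * algebraMap A V b = u * algebraMap A V a) : IsUA A w := by
  have hb' : algebraMap A V b ≠ 0 := (map_ne_zero_iff _ hinj).mpr hb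
  have key : ∀ a' : A, b ∣ a' → w * algebraMap A V b = u * algebraMap A V a' → IsUA A w := by
    rintro _ ⟨c, rfl⟩ h
    refine ⟨c, u, ?_⟩
    rw [map_mul] at h
    have : w * algebraMap A V b = (u * algebraMap A V c) * algebraMap A V b := by rw [h]; ring
    exact mul_right_cancel₀ hb' this
  rcases ValuationRing.dvd_total b a with hba | ⟨t, ht⟩
  · exact key a hba h
  · have ha0 : a ≠ 0 := by
      rintro rfl
      rw [zero_mul] at ht
      exact hb ht
    have ha' : algebraMap A V a ≠ 0 := (map_ne_zero_iff _ hinj).mpr ha0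
    have h1 : (w * algebraMap A V t) * algebraMap A V a = u * algebraMap A V a := by
      rw [← h, ht, map_mul]
      ring
    have h2 : w * algebraMap A V t = u := mul_right_cancel₀ ha' h1
    have htu : IsUnit (algebraMap A V t) :=
      IsUnit.of_mul_eq_one (w * ↑u⁻¹) (by
        rw [← mul_assoc, mul_comm (algebraMap A V t), h2, Units.mul_inv])
    have htA : IsUnit t := isUnit_of_map_unit (algebraMap A V) t htu
    refine key a ⟨↑htA.unit⁻¹, ?_⟩ h
    rw [ht, mul_assoc, IsUnit.mul_val_inv, mul_one]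

/-- the main theorem: a normal local domain with standard étale data over a valuation ring, with
injective local structure map, consists of unit multiples of elements of the valuation ring -/
theorem isUA_of_ne_zero [IsIntegrallyClosed V] (hinj : Function.Injective (algebraMap A V))
    (hD : StdData A V) (w : V) (hw : w ≠ 0) : IsUA A w := by
  classical
  have hval : ValuationRing V := valuationRing_of_isIntegrallyClosed hinj hD.isAlgebraic
  -- the good primes
  let 𝒮 : Set (Ideal V) := {𝔓 | 𝔓.IsPrime ∧ ∀ v, v ∉ 𝔓 → IsUA A v}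
  have hmax : maximalIdeal V ∈ 𝒮 := by
    refine ⟨inferInstance, fun v hv => ?_⟩
    have hvu : IsUnit v := by
      by_contra h
      exact hv ((mem_maximalIdeal v).mpr h)
    exact ⟨1, hvu.unit, by simp⟩
  have hchain : IsChain (· ≤ ·) 𝒮 := fun I _ J _ _ => Std.Total.total I J
  obtain ⟨𝔓₀, h𝔓₀def⟩ : ∃ 𝔓₀ : Ideal V, 𝔓₀ = sInf 𝒮 := ⟨_, rfl⟩
  have h𝔓₀prime : 𝔓₀.IsPrime := by
    rw [h𝔓₀def]
    exact Ideal.sInf_isPrime_of_isChain ⟨_, hmax⟩ hchain (fun I hI => hI.1)
  have h𝔓₀good : ∀ v, v ∉ 𝔓₀ → IsUA A v := by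
    intro v hv
    rw [h𝔓₀def, Ideal.mem_sInf] at hv
    push Not at hv
    obtain ⟨I, hI, hvI⟩ := hv
    exact hI.2 v hvI
  have h𝔓₀min : ∀ 𝔔 ∈ 𝒮, 𝔓₀ ≤ 𝔔 := by
    intro 𝔔 h𝔔
    rw [h𝔓₀def]
    exact sInf_le h𝔔
  by_contra hwbad
  have hw𝔓₀ : w ∈ 𝔓₀ := by
    by_contra h
    exact hwbad (h𝔓₀good w h)
  -- localize
  obtain ⟨p₀, hp₀def⟩ : ∃ p₀ : Ideal A, p₀ = 𝔓₀.comap (algebraMap A V) := ⟨_, rfl⟩
  have hp₀prime : p₀.IsPrime := by rw [hp₀def]; exact Ideal.comap_isPrime _ _
  have hlies : 𝔓₀.LiesOver p₀ := ⟨hp₀def⟩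
  let A' := Localization.AtPrime p₀
  let V' := Localization.AtPrime 𝔓₀
  let _ : Algebra A' V' := Localization.AtPrime.algebraOfLiesOver p₀ 𝔓₀
  have hA'dom : IsDomain A' := IsLocalization.isDomain_of_local_atPrime hp₀prime
  have hV'dom : IsDomain V' := IsLocalization.isDomain_of_local_atPrime h𝔓₀prime
  have hA'val : ValuationRing A' := valuationRing_of_isLocalization p₀.primeCompl A'
  have hV'val : ValuationRing V' := valuationRing_of_isLocalization 𝔓₀.primeCompl V'
  have hloc : IsLocalHom (algebraMap A' V') :=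
    Localization.isLocalHom_localRingHom (I := p₀) 𝔓₀ (algebraMap A V) Ideal.LiesOver.over
  have hD' : StdData A' V' := hD.of_tower (fun w' => by
    obtain ⟨⟨v, s⟩, h⟩ := IsLocalization.surj 𝔓₀.primeCompl w'
    exact ⟨v, s, IsLocalization.map_units V' s, h⟩)
  have hinjV' : Function.Injective (algebraMap V V') :=
    IsLocalization.injective V' 𝔓₀.primeCompl_le_nonZeroDivisors
  have htower : ∀ a : A, algebraMap A' V' (algebraMap A A' a) =
      algebraMap V V' (algebraMap A V a) := by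
    intro a
    rw [← IsScalarTower.algebraMap_apply A A' V', ← IsScalarTower.algebraMap_apply A V V']
  obtain ⟨f, x, hf, hx, hx', hfrac⟩ := hD'
  obtain ⟨a₁, ha₁, happ⟩ := exists_approx f hf x hx hx'
  have hdich : ∀ w' : V', (∃ v, w' = algebraMap A' V' a₁ * v) ∨
      ∃ (a : A') (u : V'ˣ), w' = u * algebraMap A' V' a := by
    intro w'
    obtain ⟨P, S, hS, hPS⟩ := hfrac w'
    have hw' : w' = aeval x P * ↑hS.unit⁻¹ := by
      rw [← hPS, mul_assoc, IsUnit.mul_val_inv, mul_one]
    rcases happ P with ⟨v, hv⟩ | ⟨a, u, hu⟩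
    · left
      exact ⟨v * ↑hS.unit⁻¹, by rw [hw', hv]; ring⟩
    · right
      exact ⟨a, u * hS.unit⁻¹, by rw [hw', hu, Units.val_mul]; ring⟩
  obtain ⟨t, htdef⟩ : ∃ t : V', t = algebraMap A' V' a₁ := ⟨_, rfl⟩
  have htnu : ¬ IsUnit t := by
    intro h
    rw [htdef] at h
    exact ha₁ (isUnit_of_map_unit _ _ h)
  obtain ⟨𝔔', h𝔔'def⟩ : ∃ 𝔔' : Ideal V', 𝔔' = ⨅ N : ℕ, Ideal.span {t ^ N} := ⟨_, rfl⟩
  have h𝔔'prime : 𝔔'.IsPrime := by
    rw [h𝔔'def]
    exact iInf_span_pow_isPrime t htnu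
  obtain ⟨𝔔, h𝔔def⟩ : ∃ 𝔔 : Ideal V, 𝔔 = 𝔔'.comap (algebraMap V V') := ⟨_, rfl⟩
  have h𝔔prime : 𝔔.IsPrime := by rw [h𝔔def]; exact Ideal.comap_isPrime _ _
  -- units of `V'`
  have hunits : ∀ u' : V'ˣ, ∃ (ay as : A) (u₀ : Vˣ), as ≠ 0 ∧
      (u' : V') * algebraMap V V' (algebraMap A V as) =
        algebraMap V V' (u₀ * algebraMap A V ay) := by
    intro u'
    obtain ⟨⟨y, s⟩, h⟩ := IsLocalization.surj 𝔓₀.primeCompl (u' : V')
    have hy : y ∉ 𝔓₀ := by
      have h1 : IsUnit (algebraMap V V' y) := by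
        rw [← h]
        exact u'.isUnit.mul (IsLocalization.map_units V' s)
      exact (IsLocalization.AtPrime.isUnit_to_map_iff V' 𝔓₀ y).mp h1
    obtain ⟨ay, uy, hy'⟩ := h𝔓₀good y hy
    obtain ⟨as, us, hs'⟩ := h𝔓₀good (s : V) s.2
    have has : as ≠ 0 := by
      rintro rfl
      rw [map_zero, mul_zero] at hs'
      exact s.2 (by rw [hs']; exact zero_mem _)
    refine ⟨ay, as, us⁻¹ * uy, has, ?_⟩
    change (u' : V') * algebraMap V V' (s : V) = algebraMap V V' y at h
    rw [hy', hs', map_mul] at h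
    rw [Units.val_mul, map_mul, map_mul]
    have h2 : algebraMap V V' (↑us⁻¹ : V) * algebraMap V V' (↑us : V) = 1 := by
      rw [← map_mul, Units.inv_mul, map_one]
    calc (u' : V') * algebraMap V V' (algebraMap A V as)
        = (algebraMap V V' (↑us⁻¹ : V) * algebraMap V V' (↑us : V)) *
          ((u' : V') * algebraMap V V' (algebraMap A V as)) := by rw [h2, one_mul]
      _ = algebraMap V V' (↑us⁻¹ : V) *
          ((u' : V') * (algebraMap V V' (↑us : V) * algebraMap V V' (algebraMap A V as))) := by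
        ring
      _ = _ := by rw [h, map_mul]; ring
  -- `𝔔` is good
  have h𝔔good : 𝔔 ∈ 𝒮 := by
    refine ⟨h𝔔prime, fun v hv => ?_⟩
    rw [h𝔔def, Ideal.mem_comap, h𝔔'def, Ideal.mem_iInf] at hv
    push Not at hv
    have hN := Nat.find_spec hv
    have hmin := fun m => Nat.find_min hv (m := m)
    set N := Nat.find hv with hNdef
    have hN0 : N ≠ 0 := by
      intro h0
      rw [h0, pow_zero, Ideal.span_singleton_one] at hN
      exact hN trivial
    obtain ⟨M, hM⟩ := Nat.exists_eq_succ_of_ne_zero hN0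
    have hMmem : algebraMap V V' v ∈ Ideal.span {t ^ M} := by
      by_contra h
      exact hmin M (by omega) h
    rw [Ideal.mem_span_singleton] at hMmem
    obtain ⟨w'', hw''⟩ := hMmem
    rcases hdich w'' with ⟨v'', hv''⟩ | ⟨a', u', hu'⟩
    · exfalso
      apply hN
      rw [Ideal.mem_span_singleton, hM]
      refine ⟨v'', ?_⟩
      rw [hw'', hv'', ← htdef, pow_succ]
      ring
    · obtain ⟨⟨α, σ⟩, hασ⟩ := IsLocalization.surj p₀.primeCompl (a₁ ^ M * a')
      change a₁ ^ M * a' * algebraMap A A' (σ : A) = algebraMap A A' α at hασ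
      obtain ⟨ay, as, u₀, has, hu₀⟩ := hunits u'
      have hσ0 : (σ : A) ≠ 0 := by
        intro h0
        exact σ.2 (by rw [h0]; exact zero_mem _)
      refine isUA_of_mul hinj (b := as * σ) (a := ay * α) (mul_ne_zero has hσ0) u₀ ?_
      apply hinjV'
      have h5 : algebraMap V V' (algebraMap A V α) =
          t ^ M * algebraMap A' V' a' * algebraMap V V' (algebraMap A V (σ : A)) := by
        rw [← htower, ← htower, ← hασ, map_mul, map_mul, map_pow, ← htdef]
      rw [map_mul, map_mul, map_mul, map_mul, map_mul, map_mul, h5, hw'', hu']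
      rw [map_mul] at hu₀
      calc t ^ M * (↑u' * algebraMap A' V' a') *
            (algebraMap V V' (algebraMap A V as) * algebraMap V V' (algebraMap A V (σ : A)))
          = (↑u' * algebraMap V V' (algebraMap A V as)) *
            (t ^ M * algebraMap A' V' a' * algebraMap V V' (algebraMap A V (σ : A))) := by ring
        _ = _ := by rw [hu₀]; ring
  have hle : 𝔓₀ ≤ 𝔔 := h𝔓₀min 𝔔 h𝔔good
  by_cases ht0 : t = 0
  · have h1 : w ∈ 𝔔 := hle hw𝔓₀
    rw [h𝔔def, Ideal.mem_comap, h𝔔'def, Ideal.mem_iInf] at h1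
    have h2 := h1 1
    rw [pow_one, ht0, Ideal.mem_span_singleton, zero_dvd_iff] at h2
    exact hw (hinjV' (by rw [h2, map_zero]))
  · obtain ⟨⟨α, σ⟩, hασ⟩ := IsLocalization.surj p₀.primeCompl a₁
    change a₁ * algebraMap A A' (σ : A) = algebraMap A A' α at hασ
    have hαp : α ∈ p₀ := by
      rw [← IsLocalization.AtPrime.to_map_mem_maximal_iff A' p₀ α, ← hασ]
      exact Ideal.mul_mem_right _ _ ha₁
    have hα𝔓 : algebraMap A V α ∈ 𝔓₀ := by
      rw [hp₀def, Ideal.mem_comap] at hαp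
      exact hαp
    have h1 : algebraMap A V α ∈ 𝔔 := hle hα𝔓
    rw [h𝔔def, Ideal.mem_comap, h𝔔'def, Ideal.mem_iInf] at h1
    have h2 := h1 2
    rw [Ideal.mem_span_singleton] at h2
    obtain ⟨z, hz⟩ := h2
    rw [← htower, ← hασ, map_mul, ← htdef] at hz
    have h3 : algebraMap A' V' (algebraMap A A' (σ : A)) = t * z := by
      have : t * algebraMap A' V' (algebraMap A A' (σ : A)) = t * (t * z) := by
        rw [hz]; ring
      exact mul_left_cancel₀ ht0 this
    have hσu : IsUnit (algebraMap A' V' (algebraMap A A' (σ : A))) :=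
      (IsLocalization.map_units A' σ).map _
    rw [h3] at hσu
    exact htnu (isUnit_of_mul_isUnit_left hσu)

end ValEt

end Groth.Agent.H3
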