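import Groth.Agent.H3.ValEtGauss
import Groth.Agent.H20.EtaleNormal
import Mathlib.RingTheory.Unramified.LocalStructure
import Mathlib.RingTheory.Ideal.GoingDown
import Mathlib.RingTheory.Localization.LocalizationLocalization
import Mathlib.RingTheory.Flat.Localization
import Mathlib.RingTheory.Smooth.Flat
import Mathlib.RingTheory.Smooth.Locus
import Mathlib.RingTheory.Flat.FaithfullyFlat.Basic

/-!
# Local rings of smooth algebras over a valuation ring at generic points of the special fibre
-/

set_option autoImplicit false
universe u

namespace Groth.Agent.H3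

namespace ValEt

open IsLocalRing

/-- transport of `IsLocalization.AtPrime` along an equality of primes -/
theorem isLocalization_atPrime_congr {R T : Type*} [CommRing R] [CommRing T] [Algebra R T]
    {I J : Ideal R} [I.IsPrime] [J.IsPrime] (h : I = J) [IsLocalization.AtPrime T I] :
    IsLocalization.AtPrime T J := by
  subst h
  infer_instance

/-- the local ring of an étale algebra over `V[T₁,…,Tₙ]` at a generic point of the special fibre
is a valuation ring with the same value group as `V` -/
theorem etale_over_mvPolynomial {V : Type u} [CommRing V] [IsDomain V] [ValuationRing V] (n : ℕ)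
    (B : Type u) [CommRing B] [IsDomain B] [Algebra V B] [Algebra (MvPolynomial (Fin n) V) B]
    [IsScalarTower V (MvPolynomial (Fin n) V) B] [Algebra.Etale (MvPolynomial (Fin n) V) B]
    (m : Ideal B) [m.IsPrime] (hm : (maximalIdeal V).map (algebraMap V B) ≤ m)
    (hmin : ∀ m'' : Ideal B, m''.IsPrime → m'' ≤ m →
      (maximalIdeal V).map (algebraMap V B) ≤ m'' → m'' = m) :
    ValuationRing (Localization.AtPrime m) ∧
      Function.Injective (algebraMap V (Localization.AtPrime m)) ∧
      IsLocalHom (algebraMap V (Localization.AtPrime m)) ∧
      ∀ x : Localization.AtPrime m, x ≠ 0 →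
        ∃ (v : V) (w : (Localization.AtPrime m)ˣ),
          x = algebraMap V (Localization.AtPrime m) v * w := by
  obtain ⟨q, hqdef⟩ : ∃ q : Ideal (MvPolynomial (Fin n) V),
    q = m.comap (algebraMap (MvPolynomial (Fin n) V) B) := ⟨_, rfl⟩
  have hqprime : q.IsPrime := by rw [hqdef]; exact Ideal.comap_isPrime _ _
  have hlies : m.LiesOver q := ⟨hqdef⟩
  have h𝔪prime : (Ideal.map MvPolynomial.C (maximalIdeal V) :
      Ideal (MvPolynomial (Fin n) V)).IsPrime := isPrime_map_C_maximalIdeal
  have hflat : Module.Flat (MvPolynomial (Fin n) V) B := inferInstance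
  have hq : q = Ideal.map MvPolynomial.C (maximalIdeal V) := by
    have hle : Ideal.map MvPolynomial.C (maximalIdeal V) ≤ q := by
      rw [Ideal.map_le_iff_le_comap]
      intro v hv
      rw [Ideal.mem_comap, hqdef, Ideal.mem_comap, ← MvPolynomial.algebraMap_eq,
        ← IsScalarTower.algebraMap_apply V (MvPolynomial (Fin n) V) B]
      exact hm (Ideal.mem_map_of_mem _ hv)
    obtain ⟨m'', hm''le, hm''prime, hm''lies⟩ := Ideal.exists_ideal_le_liesOver_of_le
      (p := Ideal.map MvPolynomial.C (maximalIdeal V)) (q := q) m hle
    have hover : Ideal.map MvPolynomial.C (maximalIdeal V) =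
        m''.comap (algebraMap (MvPolynomial (Fin n) V) B) := hm''lies.over
    have h1 : (maximalIdeal V).map (algebraMap V B) ≤ m'' := by
      rw [Ideal.map_le_iff_le_comap]
      intro v hv
      rw [Ideal.mem_comap, IsScalarTower.algebraMap_apply V (MvPolynomial (Fin n) V) B,
        ← Ideal.mem_comap, ← hover, MvPolynomial.algebraMap_eq]
      exact Ideal.mem_map_of_mem _ hv
    have h2 := hmin m'' hm''prime hm''le h1
    rw [hqdef, ← h2]
    exact hover.symm
  let W := Localization.AtPrime q
  let Bm := Localization.AtPrime m
  let _ : Algebra W Bm := Localization.AtPrime.algebraOfLiesOver q m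
  have hWdom : IsDomain W := IsLocalization.isDomain_of_local_atPrime hqprime
  have hgauss := gauss q hq
  have hWval : ValuationRing W := valuationRing_of_isUA hgauss
  have hWic : IsIntegrallyClosed W := isIntegrallyClosed_of_valuationRing W
  obtain ⟨hBmdom, hBmic⟩ :=
    Groth.Agent.H20.isDomain_and_isIntegrallyClosed_localization_of_etale
      (R := MvPolynomial (Fin n) V) (S := B) q m
  have hloc : IsLocalHom (algebraMap W Bm) :=
    Localization.isLocalHom_localRingHom (I := q) m (algebraMap (MvPolynomial (Fin n) V) B)
      Ideal.LiesOver.over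
  have hflat' : Module.Flat W Bm := inferInstance
  have hff : Module.FaithfullyFlat W Bm := Module.FaithfullyFlat.of_flat_of_isLocalHom
  have hinj : Function.Injective (algebraMap W Bm) := FaithfulSMul.algebraMap_injective W Bm
  have hD0 : StdData (MvPolynomial (Fin n) V) Bm := stdData_of_etale _ B m
  have hD : StdData W Bm :=
    hD0.of_tower (A' := W) (W' := Bm) (fun w' => ⟨w', 1, by simp, by simp⟩)
  have hUA := isUA_of_ne_zero hinj hD
  have hBmval : ValuationRing Bm := valuationRing_of_isIntegrallyClosed hinj hD.isAlgebraic
  have htower : ∀ v : V, algebraMap V Bm v = algebraMap W Bm (algebraMap V W v) :=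
    fun v => IsScalarTower.algebraMap_apply V W Bm v
  have hinjVW : Function.Injective (algebraMap V W) := by
    rw [IsScalarTower.algebraMap_eq V (MvPolynomial (Fin n) V) W]
    exact (IsLocalization.injective W q.primeCompl_le_nonZeroDivisors).comp
      (MvPolynomial.C_injective _ _)
  refine ⟨hBmval, ?_, ?_, ?_⟩
  · intro v v' h
    rw [htower, htower] at h
    exact hinjVW (hinj h)
  · constructor
    intro v hv
    rw [htower] at hv
    have h1 : IsUnit (algebraMap V W v) := isUnit_of_map_unit (algebraMap W Bm) _ hv
    rw [IsScalarTower.algebraMap_apply V (MvPolynomial (Fin n) V) W,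
      IsLocalization.AtPrime.isUnit_to_map_iff W q] at h1
    by_contra hnu
    apply h1
    rw [hq, MvPolynomial.algebraMap_eq]
    exact Ideal.mem_map_of_mem _ ((mem_maximalIdeal v).mpr hnu)
  · intro x hx
    obtain ⟨w, u, hu⟩ := hUA x hx
    have hw0 : w ≠ 0 := by
      rintro rfl
      rw [map_zero, mul_zero] at hu
      exact hx hu
    obtain ⟨v, u', hu'⟩ := hgauss w hw0
    refine ⟨v, u * Units.map (algebraMap W Bm).toMonoidHom u', ?_⟩
    rw [hu, hu', map_mul, htower, Units.val_mul]
    change (u : Bm) * (algebraMap W Bm ↑u' * algebraMap W Bm (algebraMap V W v)) =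
      algebraMap W Bm (algebraMap V W v) * (↑u * algebraMap W Bm ↑u')
    ring

/-- the local ring of a smooth algebra over a valuation ring at a generic point of the special
fibre is a valuation ring with the same value group -/
theorem smooth_main (V : Type u) [CommRing V] [IsDomain V] [ValuationRing V]
    (A : Type u) [CommRing A] [IsDomain A] [Algebra V A] [Algebra.Smooth V A]
    (p : Ideal A) [p.IsPrime]
    (hp : p ∈ ((maximalIdeal V).map (algebraMap V A)).minimalPrimes) :
    ValuationRing (Localization.AtPrime p) ∧
      Function.Injective (algebraMap V (Localization.AtPrime p)) ∧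
      IsLocalHom (algebraMap V (Localization.AtPrime p)) ∧
      ∀ x : Localization.AtPrime p, x ≠ 0 →
        ∃ (v : V) (w : (Localization.AtPrime p)ˣ),
          x = algebraMap V (Localization.AtPrime p) v * w := by
  have hsm : Algebra.IsSmoothAt V p := by
    have : Algebra.FormallySmooth A (Localization.AtPrime p) :=
      Algebra.FormallySmooth.of_isLocalization p.primeCompl
    exact Algebra.FormallySmooth.comp V A _
  obtain ⟨g, hg, n, _, htower, hstd⟩ :=
    Algebra.IsSmoothAt.exists_isStandardEtale_mvPolynomial (R := V) (p := p)
  have hg0 : g ≠ 0 := by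
    rintro rfl
    exact hg (zero_mem p)
  have hA'dom : IsDomain (Localization.Away g) := Localization.Away.isDomain hg0
  have hdisj : Disjoint (Submonoid.powers g : Set A) p :=
    (Ideal.disjoint_powers_iff_notMem_of_isPrime g).mpr hg
  obtain ⟨m, hmdef⟩ : ∃ m : Ideal (Localization.Away g),
    m = p.map (algebraMap A (Localization.Away g)) := ⟨_, rfl⟩
  have hmprime : m.IsPrime := by
    rw [hmdef]
    exact IsLocalization.isPrime_of_isPrime_disjoint (.powers g) _ _ ‹_› hdisj
  have hcomap : m.comap (algebraMap A (Localization.Away g)) = p := by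
    rw [hmdef]
    exact IsLocalization.under_map_of_isPrime_disjoint (.powers g) _ ‹_› hdisj
  have hm : (maximalIdeal V).map (algebraMap V (Localization.Away g)) ≤ m := by
    rw [Ideal.map_le_iff_le_comap]
    intro v hv
    rw [Ideal.mem_comap, IsScalarTower.algebraMap_apply V A (Localization.Away g),
      ← Ideal.mem_comap, hcomap]
    exact hp.1.2 (Ideal.mem_map_of_mem _ hv)
  have hmin : ∀ m'' : Ideal (Localization.Away g), m''.IsPrime → m'' ≤ m →
      (maximalIdeal V).map (algebraMap V (Localization.Away g)) ≤ m'' → m'' = m := by
    intro m'' hm''prime hle hge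
    have h1 : m''.comap (algebraMap A (Localization.Away g)) ≤ p := by
      rw [← hcomap]
      exact Ideal.comap_mono hle
    have h2 : (maximalIdeal V).map (algebraMap V A) ≤
        m''.comap (algebraMap A (Localization.Away g)) := by
      rw [Ideal.map_le_iff_le_comap]
      intro v hv
      rw [Ideal.mem_comap, Ideal.mem_comap,
        ← IsScalarTower.algebraMap_apply V A (Localization.Away g)]
      exact hge (Ideal.mem_map_of_mem _ hv)
    have h3 : p ≤ m''.comap (algebraMap A (Localization.Away g)) :=
      hp.2 ⟨Ideal.comap_isPrime _ _, h2⟩ h1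
    have h4 : m''.comap (algebraMap A (Localization.Away g)) = p := le_antisymm h1 h3
    rw [hmdef, ← h4]
    exact (IsLocalization.map_under (.powers g) (Localization.Away g) m'').symm
  obtain ⟨r1, r2, r3, r4⟩ := etale_over_mvPolynomial n (Localization.Away g) m hm hmin
  have hloc' : IsLocalization.AtPrime (Localization.AtPrime m)
      (m.comap (algebraMap A (Localization.Away g))) :=
    IsLocalization.isLocalization_isLocalization_atPrime_isLocalization (.powers g)
      (Localization.AtPrime m) m
  have hloc : IsLocalization.AtPrime (Localization.AtPrime m) p :=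
    isLocalization_atPrime_congr hcomap
  let e : Localization.AtPrime p ≃ₐ[A] Localization.AtPrime m :=
    IsLocalization.algEquiv p.primeCompl _ _
  have hst : IsScalarTower V A (Localization.AtPrime m) :=
    IsScalarTower.of_algebraMap_eq fun v => by
      rw [IsScalarTower.algebraMap_apply V (Localization.Away g) (Localization.AtPrime m),
        IsScalarTower.algebraMap_apply V A (Localization.Away g),
        ← IsScalarTower.algebraMap_apply A (Localization.Away g) (Localization.AtPrime m)]
  have heV : ∀ v : V, e (algebraMap V (Localization.AtPrime p) v) =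
      algebraMap V (Localization.AtPrime m) v := by
    intro v
    rw [IsScalarTower.algebraMap_apply V A (Localization.AtPrime p), e.commutes,
      ← IsScalarTower.algebraMap_apply V A (Localization.AtPrime m)]
  refine ⟨?_, ?_, ?_, ?_⟩
  · exact Function.Surjective.valuationRing (R := Localization.AtPrime m)
      (e.symm : Localization.AtPrime m →+* Localization.AtPrime p) e.symm.surjective
  · intro v v' h
    apply r2
    rw [← heV, ← heV, h]
  · constructor
    intro v hv
    have h1 : IsUnit (algebraMap V (Localization.AtPrime m) v) := by
      rw [← heV]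
      exact hv.map e
    exact isUnit_of_map_unit (algebraMap V (Localization.AtPrime m)) v h1
  · intro x hx
    have hex : e x ≠ 0 := by
      intro h0
      exact hx (e.injective (by rw [h0, map_zero]))
    obtain ⟨v, w, hw⟩ := r4 (e x) hex
    refine ⟨v, Units.map (e.symm : Localization.AtPrime m →* Localization.AtPrime p) w, ?_⟩
    apply e.injective
    rw [hw, map_mul, heV]
    congr 1
    exact (e.apply_symm_apply _).symm

end ValEt

end Groth.Agent.H3
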