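import Groth.Agent.H3.PairHens
import Groth.Agent.H3.HensCompletion

/-!
# The henselization of `R[X]` along `(X)`: basic structure

`B` a henselization of the pair `(R[X], (X))`.  The evaluation at zero `ε : B → R`, its kernel,
units of `B`, and locality of `B` when `R` is local.
-/

set_option autoImplicit false
universe u

namespace Groth.Agent.H3

namespace WPrep

open Hens2 Polynomial IsLocalRing

variable {R : Type u} [CommRing R] {B : Type u} [CommRing B] [Algebra R B] [Algebra R[X] B]
  [IsScalarTower R R[X] B]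

/-- the ideal `(X)` of `R[X]` -/
noncomputable abbrev IX (R : Type u) [CommRing R] : Ideal R[X] := Ideal.span {(X : R[X])}

/-- the image of `X` in `B` -/
noncomputable abbrev xB (R : Type u) [CommRing R] (B : Type u) [CommRing B] [Algebra R[X] B] : B :=
  algebraMap R[X] B X

theorem map_IX : (IX R).map (algebraMap R[X] B) = Ideal.span {xB R B} := by
  rw [Ideal.map_span, Set.image_singleton]

theorem algebraMap_C (r : R) : algebraMap R[X] B (C r) = algebraMap R B r := by
  rw [← Polynomial.algebraMap_eq, ← IsScalarTower.algebraMap_apply]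

theorem mem_IX_iff (q : R[X]) : q ∈ IX R ↔ q.coeff 0 = 0 := by
  rw [Ideal.mem_span_singleton, Polynomial.X_dvd_iff]

theorem exists_eps (hB : IsPairHenselization R[X] (IX R) B) :
    ∃ ε : B →+* R, ε.comp (algebraMap R[X] B) = Polynomial.constantCoeff := by
  obtain ⟨ε, hε, -⟩ := hB.2 R ⊥ Polynomial.constantCoeff (PairHens.henselianRing_bot R) (by
    rw [Ideal.map_span, Set.image_singleton, Ideal.span_le]
    simp)
  exact ⟨ε, hε⟩

/-- evaluation at zero on the henselization -/
noncomputable def eps (hB : IsPairHenselization R[X] (IX R) B) : B →+* R :=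
  (exists_eps hB).choose

theorem eps_algebraMap (hB : IsPairHenselization R[X] (IX R) B) (q : R[X]) :
    eps hB (algebraMap R[X] B q) = q.coeff 0 := by
  have h := RingHom.congr_fun (exists_eps hB).choose_spec q
  simpa [eps] using h

theorem eps_algebraMap' (hB : IsPairHenselization R[X] (IX R) B) (r : R) :
    eps hB (algebraMap R B r) = r := by
  rw [← algebraMap_C, eps_algebraMap, Polynomial.coeff_C_zero]

theorem eps_xB (hB : IsPairHenselization R[X] (IX R) B) : eps hB (xB R B) = 0 := by
  rw [eps_algebraMap, Polynomial.coeff_X_zero]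

theorem eps_surjective (hB : IsPairHenselization R[X] (IX R) B) :
    Function.Surjective (eps hB) := fun r => ⟨algebraMap R B r, eps_algebraMap' hB r⟩

theorem eps_eq_zero_of_mem (hB : IsPairHenselization R[X] (IX R) B) {b : B}
    (hb : b ∈ Ideal.span {xB R B}) : eps hB b = 0 := by
  obtain ⟨y, rfl⟩ := Ideal.mem_span_singleton'.mp hb
  rw [map_mul, eps_xB, mul_zero]

/-- every element is congruent to its constant term modulo `X` -/
theorem sub_eps_mem (hB : IsPairHenselization R[X] (IX R) B) (b : B) :
    b - algebraMap R B (eps hB b) ∈ Ideal.span {xB R B} := by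
  obtain ⟨q, hq⟩ := PairHens.exists_sub_mem hB b
  rw [map_IX] at hq
  have h1 : eps hB b = q.coeff 0 := by
    have := eps_eq_zero_of_mem hB hq
    rw [map_sub, eps_algebraMap, sub_eq_zero] at this
    exact this
  have h2 : algebraMap R[X] B q - algebraMap R B (q.coeff 0) ∈ Ideal.span {xB R B} := by
    rw [← algebraMap_C (R := R) (B := B) (q.coeff 0), ← map_sub, ← map_IX]
    apply Ideal.mem_map_of_mem
    rw [mem_IX_iff]
    simp
  rw [h1]
  have : b - algebraMap R B (q.coeff 0) =
      (b - algebraMap R[X] B q) + (algebraMap R[X] B q - algebraMap R B (q.coeff 0)) := by ring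
  rw [this]
  exact Ideal.add_mem _ hq h2

theorem mem_span_xB_iff (hB : IsPairHenselization R[X] (IX R) B) (b : B) :
    b ∈ Ideal.span {xB R B} ↔ eps hB b = 0 := by
  refine ⟨eps_eq_zero_of_mem hB, fun h => ?_⟩
  have := sub_eps_mem hB b
  rwa [h, map_zero, sub_zero] at this

theorem span_xB_le_jacobson (hB : IsPairHenselization R[X] (IX R) B) :
    Ideal.span {xB R B} ≤ Ideal.jacobson ⊥ := by
  rw [← map_IX]
  exact hB.1.jac

theorem isUnit_iff (hB : IsPairHenselization R[X] (IX R) B) (b : B) :
    IsUnit b ↔ IsUnit (eps hB b) := by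
  refine ⟨fun h => h.map _, fun h => ?_⟩
  obtain ⟨r, hr⟩ := h.exists_right_inv
  have h1 : b * algebraMap R B r - 1 ∈ Ideal.span {xB R B} := by
    rw [mem_span_xB_iff hB, map_sub, map_mul, eps_algebraMap', hr, map_one, sub_self]
  have h2 := Ideal.isUnit_of_sub_one_mem_jacobson_bot _ (span_xB_le_jacobson hB h1)
  exact isUnit_of_mul_isUnit_left h2

theorem isLocalRing [IsLocalRing R] (hB : IsPairHenselization R[X] (IX R) B) : IsLocalRing B := by
  have : Nontrivial B := (eps_surjective hB).nontrivial
  refine IsLocalRing.of_isUnit_or_isUnit_of_isUnit_add fun a b hab => ?_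
  rw [isUnit_iff hB, map_add] at hab
  rw [isUnit_iff hB, isUnit_iff hB]
  exact IsLocalRing.isUnit_or_isUnit_of_isUnit_add hab

theorem mem_maximalIdeal_iff [IsLocalRing R] [IsLocalRing B]
    (hB : IsPairHenselization R[X] (IX R) B) (b : B) :
    b ∈ maximalIdeal B ↔ eps hB b ∈ maximalIdeal R := by
  rw [mem_maximalIdeal, mem_maximalIdeal, mem_nonunits_iff, mem_nonunits_iff, isUnit_iff hB]

/-- the extension of the maximal ideal of `R` to `B` -/
abbrev mB (R : Type u) [CommRing R] [IsLocalRing R] (B : Type u) [CommRing B] [Algebra R B] :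
    Ideal B := (maximalIdeal R).map (algebraMap R B)

theorem mB_le_maximalIdeal [IsLocalRing R] [IsLocalRing B]
    (hB : IsPairHenselization R[X] (IX R) B) : mB R B ≤ maximalIdeal B := by
  rw [Ideal.map_le_iff_le_comap]
  intro r hr
  rw [Ideal.mem_comap, mem_maximalIdeal_iff hB, eps_algebraMap']
  exact hr

theorem xB_mem_maximalIdeal [IsLocalRing R] [IsLocalRing B]
    (hB : IsPairHenselization R[X] (IX R) B) : xB R B ∈ maximalIdeal B := by
  rw [mem_maximalIdeal_iff hB, eps_xB]
  exact zero_mem _

theorem maximalIdeal_eq [IsLocalRing R] [IsLocalRing B]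
    (hB : IsPairHenselization R[X] (IX R) B) :
    maximalIdeal B = mB R B ⊔ Ideal.span {xB R B} := by
  apply le_antisymm
  · intro b hb
    have h1 := sub_eps_mem hB b
    have h2 : algebraMap R B (eps hB b) ∈ mB R B :=
      Ideal.mem_map_of_mem _ ((mem_maximalIdeal_iff hB b).mp hb)
    have : b = algebraMap R B (eps hB b) + (b - algebraMap R B (eps hB b)) := by ring
    rw [this]
    exact Submodule.add_mem_sup h2 h1
  · refine sup_le (mB_le_maximalIdeal hB) ?_
    rw [Ideal.span_le, Set.singleton_subset_iff]
    exact xB_mem_maximalIdeal hB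

end WPrep

end Groth.Agent.H3
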