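import Groth.Agent.H3.WPrepBasic
import Groth.Agent.H3.HensQuotient
import Groth.Agent.H3.HensNoeth

/-!
# The henselization of `R[X]` along `(X)`: the closed fibre

For `R` local, the quotient `B / m B` is a henselization of `(k[X], (X))`, a Noetherian ring in
which `X` is a nonzerodivisor lying in the Jacobson radical.  Consequences for elements of `B`
outside `m B`.
-/

set_option autoImplicit false
universe u

namespace Groth.Agent.H3

namespace WPrep

open Hens2 Polynomial IsLocalRing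

variable {R : Type u} [CommRing R] [IsLocalRing R] {B : Type u} [CommRing B] [Algebra R B]
  [Algebra R[X] B] [IsScalarTower R R[X] B]

/-- the ideal `m R[X]` -/
noncomputable abbrev KX (R : Type u) [CommRing R] [IsLocalRing R] : Ideal R[X] :=
  (maximalIdeal R).map (C : R →+* R[X])

theorem map_KX : (KX R).map (algebraMap R[X] B) = mB R B := by
  rw [Ideal.map_map]
  congr 1
  ext r
  simp [algebraMap_C]

theorem mem_KX_iff (q : R[X]) : q ∈ KX R ↔ ∀ n, q.coeff n ∈ maximalIdeal R :=
  Ideal.mem_map_C_iff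

/-- the closed fibre of `B` -/
abbrev B1 (R : Type u) [CommRing R] [IsLocalRing R] (B : Type u) [CommRing B] [Algebra R[X] B] :
    Type u := B ⧸ (KX R).map (algebraMap R[X] B)

theorem mk_eq_zero_iff (b : B) :
    (Ideal.Quotient.mk ((KX R).map (algebraMap R[X] B)) b : B1 R B) = 0 ↔ b ∈ mB R B := by
  rw [Ideal.Quotient.eq_zero_iff_mem, map_KX]

theorem hq (hB : IsPairHenselization R[X] (IX R) B) :
    IsPairHenselization (R[X] ⧸ KX R) ((IX R).map (Ideal.Quotient.mk (KX R))) (B1 R B) :=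
  HensQuotient.isPairHenselization_quotient hB (KX R)

instance isNoetherianRing_quot : IsNoetherianRing (R[X] ⧸ KX R) := by
  have : IsNoetherianRing (R ⧸ maximalIdeal R) :=
    inferInstanceAs (IsNoetherianRing (ResidueField R))
  exact isNoetherianRing_of_ringEquiv _
    (Ideal.polynomialQuotientEquivQuotientPolynomial (maximalIdeal R))

theorem isSMulRegular_mk_X : IsSMulRegular (R[X] ⧸ KX R) (Ideal.Quotient.mk (KX R) X) := by
  intro a b h
  obtain ⟨a, rfl⟩ := Ideal.Quotient.mk_surjective a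
  obtain ⟨b, rfl⟩ := Ideal.Quotient.mk_surjective b
  simp only [smul_eq_mul, ← map_mul] at h
  rw [Ideal.Quotient.eq, ← mul_sub, mem_KX_iff] at h
  rw [Ideal.Quotient.eq, mem_KX_iff]
  intro n
  have := h (n + 1)
  rwa [Polynomial.coeff_X_mul] at this

theorem map_IX_quot :
    ((IX R).map (Ideal.Quotient.mk (KX R))).map (algebraMap (R[X] ⧸ KX R) (B1 R B)) =
      Ideal.span {(Ideal.Quotient.mk _ (xB R B) : B1 R B)} := by
  rw [Ideal.map_span, Set.image_singleton, Ideal.map_span, Set.image_singleton]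
  rfl

/-- `X` is a nonzerodivisor modulo `m B` -/
theorem x_reg (hB : IsPairHenselization R[X] (IX R) B) (b : B)
    (h : xB R B * b ∈ mB R B) : b ∈ mB R B := by
  have : Module.Flat (R[X] ⧸ KX R) (B1 R B) := HensFlatMain.flat (hq hB)
  have hreg : IsSMulRegular (B1 R B)
      (algebraMap (R[X] ⧸ KX R) (B1 R B) (Ideal.Quotient.mk (KX R) X)) :=
    IsSMulRegular.of_flat isSMulRegular_mk_X
  rw [← mk_eq_zero_iff] at h ⊢
  apply hreg
  simp only [smul_eq_mul, mul_zero]
  rw [map_mul] at h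
  exact h

theorem x_pow_reg (hB : IsPairHenselization R[X] (IX R) B) (n : ℕ) (b : B)
    (h : xB R B ^ n * b ∈ mB R B) : b ∈ mB R B := by
  induction n with
  | zero => simpa using h
  | succ n ih =>
    apply ih
    apply x_reg hB
    rw [← mul_assoc, ← pow_succ']
    exact h

/-- Krull intersection in the closed fibre -/
theorem mem_mB_of_forall_mem (hB : IsPairHenselization R[X] (IX R) B) (b : B)
    (h : ∀ n : ℕ, b ∈ mB R B ⊔ Ideal.span {xB R B ^ n}) : b ∈ mB R B := by
  have : IsNoetherianRing (B1 R B) := HensNoeth.isNoetherianRing (hq hB)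
  have hjac : Ideal.span {(Ideal.Quotient.mk _ (xB R B) : B1 R B)} ≤ Ideal.jacobson ⊥ := by
    rw [← map_IX_quot]
    exact (hq hB).1.jac
  have hk := Ideal.iInf_pow_smul_eq_bot_of_le_jacobson (M := B1 R B) _ hjac
  rw [← mk_eq_zero_iff]
  have hmem : (Ideal.Quotient.mk _ b : B1 R B) ∈
      (⨅ i : ℕ, Ideal.span {(Ideal.Quotient.mk _ (xB R B) : B1 R B)} ^ i • ⊤ :
        Submodule (B1 R B) (B1 R B)) := by
    rw [Submodule.mem_iInf]
    intro n
    rw [smul_eq_mul, Ideal.mul_top, Ideal.span_singleton_pow]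
    obtain ⟨μ, hμ, y, hy, hb⟩ := Submodule.mem_sup.mp (h n)
    obtain ⟨z, rfl⟩ := Ideal.mem_span_singleton'.mp hy
    rw [← hb, map_add, (mk_eq_zero_iff μ).mpr hμ, zero_add, map_mul, map_pow]
    exact Ideal.mul_mem_left _ _ (Ideal.mem_span_singleton_self _)
  rw [hk] at hmem
  exact hmem

/-- an element outside `m B` is `X ^ n` times a unit modulo `m B` -/
theorem exists_unit_factor (hB : IsPairHenselization R[X] (IX R) B) (f : B)
    (hf : f ∉ mB R B) : ∃ (n : ℕ) (g : B), IsUnit g ∧ f - xB R B ^ n * g ∈ mB R B := by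
  classical
  have := isLocalRing hB
  have hex : ∃ n : ℕ, f ∉ mB R B ⊔ Ideal.span {xB R B ^ n} := by
    by_contra hcon
    exact hf (mem_mB_of_forall_mem hB f fun n => by
      by_contra h
      exact hcon ⟨n, h⟩)
  have hmin := fun (m : ℕ) (hm : m < Nat.find hex) => Nat.find_min hex hm
  have hspec := Nat.find_spec hex
  set N := Nat.find hex with hN
  have hN0 : N ≠ 0 := by
    intro h0
    apply hspec
    rw [h0, pow_zero, Ideal.span_singleton_one]
    exact Submodule.mem_sup_right Submodule.mem_top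
  obtain ⟨n, hn⟩ := Nat.exists_eq_succ_of_ne_zero hN0
  have hmem : f ∈ mB R B ⊔ Ideal.span {xB R B ^ n} := by
    by_contra hcon
    exact hmin n (by omega) hcon
  obtain ⟨μ, hμ, y, hy, hb⟩ := Submodule.mem_sup.mp hmem
  obtain ⟨g, rfl⟩ := Ideal.mem_span_singleton'.mp hy
  refine ⟨n, g, ?_, ?_⟩
  · by_contra hg
    have hgm : g ∈ maximalIdeal B := hg
    rw [maximalIdeal_eq hB] at hgm
    obtain ⟨μ', hμ', y', hy', hg'⟩ := Submodule.mem_sup.mp hgm
    obtain ⟨z, rfl⟩ := Ideal.mem_span_singleton'.mp hy'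
    apply hspec
    rw [hn, ← hb, ← hg']
    have : μ + (μ' + z * xB R B) * xB R B ^ n = (μ + μ' * xB R B ^ n) + z * xB R B ^ (n + 1) := by
      ring
    rw [this]
    exact Submodule.add_mem_sup (Ideal.add_mem _ hμ (Ideal.mul_mem_right _ _ hμ'))
      (Ideal.mul_mem_left _ _ (Ideal.mem_span_singleton_self _))
  · rw [← hb]
    have : μ + g * xB R B ^ n - xB R B ^ n * g = μ := by ring
    rw [this]
    exact hμ

/-- polynomials whose image lies in `m B + X ^ n B` lie in `m R[X] + X ^ n R[X]` -/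
theorem mem_of_algebraMap_mem (hB : IsPairHenselization R[X] (IX R) B) (q : R[X]) (n : ℕ)
    (h : algebraMap R[X] B q ∈ mB R B ⊔ Ideal.span {xB R B ^ n}) :
    q ∈ KX R ⊔ Ideal.span {(X : R[X]) ^ n} := by
  have h1 : algebraMap (R[X] ⧸ KX R) (B1 R B) (Ideal.Quotient.mk (KX R) q) ∈
      (((IX R).map (Ideal.Quotient.mk (KX R))) ^ n).map
        (algebraMap (R[X] ⧸ KX R) (B1 R B)) := by
    rw [Ideal.map_pow, map_IX_quot, Ideal.span_singleton_pow]
    obtain ⟨μ, hμ, y, hy, hb⟩ := Submodule.mem_sup.mp h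
    obtain ⟨z, rfl⟩ := Ideal.mem_span_singleton'.mp hy
    have : algebraMap (R[X] ⧸ KX R) (B1 R B) (Ideal.Quotient.mk (KX R) q) =
        Ideal.Quotient.mk _ (algebraMap R[X] B q) := rfl
    rw [this, ← hb, map_add, (mk_eq_zero_iff μ).mpr hμ, zero_add, map_mul, map_pow]
    exact Ideal.mul_mem_left _ _ (Ideal.mem_span_singleton_self _)
  have h2 := HensCompletion.mem_pow_of_algebraMap_mem (hq hB) n h1
  rw [Ideal.map_span, Set.image_singleton, Ideal.span_singleton_pow] at h2
  obtain ⟨s, hs⟩ := Ideal.mem_span_singleton'.mp h2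
  obtain ⟨s, rfl⟩ := Ideal.Quotient.mk_surjective s
  rw [← map_pow, ← map_mul, Ideal.Quotient.eq] at hs
  have : q = (q - s * X ^ n) + s * X ^ n := by ring
  rw [this]
  refine Submodule.add_mem_sup ?_ (Ideal.mul_mem_left _ _ (Ideal.mem_span_singleton_self _))
  have h3 := (KX R).neg_mem hs
  rwa [neg_sub] at h3

end WPrep

end Groth.Agent.H3
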