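import Groth.Agent.H3.WPrepQF

/-!
# Finiteness of `B / f B` and the Weierstrass polynomial
-/

set_option autoImplicit false
universe u

namespace Groth.Agent.H3

namespace WPrep

open Hens2 Polynomial IsLocalRing

variable {R : Type u} [CommRing R] [HenselianLocalRing R] {B : Type u} [CommRing B] [Algebra R B]
  [Algebra R[X] B] [IsScalarTower R R[X] B]
variable {E : Type u} [CommRing E] [Algebra R[X] E] [Algebra R E] [IsScalarTower R R[X] E]
  [Algebra E B] [IsScalarTower R[X] E B]

theorem core (hB : IsPairHenselization R[X] (IX R) B)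
    (hN : EtNbhd.IsNbhd (IX R) E) (n : ℕ) (hn : n ≠ 0) (c w e₀ : E)
    (hf𝔟 : algebraMap E B (1 - e₀) ∈ Ideal.span {algebraMap E B c})
    (hfin : Module.Finite R (E ⧸ (Ideal.span {c} ⊔ Ideal.span {1 - e₀})))
    (hrad : Ideal.Quotient.mk (Ideal.span {c} ⊔ Ideal.span {1 - e₀}) (xE R E) ∈
        ((maximalIdeal R).map
          (algebraMap R (E ⧸ (Ideal.span {c} ⊔ Ideal.span {1 - e₀})))).radical)
    (hmod : xB R B ^ n - algebraMap E B c * algebraMap E B w ∈ mB R B) :
    ∃ P : R[X], P.Monic ∧ P.natDegree = n ∧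
      algebraMap R[X] B P ∈ Ideal.span {algebraMap E B c} := by
  classical
  have hREB : IsScalarTower R E B := isScalarTower_REB
  have hxB : algebraMap E B (xE R E) = xB R B := by
    rw [← IsScalarTower.algebraMap_apply]
  set 𝔟 : Ideal E := Ideal.span {c} ⊔ Ideal.span {1 - e₀} with h𝔟def
  have h𝔟 : 𝔟.map (algebraMap E B) = Ideal.span {algebraMap E B c} := by
    rw [h𝔟def, Ideal.map_sup, Ideal.map_span, Set.image_singleton, Ideal.map_span,
      Set.image_singleton, sup_eq_left, Ideal.span_le, Set.singleton_subset_iff]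
    exact hf𝔟
  -- the henselization of the quotient pair
  have hD : IsPairHenselization (E ⧸ 𝔟)
      (((IX R).map (algebraMap R[X] E)).map (Ideal.Quotient.mk 𝔟))
      (B ⧸ 𝔟.map (algebraMap E B)) :=
    HensQuotient.isPairHenselization_quotient (EtNbhd.isPairHenselization_nbhd hB hN) 𝔟
  have hT : HenselianRing (E ⧸ 𝔟)
      (((IX R).map (algebraMap R[X] E)).map (Ideal.Quotient.mk 𝔟)) := by
    apply henselianRing_of_finite R
    rw [Ideal.map_span, Set.image_singleton, Ideal.map_span, Set.image_singleton, Ideal.span_le,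
      Set.singleton_subset_iff]
    exact hrad
  have hbij := bijective_algebraMap_of_henselianRing hT hD
  -- finiteness of the quotient of `B`
  have htower : IsScalarTower R (E ⧸ 𝔟) (B ⧸ 𝔟.map (algebraMap E B)) :=
    IsScalarTower.of_algebraMap_eq fun r => by
      rw [IsScalarTower.algebraMap_apply R E (E ⧸ 𝔟), Ideal.Quotient.algebraMap_eq,
        Ideal.Quotient.algebraMap_quotient_map_quotient, ← IsScalarTower.algebraMap_apply R E B,
        IsScalarTower.algebraMap_apply R B (B ⧸ 𝔟.map (algebraMap E B)),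
        Ideal.Quotient.algebraMap_eq]
  have hfinD : Module.Finite R (B ⧸ 𝔟.map (algebraMap E B)) :=
    Module.Finite.of_surjective
      (IsScalarTower.toAlgHom R (E ⧸ 𝔟) (B ⧸ 𝔟.map (algebraMap E B))).toLinearMap hbij.2
  -- notation in the quotient
  have hmkc : Ideal.Quotient.mk (𝔟.map (algebraMap E B)) (algebraMap E B c) = 0 :=
    Ideal.Quotient.eq_zero_iff_mem.mpr (by rw [h𝔟]; exact Ideal.mem_span_singleton_self _)
  have hmB : ∀ y ∈ mB R B, Ideal.Quotient.mk (𝔟.map (algebraMap E B)) y ∈
      (maximalIdeal R).map (algebraMap R (B ⧸ 𝔟.map (algebraMap E B))) := by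
    intro y hy
    have h1 := Ideal.mem_map_of_mem (Ideal.Quotient.mk (𝔟.map (algebraMap E B))) hy
    rw [Ideal.map_map] at h1
    exact h1
  have hξn : Ideal.Quotient.mk (𝔟.map (algebraMap E B)) (xB R B) ^ n ∈
      (maximalIdeal R).map (algebraMap R (B ⧸ 𝔟.map (algebraMap E B))) := by
    have h1 := hmB _ hmod
    rw [map_sub, map_mul, hmkc, zero_mul, sub_zero, map_pow] at h1
    exact h1
  have haeval : ∀ p : R[X], Ideal.Quotient.mk (𝔟.map (algebraMap E B)) (algebraMap R[X] B p) =
      Polynomial.aeval (Ideal.Quotient.mk (𝔟.map (algebraMap E B)) (xB R B)) p := by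
    intro p
    have h1 : ((Ideal.Quotient.mkₐ R (𝔟.map (algebraMap E B))).comp
        (IsScalarTower.toAlgHom R R[X] B)) =
        Polynomial.aeval (Ideal.Quotient.mk (𝔟.map (algebraMap E B)) (xB R B)) := by
      apply Polynomial.algHom_ext
      simp
    exact DFunLike.congr_fun h1 p
  -- Nakayama
  have htop : (⊤ : Submodule R (B ⧸ 𝔟.map (algebraMap E B))) ≤
      Submodule.span R (Set.range fun i : Fin n =>
        Ideal.Quotient.mk (𝔟.map (algebraMap E B)) (xB R B) ^ (i : ℕ)) ⊔
        (maximalIdeal R) • ⊤ := by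
    intro d _
    obtain ⟨b, rfl⟩ := Ideal.Quotient.mk_surjective d
    obtain ⟨q, hq⟩ := HensCompletion.exists_sub_mem_pow hB n b
    rw [Ideal.map_pow, map_IX, Ideal.span_singleton_pow] at hq
    obtain ⟨t, ht⟩ := Ideal.mem_span_singleton'.mp hq
    have hdecomp : b = algebraMap R[X] B (q %ₘ X ^ n) +
        xB R B ^ n * (algebraMap R[X] B (q /ₘ X ^ n) + t) := by
      have h1 := Polynomial.modByMonic_add_div q ((X : R[X]) ^ n)
      have h2 : algebraMap R[X] B q = algebraMap R[X] B (q %ₘ X ^ n) +
          xB R B ^ n * algebraMap R[X] B (q /ₘ X ^ n) := by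
        conv_lhs => rw [← h1]
        rw [map_add, map_mul, map_pow]
      have h3 : b = algebraMap R[X] B q + t * xB R B ^ n := by rw [ht]; ring
      rw [h3, h2]; ring
    rw [hdecomp, map_add]
    refine Submodule.add_mem_sup ?_ ?_
    · have hdeg : (q %ₘ (X : R[X]) ^ n).natDegree < n := by
        have h1 := Polynomial.natDegree_modByMonic_lt q (Polynomial.monic_X_pow (R := R) n)
          (by
            intro h
            have := congrArg Polynomial.natDegree h
            rw [Polynomial.natDegree_X_pow, Polynomial.natDegree_one] at this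
            exact hn this)
        rwa [Polynomial.natDegree_X_pow] at h1
      rw [haeval (q %ₘ X ^ n), Polynomial.aeval_eq_sum_range' hdeg]
      refine Submodule.sum_mem _ fun i hi => Submodule.smul_mem _ _ ?_
      exact Submodule.subset_span ⟨⟨i, Finset.mem_range.mp hi⟩, rfl⟩
    · rw [Ideal.smul_top_eq_map, Submodule.restrictScalars_mem, map_mul, map_pow]
      exact Ideal.mul_mem_right _ _ hξn
  have hNtop := Submodule.le_of_le_smul_of_le_jacobson_bot Module.Finite.fg_top
    (IsLocalRing.maximalIdeal_le_jacobson ⊥) htop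
  obtain ⟨a, ha⟩ := (Submodule.mem_span_range_iff_exists_fun R).mp
    (hNtop (Submodule.mem_top :
      Ideal.Quotient.mk (𝔟.map (algebraMap E B)) (xB R B) ^ n ∈ ⊤))
  refine ⟨X ^ n - ∑ i : Fin n, C (a i) * X ^ (i : ℕ),
    Polynomial.monic_X_pow_sub (Polynomial.degree_sum_fin_lt a), ?_, ?_⟩
  · apply Polynomial.natDegree_eq_of_degree_eq_some
    rw [Polynomial.degree_sub_eq_left_of_degree_lt (by
      rw [Polynomial.degree_X_pow]; exact Polynomial.degree_sum_fin_lt a),
      Polynomial.degree_X_pow]
  · rw [← h𝔟, ← Ideal.Quotient.eq_zero_iff_mem,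
      haeval (X ^ n - ∑ i : Fin n, C (a i) * X ^ (i : ℕ)), map_sub, map_pow, Polynomial.aeval_X,
      map_sum, ← ha, sub_eq_zero]
    refine (Finset.sum_congr rfl fun i _ => ?_).symm
    rw [map_mul, Polynomial.aeval_C, map_pow, Polynomial.aeval_X, Algebra.smul_def]

theorem exists_monic (hB : IsPairHenselization R[X] (IX R) B) (f g : B) (n : ℕ) (hg : IsUnit g)
    (hfg : f - xB R B ^ n * g ∈ mB R B) :
    ∃ P : R[X], P.Monic ∧ P.natDegree = n ∧ algebraMap R[X] B P ∈ Ideal.span {f} := by
  classical
  haveI := isLocalRing hB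
  by_cases hn : n = 0
  · subst hn
    refine ⟨1, monic_one, natDegree_one, ?_⟩
    have hfu : IsUnit f := by
      have h1 : f - g ∈ maximalIdeal B := mB_le_maximalIdeal hB (by simpa using hfg)
      by_contra hf
      have h2 : g ∈ maximalIdeal B := by
        have := (maximalIdeal B).sub_mem hf h1
        rwa [sub_sub_cancel] at this
      exact h2 hg
    rw [Ideal.span_singleton_eq_top.mpr hfu]
    trivial
  · obtain ⟨ginv, hginv⟩ := hg.exists_right_inv
    obtain ⟨E, _, _, hN, φ, hφ⟩ := EtNbhd.inImage_finset hB {f, ginv}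
    letI : Algebra E B := φ.toRingHom.toAlgebra
    haveI : IsScalarTower R[X] E B :=
      IsScalarTower.of_algebraMap_eq fun a => (φ.commutes a).symm
    letI : Algebra R E := ((algebraMap R[X] E).comp (Polynomial.C)).toAlgebra
    haveI : IsScalarTower R R[X] E := IsScalarTower.of_algebraMap_eq' rfl
    have hREB : IsScalarTower R E B := isScalarTower_REB
    obtain ⟨c, hc⟩ := hφ (show f ∈ ((({f, ginv} : Finset B)) : Set B) by simp)
    obtain ⟨w, hw⟩ := hφ (show ginv ∈ ((({f, ginv} : Finset B)) : Set B) by simp)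
    have hc' : algebraMap E B c = f := hc
    have hw' : algebraMap E B w = ginv := hw
    have hmod : xB R B ^ n - algebraMap E B c * algebraMap E B w ∈ mB R B := by
      rw [hc', hw']
      have h1 : xB R B ^ n - f * ginv = -(ginv * (f - xB R B ^ n * g)) := by
        linear_combination (-(xB R B ^ n)) * hginv
      rw [h1]
      exact (mB R B).neg_mem ((mB R B).mul_mem_left _ hfg)
    have hz : algebraMap E B (xE R E ^ n - c * w) ∈
        ((maximalIdeal R).map (algebraMap R E)).map (algebraMap E B) := by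
      rw [Ideal.map_map, ← IsScalarTower.algebraMap_eq, map_sub, map_pow, map_mul,
        ← IsScalarTower.algebraMap_apply R[X] E B]
      exact hmod
    obtain ⟨k, hk1, hk2⟩ := exists_mul_mem hB hN _ _ hz
    have hk2' : k * xE R E ^ n ∈ Ideal.span {c} ⊔ (maximalIdeal R).map (algebraMap R E) := by
      have h1 : k * xE R E ^ n = (k * w) * c + k * (xE R E ^ n - c * w) := by ring
      rw [h1]
      exact Submodule.add_mem_sup (Ideal.mul_mem_left _ _ (Ideal.mem_span_singleton_self c)) hk2
    have hfm : algebraMap E B c ∈ maximalIdeal B := by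
      rw [hc']
      have h1 : f - xB R B ^ n * g ∈ maximalIdeal B := mB_le_maximalIdeal hB hfg
      have h2 : xB R B ^ n * g ∈ maximalIdeal B :=
        Ideal.mul_mem_right _ _
          (Ideal.pow_mem_of_mem _ (xB_mem_maximalIdeal hB) n (Nat.pos_of_ne_zero hn))
      have := (maximalIdeal B).add_mem h1 h2
      rwa [sub_add_cancel] at this
    obtain ⟨e₀, h1, h2, h3⟩ := exists_idem hB hN n c k hfm hk1 hk2'
    obtain ⟨P, hP1, hP2, hP3⟩ := core hB hN n hn c w e₀ h1 h2 h3 hmod
    exact ⟨P, hP1, hP2, by rwa [hc'] at hP3⟩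

end WPrep

end Groth.Agent.H3
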