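import Groth.Agent.H3.WPrepFinite

/-!
# The henselian Weierstrass preparation theorem
-/

set_option autoImplicit false
universe u

namespace Groth.Agent.H3

namespace WPrep

open Hens2 Polynomial IsLocalRing

variable {R : Type u} [CommRing R] [HenselianLocalRing R] {B : Type u} [CommRing B] [Algebra R B]
  [Algebra R[X] B] [IsScalarTower R R[X] B]

/-- a Weierstrass polynomial: monic with all lower coefficients in the maximal ideal -/
def IsWeier (P : R[X]) : Prop :=
  P.Monic ∧ ∀ i : ℕ, i < P.natDegree → P.coeff i ∈ maximalIdeal R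

theorem IsWeier.sub_mem {P : R[X]} (hP : IsWeier P) :
    P - X ^ P.natDegree ∈ KX R := by
  rw [mem_KX_iff]
  intro i
  rw [Polynomial.coeff_sub, Polynomial.coeff_X_pow]
  rcases lt_trichotomy i P.natDegree with h | h | h
  · rw [if_neg h.ne, sub_zero]
    exact hP.2 i h
  · rw [if_pos h, h, hP.1.coeff_natDegree, sub_self]
    exact zero_mem _
  · rw [if_neg h.ne', sub_zero, Polynomial.coeff_eq_zero_of_natDegree_lt h]
    exact zero_mem _

theorem exists_factor (hB : IsPairHenselization R[X] (IX R) B) (f : B) (hf : f ∉ mB R B) :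
    ∃ (P : R[X]) (u : Bˣ), IsWeier P ∧ f = algebraMap R[X] B P * (u : B) := by
  have := isLocalRing hB
  obtain ⟨n, g, hg, hfg⟩ := exists_unit_factor hB f hf
  obtain ⟨P, hP1, hP2, hP3⟩ := exists_monic hB f g n hg hfg
  obtain ⟨h, hh⟩ := Ideal.mem_span_singleton'.mp hP3
  -- the lower coefficients lie in the maximal ideal
  have h1 : algebraMap R[X] B P ∈ mB R B ⊔ Ideal.span {xB R B ^ n} := by
    have : algebraMap R[X] B P = h * (f - xB R B ^ n * g) + (h * g) * xB R B ^ n := by
      rw [← hh]; ring
    rw [this]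
    exact Submodule.add_mem_sup ((mB R B).mul_mem_left _ hfg)
      (Ideal.mul_mem_left _ _ (Ideal.mem_span_singleton_self _))
  have h2 := mem_of_algebraMap_mem hB P n h1
  obtain ⟨κ, hκ, y, hy, hsum⟩ := Submodule.mem_sup.mp h2
  obtain ⟨s, rfl⟩ := Ideal.mem_span_singleton'.mp hy
  have hW : IsWeier P := by
    refine ⟨hP1, fun i hi => ?_⟩
    rw [hP2] at hi
    rw [← hsum, Polynomial.coeff_add, Polynomial.coeff_mul_X_pow', if_neg (not_le.mpr hi),
      add_zero]
    exact (mem_KX_iff κ).mp hκ i
  -- the cofactor is a unit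
  have h3 : algebraMap R[X] B P - xB R B ^ n ∈ mB R B := by
    have := Ideal.mem_map_of_mem (algebraMap R[X] B) hW.sub_mem
    rwa [map_KX, map_sub, map_pow, hP2] at this
  have h4 : xB R B ^ n * (h * g - 1) ∈ mB R B := by
    have : xB R B ^ n * (h * g - 1) =
        (algebraMap R[X] B P - xB R B ^ n) - h * (f - xB R B ^ n * g) := by
      rw [← hh]; ring
    rw [this]
    exact (mB R B).sub_mem h3 ((mB R B).mul_mem_left _ hfg)
  have h5 : h * g - 1 ∈ maximalIdeal B := mB_le_maximalIdeal hB (x_pow_reg hB n _ h4)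
  have h6 : IsUnit (h * g) := by
    by_contra hcon
    have h7 : h * g ∈ maximalIdeal B := hcon
    have := (maximalIdeal B).sub_mem h7 h5
    rw [sub_sub_cancel] at this
    exact (maximalIdeal.isMaximal B).ne_top ((Ideal.eq_top_iff_one _).mpr this)
  have h8 : IsUnit h := isUnit_of_mul_isUnit_left h6
  obtain ⟨u, rfl⟩ := h8
  refine ⟨P, u⁻¹, hW, ?_⟩
  rw [← hh, mul_comm (u : B) f, mul_assoc, Units.mul_inv, mul_one]

theorem quotient_bijective (hB : IsPairHenselization R[X] (IX R) B) (P : R[X]) (hP : IsWeier P) :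
    (∀ b : B, ∃ q : R[X], algebraMap R[X] B q - b ∈ Ideal.span {algebraMap R[X] B P}) ∧
    (∀ q : R[X], algebraMap R[X] B q ∈ Ideal.span {algebraMap R[X] B P} →
      q ∈ Ideal.span {P}) := by
  have hmap : (Ideal.span {P}).map (algebraMap R[X] B) = Ideal.span {algebraMap R[X] B P} := by
    rw [Ideal.map_span, Set.image_singleton]
  have hfin : Module.Finite R (R[X] ⧸ Ideal.span {P}) := hP.1.finite_adjoinRoot
  have hq := HensQuotient.isPairHenselization_quotient hB (Ideal.span {P})
  have hT : HenselianRing (R[X] ⧸ Ideal.span {P})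
      ((IX R).map (Ideal.Quotient.mk (Ideal.span {P}))) := by
    apply henselianRing_of_finite R
    rw [Ideal.map_span, Set.image_singleton, Ideal.span_le, Set.singleton_subset_iff]
    refine ⟨P.natDegree, ?_⟩
    have h1 : Ideal.Quotient.mk (Ideal.span {P}) X ^ P.natDegree =
        Ideal.Quotient.mk (Ideal.span {P}) (-(P - X ^ P.natDegree)) := by
      rw [← map_pow, Ideal.Quotient.eq]
      have : X ^ P.natDegree - -(P - X ^ P.natDegree) = P := by ring
      rw [this]
      exact Ideal.mem_span_singleton_self P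
    rw [h1]
    have h2 := Ideal.mem_map_of_mem (Ideal.Quotient.mk (Ideal.span {P}))
      ((KX R).neg_mem hP.sub_mem)
    rw [Ideal.map_map] at h2
    exact h2
  have hbij := bijective_algebraMap_of_henselianRing hT hq
  constructor
  · intro b
    obtain ⟨t, ht⟩ := hbij.2 (Ideal.Quotient.mk _ b)
    obtain ⟨q, rfl⟩ := Ideal.Quotient.mk_surjective t
    refine ⟨q, ?_⟩
    rw [Ideal.Quotient.algebraMap_quotient_map_quotient, Ideal.Quotient.eq, hmap] at ht
    exact ht
  · intro q hq'
    have h1 : algebraMap (R[X] ⧸ Ideal.span {P}) (B ⧸ (Ideal.span {P}).map (algebraMap R[X] B))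
        (Ideal.Quotient.mk _ q) = 0 := by
      rw [Ideal.Quotient.algebraMap_quotient_map_quotient, Ideal.Quotient.eq_zero_iff_mem, hmap]
      exact hq'
    have h2 := hbij.1 (h1.trans (map_zero _).symm)
    exact Ideal.Quotient.eq_zero_iff_mem.mp h2

theorem weier_unique (hB : IsPairHenselization R[X] (IX R) B) (P P' : R[X]) (hP : IsWeier P)
    (hP' : IsWeier P')
    (h : Ideal.span {algebraMap R[X] B P} = Ideal.span {algebraMap R[X] B P'}) : P = P' := by
  have h1 : P ∣ P' := by
    have := (quotient_bijective hB P hP).2 P' (by rw [h]; exact Ideal.mem_span_singleton_self _)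
    exact Ideal.mem_span_singleton.mp this
  have h2 : P' ∣ P := by
    have := (quotient_bijective hB P' hP').2 P (by rw [← h]; exact Ideal.mem_span_singleton_self _)
    exact Ideal.mem_span_singleton.mp this
  have hne : P ≠ 0 := hP.1.ne_zero
  have hne' : P' ≠ 0 := hP'.1.ne_zero
  have hd1 : P.natDegree ≤ P'.natDegree := by
    by_contra hlt
    exact hP.1.not_dvd_of_natDegree_lt hne' (not_le.mp hlt) h1
  have hd2 : P'.natDegree ≤ P.natDegree := by
    by_contra hlt
    exact hP'.1.not_dvd_of_natDegree_lt hne (not_le.mp hlt) h2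
  have hd : P.degree = P'.degree := by
    rw [Polynomial.degree_eq_natDegree hne, Polynomial.degree_eq_natDegree hne',
      le_antisymm hd1 hd2]
  by_contra hPP
  have h3 : P - P' ≠ 0 := sub_ne_zero.mpr hPP
  have h4 : (P - P').degree < P.degree :=
    Polynomial.degree_sub_lt_left hd hne (by rw [hP.1.leadingCoeff, hP'.1.leadingCoeff])
  exact hP.1.not_dvd_of_degree_lt h3 h4 (dvd_sub dvd_rfl h1)

end WPrep

end Groth.Agent.H3
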