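import Groth.Agent.H3.EtNbhdImage
import Groth.Agent.H3.HensQuotient
import Groth.Agent.H3.PairIdemIntegral
import Groth.Agent.H3.HensRadical

/-!
# Auxiliary facts on henselizations of pairs

* the henselization of a henselian pair is the pair itself;
* a finite algebra over a henselian local ring is henselian along any ideal inside the radical
  of the extended maximal ideal;
* an element of an étale neighbourhood whose image lies in an extended ideal lies in that ideal
  after multiplication by an element congruent to one.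
-/

set_option autoImplicit false
universe u

namespace Groth.Agent.H3

namespace WPrep

open Hens2 IsLocalRing

theorem bijective_algebraMap_of_henselianRing {T Bq : Type u} [CommRing T] [CommRing Bq]
    [Algebra T Bq] {𝔞 : Ideal T} (hT : HenselianRing T 𝔞) (h : IsPairHenselization T 𝔞 Bq) :
    Function.Bijective (algebraMap T Bq) := by
  obtain ⟨g, hg, -⟩ := h.2 T 𝔞 (RingHom.id T) hT (by rw [Ideal.map_id])
  obtain ⟨g', -, huniq⟩ := h.2 Bq (𝔞.map (algebraMap T Bq)) (algebraMap T Bq) h.1 le_rfl
  have h1 : (algebraMap T Bq).comp g = g' := huniq _ (by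
    change ((algebraMap T Bq).comp g).comp (algebraMap T Bq) = algebraMap T Bq
    rw [RingHom.comp_assoc, hg, RingHom.comp_id])
  have h2 : RingHom.id Bq = g' := huniq _ (by
    change (RingHom.id Bq).comp (algebraMap T Bq) = algebraMap T Bq
    rw [RingHom.id_comp])
  have hg' : ∀ t, g (algebraMap T Bq t) = t := fun t => RingHom.congr_fun hg t
  refine ⟨fun a b hab => ?_, fun b => ⟨g b, ?_⟩⟩
  · rw [← hg' a, ← hg' b, hab]
  · exact RingHom.congr_fun (h1.trans h2.symm) b

theorem henselianRing_of_finite (R : Type u) [CommRing R] [HenselianLocalRing R]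
    (T : Type u) [CommRing T] [Algebra R T] [Module.Finite R T] (𝔞 : Ideal T)
    (h𝔞 : 𝔞 ≤ ((maximalIdeal R).map (algebraMap R T)).radical) : HenselianRing T 𝔞 := by
  have : Algebra.IsIntegral R T := Algebra.IsIntegral.of_finite R T
  have h0 : HenselianRing R (maximalIdeal R) := inferInstance
  exact henselianRing_of_le_radical (henselianRing_of_isIntegral h0 T) h𝔞

theorem exists_mul_mem {A : Type u} [CommRing A] {I : Ideal A} {B : Type u} [CommRing B]
    [Algebra A B] (hB : IsPairHenselization A I B) {C : Type u} [CommRing C] [Algebra A C]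
    (hN : EtNbhd.IsNbhd I C) [Algebra C B] [IsScalarTower A C B] (𝔞 : Ideal C) (z : C)
    (hz : algebraMap C B z ∈ 𝔞.map (algebraMap C B)) :
    ∃ k : C, k - 1 ∈ I.map (algebraMap A C) ∧ k * z ∈ 𝔞 := by
  have hB' := EtNbhd.isPairHenselization_nbhd hB hN
  have hq := HensQuotient.isPairHenselization_quotient hB' 𝔞
  have hs : (Algebra.ofId (C ⧸ 𝔞) (B ⧸ 𝔞.map (algebraMap C B))) (Ideal.Quotient.mk 𝔞 z) = 0 := by
    change algebraMap (C ⧸ 𝔞) (B ⧸ 𝔞.map (algebraMap C B)) (Ideal.Quotient.mk 𝔞 z) = 0
    rw [Ideal.Quotient.algebraMap_quotient_map_quotient, Ideal.Quotient.eq_zero_iff_mem]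
    exact hz
  obtain ⟨k, hk1, hk2⟩ := EtNbhd.exists_mul_eq_zero hq EtNbhd.IsNbhd.self _ _ hs
  obtain ⟨k, rfl⟩ := Ideal.Quotient.mk_surjective k
  rw [Algebra.algebraMap_self, Ideal.map_id, ← map_one (Ideal.Quotient.mk 𝔞), ← map_sub,
    Ideal.mem_map_iff_of_surjective _ Ideal.Quotient.mk_surjective] at hk1
  obtain ⟨i, hi, hik⟩ := hk1
  rw [Ideal.Quotient.eq] at hik
  rw [← map_mul, Ideal.Quotient.eq_zero_iff_mem] at hk2
  refine ⟨1 + i, by simpa using hi, ?_⟩
  have h1 : (1 + i) * z = k * z + (i - (k - 1)) * z := by ring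
  rw [h1]
  exact 𝔞.add_mem hk2 (𝔞.mul_mem_right _ hik)

end WPrep

end Groth.Agent.H3
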