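import Groth.Agent.H3.WPrepFibre
import Groth.Agent.H3.WPrepSelf
import Groth.Agent.H3.HenselQF

/-!
# The quasi-finite step of the henselian Weierstrass preparation theorem
-/

set_option autoImplicit false
universe u

namespace Groth.Agent.H3

namespace WPrep

open Hens2 Polynomial IsLocalRing

variable {R : Type u} [CommRing R] [HenselianLocalRing R] {B : Type u} [CommRing B] [Algebra R B]
  [Algebra R[X] B] [IsScalarTower R R[X] B]
variable {E : Type u} [CommRing E] [Algebra R[X] E] [Algebra R E] [IsScalarTower R R[X] E]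
  [Algebra E B] [IsScalarTower R[X] E B]

omit [HenselianLocalRing R] in
theorem isScalarTower_REB : IsScalarTower R E B :=
  IsScalarTower.of_algebraMap_eq fun r => by
    rw [IsScalarTower.algebraMap_apply R R[X] B, IsScalarTower.algebraMap_apply R[X] E B,
      ← IsScalarTower.algebraMap_apply R R[X] E]

/-- the image of `X` in a neighbourhood -/
noncomputable abbrev xE (R : Type u) [CommRing R] (E : Type u) [CommRing E] [Algebra R[X] E] : E :=
  algebraMap R[X] E X

omit [HenselianLocalRing R] in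
theorem exists_sub_mem_span_xE (hN : EtNbhd.IsNbhd (IX R) E) (y : E) :
    ∃ r : R, y - algebraMap R E r ∈ Ideal.span {xE R E} := by
  obtain ⟨a, ha⟩ := hN.surj y
  rw [Ideal.map_span, Set.image_singleton] at ha
  refine ⟨a.coeff 0, ?_⟩
  have h1 : algebraMap R[X] E a - algebraMap R E (a.coeff 0) ∈ Ideal.span {xE R E} := by
    rw [IsScalarTower.algebraMap_apply R R[X] E, ← map_sub, Polynomial.algebraMap_eq]
    have h2 : a - C (a.coeff 0) ∈ IX R := by
      rw [mem_IX_iff]
      simp
    have h3 := Ideal.mem_map_of_mem (algebraMap R[X] E) h2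
    rwa [Ideal.map_span, Set.image_singleton] at h3
  have : y - algebraMap R E (a.coeff 0) =
      (y - algebraMap R[X] E a) + (algebraMap R[X] E a - algebraMap R E (a.coeff 0)) := by ring
  rw [this]
  exact Ideal.add_mem _ ha h1


theorem exists_idem (hB : IsPairHenselization R[X] (IX R) B) [IsLocalRing B]
    (hN : EtNbhd.IsNbhd (IX R) E) (n : ℕ) (c k : E)
    (hf : algebraMap E B c ∈ maximalIdeal B)
    (hk1 : k - 1 ∈ (IX R).map (algebraMap R[X] E))
    (hk2 : k * xE R E ^ n ∈ Ideal.span {c} ⊔ (maximalIdeal R).map (algebraMap R E)) :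
    ∃ e₀ : E, algebraMap E B (1 - e₀) ∈ Ideal.span {algebraMap E B c} ∧
      Module.Finite R (E ⧸ (Ideal.span {c} ⊔ Ideal.span {1 - e₀})) ∧
      Ideal.Quotient.mk (Ideal.span {c} ⊔ Ideal.span {1 - e₀}) (xE R E) ∈
        ((maximalIdeal R).map
          (algebraMap R (E ⧸ (Ideal.span {c} ⊔ Ideal.span {1 - e₀})))).radical := by
  classical
  have hREB : IsScalarTower R E B := isScalarTower_REB
  have hxB : algebraMap E B (xE R E) = xB R B := by
    rw [← IsScalarTower.algebraMap_apply]
  -- finite type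
  have hft : Algebra.FiniteType R (E ⧸ Ideal.span {c}) := by
    have := hN.etale
    have h2 : Algebra.FiniteType R E :=
      Algebra.FiniteType.trans (inferInstance : Algebra.FiniteType R R[X]) inferInstance
    exact Algebra.FiniteType.of_surjective (Ideal.Quotient.mkₐ R (Ideal.span {c}))
      Ideal.Quotient.mk_surjective
  -- the point
  let ρ : E ⧸ Ideal.span {c} →+* ResidueField B :=
    Ideal.Quotient.lift (Ideal.span {c}) ((residue B).comp (algebraMap E B)) (by
      intro a ha
      obtain ⟨y, rfl⟩ := Ideal.mem_span_singleton'.mp ha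
      rw [RingHom.comp_apply, map_mul, map_mul, (residue_eq_zero_iff _).mpr hf, mul_zero])
  have hρmk : ∀ y : E, ρ (Ideal.Quotient.mk _ y) = residue B (algebraMap E B y) := fun y => rfl
  have hQ'prime : (RingHom.ker ρ).IsPrime := RingHom.ker_isPrime ρ
  have hmemQ' : ∀ y : E, Ideal.Quotient.mk _ y ∈ RingHom.ker ρ ↔
      algebraMap E B y ∈ maximalIdeal B := by
    intro y
    rw [RingHom.mem_ker, hρmk, residue_eq_zero_iff]
  have hover : (RingHom.ker ρ).comap (algebraMap R (E ⧸ Ideal.span {c})) = maximalIdeal R := by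
    ext r
    rw [Ideal.mem_comap, IsScalarTower.algebraMap_apply R E (E ⧸ Ideal.span {c}),
      Ideal.Quotient.algebraMap_eq, hmemQ', ← IsScalarTower.algebraMap_apply R E B,
      mem_maximalIdeal_iff hB, eps_algebraMap']
  have hXQ' : Ideal.Quotient.mk (Ideal.span {c}) (xE R E) ∈ RingHom.ker ρ := by
    rw [hmemQ', hxB]
    exact xB_mem_maximalIdeal hB
  have hkQ' : Ideal.Quotient.mk (Ideal.span {c}) k ∉ RingHom.ker ρ := by
    rw [hmemQ']
    intro hk
    have h1 : algebraMap E B (k - 1) ∈ maximalIdeal B := by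
      have h2 := Ideal.mem_map_of_mem (algebraMap E B) hk1
      rw [Ideal.map_map, ← IsScalarTower.algebraMap_eq, map_IX] at h2
      exact (Ideal.span_le.mpr (Set.singleton_subset_iff.mpr (xB_mem_maximalIdeal hB))) h2
    have h3 := (maximalIdeal B).sub_mem hk h1
    rw [← map_sub, sub_sub_cancel, map_one] at h3
    exact (maximalIdeal.isMaximal B).ne_top ((Ideal.eq_top_iff_one _).mpr h3)
  -- determination of primes over the closed point containing X
  have hiff : ∀ p₁ : Ideal (E ⧸ Ideal.span {c}),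
      p₁.comap (algebraMap R (E ⧸ Ideal.span {c})) = maximalIdeal R →
      Ideal.Quotient.mk (Ideal.span {c}) (xE R E) ∈ p₁ → ∀ (y : E) (r : R),
      y - algebraMap R E r ∈ Ideal.span {xE R E} →
      (Ideal.Quotient.mk (Ideal.span {c}) y ∈ p₁ ↔ r ∈ maximalIdeal R) := by
    intro p₁ hover₁ hX₁ y r hyr
    have h1 : Ideal.Quotient.mk (Ideal.span {c}) (y - algebraMap R E r) ∈ p₁ := by
      obtain ⟨z, hz⟩ := Ideal.mem_span_singleton'.mp hyr
      rw [← hz, map_mul]
      exact p₁.mul_mem_left _ hX₁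
    have h2 : Ideal.Quotient.mk (Ideal.span {c}) (algebraMap R E r) ∈ p₁ ↔
        r ∈ maximalIdeal R := by
      rw [← hover₁, Ideal.mem_comap, IsScalarTower.algebraMap_apply R E (E ⧸ Ideal.span {c}),
        Ideal.Quotient.algebraMap_eq]
    rw [← h2]
    constructor
    · intro hy
      have := p₁.sub_mem hy h1
      rwa [← map_sub, sub_sub_cancel] at this
    · intro hr
      have := p₁.add_mem hr h1
      rwa [← map_add, add_sub_cancel] at this
  have hU : ∀ p₁ : Ideal (E ⧸ Ideal.span {c}),
      p₁.comap (algebraMap R (E ⧸ Ideal.span {c})) = maximalIdeal R →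
      Ideal.Quotient.mk (Ideal.span {c}) (xE R E) ∈ p₁ → p₁ = RingHom.ker ρ := by
    intro p₁ hover₁ hX₁
    ext y
    obtain ⟨y, rfl⟩ := Ideal.Quotient.mk_surjective y
    obtain ⟨r, hr⟩ := exists_sub_mem_span_xE hN y
    rw [hiff p₁ hover₁ hX₁ y r hr, hiff _ hover hXQ' y r hr]
  -- quasi-finiteness at the point
  let q : PrimeSpectrum (E ⧸ Ideal.span {c}) := ⟨RingHom.ker ρ, hQ'prime⟩
  have hopen : IsOpen (X := PrimeSpectrum.comap (algebraMap R (E ⧸ Ideal.span {c})) ⁻¹'
      {q.comap (algebraMap R (E ⧸ Ideal.span {c}))}) {⟨q, rfl⟩} := by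
    rw [isOpen_induced_iff]
    refine ⟨PrimeSpectrum.basicOpen (Ideal.Quotient.mk (Ideal.span {c}) k),
      (PrimeSpectrum.basicOpen _).isOpen, ?_⟩
    ext ⟨p', hp'⟩
    simp only [Set.mem_preimage, Set.mem_singleton_iff, Subtype.mk.injEq, SetLike.mem_coe,
      PrimeSpectrum.mem_basicOpen]
    constructor
    · intro hk'
      have hover' : p'.asIdeal.comap (algebraMap R (E ⧸ Ideal.span {c})) = maximalIdeal R := by
        have h1 := congrArg PrimeSpectrum.asIdeal hp'
        simp only [PrimeSpectrum.comap_asIdeal] at h1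
        rw [h1]
        exact hover
      have hX' : Ideal.Quotient.mk (Ideal.span {c}) (xE R E) ∈ p'.asIdeal := by
        have h1 : Ideal.Quotient.mk (Ideal.span {c}) k *
            Ideal.Quotient.mk (Ideal.span {c}) (xE R E) ^ n ∈ p'.asIdeal := by
          rw [← map_pow, ← map_mul]
          obtain ⟨a, ha, μ, hμ, hsum⟩ := Submodule.mem_sup.mp hk2
          rw [← hsum, map_add, Ideal.Quotient.eq_zero_iff_mem.mpr ha, zero_add]
          have hle : (maximalIdeal R).map (algebraMap R E) ≤
              p'.asIdeal.comap (Ideal.Quotient.mk (Ideal.span {c})) := by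
            rw [Ideal.map_le_iff_le_comap]
            intro r hr
            rw [Ideal.mem_comap, Ideal.mem_comap]
            have h2 : r ∈ p'.asIdeal.comap (algebraMap R (E ⧸ Ideal.span {c})) := by
              rw [hover']; exact hr
            rw [Ideal.mem_comap, IsScalarTower.algebraMap_apply R E (E ⧸ Ideal.span {c}),
              Ideal.Quotient.algebraMap_eq] at h2
            exact h2
          exact hle hμ
        rcases p'.isPrime.mem_or_mem h1 with h | h
        · exact absurd h hk'
        · exact p'.isPrime.mem_of_pow_mem _ h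
      exact PrimeSpectrum.ext (hU _ hover' hX')
    · intro h
      rw [h]
      exact hkQ'
  haveI : (RingHom.ker ρ).LiesOver (maximalIdeal R) := ⟨hover.symm⟩
  haveI : Algebra.QuasiFiniteAt R (RingHom.ker ρ) :=
    Algebra.QuasiFiniteAt.of_isOpen_singleton_fiber q hopen
  obtain ⟨e, he, heQ, hfin, huniq⟩ :=
    exists_idempotent_of_quasiFiniteAt R (E ⧸ Ideal.span {c}) (RingHom.ker ρ)
  obtain ⟨e₀, rfl⟩ := Ideal.Quotient.mk_surjective e
  refine ⟨e₀, ?_, ?_, ?_⟩
  · -- the idempotent becomes one modulo `f`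
    have h1 : e₀ * e₀ - e₀ ∈ Ideal.span {c} := by
      rw [← Ideal.Quotient.eq, map_mul]
      exact he.eq
    have h2 : algebraMap E B e₀ * (algebraMap E B e₀ - 1) ∈ Ideal.span {algebraMap E B c} := by
      have h3 := Ideal.mem_map_of_mem (algebraMap E B) h1
      rw [Ideal.map_span, Set.image_singleton, map_sub, map_mul] at h3
      have : algebraMap E B e₀ * (algebraMap E B e₀ - 1) =
          algebraMap E B e₀ * algebraMap E B e₀ - algebraMap E B e₀ := by ring
      rw [this]
      exact h3
    have hu : IsUnit (algebraMap E B e₀) := by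
      rw [hmemQ'] at heQ
      exact IsLocalRing.notMem_maximalIdeal.mp heQ
    obtain ⟨u, hu⟩ := hu
    have h4 : algebraMap E B (1 - e₀) =
        -(↑u⁻¹ : B) * (algebraMap E B e₀ * (algebraMap E B e₀ - 1)) := by
      rw [← hu, ← mul_assoc, neg_mul, Units.inv_mul, map_sub, map_one, hu]
      ring
    rw [h4]
    exact Ideal.mul_mem_left _ _ h2
  · -- finiteness
    have hJ : Ideal.span {1 - Ideal.Quotient.mk (Ideal.span {c}) e₀} =
        (Ideal.span {1 - e₀}).map (Ideal.Quotient.mkₐ R (Ideal.span {c})) := by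
      rw [Ideal.map_span, Set.image_singleton]
      simp
    let e1 := Ideal.quotientEquivAlgOfEq R hJ
    let e2 := DoubleQuot.quotQuotEquivQuotSupₐ R (Ideal.span {c}) (Ideal.span {1 - e₀})
    exact Module.Finite.equiv (e1.trans e2).toLinearEquiv
  · -- `X` lies in the radical of the extended maximal ideal
    rw [Ideal.radical_eq_sInf, Ideal.mem_sInf]
    rintro 𝔮 ⟨h𝔮, h𝔮p⟩
    let π : E ⧸ Ideal.span {c} →+* E ⧸ (Ideal.span {c} ⊔ Ideal.span {1 - e₀}) :=
      Ideal.Quotient.factor le_sup_left
    have hπ : ∀ y : E, π (Ideal.Quotient.mk _ y) = Ideal.Quotient.mk _ y := fun y => rfl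
    have hp'prime : (𝔮.comap π).IsPrime := Ideal.comap_isPrime π 𝔮
    have he' : Ideal.Quotient.mk (Ideal.span {c}) e₀ ∉ 𝔮.comap π := by
      intro hmem
      rw [Ideal.mem_comap, hπ] at hmem
      have h0 : Ideal.Quotient.mk (Ideal.span {c} ⊔ Ideal.span {1 - e₀}) (1 - e₀) = 0 :=
        Ideal.Quotient.eq_zero_iff_mem.mpr
          (Ideal.mem_sup_right (Ideal.mem_span_singleton_self _))
      have h1 : (1 : E ⧸ (Ideal.span {c} ⊔ Ideal.span {1 - e₀})) ∈ 𝔮 := by
        have : (1 : E ⧸ (Ideal.span {c} ⊔ Ideal.span {1 - e₀})) =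
            Ideal.Quotient.mk _ (1 - e₀) + Ideal.Quotient.mk _ e₀ := by
          rw [← map_add, sub_add_cancel, map_one]
        rw [this, h0, zero_add]
        exact hmem
      exact h𝔮p.ne_top ((Ideal.eq_top_iff_one _).mpr h1)
    have hle : maximalIdeal R ≤ (𝔮.comap π).comap (algebraMap R (E ⧸ Ideal.span {c})) := by
      intro r hr
      rw [Ideal.mem_comap, Ideal.mem_comap, IsScalarTower.algebraMap_apply R E (E ⧸ Ideal.span {c}),
        Ideal.Quotient.algebraMap_eq, hπ]
      apply h𝔮
      have := Ideal.mem_map_of_mem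
        (algebraMap R (E ⧸ (Ideal.span {c} ⊔ Ideal.span {1 - e₀}))) hr
      rwa [IsScalarTower.algebraMap_apply R E (E ⧸ (Ideal.span {c} ⊔ Ideal.span {1 - e₀})),
        Ideal.Quotient.algebraMap_eq] at this
    have hover' : (𝔮.comap π).comap (algebraMap R (E ⧸ Ideal.span {c})) = maximalIdeal R :=
      ((maximalIdeal.isMaximal R).eq_of_le (Ideal.comap_ne_top _ hp'prime.ne_top) hle).symm
    have h3 := huniq (𝔮.comap π) hp'prime ⟨hover'.symm⟩ he'
    have h4 : Ideal.Quotient.mk (Ideal.span {c}) (xE R E) ∈ 𝔮.comap π := by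
      rw [h3]; exact hXQ'
    rw [Ideal.mem_comap, hπ] at h4
    exact h4

end WPrep

end Groth.Agent.H3
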