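/-
helper3 — spectral compactness used for the weak relative Noether normalisation:
a cover of a spectral space by sets open in the constructible topology has a finite subcover,
and `V(T) ∩ D(f)` (finite `T`) is open in the constructible topology of a prime spectrum.
-/
import Mathlib

set_option autoImplicit false

open Topology

namespace Groth.Agent.H3.WeakNN

theorem exists_finset_iUnion_eq_univ_of_constructible {X : Type*} [TopologicalSpace X]
    [CompactSpace X] [QuasiSober X] [PrespectralSpace X] [QuasiSeparatedSpace X]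
    {ι : Type*} (Z : ι → Set X) (hZ : ∀ i, IsOpen[constructibleTopology X] (Z i))
    (hcov : ⋃ i, Z i = Set.univ) : ∃ s : Finset ι, ⋃ i ∈ s, Z i = Set.univ := by
  let Y := WithConstructibleTopology X
  let Z' : ι → Set Y := fun i => WithTopology.ofTopology ⁻¹' (Z i)
  have hopen : ∀ i, IsOpen (Z' i) := fun i => by
    rw [WithConstructibleTopology.isOpen_iff]
    exact hZ i
  have hcov' : (Set.univ : Set Y) ⊆ ⋃ i, Z' i := by
    intro y _
    have : WithTopology.ofTopology y ∈ ⋃ i, Z i := by rw [hcov]; exact Set.mem_univ _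
    obtain ⟨i, hi⟩ := Set.mem_iUnion.mp this
    exact Set.mem_iUnion.mpr ⟨i, hi⟩
  obtain ⟨s, hs⟩ := isCompact_univ.elim_finite_subcover Z' hopen hcov'
  refine ⟨s, Set.eq_univ_iff_forall.mpr fun x => ?_⟩
  have := hs (Set.mem_univ (WithTopology.toTopology _ x))
  simp only [Set.mem_iUnion] at this ⊢
  obtain ⟨i, his, hi⟩ := this
  exact ⟨i, his, hi⟩


theorem isOpen_constructible_zeroLocus_inter_basicOpen {R : Type*} [CommRing R]
    (T : Finset R) (f : R) :
    IsOpen[constructibleTopology (PrimeSpectrum R)]
      (PrimeSpectrum.zeroLocus (T : Set R) ∩ (PrimeSpectrum.basicOpen f : Set (PrimeSpectrum R))) := by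
  refine @IsOpen.inter _ (constructibleTopology (PrimeSpectrum R)) _ _ ?_ ?_
  · apply IsCompact.isOpen_constructibleTopology_of_isClosed _ (PrimeSpectrum.isClosed_zeroLocus _)
    have : (PrimeSpectrum.zeroLocus (T : Set R))ᶜ =
        ⋃ a ∈ T, (PrimeSpectrum.basicOpen a : Set (PrimeSpectrum R)) := by
      ext x
      simp [PrimeSpectrum.mem_zeroLocus, Set.subset_def]
    rw [this]
    exact T.isCompact_biUnion fun a _ => PrimeSpectrum.isCompact_basicOpen a
  · exact (PrimeSpectrum.isCompact_basicOpen f).isOpen_constructibleTopology_of_isOpen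
      (PrimeSpectrum.basicOpen f).isOpen

end Groth.Agent.H3.WeakNN
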