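import Mathlib

/-!
# Nagata's substitution with a uniform exponent

`tau R n e c` is the `R`-algebra endomorphism of `R[X_0, …, X_n]` fixing `X_0` and sending `X_i` to
`X_i + c X_0 ^ (e ^ i)` for `i ≠ 0`. Over a field, it maps every nonzero polynomial all of whose
exponents are `< e` to a polynomial which, as a polynomial in `X_0`, has a unit leading coefficient
(`isUnit_leadingCoeff_finSuccEquiv_tau`). Consequently (`isIntegral_comp_rename_succ`): if a ring
homomorphism `θ` out of `k[X_0, …, X_n]` is integral and kills `tau … 1 F` for such an `F`, then the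
restriction of `θ` to `k[X_1, …, X_n]` is still integral.

Mathlib has this (privately) only for the exponent `e = 2 + totalDegree F`; here `e` is uniform.
-/

set_option autoImplicit false

open MvPolynomial

namespace Groth.Agent.H3.WeakNN

section Tau

variable (R : Type*) [CommRing R] (n e : ℕ)

/-- The substitution `X 0 ↦ X 0`, `X i ↦ X i + c * X 0 ^ (e ^ i)` for `i ≠ 0`. -/
noncomputable def tau (c : R) :
    MvPolynomial (Fin (n + 1)) R →ₐ[R] MvPolynomial (Fin (n + 1)) R :=
  aeval fun i => if i = 0 then X 0 else X i + C c * X 0 ^ (e ^ (i : ℕ))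

@[simp]
theorem tau_X_zero (c : R) : tau R n e c (X 0) = X 0 := by
  simp [tau]

@[simp]
theorem tau_X_succ (c : R) (i : Fin n) :
    tau R n e c (X i.succ) = X i.succ + C c * X 0 ^ (e ^ ((i : ℕ) + 1)) := by
  simp [tau, Fin.succ_ne_zero]

theorem tau_comp_tau_neg (c : R) : (tau R n e c).comp (tau R n e (-c)) = AlgHom.id _ _ := by
  apply MvPolynomial.algHom_ext
  intro i
  cases i using Fin.cases with
  | zero => simp
  | succ i => simp [map_neg]

theorem tau_tau_neg (c : R) (G : MvPolynomial (Fin (n + 1)) R) :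
    tau R n e c (tau R n e (-c) G) = G :=
  congrArg (fun f : MvPolynomial (Fin (n + 1)) R →ₐ[R] MvPolynomial (Fin (n + 1)) R => f G)
    (tau_comp_tau_neg R n e c)

theorem tau_neg_tau (c : R) (G : MvPolynomial (Fin (n + 1)) R) :
    tau R n e (-c) (tau R n e c G) = G := by
  have := tau_tau_neg R n e (-c) G
  rwa [neg_neg] at this

theorem tau_surjective (c : R) : Function.Surjective (tau R n e c) :=
  fun G => ⟨tau R n e (-c) G, tau_tau_neg R n e c G⟩

end Tau


section LC

variable {B : Type*} [CommRing B] [IsDomain B] {ι : Type*}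

/-- The leading coefficient of a combination of monic polynomials of pairwise distinct degrees with
unit coefficients is a unit. -/
theorem isUnit_leadingCoeff_sum_C_mul_monic (s : Finset ι) (hs : s.Nonempty) (c : ι → B)
    (M : ι → Polynomial B) (hc : ∀ v ∈ s, IsUnit (c v)) (hM : ∀ v ∈ s, (M v).Monic)
    (hinj : Set.InjOn (fun v => (M v).natDegree) (s : Set ι)) :
    IsUnit (∑ v ∈ s, Polynomial.C (c v) * M v).leadingCoeff := by
  classical
  obtain ⟨v, hv, hmax⟩ := Finset.exists_max_image s (fun v => (M v).natDegree) hs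
  have hne : ∀ w ∈ s, c w ≠ 0 := fun w hw => (hc w hw).ne_zero
  have hdeg : ∀ w ∈ s, (Polynomial.C (c w) * M w).degree = ((M w).natDegree : WithBot ℕ) := by
    intro w hw
    rw [Polynomial.degree_C_mul (hne w hw), Polynomial.degree_eq_natDegree (hM w hw).ne_zero]
  have hlt : (∑ w ∈ s.erase v, Polynomial.C (c w) * M w).degree <
      (Polynomial.C (c v) * M v).degree := by
    refine lt_of_le_of_lt (Polynomial.degree_sum_le _ _) ?_
    rw [Finset.sup_lt_iff]
    · intro w hw
      obtain ⟨hwv, hws⟩ := Finset.mem_erase.mp hw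
      rw [hdeg w hws, hdeg v hv]
      have h1 : (M w).natDegree ≤ (M v).natDegree := hmax w hws
      have h2 : (M w).natDegree ≠ (M v).natDegree := fun h => hwv (hinj hws hv h)
      exact_mod_cast lt_of_le_of_ne h1 h2
    · rw [hdeg v hv]
      exact WithBot.bot_lt_coe _
  rw [← Finset.add_sum_erase s _ hv, Polynomial.leadingCoeff_add_of_degree_lt' hlt,
    Polynomial.leadingCoeff_mul_monic (hM v hv), Polynomial.leadingCoeff_C]
  exact hc v hv

end LC


section Field

variable {κ : Type*} [Field κ] {n : ℕ} (e : ℕ)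

/-- the weight of an exponent vector -/
def wt (v : Fin (n + 1) →₀ ℕ) : ℕ := ∑ i : Fin (n + 1), e ^ (i : ℕ) * v i

theorem wt_injOn : Set.InjOn (wt (n := n) e) {v | ∀ i, v i < e} := by
  intro v hv w hw h
  by_cases he : 1 < e
  · refine Finsupp.ext <| congrFun <| List.ofFn_inj.mp ?_
    apply Nat.ofDigits_inj_of_len_eq he (by simp)
    · intro l hl
      obtain ⟨i, rfl⟩ := (List.mem_ofFn' _ _).mp hl
      exact hv i
    · intro l hl
      obtain ⟨i, rfl⟩ := (List.mem_ofFn' _ _).mp hl
      exact hw i
    · simpa only [Nat.ofDigits_eq_sum_mapIdx, List.mapIdx_eq_ofFn, List.get_ofFn, List.length_ofFn,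
        Fin.val_cast, mul_comm, List.sum_ofFn, wt, Fin.cast_cast, Fin.cast_eq_self] using h
  · ext i
    have h1 := hv i
    have h2 := hw i
    omega

/-- the monic polynomial in `X_0` attached to an exponent vector -/
noncomputable def mpoly (v : Fin (n + 1) →₀ ℕ) : Polynomial (MvPolynomial (Fin n) κ) :=
  Polynomial.X ^ v 0 * ∏ i : Fin n,
    (Polynomial.X ^ (e ^ ((i : ℕ) + 1)) + Polynomial.C (X i)) ^ v i.succ

theorem monic_mpoly (he : 0 < e) (v : Fin (n + 1) →₀ ℕ) : (mpoly (κ := κ) e v).Monic := by
  unfold mpoly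
  refine (Polynomial.monic_X_pow _).mul (Polynomial.monic_prod_of_monic _ _ fun i _ => ?_)
  exact (Polynomial.monic_X_pow_add_C _ (pow_pos he _).ne').pow _

theorem natDegree_mpoly (he : 0 < e) (v : Fin (n + 1) →₀ ℕ) :
    (mpoly (κ := κ) e v).natDegree = wt e v := by
  unfold mpoly wt
  rw [Polynomial.Monic.natDegree_mul (Polynomial.monic_X_pow _)
    (Polynomial.monic_prod_of_monic _ _ fun i _ =>
      (Polynomial.monic_X_pow_add_C _ (pow_pos he _).ne').pow _),
    Polynomial.natDegree_X_pow,
    Polynomial.natDegree_prod_of_monic _ _ (fun i _ =>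
      (Polynomial.monic_X_pow_add_C _ (pow_pos he _).ne').pow _),
    Fin.sum_univ_succ]
  simp only [Fin.val_zero, pow_zero, one_mul, Fin.val_succ]
  congr 1
  refine Finset.sum_congr rfl fun i _ => ?_
  rw [Polynomial.Monic.natDegree_pow (Polynomial.monic_X_pow_add_C _ (pow_pos he _).ne'),
    Polynomial.natDegree_X_pow_add_C, mul_comm]

theorem finSuccEquiv_tau_monomial (v : Fin (n + 1) →₀ ℕ) (a : κ) :
    finSuccEquiv κ n (tau κ n e 1 (monomial v a)) = Polynomial.C (C a) * mpoly e v := by
  rw [monomial_eq, Finsupp.prod_pow v fun a => X a]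
  simp only [map_mul, map_prod, map_pow, Fin.prod_univ_succ, tau_X_zero, tau_X_succ, map_add,
    map_one, one_mul, finSuccEquiv_X_zero, finSuccEquiv_X_succ, MvPolynomial.algHom_C,
    MvPolynomial.algebraMap_eq]
  unfold mpoly
  rw [show finSuccEquiv κ n (C a) = Polynomial.C (C a) from by
    rw [finSuccEquiv_apply]; simp]
  congr 2
  refine Finset.prod_congr rfl fun i _ => ?_
  rw [add_comm]

end Field


section Field

variable {κ : Type*} [Field κ] {n : ℕ} (e : ℕ)

/-- **Nagata's trick with a uniform exponent.** -/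
theorem isUnit_leadingCoeff_finSuccEquiv_tau (F : MvPolynomial (Fin (n + 1)) κ) (hF : F ≠ 0)
    (hdeg : ∀ v ∈ F.support, ∀ i, v i < e) :
    IsUnit (finSuccEquiv κ n (tau κ n e 1 F)).leadingCoeff := by
  have he : 0 < e := by
    obtain ⟨v, hv⟩ := MvPolynomial.support_nonempty.mpr hF
    exact lt_of_le_of_lt (Nat.zero_le _) (hdeg v hv 0)
  have hsum : finSuccEquiv κ n (tau κ n e 1 F) =
      ∑ v ∈ F.support, Polynomial.C (C (coeff v F)) * mpoly e v := by
    conv_lhs => rw [← F.support_sum_monomial_coeff]
    rw [map_sum, map_sum]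
    exact Finset.sum_congr rfl fun v _ => finSuccEquiv_tau_monomial e v _
  rw [hsum]
  refine isUnit_leadingCoeff_sum_C_mul_monic F.support (MvPolynomial.support_nonempty.mpr hF)
    (fun v => C (coeff v F)) (fun v => mpoly e v) ?_ (fun v _ => monic_mpoly e he v) ?_
  · intro v hv
    exact (MvPolynomial.mem_support_iff.mp hv).isUnit.map C
  · intro v hv w hw h
    simp only [natDegree_mpoly e he] at h
    exact wt_injOn e (hdeg v hv) (hdeg w hw) h

end Field


section Integral

variable {R : Type*} [CommRing R] {n : ℕ}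

/-- the inclusion of the last `n` variables -/
noncomputable abbrev inclSucc (R : Type*) [CommRing R] (n : ℕ) :
    MvPolynomial (Fin n) R →+* MvPolynomial (Fin (n + 1)) R :=
  (rename Fin.succ : MvPolynomial (Fin n) R →ₐ[R] MvPolynomial (Fin (n + 1)) R).toRingHom

theorem eval₂_finSuccEquiv {T : Type*} [CommRing T] (θ : MvPolynomial (Fin (n + 1)) R →+* T)
    (G : MvPolynomial (Fin (n + 1)) R) :
    Polynomial.eval₂ (θ.comp (inclSucc R n)) (θ (X 0)) (finSuccEquiv R n G) = θ G := by
  have h : ((Polynomial.eval₂RingHom (θ.comp (inclSucc R n)) (θ (X 0))).comp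
      (finSuccEquiv R n).toRingEquiv.toRingHom) = θ := by
    apply MvPolynomial.ringHom_ext
    · intro a
      have h1 : finSuccEquiv R n (C a) = Polynomial.C (C a) := by
        rw [finSuccEquiv_apply]; simp
      simp [h1, inclSucc]
    · intro i
      cases i using Fin.cases with
      | zero => simp [finSuccEquiv_X_zero]
      | succ j => simp [finSuccEquiv_X_succ, inclSucc]
  exact congrArg (fun f : MvPolynomial (Fin (n + 1)) R →+* T => f G) h

theorem isIntegralElem_of_isUnit_leadingCoeff {T : Type*} [CommRing T]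
    (θ : MvPolynomial (Fin (n + 1)) R →+* T)
    (F₁ : MvPolynomial (Fin (n + 1)) R) (hF₁ : θ F₁ = 0)
    (hu : IsUnit (finSuccEquiv R n F₁).leadingCoeff) (G : MvPolynomial (Fin (n + 1)) R) :
    (θ.comp (inclSucc R n)).IsIntegralElem (θ G) := by
  have h0 : (θ.comp (inclSucc R n)).IsIntegralElem (θ (X 0)) := by
    refine ⟨hu.unit⁻¹ • finSuccEquiv R n F₁,
      Polynomial.monic_of_isUnit_leadingCoeff_inv_smul hu, ?_⟩
    rw [Units.smul_def, Polynomial.eval₂_smul, eval₂_finSuccEquiv, hF₁, mul_zero]
  induction G using MvPolynomial.induction_on with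
  | C a =>
    have : θ (C a) = (θ.comp (inclSucc R n)) (C a) := by simp [inclSucc]
    rw [this]
    exact RingHom.isIntegralElem_map _
  | add p q hp hq =>
    rw [map_add]
    exact RingHom.IsIntegralElem.add _ hp hq
  | mul_X p i hp =>
    rw [map_mul]
    refine RingHom.IsIntegralElem.mul _ hp ?_
    cases i using Fin.cases with
    | zero => exact h0
    | succ j =>
      have : θ (X j.succ) = (θ.comp (inclSucc R n)) (X j) := by simp [inclSucc]
      rw [this]
      exact RingHom.isIntegralElem_map _

/-- If an integral ring homomorphism out of `R[X_0, …, X_n]` kills a polynomial with unit leading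
coefficient in `X_0`, then its restriction to `R[X_1, …, X_n]` is integral. -/
theorem isIntegral_comp_inclSucc {T : Type*} [CommRing T]
    (θ : MvPolynomial (Fin (n + 1)) R →+* T) (hθ : θ.IsIntegral)
    (F₁ : MvPolynomial (Fin (n + 1)) R) (hF₁ : θ F₁ = 0)
    (hu : IsUnit (finSuccEquiv R n F₁).leadingCoeff) :
    (θ.comp (inclSucc R n)).IsIntegral := by
  let q := Ideal.Quotient.mk (RingHom.ker θ)
  have hq : (q.comp (inclSucc R n)).IsIntegral := by
    intro y
    obtain ⟨G, rfl⟩ := Ideal.Quotient.mk_surjective y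
    exact isIntegralElem_of_isUnit_leadingCoeff q F₁
      (Ideal.Quotient.eq_zero_iff_mem.mpr hF₁) hu G
  have hfac : (RingHom.kerLift θ).comp q = θ := by
    ext G
    · simp [q]
    · simp [q]
  have hlift : (RingHom.kerLift θ).IsIntegral := by
    apply RingHom.IsIntegral.tower_top q
    rw [hfac]
    exact hθ
  have := RingHom.IsIntegral.trans _ _ hq hlift
  rwa [← RingHom.comp_assoc, hfac] at this

end Integral

end Groth.Agent.H3.WeakNN
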