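/-
helper3 — weak relative Noether normalisation (S1362).

For a finite type `R`-algebra `S` and `ψ : R[X_1..X_m] → S`, `theta p ψ : κ(p)[X_1..X_m] → κ(p) ⊗ S`
is the induced map on the fibre over `p`.  Main results:
* `exists_good_nhds` : a nonzero element of the kernel of `theta p ψ` lifts to a polynomial over `R`
  which stays a nonzero element of the kernel of `theta p' ψ` for `p'` in a neighbourhood of `p` in
  the constructible topology;
* `exists_step` : if all `theta p ψ` are integral and none is injective, one variable can be removed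
  (Nagata substitution with an exponent that is uniform on `Spec R` by compactness of the constructible
  topology);
* `quasiFinite_of_isIntegral_theta` : if all `theta p φ` are integral then `φ` is quasi-finite;
* `exists_quasiFinite_mvPolynomial` : if all fibres have dimension `≤ d` (sup `= d`) there is a
  quasi-finite `R[X_1..X_d] → S`.
-/
import Mathlib
import Groth.Agent.H3.WeakNNNagata
import Groth.Agent.H3.WeakNNCompact
import Groth.Agent.H54.Dim

set_option autoImplicit false

open MvPolynomial TensorProduct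

namespace Groth.Agent.H3.WeakNN

universe u

section Theta

variable {R S : Type u} [CommRing R] [CommRing S] [Algebra R S]

/-- the fibre over `p` of an algebra map out of a polynomial ring -/
noncomputable def theta (p : PrimeSpectrum R) {m : ℕ} (ψ : MvPolynomial (Fin m) R →ₐ[R] S) :
    MvPolynomial (Fin m) p.asIdeal.ResidueField →ₐ[p.asIdeal.ResidueField] p.asIdeal.Fiber S :=
  aeval fun i => (1 : p.asIdeal.ResidueField) ⊗ₜ[R] ψ (X i)

theorem theta_X (p : PrimeSpectrum R) {m : ℕ} (ψ : MvPolynomial (Fin m) R →ₐ[R] S) (i : Fin m) :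
    theta p ψ (X i) = (1 : p.asIdeal.ResidueField) ⊗ₜ[R] ψ (X i) := by
  simp [theta]

theorem theta_map (p : PrimeSpectrum R) {m : ℕ} (ψ : MvPolynomial (Fin m) R →ₐ[R] S)
    (G : MvPolynomial (Fin m) R) :
    theta p ψ (MvPolynomial.map (algebraMap R p.asIdeal.ResidueField) G) =
      (1 : p.asIdeal.ResidueField) ⊗ₜ[R] ψ G := by
  have h : ((theta p ψ).toRingHom.comp (MvPolynomial.map (algebraMap R p.asIdeal.ResidueField))) =
      (Algebra.TensorProduct.includeRight (R := R) (A := p.asIdeal.ResidueField)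
        (B := S)).toRingHom.comp ψ.toRingHom := by
    apply MvPolynomial.ringHom_ext
    · intro r
      simp only [AlgHom.toRingHom_eq_coe, RingHom.coe_comp, RingHom.coe_coe, Function.comp_apply,
        MvPolynomial.map_C, MvPolynomial.algHom_C, Algebra.TensorProduct.includeRight_apply]
      rw [Algebra.TensorProduct.algebraMap_apply, Algebra.algebraMap_eq_smul_one (A := S),
        TensorProduct.tmul_smul, TensorProduct.smul_tmul', ← Algebra.algebraMap_eq_smul_one]
      rfl
    · intro i
      simp [theta]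
  exact DFunLike.congr_fun h G

/-- clearing denominators of an element of the residue field -/
theorem exists_algebraMap_mul_eq (p : PrimeSpectrum R) (a : p.asIdeal.ResidueField) :
    ∃ s ∉ p.asIdeal, ∃ r : R, algebraMap R p.asIdeal.ResidueField s * a =
      algebraMap R p.asIdeal.ResidueField r := by
  obtain ⟨t, rfl⟩ := IsLocalRing.residue_surjective a
  obtain ⟨⟨y, s⟩, rfl⟩ := IsLocalization.mk'_surjective p.asIdeal.primeCompl t
  refine ⟨s.1, s.2, y, ?_⟩
  rw [IsScalarTower.algebraMap_apply R (Localization.AtPrime p.asIdeal) p.asIdeal.ResidueField,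
    IsScalarTower.algebraMap_apply R (Localization.AtPrime p.asIdeal) p.asIdeal.ResidueField,
    IsLocalRing.ResidueField.algebraMap_eq, ← map_mul, IsLocalization.mk'_spec']

/-- clearing denominators of a polynomial over the residue field -/
theorem exists_map_eq_C_mul (p : PrimeSpectrum R) {m : ℕ}
    (F : MvPolynomial (Fin m) p.asIdeal.ResidueField) :
    ∃ s ∉ p.asIdeal, ∃ G : MvPolynomial (Fin m) R,
      MvPolynomial.map (algebraMap R p.asIdeal.ResidueField) G =
        C (algebraMap R p.asIdeal.ResidueField s) * F := by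
  induction F using MvPolynomial.induction_on with
  | C a =>
    obtain ⟨s, hs, r, h⟩ := exists_algebraMap_mul_eq p a
    exact ⟨s, hs, C r, by rw [MvPolynomial.map_C, ← h, C_mul]⟩
  | add F₁ F₂ h₁ h₂ =>
    obtain ⟨s₁, hs₁, G₁, h₁⟩ := h₁
    obtain ⟨s₂, hs₂, G₂, h₂⟩ := h₂
    refine ⟨s₁ * s₂, p.asIdeal.primeCompl.mul_mem hs₁ hs₂, C s₂ * G₁ + C s₁ * G₂, ?_⟩
    simp only [map_add, map_mul, MvPolynomial.map_C, h₁, h₂]
    ring
  | mul_X F i h =>
    obtain ⟨s, hs, G, h⟩ := h
    exact ⟨s, hs, G * X i, by rw [map_mul, MvPolynomial.map_X, h, mul_assoc]⟩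

/-- if `1 ⊗ s` vanishes in the fibre over `p` then a multiple of `s` by an element outside `p`
lies in `p S`. -/
theorem exists_mul_mem_of_one_tmul_eq_zero (p : PrimeSpectrum R) (s : S)
    (h : (1 : p.asIdeal.ResidueField) ⊗ₜ[R] s = 0) :
    ∃ t ∉ p.asIdeal, algebraMap R S t * s ∈ p.asIdeal.map (algebraMap R S) := by
  let _ : Algebra S (p.asIdeal.Fiber S) := Algebra.TensorProduct.rightAlgebra
  let e := Ideal.Fiber.algEquivAux₁ (S := S) p.asIdeal
  have h1 : e (algebraMap S (p.asIdeal.Fiber S) s) = 0 := by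
    rw [show algebraMap S (p.asIdeal.Fiber S) s = (1 : p.asIdeal.ResidueField) ⊗ₜ[R] s from rfl, h,
      map_zero]
  rw [e.commutes, IsScalarTower.algebraMap_apply S
    (Localization (Algebra.algebraMapSubmonoid S p.asIdeal.primeCompl)), Ideal.Quotient.algebraMap_eq,
    Ideal.Quotient.eq_zero_iff_mem,
    IsLocalization.mem_map_algebraMap_iff (Algebra.algebraMapSubmonoid S p.asIdeal.primeCompl)] at h1
  obtain ⟨⟨a, m⟩, ham⟩ := h1
  rw [← map_mul, IsLocalization.eq_iff_exists (Algebra.algebraMapSubmonoid S p.asIdeal.primeCompl)]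
    at ham
  obtain ⟨c, hc⟩ := ham
  obtain ⟨t, ht, htm⟩ := (c * m).2
  refine ⟨t, ht, ?_⟩
  rw [htm]
  have : ((c * m : Algebra.algebraMapSubmonoid S p.asIdeal.primeCompl) : S) * s = c * a := by
    rw [Submonoid.coe_mul, mul_assoc, mul_comm (m : S) s]; exact hc
  rw [this]
  exact Ideal.mul_mem_left _ _ a.2

/-- conversely, over a prime `p'` containing `T` and not containing `t`, if `t s` lies in the ideal
generated by `T` then `1 ⊗ s` vanishes in the fibre over `p'`. -/
theorem one_tmul_eq_zero_of_mul_mem (p' : PrimeSpectrum R) (s : S) (t : R)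
    (ht : t ∉ p'.asIdeal) (T : Set R) (hT : T ⊆ p'.asIdeal)
    (h : algebraMap R S t * s ∈ Ideal.span (algebraMap R S '' T)) :
    (1 : p'.asIdeal.ResidueField) ⊗ₜ[R] s = 0 := by
  let ι : S →+* p'.asIdeal.Fiber S :=
    (Algebra.TensorProduct.includeRight (R := R) (A := p'.asIdeal.ResidueField) (B := S)).toRingHom
  have hle : Ideal.span (algebraMap R S '' T) ≤ RingHom.ker ι := by
    rw [Ideal.span_le]
    rintro _ ⟨x, hx, rfl⟩
    change (1 : p'.asIdeal.ResidueField) ⊗ₜ[R] (algebraMap R S x) = 0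
    rw [Algebra.algebraMap_eq_smul_one, TensorProduct.tmul_smul, TensorProduct.smul_tmul',
      ← Algebra.algebraMap_eq_smul_one, (Ideal.algebraMap_residueField_eq_zero).mpr (hT hx),
      TensorProduct.zero_tmul]
  have h0 : (1 : p'.asIdeal.ResidueField) ⊗ₜ[R] (algebraMap R S t * s) = 0 := hle h
  rw [← Algebra.smul_def, TensorProduct.tmul_smul, ← algebraMap_smul p'.asIdeal.ResidueField] at h0
  rcases smul_eq_zero.mp h0 with h1 | h1
  · exact absurd ((Ideal.algebraMap_residueField_eq_zero).mp h1) ht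
  · exact h1

end Theta

section Step

open Topology

variable {R S : Type u} [CommRing R] [CommRing S] [Algebra R S]

/-- `G` witnesses that `theta p' ψ` is not injective. -/
def Good {m : ℕ} (ψ : MvPolynomial (Fin m) R →ₐ[R] S) (G : MvPolynomial (Fin m) R)
    (p' : PrimeSpectrum R) : Prop :=
  MvPolynomial.map (algebraMap R p'.asIdeal.ResidueField) G ≠ 0 ∧
    (1 : p'.asIdeal.ResidueField) ⊗ₜ[R] ψ G = 0

theorem theta_surjective (p : PrimeSpectrum R) {m : ℕ} (ψ : MvPolynomial (Fin m) R →ₐ[R] S)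
    (hψ : Function.Surjective ψ) : Function.Surjective (theta p ψ) := by
  intro z
  induction z using TensorProduct.induction_on with
  | zero => exact ⟨0, map_zero _⟩
  | tmul a s =>
    obtain ⟨G, rfl⟩ := hψ s
    refine ⟨C a * MvPolynomial.map (algebraMap R p.asIdeal.ResidueField) G, ?_⟩
    rw [map_mul, theta_map, ← MvPolynomial.algebraMap_eq, AlgHom.commutes,
      Algebra.TensorProduct.algebraMap_apply, Algebra.TensorProduct.tmul_mul_tmul]
    simp
  | add x y hx hy =>
    obtain ⟨a, rfl⟩ := hx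
    obtain ⟨b, rfl⟩ := hy
    exact ⟨a + b, map_add _ _ _⟩

/-- a witness of non-injectivity at `p` spreads to a neighbourhood of `p` in the constructible
topology. -/
theorem exists_good_nhds {m : ℕ} (ψ : MvPolynomial (Fin m) R →ₐ[R] S) (p : PrimeSpectrum R)
    (hni : ¬ Function.Injective (theta p ψ)) :
    ∃ G : MvPolynomial (Fin m) R, ∃ Z : Set (PrimeSpectrum R),
      IsOpen[constructibleTopology (PrimeSpectrum R)] Z ∧ p ∈ Z ∧ ∀ p' ∈ Z, Good ψ G p' := by
  classical
  rw [injective_iff_map_eq_zero] at hni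
  push Not at hni
  obtain ⟨F, hF0, hF⟩ := hni
  obtain ⟨s, hs, G, hG⟩ := exists_map_eq_C_mul p F
  have hs0 : algebraMap R p.asIdeal.ResidueField s ≠ 0 := fun h =>
    hs ((Ideal.algebraMap_residueField_eq_zero).mp h)
  have hG0 : MvPolynomial.map (algebraMap R p.asIdeal.ResidueField) G ≠ 0 := by
    rw [hG]
    exact mul_ne_zero ((map_ne_zero_iff _ (MvPolynomial.C_injective _ _)).mpr hs0) hF
  have hker : (1 : p.asIdeal.ResidueField) ⊗ₜ[R] ψ G = 0 := by
    rw [← theta_map, hG, map_mul, hF0, mul_zero]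
  obtain ⟨v, hv⟩ := MvPolynomial.ne_zero_iff.mp hG0
  rw [MvPolynomial.coeff_map] at hv
  have hc : coeff v G ∉ p.asIdeal := fun h => hv ((Ideal.algebraMap_residueField_eq_zero).mpr h)
  obtain ⟨t, ht, hmem⟩ := exists_mul_mem_of_one_tmul_eq_zero p (ψ G) hker
  obtain ⟨T, hTsub, hT⟩ := Submodule.mem_span_finite_of_mem_span hmem
  obtain ⟨T₀, hT₀sub, rfl⟩ := Finset.subset_set_image_iff.mp hTsub
  refine ⟨G, PrimeSpectrum.zeroLocus (T₀ : Set R) ∩
    (PrimeSpectrum.basicOpen (t * coeff v G) : Set (PrimeSpectrum R)),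
    isOpen_constructible_zeroLocus_inter_basicOpen T₀ _, ⟨?_, ?_⟩, ?_⟩
  · exact (PrimeSpectrum.mem_zeroLocus _ _).mpr hT₀sub
  · exact fun h => (p.2.mem_or_mem h).elim ht hc
  · rintro p' ⟨h1, h2⟩
    have h2' : t * coeff v G ∉ p'.asIdeal := h2
    have ht' : t ∉ p'.asIdeal := fun h => h2' (Ideal.mul_mem_right _ _ h)
    have hc' : coeff v G ∉ p'.asIdeal := fun h => h2' (Ideal.mul_mem_left _ _ h)
    refine ⟨?_, ?_⟩
    · refine MvPolynomial.ne_zero_iff.mpr ⟨v, ?_⟩
      rw [MvPolynomial.coeff_map]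
      exact fun h => hc' ((Ideal.algebraMap_residueField_eq_zero).mp h)
    · refine one_tmul_eq_zero_of_mul_mem p' (ψ G) t ht' (T₀ : Set R)
        ((PrimeSpectrum.mem_zeroLocus _ _).mp h1) ?_
      rw [Finset.coe_image] at hT
      exact hT

/-- **The induction step**: one variable can be removed as long as no fibre map is injective. -/
theorem exists_step {k : ℕ} (ψ : MvPolynomial (Fin (k + 1)) R →ₐ[R] S)
    (hint : ∀ p : PrimeSpectrum R, (theta p ψ).toRingHom.IsIntegral)
    (hni : ∀ p : PrimeSpectrum R, ¬ Function.Injective (theta p ψ)) :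
    ∃ ψ' : MvPolynomial (Fin k) R →ₐ[R] S,
      ∀ p : PrimeSpectrum R, (theta p ψ').toRingHom.IsIntegral := by
  classical
  choose G Z hZo hpZ hgood using fun p => exists_good_nhds ψ p (hni p)
  obtain ⟨s, hs⟩ := exists_finset_iUnion_eq_univ_of_constructible Z hZo
    (Set.eq_univ_iff_forall.mpr fun p => Set.mem_iUnion.mpr ⟨p, hpZ p⟩)
  let e : ℕ := 1 + s.sup fun p => (G p).totalDegree
  let ψ' : MvPolynomial (Fin k) R →ₐ[R] S :=
    (ψ.comp (tau R k e (-1))).comp (rename Fin.succ)
  refine ⟨ψ', fun p' => ?_⟩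
  obtain ⟨p, hps, hp'⟩ : ∃ p ∈ s, p' ∈ Z p := by
    have := Set.eq_univ_iff_forall.mp hs p'
    simpa only [Set.mem_iUnion, exists_prop] using this
  obtain ⟨hF, hθF⟩ := hgood p p' hp'
  set F := MvPolynomial.map (algebraMap R p'.asIdeal.ResidueField) (G p) with hFdef
  rw [← theta_map] at hθF
  have hdeg : ∀ v ∈ F.support, ∀ i, v i < e := by
    intro v hv i
    have hv' : v ∈ (G p).support := MvPolynomial.support_map_subset _ _ hv
    calc v i ≤ (G p).degreeOf i := MvPolynomial.monomial_le_degreeOf i hv'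
      _ ≤ (G p).totalDegree := MvPolynomial.degreeOf_le_totalDegree _ i
      _ ≤ s.sup fun p => (G p).totalDegree := Finset.le_sup (f := fun p => (G p).totalDegree) hps
      _ < e := by omega
  let θ' : MvPolynomial (Fin (k + 1)) p'.asIdeal.ResidueField →+* p'.asIdeal.Fiber S :=
    (theta p' ψ).toRingHom.comp (tau p'.asIdeal.ResidueField k e (-1)).toRingHom
  have hθ' : θ'.IsIntegral :=
    RingHom.IsIntegral.trans _ _
      (RingHom.isIntegral_of_surjective _ (tau_surjective p'.asIdeal.ResidueField k e (-1)))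
      (hint p')
  have hF₁ : θ' (tau p'.asIdeal.ResidueField k e 1 F) = 0 := by
    change theta p' ψ (tau p'.asIdeal.ResidueField k e (-1) (tau p'.asIdeal.ResidueField k e 1 F)) = 0
    rw [tau_neg_tau, hθF]
  have hu := isUnit_leadingCoeff_finSuccEquiv_tau e F hF hdeg
  have key := isIntegral_comp_inclSucc θ' hθ' _ hF₁ hu
  have heq : (theta p' ψ').toRingHom = θ'.comp (inclSucc p'.asIdeal.ResidueField k) := by
    apply MvPolynomial.ringHom_ext
    · intro a
      simp [θ', inclSucc]
    · intro i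
      have h1 : MvPolynomial.map (algebraMap R p'.asIdeal.ResidueField)
          (tau R k e (-1) (X i.succ)) = tau p'.asIdeal.ResidueField k e (-1) (X i.succ) := by
        simp [tau_X_succ]
      change theta p' ψ' (X i) = theta p' ψ (tau p'.asIdeal.ResidueField k e (-1)
        (rename Fin.succ (X i)))
      rw [theta_X, rename_X, ← h1, theta_map]
      simp [ψ']
  rw [heq]
  exact key

end Step

section Main

variable {R S : Type u} [CommRing R] [CommRing S] [Algebra R S]

theorem not_injective_theta (d k : ℕ) (hdk : d < k)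
    (hd : ⨆ p : PrimeSpectrum R, ringKrullDim (p.asIdeal.Fiber S) = (d : WithBot ℕ∞))
    (ψ : MvPolynomial (Fin k) R →ₐ[R] S) (p : PrimeSpectrum R)
    (hint : (theta p ψ).toRingHom.IsIntegral) : ¬ Function.Injective (theta p ψ) := by
  intro hinj
  have h1 := Groth.Agent.H54.ringKrullDim_eq_of_ringHom_isIntegral_of_injective
    (theta p ψ).toRingHom hint hinj
  rw [Groth.Agent.H54.ringKrullDim_mvPolynomial_fin_field] at h1
  have h2 : ringKrullDim (p.asIdeal.Fiber S) ≤ (d : WithBot ℕ∞) := by
    rw [← hd]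
    exact le_iSup (fun p : PrimeSpectrum R => ringKrullDim (p.asIdeal.Fiber S)) p
  rw [← h1] at h2
  have h3 : (k : ℕ∞) ≤ (d : ℕ∞) := WithBot.coe_le_coe.mp h2
  have h4 : k ≤ d := by exact_mod_cast h3
  omega

theorem exists_descend (d : ℕ)
    (hd : ⨆ p : PrimeSpectrum R, ringKrullDim (p.asIdeal.Fiber S) = (d : WithBot ℕ∞)) (j : ℕ) :
    (∃ ψ : MvPolynomial (Fin (d + j)) R →ₐ[R] S,
      ∀ p : PrimeSpectrum R, (theta p ψ).toRingHom.IsIntegral) →
    ∃ ψ : MvPolynomial (Fin d) R →ₐ[R] S,
      ∀ p : PrimeSpectrum R, (theta p ψ).toRingHom.IsIntegral := by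
  induction j with
  | zero => exact fun h => h
  | succ j ih =>
    rintro ⟨ψ, hψ⟩
    exact ih (exists_step (k := d + j) ψ hψ fun p =>
      not_injective_theta d (d + j + 1) (by omega) hd ψ p (hψ p))

theorem exists_start [Algebra.FiniteType R S] (d : ℕ) :
    ∃ j : ℕ, ∃ ψ : MvPolynomial (Fin (d + j)) R →ₐ[R] S,
      ∀ p : PrimeSpectrum R, (theta p ψ).toRingHom.IsIntegral := by
  obtain ⟨N, ψ₀, hψ₀⟩ := Algebra.FiniteType.iff_quotient_mvPolynomial''.mp
    (inferInstance : Algebra.FiniteType R S)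
  let ψ : MvPolynomial (Fin (d + N)) R →ₐ[R] S :=
    aeval (Fin.addCases (fun _ : Fin d => (0 : S)) fun j : Fin N => ψ₀ (X j))
  have hcomp : ψ.comp (rename (Fin.natAdd d)) = ψ₀ := by
    apply MvPolynomial.algHom_ext
    intro j
    simp [ψ]
  have hsurj : Function.Surjective ψ := by
    intro x
    obtain ⟨G, rfl⟩ := hψ₀ x
    exact ⟨rename (Fin.natAdd d) G, by rw [← hcomp]; rfl⟩
  exact ⟨N, ψ, fun p => RingHom.isIntegral_of_surjective _ (theta_surjective p ψ hsurj)⟩

/-- a prime of `κ(p)[X]` is determined by its contraction to `R[X]`. -/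
theorem comap_map_injective (p : PrimeSpectrum R) {m : ℕ}
    (q₁ q₂ : PrimeSpectrum (MvPolynomial (Fin m) p.asIdeal.ResidueField))
    (h : PrimeSpectrum.comap (MvPolynomial.map (algebraMap R p.asIdeal.ResidueField)) q₁ =
      PrimeSpectrum.comap (MvPolynomial.map (algebraMap R p.asIdeal.ResidueField)) q₂) :
    q₁ = q₂ := by
  have key : ∀ (q : PrimeSpectrum (MvPolynomial (Fin m) p.asIdeal.ResidueField))
      (F : MvPolynomial (Fin m) p.asIdeal.ResidueField) (s : R) (hs : s ∉ p.asIdeal)
      (G : MvPolynomial (Fin m) R)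
      (hG : MvPolynomial.map (algebraMap R p.asIdeal.ResidueField) G =
        C (algebraMap R p.asIdeal.ResidueField s) * F),
      F ∈ q.asIdeal ↔ G ∈ (PrimeSpectrum.comap
        (MvPolynomial.map (algebraMap R p.asIdeal.ResidueField)) q).asIdeal := by
    intro q F s hs G hG
    have hs0 : algebraMap R p.asIdeal.ResidueField s ≠ 0 := fun h =>
      hs ((Ideal.algebraMap_residueField_eq_zero).mp h)
    have hu : IsUnit (C (algebraMap R p.asIdeal.ResidueField s) :
        MvPolynomial (Fin m) p.asIdeal.ResidueField) := (IsUnit.mk0 _ hs0).map C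
    rw [PrimeSpectrum.comap_asIdeal, Ideal.mem_comap, hG, Ideal.unit_mul_mem_iff_mem _ hu]
  apply PrimeSpectrum.ext
  ext F
  obtain ⟨s, hs, G, hG⟩ := exists_map_eq_C_mul p F
  rw [key q₁ F s hs G hG, key q₂ F s hs G hG, h]

theorem quasiFinite_of_isIntegral_theta [Algebra.FiniteType R S] {d : ℕ}
    (φ : MvPolynomial (Fin d) R →ₐ[R] S)
    (h : ∀ p : PrimeSpectrum R, (theta p φ).toRingHom.IsIntegral) :
    φ.toRingHom.QuasiFinite := by
  let _ : Algebra (MvPolynomial (Fin d) R) S := φ.toRingHom.toAlgebra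
  have : IsScalarTower R (MvPolynomial (Fin d) R) S :=
    IsScalarTower.of_algebraMap_eq fun r => (φ.commutes r).symm
  have : Algebra.FiniteType (MvPolynomial (Fin d) R) S :=
    Algebra.FiniteType.of_restrictScalars_finiteType R _ _
  change Algebra.QuasiFinite (MvPolynomial (Fin d) R) S
  rw [Algebra.QuasiFinite.iff_finite_comap_preimage_singleton]
  intro x
  let p : PrimeSpectrum R := PrimeSpectrum.comap (algebraMap R (MvPolynomial (Fin d) R)) x
  let _ : Algebra (MvPolynomial (Fin d) p.asIdeal.ResidueField) (p.asIdeal.Fiber S) :=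
    (theta p φ).toRingHom.toAlgebra
  have : Algebra.IsIntegral (MvPolynomial (Fin d) p.asIdeal.ResidueField) (p.asIdeal.Fiber S) :=
    ⟨h p⟩
  have : IsScalarTower p.asIdeal.ResidueField (MvPolynomial (Fin d) p.asIdeal.ResidueField)
      (p.asIdeal.Fiber S) :=
    IsScalarTower.of_algebraMap_eq fun a => ((theta p φ).commutes a).symm
  have : Algebra.FiniteType (MvPolynomial (Fin d) p.asIdeal.ResidueField) (p.asIdeal.Fiber S) :=
    Algebra.FiniteType.of_restrictScalars_finiteType p.asIdeal.ResidueField _ _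
  have : Module.Finite (MvPolynomial (Fin d) p.asIdeal.ResidueField) (p.asIdeal.Fiber S) :=
    Algebra.IsIntegral.finite
  let U : Set (PrimeSpectrum (MvPolynomial (Fin d) p.asIdeal.ResidueField)) :=
    {q | PrimeSpectrum.comap (MvPolynomial.map (algebraMap R p.asIdeal.ResidueField)) q = x}
  have hU : U.Subsingleton := fun q₁ h₁ q₂ h₂ => comap_map_injective p q₁ q₂ (h₁.trans h₂.symm)
  have hfin : (PrimeSpectrum.comap (algebraMap (MvPolynomial (Fin d) p.asIdeal.ResidueField)
      (p.asIdeal.Fiber S)) ⁻¹' U).Finite :=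
    Algebra.QuasiFinite.finite_comap_preimage hU.finite
  refine (hfin.image (PrimeSpectrum.comap (Algebra.TensorProduct.includeRight (R := R)
    (A := p.asIdeal.ResidueField) (B := S)).toRingHom)).subset ?_
  intro q hq
  have hq1 : PrimeSpectrum.comap (algebraMap (MvPolynomial (Fin d) R) S) q = x := hq
  have hq' : q ∈ PrimeSpectrum.comap (algebraMap R S) ⁻¹' {p} := by
    change PrimeSpectrum.comap (algebraMap R S) q = p
    rw [IsScalarTower.algebraMap_eq R (MvPolynomial (Fin d) R) S, PrimeSpectrum.comap_comp_apply,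
      hq1]
  let e := PrimeSpectrum.preimageEquivFiber R S p
  have he : PrimeSpectrum.comap (Algebra.TensorProduct.includeRight (R := R)
      (A := p.asIdeal.ResidueField) (B := S)).toRingHom (e ⟨q, hq'⟩) = q :=
    congrArg Subtype.val (e.symm_apply_apply ⟨q, hq'⟩)
  refine ⟨e ⟨q, hq'⟩, ?_, he⟩
  change PrimeSpectrum.comap (MvPolynomial.map (algebraMap R p.asIdeal.ResidueField))
    (PrimeSpectrum.comap (theta p φ).toRingHom (e ⟨q, hq'⟩)) = x
  rw [← PrimeSpectrum.comap_comp_apply]
  have hcomp : ((theta p φ).toRingHom.comp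
      (MvPolynomial.map (algebraMap R p.asIdeal.ResidueField))) =
      (Algebra.TensorProduct.includeRight (R := R) (A := p.asIdeal.ResidueField)
        (B := S)).toRingHom.comp φ.toRingHom :=
    RingHom.ext fun G => theta_map p φ G
  rw [hcomp, PrimeSpectrum.comap_comp_apply, he]
  exact hq1

/-- **Weak relative Noether normalisation.** -/
theorem exists_quasiFinite_mvPolynomial [Algebra.FiniteType R S] (d : ℕ)
    (hd : ⨆ p : PrimeSpectrum R, ringKrullDim (p.asIdeal.Fiber S) = (d : WithBot ℕ∞)) :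
    ∃ φ : MvPolynomial (Fin d) R →ₐ[R] S, φ.toRingHom.QuasiFinite := by
  obtain ⟨j, hj⟩ := exists_start (R := R) (S := S) d
  obtain ⟨φ, hφ⟩ := exists_descend d hd j hj
  exact ⟨φ, quasiFinite_of_isIntegral_theta φ hφ⟩

end Main

end Groth.Agent.H3.WeakNN
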